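import Mathlib
import Cfsg.Prelude.Def_Sporadic_a

set_option autoImplicit false

/-!
Bitmask model of binary words of length 24 on `GolayPt = Option (ZMod 23)`:
a word `w` is encoded as the natural number whose bit `ptIdx p` is set iff `w p ≠ 0`.
-/

namespace Cfsg.Agent.Helper9.Golay

open Cfsg

/-- index of a point: residues `x` go to `x.val`, the extra point to 23. -/
def ptIdx : GolayPt → ℕ
  | none => 23
  | some x => x.val

/-- the point with a given index below 24. -/
def idxPt (i : Fin 24) : GolayPt :=
  if h : i.val < 23 then some (⟨i.val, h⟩ : Fin 23) else none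

theorem ptIdx_lt (p : GolayPt) : ptIdx p < 24 := by
  cases p with
  | none => decide
  | some x => exact lt_trans (ZMod.val_lt x) (by decide)

theorem idxPt_ptIdx : ∀ p : GolayPt, idxPt ⟨ptIdx p, ptIdx_lt p⟩ = p := by decide

theorem ptIdx_idxPt : ∀ i : Fin 24, ptIdx (idxPt i) = i.val := by decide

theorem ptIdx_injective : Function.Injective ptIdx := by
  intro p q h
  have hp := idxPt_ptIdx p
  have hq := idxPt_ptIdx q
  rw [← hp, ← hq]
  congr 1
  exact Fin.ext h

/-- the equivalence between points and indices. -/
def ptEquiv : GolayPt ≃ Fin 24 where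
  toFun p := ⟨ptIdx p, ptIdx_lt p⟩
  invFun := idxPt
  left_inv := idxPt_ptIdx
  right_inv i := Fin.ext (ptIdx_idxPt i)

/-- decode a bitmask into a word. -/
def decW (m : ℕ) : GolayPt → ZMod 2 := fun p => if m.testBit (ptIdx p) then 1 else 0

/-- encode a word as a bitmask. -/
def encW (w : GolayPt → ZMod 2) : ℕ := Nat.ofBits (fun i : Fin 24 => decide (w (idxPt i) ≠ 0))

theorem zmod2_cases (a : ZMod 2) : a = 0 ∨ a = 1 := by
  revert a; decide

theorem testBit_encW (w : GolayPt → ZMod 2) (p : GolayPt) :
    (encW w).testBit (ptIdx p) = decide (w p ≠ 0) := by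
  unfold encW
  rw [Nat.testBit_ofBits, dif_pos (ptIdx_lt p), idxPt_ptIdx]

theorem testBit_encW_ge (w : GolayPt → ZMod 2) (i : ℕ) (hi : 24 ≤ i) :
    (encW w).testBit i = false := by
  unfold encW
  rw [Nat.testBit_ofBits, dif_neg (by omega)]

theorem decW_encW (w : GolayPt → ZMod 2) : decW (encW w) = w := by
  funext p
  unfold decW
  rw [testBit_encW]
  rcases zmod2_cases (w p) with h | h <;> simp [h]

theorem encW_lt (w : GolayPt → ZMod 2) : encW w < 2 ^ 24 :=
  Nat.lt_pow_two_of_testBit _ (fun i hi => testBit_encW_ge w i hi)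

theorem decW_apply_ne_zero (m : ℕ) (p : GolayPt) : decW m p ≠ 0 ↔ m.testBit (ptIdx p) = true := by
  unfold decW
  by_cases h : m.testBit (ptIdx p) = true <;> simp [h]

theorem encW_decW (m : ℕ) (hm : m < 2 ^ 24) : encW (decW m) = m := by
  apply Nat.eq_of_testBit_eq
  intro i
  by_cases hi : i < 24
  · have h1 := testBit_encW (decW m) (idxPt ⟨i, hi⟩)
    rw [ptIdx_idxPt] at h1
    simp only at h1
    rw [h1]
    have h2 := decW_apply_ne_zero m (idxPt ⟨i, hi⟩)
    rw [ptIdx_idxPt] at h2
    simp only at h2
    by_cases h3 : m.testBit i = true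
    · rw [h3]; exact decide_eq_true (h2.mpr h3)
    · have h4 : m.testBit i = false := by simpa using h3
      rw [h4]
      apply decide_eq_false
      intro h5
      exact h3 (h2.mp h5)
  · have hi' : 24 ≤ i := by omega
    rw [testBit_encW_ge _ i hi']
    symm
    apply Nat.testBit_lt_two_pow
    exact lt_of_lt_of_le hm (Nat.pow_le_pow_right (by decide) hi')

theorem decW_zero : decW 0 = 0 := by
  funext p
  simp [decW]

theorem decW_xor (m n : ℕ) : decW (m ^^^ n) = decW m + decW n := by
  funext p
  simp only [decW, Nat.testBit_xor, Pi.add_apply]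
  cases m.testBit (ptIdx p) <;> cases n.testBit (ptIdx p) <;> decide

theorem decW_injOn {m n : ℕ} (hm : m < 2 ^ 24) (hn : n < 2 ^ 24) (h : decW m = decW n) : m = n := by
  rw [← encW_decW m hm, ← encW_decW n hn, h]

theorem encW_injective : Function.Injective encW := by
  intro v w h
  rw [← decW_encW v, ← decW_encW w, h]

theorem encW_add (v w : GolayPt → ZMod 2) : encW (v + w) = encW v ^^^ encW w := by
  apply decW_injOn (encW_lt _) (Nat.xor_lt_two_pow (encW_lt v) (encW_lt w))
  rw [decW_xor, decW_encW, decW_encW, decW_encW]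

theorem encW_zero : encW 0 = 0 := by
  apply decW_injOn (encW_lt _) (by decide)
  rw [decW_encW, decW_zero]

/-! ### population count -/

/-- number of set bits among bits `0 .. k-1`. -/
def popcAux : ℕ → ℕ → ℕ
  | 0, _ => 0
  | k + 1, m => popcAux k m + (if m.testBit k then 1 else 0)

/-- number of set bits among the lowest 24 bits. -/
def popc (m : ℕ) : ℕ := popcAux 24 m

theorem popcAux_eq_sum (k m : ℕ) :
    popcAux k m = ∑ i ∈ Finset.range k, if m.testBit i then 1 else 0 := by
  induction k with
  | zero => simp [popcAux]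
  | succ k ih => rw [popcAux, ih, Finset.sum_range_succ]

/-- the support of the decoded word. -/
theorem support₂_decW (m : ℕ) :
    support₂ (decW m) = Finset.univ.filter (fun p => m.testBit (ptIdx p) = true) := by
  unfold support₂
  ext p
  simp only [Finset.mem_filter, Finset.mem_univ, true_and]
  exact decW_apply_ne_zero m p

theorem card_support₂_decW (m : ℕ) : (support₂ (decW m)).card = popc m := by
  rw [support₂_decW, popc, popcAux_eq_sum, Finset.card_filter]
  rw [← Fin.sum_univ_eq_sum_range (fun i => if m.testBit i then 1 else 0) 24]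
  exact Fintype.sum_equiv ptEquiv _ _ (fun p => rfl)

theorem hammingNorm_decW (m : ℕ) : hammingNorm (decW m) = popc m := by
  rw [← card_support₂_decW]
  unfold hammingNorm support₂
  rfl

theorem support₂_decW_inter (m n : ℕ) :
    support₂ (decW m) ∩ support₂ (decW n) = support₂ (decW (m &&& n)) := by
  rw [support₂_decW, support₂_decW, support₂_decW]
  ext p
  simp only [Finset.mem_inter, Finset.mem_filter, Finset.mem_univ, true_and, Nat.testBit_and,
    Bool.and_eq_true]

theorem support₂_decW_injOn {m n : ℕ} (hm : m < 2 ^ 24) (hn : n < 2 ^ 24)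
    (h : support₂ (decW m) = support₂ (decW n)) : m = n := by
  apply decW_injOn hm hn
  funext p
  have h1 : p ∈ support₂ (decW m) ↔ p ∈ support₂ (decW n) := by rw [h]
  unfold support₂ at h1
  simp only [Finset.mem_filter, Finset.mem_univ, true_and] at h1
  rcases zmod2_cases (decW m p) with h2 | h2 <;> rcases zmod2_cases (decW n p) with h3 | h3
  · rw [h2, h3]
  · exfalso; rw [h2, h3] at h1; simp at h1
  · exfalso; rw [h2, h3] at h1; simp at h1
  · rw [h2, h3]

/-! ### xor-span of a list of masks -/

/-- all xor-combinations of a list of masks. -/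
def spanL : List ℕ → List ℕ
  | [] => [0]
  | g :: gs => spanL gs ++ (spanL gs).map (fun x => g ^^^ x)

theorem zero_mem_spanL (gs : List ℕ) : 0 ∈ spanL gs := by
  induction gs with
  | nil => simp [spanL]
  | cons g gs ih => simp [spanL, ih]

theorem xor_mem_spanL {gs : List ℕ} {a b : ℕ} (ha : a ∈ spanL gs) (hb : b ∈ spanL gs) :
    a ^^^ b ∈ spanL gs := by
  induction gs generalizing a b with
  | nil =>
    simp only [spanL, List.mem_singleton] at ha hb ⊢
    rw [ha, hb]; rfl
  | cons g gs ih =>
    simp only [spanL, List.mem_append, List.mem_map] at ha hb ⊢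
    rcases ha with ha | ⟨a', ha', rfl⟩ <;> rcases hb with hb | ⟨b', hb', rfl⟩
    · exact Or.inl (ih ha hb)
    · right
      refine ⟨a ^^^ b', ih ha hb', ?_⟩
      rw [← Nat.xor_assoc, Nat.xor_comm g a, Nat.xor_assoc]
    · right
      refine ⟨a' ^^^ b, ih ha' hb, ?_⟩
      rw [Nat.xor_assoc]
    · left
      have : g ^^^ a' ^^^ (g ^^^ b') = a' ^^^ b' := by
        rw [Nat.xor_comm g a', Nat.xor_assoc, ← Nat.xor_assoc g g b', Nat.xor_self, Nat.zero_xor]
      rw [this]
      exact ih ha' hb'

theorem mem_spanL_of_mem {gs : List ℕ} {g : ℕ} (hg : g ∈ gs) : g ∈ spanL gs := by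
  induction gs with
  | nil => simp at hg
  | cons h gs ih =>
    simp only [spanL, List.mem_append, List.mem_map]
    rcases List.mem_cons.mp hg with rfl | hg'
    · right
      exact ⟨0, zero_mem_spanL gs, by simp⟩
    · exact Or.inl (ih hg')

/-- decoded members of the xor-span lie in any submodule containing the decoded generators. -/
theorem decW_mem_of_mem_spanL (C : Submodule (ZMod 2) (GolayPt → ZMod 2)) (gs : List ℕ)
    (hgs : ∀ g ∈ gs, decW g ∈ C) : ∀ m ∈ spanL gs, decW m ∈ C := by
  induction gs with
  | nil =>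
    intro m hm
    simp only [spanL, List.mem_singleton] at hm
    rw [hm, decW_zero]
    exact C.zero_mem
  | cons g gs ih =>
    intro m hm
    simp only [spanL, List.mem_append, List.mem_map] at hm
    have ih' := ih (fun x hx => hgs x (List.mem_cons_of_mem _ hx))
    rcases hm with hm | ⟨a, ha, rfl⟩
    · exact ih' m hm
    · rw [decW_xor]
      exact C.add_mem (hgs g List.mem_cons_self) (ih' a ha)

/-- the submodule of words whose mask lies in the xor-span of a list. -/
def spanSub (gs : List ℕ) : Submodule (ZMod 2) (GolayPt → ZMod 2) where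
  carrier := {w | encW w ∈ spanL gs}
  zero_mem' := by
    show encW 0 ∈ spanL gs
    rw [encW_zero]; exact zero_mem_spanL gs
  add_mem' := by
    intro a b ha hb
    show encW (a + b) ∈ spanL gs
    rw [encW_add]; exact xor_mem_spanL ha hb
  smul_mem' := by
    intro c a ha
    show encW (c • a) ∈ spanL gs
    rcases zmod2_cases c with h | h
    · rw [h, zero_smul, encW_zero]; exact zero_mem_spanL gs
    · rw [h, one_smul]; exact ha

theorem mem_spanSub (gs : List ℕ) (w : GolayPt → ZMod 2) : w ∈ spanSub gs ↔ encW w ∈ spanL gs :=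
  Iff.rfl

/-- strictly increasing lists (a linear-time Boolean check). -/
def isStrictSorted : List ℕ → Bool
  | [] => true
  | [_] => true
  | a :: b :: l => decide (a < b) && isStrictSorted (b :: l)

theorem sorted_of_isStrictSorted : ∀ l : List ℕ, isStrictSorted l = true → l.Pairwise (· < ·)
  | [], _ => List.Pairwise.nil
  | [_], _ => List.pairwise_singleton _ _
  | a :: b :: l, h => by
    simp only [isStrictSorted, Bool.and_eq_true, decide_eq_true_eq] at h
    have ih := sorted_of_isStrictSorted (b :: l) h.2
    refine List.Pairwise.cons ?_ ih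
    intro c hc
    rcases List.mem_cons.mp hc with rfl | hc'
    · exact h.1
    · exact lt_trans h.1 ((List.pairwise_cons.mp ih).1 c hc')

theorem nodup_of_isStrictSorted (l : List ℕ) (h : isStrictSorted l = true) : l.Nodup :=
  (sorted_of_isStrictSorted l h).imp (fun hab => ne_of_lt hab)

end Cfsg.Agent.Helper9.Golay
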