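import Mathlib
import Cfsg.Prelude.Def_Sporadic_a
import Cfsg.Agent.Helper9.Golay.Basic

set_option autoImplicit false

/-!
The length-24 code `golayCode` as an explicit list of 4096 bitmasks.
-/

namespace Cfsg.Agent.Helper9.Golay

open Cfsg

/-- the 24 generating words: the 23 translates of the squares and the all-ones word. -/
def genW : Option (ZMod 23) → (GolayPt → ZMod 2)
  | none => 1
  | some t => qrWord t

/-- their masks. -/
def genMask (o : Option (ZMod 23)) : ℕ := encW (genW o)

theorem genW_mem (o : Option (ZMod 23)) : genW o ∈ golayCode := by
  unfold golayCode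
  apply Submodule.subset_span
  cases o with
  | none => right; rfl
  | some t => left; exact ⟨t, rfl⟩

/-- xor of a list of masks. -/
def xorAll (l : List ℕ) : ℕ := l.foldr (fun a b => a ^^^ b) 0

theorem decW_xorAll_mem (C : Submodule (ZMod 2) (GolayPt → ZMod 2)) (l : List ℕ)
    (hl : ∀ x ∈ l, decW x ∈ C) : decW (xorAll l) ∈ C := by
  induction l with
  | nil => simp only [xorAll, List.foldr_nil]; rw [decW_zero]; exact C.zero_mem
  | cons a l ih =>
    have : xorAll (a :: l) = a ^^^ xorAll l := rfl
    rw [this, decW_xor]
    exact C.add_mem (hl a List.mem_cons_self) (ih (fun x hx => hl x (List.mem_cons_of_mem _ hx)))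

/-- selections of generators whose sums form a reduced echelon basis. -/
def sels : List (List (Option (ZMod 23))) :=
  [[some 1, some 2, some 4, some 7, some 9, some 10, none],
   [some 0, some 2, some 3, some 4, some 6, some 7, some 8, some 10],
   [some 1, some 6, some 9],
   [some 0, some 5, some 8],
   [some 0, some 5, some 6, some 7, some 8, some 10],
   [some 0, some 7, some 8, some 9, some 10],
   [some 2, some 3, some 5, some 6, some 8, some 9],
   [some 0, some 1, some 3, some 5, some 6, some 10],
   [some 0, some 3, some 4, some 7, some 9],
   [some 0, some 2, some 3, some 4, some 5, some 10],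
   [some 1, some 4, some 5, some 7, some 9],
   [some 0, some 3, some 4, some 6, some 8]]

/-- the reduced echelon basis (pivots at bits 23, …, 12), as explicit masks. -/
def basis12 : List ℕ := [0x800c75, 0x400a4f, 0x200f68, 0x1007b4, 0x803da, 0x401ed, 0x20ab9, 0x10f13, 0x8dc6, 0x46e3, 0x293e, 0x149f]

theorem basis12_eq : basis12 = sels.map (fun ts => xorAll (ts.map genMask)) := by decide +kernel

/-- the 4096 code words as masks, in increasing order. -/
def codeList : List ℕ := spanL basis12

theorem decW_basis_mem : ∀ b ∈ basis12, decW b ∈ golayCode := by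
  intro b hb
  rw [basis12_eq, List.mem_map] at hb
  obtain ⟨ts, _, rfl⟩ := hb
  apply decW_xorAll_mem
  intro x hx
  rw [List.mem_map] at hx
  obtain ⟨o, _, rfl⟩ := hx
  unfold genMask
  rw [decW_encW]
  exact genW_mem o

theorem genMask_mem_codeList : ∀ o : Option (ZMod 23), genMask o ∈ codeList := by decide +kernel

theorem golayCode_eq : golayCode = spanSub basis12 := by
  apply le_antisymm
  · unfold golayCode
    rw [Submodule.span_le]
    rintro w (⟨t, rfl⟩ | hw)
    · exact genMask_mem_codeList (some t)
    · rw [Set.mem_singleton_iff] at hw
      subst hw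
      exact genMask_mem_codeList none
  · intro w hw
    rw [← decW_encW w]
    exact decW_mem_of_mem_spanL golayCode basis12 decW_basis_mem _ hw

theorem mem_golayCode_iff (w : GolayPt → ZMod 2) : w ∈ golayCode ↔ encW w ∈ codeList := by
  rw [golayCode_eq]; exact Iff.rfl

theorem codeList_sorted : isStrictSorted codeList = true := by decide +kernel

theorem codeList_nodup : codeList.Nodup := nodup_of_isStrictSorted _ codeList_sorted

theorem codeList_length : codeList.length = 4096 := by decide +kernel

theorem codeList_all_lt : codeList.all (fun m => decide (m < 2 ^ 24)) = true := by decide +kernel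

theorem codeList_lt {m : ℕ} (hm : m ∈ codeList) : m < 2 ^ 24 := by
  have := List.all_eq_true.mp codeList_all_lt m hm
  exact of_decide_eq_true this

theorem decW_mem_golayCode_iff {m : ℕ} (hm : m < 2 ^ 24) : decW m ∈ golayCode ↔ m ∈ codeList := by
  rw [mem_golayCode_iff, encW_decW m hm]

/-- every code word is the decoding of a mask in the list. -/
theorem exists_mask_of_mem {w : GolayPt → ZMod 2} (hw : w ∈ golayCode) :
    ∃ m ∈ codeList, w = decW m :=
  ⟨encW w, (mem_golayCode_iff w).mp hw, (decW_encW w).symm⟩

theorem decW_mem_of_mem_codeList {m : ℕ} (hm : m ∈ codeList) : decW m ∈ golayCode :=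
  (decW_mem_golayCode_iff (codeList_lt hm)).mpr hm

/-- weights of code words. -/
theorem popc_codeList_all :
    codeList.all (fun m => popc m == 0 || popc m == 8 || popc m == 12 || popc m == 16 || popc m == 24)
      = true := by decide +kernel

theorem count_weight8 : (codeList.filter (fun m => popc m == 8)).length = 759 := by decide +kernel

theorem count_weight12 : (codeList.filter (fun m => popc m == 12)).length = 2576 := by decide +kernel

theorem count_weight16 : (codeList.filter (fun m => popc m == 16)).length = 759 := by decide +kernel

end Cfsg.Agent.Helper9.Golay
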