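import Mathlib
import Cfsg.Prelude.Def_Sporadic_a
import Cfsg.Agent.Helper9.Golay.Code

set_option autoImplicit false

namespace Cfsg.Agent.Helper9.Golay

open Cfsg
open scoped Pointwise

/-- the support of the word decoded from a mask. -/
def suppM (m : ℕ) : Finset GolayPt := support₂ (decW m)

theorem card_suppM (m : ℕ) : (suppM m).card = popc m := card_support₂_decW m

theorem mem_suppM (m : ℕ) (p : GolayPt) : p ∈ suppM m ↔ m.testBit (ptIdx p) = true := by
  unfold suppM
  rw [support₂_decW]
  simp

/-- supports of code words are exactly the `suppM` of the masks in the list. -/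
theorem mem_supports_iff (b : Finset GolayPt) :
    b ∈ supports (golayCode : Set (GolayPt → ZMod 2)) ↔ ∃ m ∈ codeList, suppM m = b := by
  unfold supports
  constructor
  · rintro ⟨w, hw, rfl⟩
    obtain ⟨m, hm, rfl⟩ := exists_mask_of_mem hw
    exact ⟨m, hm, rfl⟩
  · rintro ⟨m, hm, rfl⟩
    exact ⟨decW m, decW_mem_of_mem_codeList hm, rfl⟩

/-- the words of weight `n` of the code are the supports of the masks of weight `n`. -/
theorem wordsOfWeight_eq (n : ℕ) :
    wordsOfWeight (golayCode : Set (GolayPt → ZMod 2)) n
      = suppM '' {m | m ∈ codeList.filter (fun m => popc m == n)} := by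
  ext b
  unfold wordsOfWeight
  simp only [Set.mem_setOf_eq, Set.mem_image, List.mem_filter, beq_iff_eq]
  rw [mem_supports_iff]
  constructor
  · rintro ⟨⟨m, hm, rfl⟩, hc⟩
    exact ⟨m, ⟨hm, by rw [← card_suppM]; exact hc⟩, rfl⟩
  · rintro ⟨m, ⟨hm, hp⟩, rfl⟩
    exact ⟨⟨m, hm, rfl⟩, by rw [card_suppM]; exact hp⟩

theorem suppM_injOn_of_sub (l : List ℕ) (hl : ∀ m ∈ l, m ∈ codeList) :
    Set.InjOn suppM {m | m ∈ l} := by
  intro a ha b hb hab
  exact support₂_decW_injOn (codeList_lt (hl a ha)) (codeList_lt (hl b hb)) hab

theorem ncard_wordsOfWeight (n : ℕ) :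
    (wordsOfWeight (golayCode : Set (GolayPt → ZMod 2)) n).ncard
      = (codeList.filter (fun m => popc m == n)).length := by
  rw [wordsOfWeight_eq, Set.InjOn.ncard_image
    (suppM_injOn_of_sub _ (fun m hm => (List.mem_filter.mp hm).1))]
  have hnd : (codeList.filter (fun m => popc m == n)).Nodup := codeList_nodup.filter _
  rw [← List.toFinset_card_of_nodup hnd, ← Set.ncard_coe_finset]
  congr 1
  ext m
  simp

/-- a permutation of the points under which the code is stable, word by word on the generators,
lies in the group of the code. -/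
theorem mem_M24_of_comp (σ : Equiv.Perm GolayPt)
    (h : ∀ o : Option (ZMod 23), genW o ∘ σ ∈ golayCode) : σ ∈ M24 := by
  -- Step 1: the code is stable under composition with σ
  have hstab : ∀ w ∈ golayCode, w ∘ σ ∈ golayCode := by
    intro w hw
    unfold golayCode at hw
    induction hw using Submodule.span_induction with
    | mem x hx =>
      rcases hx with ⟨t, rfl⟩ | hx
      · exact h (some t)
      · rw [Set.mem_singleton_iff] at hx
        subst hx
        exact h none
    | zero => exact golayCode.zero_mem
    | add x y _ _ hx hy => exact golayCode.add_mem hx hy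
    | smul c x _ hx => exact golayCode.smul_mem c hx
  -- Step 2: σ⁻¹ maps supports to supports
  have hsub : σ⁻¹ • supports (golayCode : Set (GolayPt → ZMod 2))
      ⊆ supports (golayCode : Set (GolayPt → ZMod 2)) := by
    intro b hb
    rw [Set.mem_smul_set] at hb
    obtain ⟨c, ⟨w, hw, rfl⟩, rfl⟩ := hb
    refine ⟨w ∘ σ, hstab w hw, ?_⟩
    ext q
    rw [Finset.smul_finset_def]
    simp only [support₂, Finset.mem_filter, Finset.mem_univ, true_and, Function.comp_apply,
      Finset.mem_image, Equiv.Perm.smul_def]
    constructor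
    · intro hq
      exact ⟨σ q, hq, by simp⟩
    · rintro ⟨p, hp, rfl⟩
      simpa using hp
  have hfin : (supports (golayCode : Set (GolayPt → ZMod 2))).Finite := Set.toFinite _
  have heq : σ⁻¹ • supports (golayCode : Set (GolayPt → ZMod 2))
      = supports (golayCode : Set (GolayPt → ZMod 2)) :=
    Set.eq_of_subset_of_ncard_le hsub (by rw [Set.ncard_smul_set]) hfin
  have hinv : σ⁻¹ ∈ M24 := MulAction.mem_stabilizer_iff.mpr heq
  have := M24.inv_mem hinv
  rwa [inv_inv] at this

end Cfsg.Agent.Helper9.Golay
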