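import Mathlib
import Cfsg.Prelude.Def_Sporadic_a
import Cfsg.Agent.Helper9.Golay.Count

set_option autoImplicit false

namespace Cfsg.Agent.Helper9.Golay

open Cfsg

theorem popcAux_xor (k a b : ℕ) :
    popcAux k (a ^^^ b) + 2 * popcAux k (a &&& b) = popcAux k a + popcAux k b := by
  induction k with
  | zero => simp [popcAux]
  | succ k ih =>
    simp only [popcAux, Nat.testBit_xor, Nat.testBit_and]
    cases a.testBit k <;> cases b.testBit k <;> simp <;> omega

theorem popc_xor (a b : ℕ) : popc (a ^^^ b) + 2 * popc (a &&& b) = popc a + popc b :=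
  popcAux_xor 24 a b

theorem suppM_zero : suppM 0 = ∅ := by
  unfold suppM
  rw [decW_zero]
  unfold support₂
  simp

theorem eq_zero_of_popc_eq_zero {m : ℕ} (hm : m < 2 ^ 24) (h : popc m = 0) : m = 0 := by
  have h1 : suppM m = ∅ := by
    rw [← Finset.card_eq_zero, card_suppM, h]
  apply support₂_decW_injOn hm (by decide)
  show suppM m = suppM 0
  rw [h1, suppM_zero]

theorem xor_mem_codeList {a b : ℕ} (ha : a ∈ codeList) (hb : b ∈ codeList) :
    a ^^^ b ∈ codeList := xor_mem_spanL ha hb

theorem popc_mem_codeList {m : ℕ} (hm : m ∈ codeList) :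
    popc m = 0 ∨ popc m = 8 ∨ popc m = 12 ∨ popc m = 16 ∨ popc m = 24 := by
  have := List.all_eq_true.mp popc_codeList_all m hm
  simp only [Bool.or_eq_true, beq_iff_eq] at this
  tauto

/-- minimum distance 8. -/
theorem eight_le_popc_xor {a b : ℕ} (ha : a ∈ codeList) (hb : b ∈ codeList) (hab : a ≠ b) :
    8 ≤ popc (a ^^^ b) := by
  have hx := xor_mem_codeList ha hb
  rcases popc_mem_codeList hx with h | h | h | h | h
  · exfalso
    apply hab
    have := eq_zero_of_popc_eq_zero (codeList_lt hx) h
    exact Nat.xor_eq_zero_iff.mp this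
  all_goals omega

theorem suppM_inter (a b : ℕ) : suppM a ∩ suppM b = suppM (a &&& b) := support₂_decW_inter a b

/-- two masks of weight 8 in the code whose supports share a 5-set coincide. -/
theorem eq_of_five_subset {a b : ℕ} (ha : a ∈ codeList) (hb : b ∈ codeList)
    (ha8 : popc a = 8) (hb8 : popc b = 8) (s : Finset GolayPt) (hs : s.card = 5)
    (hsa : s ⊆ suppM a) (hsb : s ⊆ suppM b) : a = b := by
  by_contra hab
  have h1 : s ⊆ suppM (a &&& b) := by
    rw [← suppM_inter]; exact Finset.subset_inter hsa hsb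
  have h2 : 5 ≤ popc (a &&& b) := by
    rw [← card_suppM, ← hs]; exact Finset.card_le_card h1
  have h3 := popc_xor a b
  have h4 := eight_le_popc_xor ha hb hab
  omega

/-- the octads as a finset. -/
noncomputable def octadFinset : Finset (Finset GolayPt) :=
  ((codeList.filter (fun m => popc m == 8)).toFinset).image suppM

theorem mem_octadFinset (b : Finset GolayPt) : b ∈ octadFinset ↔ b ∈ octads := by
  unfold octadFinset octads
  rw [wordsOfWeight_eq]
  simp only [Finset.mem_image, List.mem_toFinset, Set.mem_image, Set.mem_setOf_eq]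

theorem mem_octads_iff (b : Finset GolayPt) :
    b ∈ octads ↔ ∃ m ∈ codeList, popc m = 8 ∧ suppM m = b := by
  unfold octads
  rw [wordsOfWeight_eq]
  simp only [Set.mem_image, Set.mem_setOf_eq, List.mem_filter, beq_iff_eq]
  constructor
  · rintro ⟨m, ⟨hm, hp⟩, rfl⟩; exact ⟨m, hm, hp, rfl⟩
  · rintro ⟨m, hm, hp, rfl⟩; exact ⟨m, ⟨hm, hp⟩, rfl⟩

theorem card_octadFinset : octadFinset.card = 759 := by
  unfold octadFinset
  rw [Finset.card_image_of_injOn]
  · rw [List.toFinset_card_of_nodup (codeList_nodup.filter _)]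
    exact count_weight8
  · intro a ha b hb hab
    simp only [List.coe_toFinset, Set.mem_setOf_eq, List.mem_filter] at ha hb
    exact support₂_decW_injOn (codeList_lt ha.1) (codeList_lt hb.1) hab

theorem card_of_mem_octads {b : Finset GolayPt} (hb : b ∈ octads) : b.card = 8 := hb.2

theorem octads_unique {b c : Finset GolayPt} (hb : b ∈ octads) (hc : c ∈ octads)
    (s : Finset GolayPt) (hs : s.card = 5) (hsb : s ⊆ b) (hsc : s ⊆ c) : b = c := by
  obtain ⟨m, hm, hm8, rfl⟩ := (mem_octads_iff b).mp hb
  obtain ⟨n, hn, hn8, rfl⟩ := (mem_octads_iff c).mp hc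
  rw [eq_of_five_subset hm hn hm8 hn8 s hs hsb hsc]

theorem card_golayPt : Fintype.card GolayPt = 24 := by decide

/-- every 5-set lies in some octad (by double counting). -/
theorem exists_octad_of_five (s : Finset GolayPt) (hs : s.card = 5) :
    ∃ b ∈ octads, s ⊆ b := by
  classical
  set P5 : Finset (Finset GolayPt) := (Finset.univ : Finset GolayPt).powersetCard 5 with hP5
  have hP5card : P5.card = 42504 := by
    rw [hP5, Finset.card_powersetCard, Finset.card_univ, card_golayPt]
    decide +kernel
  have hdc := Finset.sum_card_bipartiteAbove_eq_sum_card_bipartiteBelow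
    (fun (a b : Finset GolayPt) => a ⊆ b) (s := P5) (t := octadFinset)
  have hbelow : ∀ b ∈ octadFinset,
      (Finset.bipartiteBelow (fun (a b : Finset GolayPt) => a ⊆ b) P5 b).card = 56 := by
    intro b hb
    have hb8 : b.card = 8 := card_of_mem_octads ((mem_octadFinset b).mp hb)
    have : Finset.bipartiteBelow (fun (a b : Finset GolayPt) => a ⊆ b) P5 b
        = b.powersetCard 5 := by
      ext a
      rw [Finset.bipartiteBelow, Finset.mem_filter, Finset.mem_powersetCard, Finset.mem_powersetCard]
      constructor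
      · rintro ⟨⟨_, h5⟩, hab⟩; exact ⟨hab, h5⟩
      · rintro ⟨hab, h5⟩; exact ⟨⟨Finset.subset_univ _, h5⟩, hab⟩
    rw [this, Finset.card_powersetCard, hb8]
    decide +kernel
  rw [Finset.sum_congr rfl hbelow, Finset.sum_const, card_octadFinset, smul_eq_mul] at hdc
  have hle : ∀ a ∈ P5,
      (Finset.bipartiteAbove (fun (a b : Finset GolayPt) => a ⊆ b) octadFinset a).card ≤ 1 := by
    intro a ha
    rw [Finset.card_le_one]
    intro b hb c hc
    simp only [Finset.bipartiteAbove, Finset.mem_filter] at hb hc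
    have ha5 : a.card = 5 := (Finset.mem_powersetCard.mp ha).2
    exact octads_unique ((mem_octadFinset b).mp hb.1) ((mem_octadFinset c).mp hc.1) a ha5 hb.2 hc.2
  have hsum : ∑ a ∈ P5,
      (Finset.bipartiteAbove (fun (a b : Finset GolayPt) => a ⊆ b) octadFinset a).card
        = ∑ _a ∈ P5, 1 := by
    rw [hdc, Finset.sum_const, hP5card]
    norm_num
  have hall := (Finset.sum_eq_sum_iff_of_le hle).mp hsum
  have hsP5 : s ∈ P5 := Finset.mem_powersetCard.mpr ⟨Finset.subset_univ _, hs⟩
  have h1 := hall s hsP5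
  have hne : (Finset.bipartiteAbove (fun (a b : Finset GolayPt) => a ⊆ b) octadFinset s).Nonempty := by
    rw [← Finset.card_pos, h1]; exact Nat.one_pos
  obtain ⟨b, hb⟩ := hne
  simp only [Finset.bipartiteAbove, Finset.mem_filter] at hb
  exact ⟨b, (mem_octadFinset b).mp hb.1, hb.2⟩

theorem octads_isSteinerSystem : IsSteinerSystem 5 8 octads := by
  refine ⟨fun b hb => card_of_mem_octads hb, ?_⟩
  intro s hs
  obtain ⟨b, hb, hsb⟩ := exists_octad_of_five s hs
  refine ⟨b, ⟨hb, hsb⟩, ?_⟩
  rintro c ⟨hc, hsc⟩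
  exact octads_unique hc hb s hs hsc hsb

end Cfsg.Agent.Helper9.Golay
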