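import Mathlib
import Cfsg.Prelude.Def_Sporadic_a
import Cfsg.Agent.Helper9.Golay.Steiner

set_option autoImplicit false

namespace Cfsg.Agent.Helper9.Golay

open Cfsg
open scoped Pointwise

/-- pulling back the support along a permutation: `σ⁻¹ • supp w = supp (w ∘ σ)`. -/
theorem inv_smul_support₂ (σ : Equiv.Perm GolayPt) (w : GolayPt → ZMod 2) :
    σ⁻¹ • support₂ w = support₂ (w ∘ σ) := by
  ext q
  rw [Finset.smul_finset_def]
  simp only [support₂, Finset.mem_filter, Finset.mem_univ, true_and, Function.comp_apply,
    Finset.mem_image, Equiv.Perm.smul_def]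
  constructor
  · rintro ⟨p, hp, rfl⟩
    simpa using hp
  · intro hq
    exact ⟨σ q, hq, by simp⟩

/-- a binary word is determined by its support. -/
theorem eq_of_support₂_eq {v w : GolayPt → ZMod 2} (h : support₂ v = support₂ w) : v = w := by
  funext p
  have h1 : p ∈ support₂ v ↔ p ∈ support₂ w := by rw [h]
  unfold support₂ at h1
  simp only [Finset.mem_filter, Finset.mem_univ, true_and] at h1
  rcases zmod2_cases (v p) with h2 | h2 <;> rcases zmod2_cases (w p) with h3 | h3
  · rw [h2, h3]
  · exfalso; rw [h2, h3] at h1; simp at h1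
  · exfalso; rw [h2, h3] at h1; simp at h1
  · rw [h2, h3]

/-- general criterion: a permutation under which the pull-backs of a spanning set of words stay in
the code lies in the group of the code. -/
theorem mem_M24_of_comp_span (σ : Equiv.Perm GolayPt) (S : Set (GolayPt → ZMod 2))
    (hS : golayCode ≤ Submodule.span (ZMod 2) S)
    (h : ∀ w ∈ S, w ∘ σ ∈ golayCode) : σ ∈ M24 := by
  have hstab' : ∀ w ∈ Submodule.span (ZMod 2) S, w ∘ σ ∈ golayCode := by
    intro w hw'
    induction hw' using Submodule.span_induction with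
    | mem x hx => exact h x hx
    | zero => exact golayCode.zero_mem
    | add x y _ _ hx hy => exact golayCode.add_mem hx hy
    | smul c x _ hx => exact golayCode.smul_mem c hx
  have hstab : ∀ w ∈ golayCode, w ∘ σ ∈ golayCode := fun w hw => hstab' w (hS hw)
  have hsub : σ⁻¹ • supports (golayCode : Set (GolayPt → ZMod 2))
      ⊆ supports (golayCode : Set (GolayPt → ZMod 2)) := by
    intro b hb
    rw [Set.mem_smul_set] at hb
    obtain ⟨c, ⟨w, hw, rfl⟩, rfl⟩ := hb
    exact ⟨w ∘ σ, hstab w hw, (inv_smul_support₂ σ w).symm⟩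
  have hfin : (supports (golayCode : Set (GolayPt → ZMod 2))).Finite := Set.toFinite _
  have heq : σ⁻¹ • supports (golayCode : Set (GolayPt → ZMod 2))
      = supports (golayCode : Set (GolayPt → ZMod 2)) :=
    Set.eq_of_subset_of_ncard_le hsub (by rw [Set.ncard_smul_set]) hfin
  have hinv : σ⁻¹ ∈ M24 := MulAction.mem_stabilizer_iff.mpr heq
  have := M24.inv_mem hinv
  rwa [inv_inv] at this

/-- the code is spanned by the decoded basis words. -/
theorem golayCode_le_span_basis :
    golayCode ≤ Submodule.span (ZMod 2) (decW '' {b | b ∈ basis12}) := by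
  intro w hw
  rw [golayCode_eq] at hw
  rw [← decW_encW w]
  apply decW_mem_of_mem_spanL _ basis12 _ _ hw
  intro b hb
  exact Submodule.subset_span ⟨b, hb, rfl⟩

theorem basis12_popc : ∀ b ∈ basis12, popc b = 8 := by decide +kernel

theorem basis12_mem_codeList : ∀ b ∈ basis12, b ∈ codeList := fun _ hb => mem_spanL_of_mem hb

/-- elements of the group of the code map supports of code words to supports of code words. -/
theorem smul_mem_supports {σ : Equiv.Perm GolayPt} (hσ : σ ∈ M24) {b : Finset GolayPt}
    (hb : b ∈ supports (golayCode : Set (GolayPt → ZMod 2))) :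
    σ • b ∈ supports (golayCode : Set (GolayPt → ZMod 2)) := by
  have h1 : σ • supports (golayCode : Set (GolayPt → ZMod 2))
      = supports (golayCode : Set (GolayPt → ZMod 2)) := MulAction.mem_stabilizer_iff.mp hσ
  rw [← h1]
  exact Set.smul_mem_smul_set hb

theorem card_smul_finset (σ : Equiv.Perm GolayPt) (b : Finset GolayPt) : (σ • b).card = b.card := by
  rw [Finset.smul_finset_def]
  exact Finset.card_image_of_injective _ (MulAction.injective σ)

/-- elements of the group of the code preserve the words of each weight. -/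
theorem smul_mem_wordsOfWeight {σ : Equiv.Perm GolayPt} (hσ : σ ∈ M24) {n : ℕ}
    {b : Finset GolayPt} (hb : b ∈ wordsOfWeight (golayCode : Set (GolayPt → ZMod 2)) n) :
    σ • b ∈ wordsOfWeight (golayCode : Set (GolayPt → ZMod 2)) n :=
  ⟨smul_mem_supports hσ hb.1, by rw [card_smul_finset]; exact hb.2⟩

theorem M24_eq_aut_octads : M24 = setSystemAut octads := by
  apply le_antisymm
  · intro σ hσ
    rw [setSystemAut, MulAction.mem_stabilizer_iff]
    have hsub : σ • octads ⊆ octads := by
      intro b hb
      rw [Set.mem_smul_set] at hb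
      obtain ⟨c, hc, rfl⟩ := hb
      exact smul_mem_wordsOfWeight hσ hc
    exact Set.eq_of_subset_of_ncard_le hsub (by rw [Set.ncard_smul_set]) (Set.toFinite _)
  · intro σ hσ
    have hinv : σ⁻¹ ∈ setSystemAut octads := (setSystemAut octads).inv_mem hσ
    have hinv' : σ⁻¹ • octads = octads := MulAction.mem_stabilizer_iff.mp hinv
    apply mem_M24_of_comp_span σ _ golayCode_le_span_basis
    rintro w ⟨b, hb, rfl⟩
    have hb8 : popc b = 8 := basis12_popc b hb
    have hbc : b ∈ codeList := basis12_mem_codeList b hb
    have hoct : suppM b ∈ octads := (mem_octads_iff _).mpr ⟨b, hbc, hb8, rfl⟩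
    have h1 : σ⁻¹ • suppM b ∈ octads := by
      rw [← hinv']
      exact Set.smul_mem_smul_set hoct
    unfold suppM at h1
    rw [inv_smul_support₂] at h1
    obtain ⟨v, hv, hvs⟩ := h1.1
    have : v = decW b ∘ σ := eq_of_support₂_eq hvs
    rw [← this]
    exact hv

end Cfsg.Agent.Helper9.Golay
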