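import Mathlib
import Cfsg.Prelude.Def_Sporadic_a
import Cfsg.Agent.Helper9.Golay.Aut
import Cfsg.Agent.S0370
import Cfsg.Agent.S0372
import Cfsg.Agent.S0373

set_option autoImplicit false

/-!
Orbit certificates: transitivity of the group of the code on octads and on dodecads, checked by
replaying a breadth-first search under three known elements of the group.
-/

namespace Cfsg.Agent.Helper9.Golay

open Cfsg
open scoped Pointwise

/-- pull a mask back along a map of points: bit `p` of the result is bit `f p` of `m`. -/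
def pullMask (f : GolayPt → GolayPt) (m : ℕ) : ℕ := encW (decW m ∘ f)

theorem inv_smul_suppM (σ : Equiv.Perm GolayPt) (m : ℕ) :
    σ⁻¹ • suppM m = suppM (pullMask σ m) := by
  unfold suppM pullMask
  rw [inv_smul_support₂, decW_encW]

/-- the group of the code preserves the code. -/
theorem comp_mem_golayCode {σ : Equiv.Perm GolayPt} (hσ : σ ∈ M24) {w : GolayPt → ZMod 2}
    (hw : w ∈ golayCode) : w ∘ σ ∈ golayCode := by
  have h1 : σ⁻¹ • support₂ w ∈ supports (golayCode : Set (GolayPt → ZMod 2)) :=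
    smul_mem_supports (M24.inv_mem hσ) ⟨w, hw, rfl⟩
  rw [inv_smul_support₂] at h1
  obtain ⟨v, hv, hvs⟩ := h1
  have : v = w ∘ σ := eq_of_support₂_eq hvs
  rw [← this]
  exact hv

theorem pullMask_mem_codeList {σ : Equiv.Perm GolayPt} (hσ : σ ∈ M24) {m : ℕ}
    (hm : m ∈ codeList) : pullMask σ m ∈ codeList :=
  (mem_golayCode_iff _).mp (comp_mem_golayCode hσ (decW_mem_of_mem_codeList hm))

/-- two sets of points in the same orbit of the group of the code. -/
def SameOrbit (a b : Finset GolayPt) : Prop := ∃ g : M24, g • a = b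

theorem SameOrbit.refl (a : Finset GolayPt) : SameOrbit a a := ⟨1, one_smul _ _⟩

theorem SameOrbit.symm {a b : Finset GolayPt} (h : SameOrbit a b) : SameOrbit b a := by
  obtain ⟨g, rfl⟩ := h
  exact ⟨g⁻¹, inv_smul_smul g a⟩

theorem SameOrbit.trans {a b c : Finset GolayPt} (h1 : SameOrbit a b) (h2 : SameOrbit b c) :
    SameOrbit a c := by
  obtain ⟨g, rfl⟩ := h1
  obtain ⟨h, rfl⟩ := h2
  exact ⟨h * g, mul_smul h g a⟩

theorem sameOrbit_pull {σ : Equiv.Perm GolayPt} (hσ : σ ∈ M24) (m : ℕ) :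
    SameOrbit (suppM m) (suppM (pullMask σ m)) :=
  ⟨⟨σ⁻¹, M24.inv_mem hσ⟩, inv_smul_suppM σ m⟩

/-- the three known elements of the group used for the search. -/
noncomputable def stepPerm : ℕ → Equiv.Perm GolayPt
  | 0 => Equiv.optionCongr (Equiv.addRight (1 : ZMod 23))
  | 1 => projInv
  | _ => cubeTwist

theorem stepPerm_mem (g : ℕ) : stepPerm g ∈ M24 := by
  match g with
  | 0 => exact Cfsg.Agent.S0370.result
  | 1 => exact Cfsg.Agent.S0372.result
  | (n + 2) => exact Cfsg.Agent.S0373.result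

/-- their underlying functions, in computable form. -/
def stepFun : ℕ → GolayPt → GolayPt
  | 0 => fun p => p.map (fun x => x + 1)
  | 1 => projInvFun
  | _ => cubeTwistFun

theorem stepFun_eq (g : ℕ) : stepFun g = ⇑(stepPerm g) := by
  match g with
  | 0 =>
    funext p
    cases p <;> rfl
  | 1 => rfl
  | (n + 2) => rfl

/-- the code word with a given key (its bits 12..23). -/
def fromKeyAux : List ℕ → ℕ → ℕ → ℕ
  | [], _, _ => 0
  | b :: bs, j, k => (if k.testBit j then b else 0) ^^^ fromKeyAux bs (j - 1) k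

def fromKey (k : ℕ) : ℕ := fromKeyAux basis12 11 k

theorem fromKeyAux_mem (bs : List ℕ) (j k : ℕ) : fromKeyAux bs j k ∈ spanL bs := by
  induction bs generalizing j with
  | nil => simp [fromKeyAux, spanL]
  | cons b bs ih =>
    simp only [fromKeyAux, spanL, List.mem_append, List.mem_map]
    by_cases h : k.testBit j = true
    · right
      exact ⟨fromKeyAux bs (j - 1) k, ih (j - 1), by simp [h]⟩
    · left
      have : (if k.testBit j = true then b else 0) = 0 := by simp [h]
      rw [this, Nat.zero_xor]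
      exact ih (j - 1)

theorem fromKey_mem (k : ℕ) : fromKey k ∈ codeList := fromKeyAux_mem basis12 11 k

theorem fromKey_key_all : codeList.all (fun m => fromKey (m >>> 12) == m) = true := by
  decide +kernel

theorem fromKey_key {m : ℕ} (hm : m ∈ codeList) : fromKey (m >>> 12) = m := by
  have := List.all_eq_true.mp fromKey_key_all m hm
  simpa using this

/-- replay a search certificate: entries are (key of the parent, index of the step). -/
def runCert : List (ℕ × ℕ) → ℕ → Option ℕ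
  | [], bits => some bits
  | (pk, g) :: rest, bits =>
    if bits.testBit pk then
      runCert rest (bits ||| (1 <<< (pullMask (stepFun g) (fromKey pk) >>> 12)))
    else none

/-- all keys recorded in `bits` belong to code words in the orbit of `root`. -/
def Good (root : Finset GolayPt) (bits : ℕ) : Prop :=
  ∀ i, bits.testBit i = true → SameOrbit root (suppM (fromKey i))

theorem good_runCert (root : Finset GolayPt) :
    ∀ (cert : List (ℕ × ℕ)) (bits final : ℕ), Good root bits → runCert cert bits = some final →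
      Good root final := by
  intro cert
  induction cert with
  | nil =>
    intro bits final hg hrun
    simp only [runCert, Option.some.injEq] at hrun
    rw [← hrun]; exact hg
  | cons e rest ih =>
    obtain ⟨pk, g⟩ := e
    intro bits final hg hrun
    simp only [runCert] at hrun
    by_cases hpk : bits.testBit pk = true
    · rw [if_pos hpk] at hrun
      refine ih _ final ?_ hrun
      intro i hi
      rw [Nat.testBit_or, Bool.or_eq_true] at hi
      rcases hi with hi | hi
      · exact hg i hi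
      · rw [Nat.one_shiftLeft, Nat.testBit_two_pow, decide_eq_true_eq] at hi
        rw [← hi]
        have hσ : stepPerm g ∈ M24 := stepPerm_mem g
        have hc : pullMask (stepFun g) (fromKey pk) ∈ codeList := by
          rw [stepFun_eq]; exact pullMask_mem_codeList hσ (fromKey_mem pk)
        rw [fromKey_key hc, stepFun_eq]
        exact (hg pk hpk).trans (sameOrbit_pull hσ _)
    · rw [if_neg hpk] at hrun
      exact absurd hrun (by simp)

/-- the Boolean check of a certificate against a list of target masks. -/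
def checkCert (cert : List (ℕ × ℕ)) (rootKey : ℕ) (targets : List ℕ) : Bool :=
  match runCert cert (1 <<< rootKey) with
  | some final => targets.all (fun m => final.testBit (m >>> 12))
  | none => false

theorem orbit_of_cert (cert : List (ℕ × ℕ)) (rootKey : ℕ) (targets : List ℕ)
    (hcheck : checkCert cert rootKey targets = true) (htc : ∀ m ∈ targets, m ∈ codeList) :
    ∀ m ∈ targets, SameOrbit (suppM (fromKey rootKey)) (suppM m) := by
  unfold checkCert at hcheck
  cases hrun : runCert cert (1 <<< rootKey) with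
  | none => rw [hrun] at hcheck; exact absurd hcheck (by simp)
  | some final =>
    rw [hrun] at hcheck
    simp only at hcheck
    have hgood0 : Good (suppM (fromKey rootKey)) (1 <<< rootKey) := by
      intro i hi
      rw [Nat.one_shiftLeft, Nat.testBit_two_pow, decide_eq_true_eq] at hi
      rw [← hi]
      exact SameOrbit.refl _
    have hgood := good_runCert _ cert _ final hgood0 hrun
    intro m hm
    have h1 := List.all_eq_true.mp hcheck m hm
    have h2 := hgood _ h1
    rwa [fromKey_key (htc m hm)] at h2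

set_option maxRecDepth 1000000 in
def certOct : List (ℕ × ℕ) := [(1, 0), (1, 1), (1, 2), (1024, 0), (1024, 1), (1024, 2), (3642, 0), (3642, 2), (320, 0), (320, 2), (1536, 0), (1536, 1), (1536, 2), (3208, 0), (3208, 2), (162, 0), (162, 2), (2845, 0), (2845, 1), (2845, 2), (2236, 0), (2236, 2), (1184, 0), (1184, 1), (1184, 2), (834, 0), (834, 2), (1792, 0), (1792, 1), (1792, 2), (3345, 0), (3345, 2), (385, 0), (385, 2), (2628, 0), (2628, 1), (2628, 2), (2216, 0), (2216, 2), (1105, 0), (1105, 1), (1105, 2), (84, 0), (84, 2), (2446, 0), (2446, 1), (593, 0), (593, 2), (3848, 0), (3848, 2), (2142, 0), (2142, 1), (2142, 2), (3085, 0), (3085, 2), (592, 0), (592, 1), (592, 2), (264, 0), (264, 2), (135, 0), (135, 2), (1441, 0), (1441, 1), (1441, 2), (528, 0), (1920, 0), (1920, 1), (1920, 2), (3107, 0), (3107, 2), (706, 0), (706, 2), (2696, 0), (2696, 1), (2696, 2), (2722, 0), (2722, 2), (1216, 0), (1216, 1), (1216, 2), (576, 0), (576, 2), (3362, 0), (3362, 1), (3362, 2),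 (3189, 2), (3392, 0), (3392, 2), (2132, 0), (2132, 1), (2132, 2), (2156, 0), (2156, 2), (552, 0), (552, 1), (552, 2), (1548, 0), (1548, 2), (1066, 0), (1066, 1), (1066, 2), (1120, 0), (1120, 2), (2247, 0), (2247, 1), (64, 0), (1320, 0), (1320, 1), (1320, 2), (257, 0), (257, 2), (2948, 0), (2948, 1), (2948, 2), (2699, 0), (2699, 2), (2095, 1), (2095, 2), (102, 0), (3160, 0), (2566, 0), (2566, 1), (2566, 2), (3241, 0), (296, 0), (296, 1), (296, 2), (1319, 0), (1319, 2), (65, 0), (65, 2), (132, 0), (132, 1), (132, 2), (618, 0), (618, 2), (67, 0), (67, 1), (67, 2), (1136, 0), (1136, 2), (1744, 0), (1744, 1), (1744, 2), (3584, 0), (3584, 2), (644, 0), (644, 2), (1288, 0), (1288, 1), (1984, 0), (1984, 1), (1984, 2), (2441, 0), (2441, 2), (641, 0), (2577, 0), (2577, 1), (2577, 2), (2197, 0), (2197, 2), (1377, 0), (1377, 1), (1377, 2), (272, 0), (272, 2), (3396, 1), (3396, 2), (2321, 2), (2345, 0), (2385, 2), (2071, 0), (2071, 2), (608, 1), (608, 2), (172, 2), (224, 0),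 (224, 2), (1312, 0), (1312, 1), (1312, 2), (290, 0), (3729, 0), (3729, 1), (3729, 2), (2056, 0), (2056, 2), (2710, 0), (2710, 2), (3204, 0), (3204, 2), (3744, 0), (3744, 1), (2688, 2), (2090, 0), (220, 0), (220, 2), (3328, 2), (2102, 0), (2102, 1), (2102, 2), (3372, 2), (1300, 0), (3105, 0), (3105, 2), (108, 0), (108, 2), (774, 0), (774, 2), (1450, 0), (533, 2), (1048, 2), (412, 0), (412, 2), (1584, 0), (2147, 0), (2147, 1), (1056, 1), (1056, 2), (660, 0), (660, 1), (660, 2), (2, 2), (686, 0), (686, 2), (1152, 0), (1152, 1), (1152, 2), (515, 2), (2498, 1), (355, 0), (3649, 0), (3649, 2), (2373, 0), (2373, 1), (2373, 2), (2072, 0), (2072, 2), (712, 0), (712, 2), (3100, 0), (1075, 0), (1075, 2), (2604, 1), (2604, 2), (2307, 2), (211, 0), (211, 2), (3376, 0), (2644, 1), (1172, 0), (1172, 1), (3210, 0), (3210, 2), (524, 0), (659, 0), (659, 1), (659, 2), (1972, 0), (1972, 2), (32, 0), (321, 2), (1090, 0), (1090, 1), (1090, 2), (1345, 0), (1345, 2), (309, 0), (309, 1),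 (309, 2), (28, 0), (28, 2), (33, 1), (33, 2), (668, 0), (668, 2), (304, 0), (304, 2), (568, 0), (568, 1), (568, 2), (422, 2), (1896, 2), (3077, 0), (3077, 2), (160, 2), (2273, 0), (2273, 2), (1346, 0), (1346, 2), (1122, 0), (1122, 2), (2088, 0), (992, 0), (992, 1), (992, 2), (7, 0), (640, 2), (2244, 0), (2244, 1), (2244, 2), (2569, 0), (1344, 1), (3336, 0), (3336, 2), (2595, 2), (2144, 2), (2122, 0), (2122, 1), (2122, 2), (3074, 2), (688, 0), (688, 1), (688, 2), (548, 0), (548, 2), (710, 2), (1160, 0), (1160, 1), (1160, 2), (544, 0), (86, 0), (86, 2), (3970, 0), (3970, 2), (3220, 0), (3220, 2), (2561, 0), (2059, 0), (3120, 0), (61, 0), (1038, 0), (1038, 2), (112, 0), (112, 2), (1424, 2), (903, 0), (1169, 1), (1169, 2), (2888, 0), (2888, 1), (769, 0), (769, 2), (2177, 0), (3076, 0), (3076, 1), (3076, 2), (2121, 0), (2121, 2), (3403, 0), (3403, 1), (3088, 0), (3088, 2), (3650, 0), (3650, 2), (3203, 2), (3920, 1), (3920, 2), (2048, 0), (2048, 2), (2069, 0), (2069,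 2), (1134, 0), (1134, 2), (1290, 0), (1290, 2), (2689, 0), (1104, 0), (1104, 2), (3788, 0), (1674, 0), (1674, 1), (2576, 1), (2576, 2), (2276, 0), (2276, 2), (1078, 0), (1078, 1), (1078, 2), (1100, 0), (1411, 1), (1811, 0), (725, 0), (725, 1), (725, 2), (1026, 0), (232, 0), (232, 2), (206, 0), (206, 1), (1608, 0), (1608, 2), (1816, 1), (1816, 2), (2097, 1), (2097, 2), (518, 0), (1186, 2), (196, 0), (330, 1), (330, 2), (1489, 0), (1489, 2), (113, 0), (113, 2), (343, 0), (343, 1), (343, 2), (1372, 2), (1600, 2), (2338, 2), (225, 2), (18, 0), (1201, 0), (1201, 2), (2848, 0), (2848, 1), (2464, 0), (2210, 0), (2210, 1), (2210, 2), (740, 0), (740, 2), (3680, 0), (3680, 2), (1380, 0), (1380, 1), (72, 0), (2574, 2), (537, 0), (537, 1), (537, 2), (150, 0), (150, 2), (2115, 2), (3086, 0), (3086, 2), (2834, 2), (1129, 0), (16, 0), (2712, 0), (2712, 1), (1610, 0), (1610, 1), (1610, 2), (2629, 1), (1286, 0), (1286, 2), (329, 1), (329, 2), (529, 2), (306, 0), (986, 0), (986,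 1), (1670, 0), (1040, 0), (1040, 1), (1040, 2), (514, 2), (545, 2), (46, 0), (46, 2), (210, 0), (210, 2), (1696, 0), (1696, 1), (1696, 2), (672, 0), (672, 2), (154, 0), (154, 1), (154, 2), (1728, 0), (1540, 2), (14, 1), (14, 2), (1352, 0), (1352, 2), (1552, 0), (1552, 2), (294, 0), (294, 2), (334, 0), (1064, 0), (152, 2), (582, 0), (284, 2), (273, 0), (271, 2), (1557, 0), (908, 0), (908, 2), (2562, 0), (2562, 1), (2562, 2), (3456, 2), (2160, 0), (2160, 2), (2052, 0), (673, 1), (673, 2), (913, 2), (1585, 0), (1585, 2), (180, 2), (2068, 0), (2068, 1), (1189, 0), (1189, 2), (3, 0), (3, 2), (352, 0), (3170, 0), (3170, 2), (2118, 2), (3104, 0), (2308, 0), (2692, 0), (2692, 1), (2692, 2), (2984, 2), (2085, 0), (2085, 1), (388, 0), (388, 2), (2105, 0), (297, 0), (297, 2), (101, 0), (274, 0), (1095, 2), (1042, 0), (1042, 2), (1604, 0), (1604, 1), (1604, 2), (3248, 0), (3248, 2), (456, 0), (1296, 1), (1296, 2), (1067, 1), (1041, 2), (3009, 1), (2960, 0), (2960, 2), (2634,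 1), (2634, 2), (3552, 0), (2304, 0), (2304, 1), (2584, 0), (2584, 1), (2584, 2), (30, 0), (30, 2), (519, 0), (1272, 0), (1080, 0), (260, 2), (451, 2), (194, 0), (194, 2), (2468, 0), (2468, 2), (1031, 0), (1408, 1), (1408, 2), (2112, 1), (2112, 2), (3586, 0), (3586, 1), (3586, 2), (3264, 2), (3108, 1), (3108, 2), (2312, 2), (516, 0), (3592, 0), (2209, 0), (2193, 0), (2224, 2), (45, 0), (45, 2), (3137, 2), (567, 0), (567, 2), (1183, 2), (1669, 0), (1669, 1), (697, 2), (2368, 0), (448, 0), (2918, 1), (2918, 2), (1861, 2), (1049, 2), (539, 1), (539, 2), (104, 0), (1574, 1), (1929, 0), (362, 0), (362, 1), (1088, 2), (1537, 0), (1537, 2), (116, 0), (116, 2), (269, 0), (103, 1), (103, 2), (76, 0), (804, 0), (804, 2), (1153, 2), (648, 2), (912, 0), (912, 2), (2341, 0), (1283, 2), (246, 0), (98, 1), (98, 2), (2054, 0), (2054, 2), (538, 2), (744, 0), (68, 0), (171, 0), (588, 2), (1554, 0), (1704, 2), (2612, 2), (356, 0), (1033, 1), (1033, 2), (600, 0), (600, 2), (164, 0),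 (2448, 0), (2448, 2), (2256, 2), (24, 0), (24, 2), (2356, 0), (2356, 2), (690, 0), (690, 2), (268, 0), (1793, 2), (75, 1), (75, 2), (1107, 2), (2128, 0), (3591, 1), (2578, 0), (564, 0), (564, 2), (2380, 2), (805, 0), (805, 1), (1061, 0), (216, 2), (1682, 0), (1682, 2), (788, 0), (811, 0), (811, 2), (153, 1), (261, 0), (520, 1), (520, 2), (440, 2), (449, 2), (1084, 2), (336, 0), (145, 2), (1101, 0), (2080, 2), (1155, 2), (3176, 2), (1114, 0), (676, 2), (147, 1), (147, 2), (167, 1), (532, 0), (291, 1), (1547, 0), (1547, 2), (778, 0), (778, 2), (1478, 0), (3329, 0), (70, 0), (792, 2), (1092, 0), (594, 2), (1221, 0), (1025, 2), (176, 2), (2609, 0), (1218, 1), (148, 1), (148, 2), (1161, 1), (1168, 0), (1168, 2), (521, 0), (432, 2), (1826, 1), (1154, 2), (2180, 0), (2592, 0), (2330, 0), (3200, 2), (1337, 2), (1564, 2), (1121, 1), (3282, 1), (2817, 1), (137, 2), (2192, 0), (2432, 2), (192, 2), (2826, 0), (3144, 1), (1858, 0), (1858, 1), (2208, 1), (1248, 0), (69, 2), (553,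 0), (52, 0), (964, 1), (181, 0), (193, 2), (58, 1), (38, 0), (38, 2), (1164, 2), (22, 0), (372, 0), (360, 2), (82, 1), (82, 2), (345, 0), (1158, 0), (1806, 2), (3593, 2), (405, 1), (577, 0), (266, 1), (1763, 0), (1570, 0), (1569, 0)]

set_option maxRecDepth 1000000 in
def certDod : List (ℕ × ℕ) := [(6, 0), (6, 1), (6, 2), (1027, 0), (1027, 1), (1027, 2), (2554, 0), (2554, 2), (1395, 0), (1395, 2), (513, 0), (513, 1), (513, 2), (1946, 0), (1946, 2), (403, 0), (403, 2), (2301, 0), (2301, 1), (2301, 2), (2620, 0), (2620, 2), (1721, 0), (1721, 1), (1721, 2), (980, 0), (980, 2), (1280, 0), (1280, 1), (1280, 2), (4003, 0), (4003, 2), (99, 0), (99, 2), (973, 0), (973, 1), (973, 2), (698, 0), (698, 2), (201, 0), (201, 1), (201, 2), (850, 0), (850, 2), (2174, 0), (2174, 1), (2174, 2), (1780, 0), (1780, 2), (3404, 0), (3404, 2), (2334, 0), (2334, 1), (2334, 2), (3437, 2), (860, 0), (860, 1), (860, 2), (1545, 0), (1545, 2), (174, 0), (174, 2), (1514, 0), (1514, 1), (1514,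 2), (1603, 0), (1603, 2), (1664, 0), (1664, 1), (1664, 2), (3514, 0), (3514, 2), (993, 0), (3025, 0), (3025, 1), (3025, 2), (2742, 0), (2742, 2), (1073, 0), (1073, 1), (1073, 2), (342, 0), (342, 2), (1510, 0), (1510, 1), (1510, 2), (3061, 2), (1865, 0), (1865, 2), (349, 1), (349, 2), (317, 0), (317, 2), (100, 0), (100, 1), (100, 2), (1932, 0), (1932, 2), (43, 0), (43, 2), (425, 0), (425, 1), (425, 2), (883, 0), (883, 2), (3135, 0), (3135, 1), (3135, 2), (2124, 0), (2124, 2), (3134, 0), (3134, 2), (1914, 0), (1914, 1), (1914, 2), (1476, 0), (1476, 2), (2726, 0), (2726, 2), (3755, 0), (3755, 2), (3215, 0), (3215, 1), (3215, 2), (2266, 0), (2266, 2), (3866, 2), (3981, 0), (3981, 2), (1454, 0), (1454, 1), (1454, 2), (3413, 0), (3413, 2), (1833, 0), (1833, 2), (772, 0), (772, 1), (772, 2), (488, 0), (488, 2), (87, 1), (87, 2), (1151, 0), (1151, 2), (1781, 0), (1781, 1), (1781, 2), (2318, 0), (2318, 2), (669, 0), (669, 2), (1825, 0), (1825, 1), (1825, 2), (177, 0), (1856,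 0), (1856, 1), (1856, 2), (2235, 0), (2235, 2), (450, 0), (2781, 0), (2781, 1), (2781, 2), (2719, 0), (1520, 0), (1520, 2), (2536, 0), (2536, 1), (2536, 2), (1845, 2), (2913, 0), (2913, 2), (2395, 0), (2395, 1), (2395, 2), (3190, 0), (3190, 2), (536, 0), (536, 1), (536, 2), (1960, 2), (231, 0), (231, 2), (1195, 0), (1195, 1), (1195, 2), (1874, 0), (1874, 2), (755, 0), (755, 1), (755, 2), (78, 0), (78, 2), (1718, 0), (1718, 2), (3589, 0), (3589, 2), (1956, 0), (1956, 1), (1956, 2), (682, 0), (682, 2), (758, 0), (758, 2), (1866, 0), (1866, 2), (158, 0), (158, 1), (158, 2), (1837, 0), (1837, 2), (1074, 0), (1074, 1), (1074, 2), (3446, 0), (3446, 2), (1381, 0), (1381, 2), (966, 0), (966, 1), (966, 2), (1706, 0), (1706, 2), (21, 0), (21, 1), (21, 2), (126, 0), (126, 2), (212, 0), (212, 1), (212, 2), (1818, 0), (1818, 2), (783, 0), (441, 0), (441, 1), (441, 2), (597, 0), (2591, 0), (2591, 1), (2591, 2), (880, 0), (880, 2), (3549, 0), (3549, 2), (3110, 0), (3110, 1), (3110,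 2), (3402, 0), (3402, 2), (3615, 0), (3615, 1), (3615, 2), (3229, 0), (3229, 2), (957, 0), (957, 1), (957, 2), (13, 2), (670, 0), (670, 2), (1762, 0), (1762, 1), (1762, 2), (1697, 0), (1697, 2), (3411, 0), (3411, 2), (3349, 2), (2901, 0), (2901, 1), (2901, 2), (2268, 0), (2268, 2), (2631, 0), (2631, 1), (2631, 2), (960, 0), (960, 2), (3227, 0), (3227, 2), (3181, 0), (3181, 1), (3181, 2), (2329, 0), (2329, 2), (2969, 0), (2969, 2), (3014, 0), (3014, 1), (3014, 2), (3722, 0), (1751, 0), (1751, 1), (1751, 2), (3154, 0), (3154, 2), (1950, 2), (2730, 0), (2730, 1), (2730, 2), (4001, 0), (4001, 2), (1940, 0), (1940, 1), (1940, 2), (717, 0), (1410, 0), (1410, 1), (1410, 2), (3193, 2), (1890, 0), (1890, 2), (244, 0), (244, 1), (244, 2), (590, 0), (590, 2), (894, 0), (894, 2), (1361, 0), (1361, 2), (575, 0), (575, 1), (575, 2), (1212, 0), (1212, 2), (890, 0), (890, 1), (890, 2), (1735, 0), (1156, 0), (1156, 2), (2183, 0), (2183, 1), (2183, 2), (3705, 0), (3705, 2), (1358,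 0), (1358, 1), (1358, 2), (1384, 0), (1384, 2), (1936, 0), (1936, 1), (1936, 2), (2611, 2), (996, 0), (996, 2), (1112, 0), (1112, 1), (1112, 2), (928, 0), (928, 1), (928, 2), (1453, 0), (1453, 2), (707, 0), (707, 2), (2141, 0), (2141, 1), (2141, 2), (2110, 0), (1249, 0), (1249, 1), (1249, 2), (3438, 0), (3438, 1), (3438, 2), (3911, 2), (3081, 0), (3081, 2), (2383, 0), (2383, 2), (760, 0), (760, 1), (760, 2), (678, 0), (678, 2), (3316, 0), (3316, 2), (2078, 0), (2078, 2), (2862, 0), (2862, 2), (1925, 0), (1925, 2), (2480, 0), (2480, 1), (2480, 2), (2599, 0), (2599, 2), (2221, 0), (2221, 1), (956, 0), (956, 2), (2905, 0), (2905, 2), (2619, 0), (2619, 1), (2619, 2), (3509, 2), (1292, 0), (1292, 1), (2363, 0), (2363, 2), (361, 0), (361, 2), (974, 0), (974, 2), (115, 0), (115, 1), (115, 2), (1047, 0), (1621, 0), (1621, 1), (1621, 2), (3976, 0), (3976, 2), (159, 0), (159, 2), (1961, 0), (1961, 2), (377, 0), (377, 1), (377, 2), (949, 0), (949, 2), (341, 0), (341, 2), (39,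 1), (39, 2), (1115, 0), (1115, 2), (859, 1), (859, 2), (1460, 0), (1460, 2), (2818, 0), (2818, 1), (2818, 2), (3235, 0), (3235, 2), (2002, 0), (2002, 2), (3441, 0), (3441, 2), (2021, 0), (2021, 2), (1365, 1), (94, 0), (94, 2), (379, 0), (379, 1), (379, 2), (1303, 0), (1303, 2), (933, 0), (933, 1), (933, 2), (923, 0), (923, 2), (79, 0), (79, 1), (79, 2), (1266, 0), (1266, 2), (1402, 0), (918, 0), (918, 2), (1999, 0), (1561, 0), (1561, 1), (1561, 2), (3258, 0), (3258, 2), (470, 0), (470, 2), (2747, 0), (2747, 1), (3830, 0), (3830, 2), (1714, 0), (1714, 1), (1714, 2), (1988, 0), (1988, 2), (483, 0), (483, 1), (483, 2), (1873, 0), (1873, 2), (853, 0), (853, 1), (252, 2), (1034, 0), (1034, 1), (1034, 2), (4056, 2), (1313, 0), (1313, 2), (63, 0), (63, 1), (63, 2), (1374, 2), (1130, 0), (1130, 1), (1130, 2), (3526, 0), (3526, 2), (1059, 0), (1059, 2), (909, 1), (761, 0), (391, 0), (391, 2), (1244, 0), (1244, 2), (2602, 0), (2602, 2), (620, 0), (620, 2), (298, 0), (298,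 1), (298, 2), (2319, 0), (2319, 2), (1611, 0), (1611, 2), (3130, 0), (3130, 2), (1464, 0), (1464, 1), (1464, 2), (868, 0), (868, 2), (2798, 0), (2798, 2), (2579, 0), (2579, 1), (2579, 2), (1512, 2), (3287, 0), (3287, 2), (3749, 0), (3749, 1), (3749, 2), (3032, 0), (3032, 2), (3855, 0), (3855, 2), (2755, 0), (2755, 2), (3224, 0), (3224, 2), (3662, 0), (3662, 1), (3465, 0), (3465, 2), (478, 0), (478, 1), (478, 2), (1889, 0), (1889, 2), (1387, 0), (1387, 2), (335, 0), (335, 2), (1113, 0), (1905, 1), (3127, 0), (468, 0), (468, 2), (228, 0), (228, 2), (3753, 0), (3753, 1), (4000, 0), (3498, 0), (3498, 1), (3498, 2), (3661, 0), (3661, 2), (3616, 0), (2158, 0), (2158, 2), (3178, 0), (2339, 0), (2339, 1), (1895, 0), (1895, 2), (3185, 0), (3185, 2), (1504, 0), (1504, 1), (1504, 2), (546, 0), (546, 2), (2637, 0), (2637, 1), (2637, 2), (2298, 0), (2298, 2), (2614, 0), (2614, 1), (2614, 2), (742, 2), (3278, 0), (3278, 2), (3212, 0), (3212, 1), (2857, 0), (2857, 2), (3532, 0),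 (3532, 1), (3532, 2), (2633, 0), (2633, 2), (3555, 0), (3555, 1), (3555, 2), (3525, 0), (3525, 2), (3633, 0), (3633, 2), (2885, 1), (2885, 2), (1899, 1), (3013, 0), (3013, 2), (1171, 0), (1171, 2), (2601, 0), (2257, 0), (2257, 2), (1976, 0), (1976, 2), (2389, 0), (2389, 1), (2389, 2), (1043, 2), (2366, 0), (2366, 2), (3024, 0), (3024, 2), (2759, 0), (1994, 2), (2155, 0), (2155, 2), (1760, 0), (1760, 2), (1382, 1), (1729, 2), (3384, 0), (3384, 2), (979, 0), (2223, 0), (2223, 2), (1969, 1), (1969, 2), (724, 0), (122, 0), (122, 2), (1516, 2), (295, 1), (295, 2), (1400, 0), (1400, 2), (447, 0), (447, 1), (447, 2), (1854, 0), (1854, 2), (680, 0), (680, 1), (680, 2), (963, 0), (963, 2), (287, 0), (287, 1), (287, 2), (1745, 0), (1745, 2), (1340, 2), (606, 0), (606, 2), (1487, 0), (1469, 0), (1469, 1), (1469, 2), (3205, 0), (3205, 2), (572, 0), (572, 2), (867, 0), (867, 2), (578, 1), (1507, 0), (1507, 2), (3139, 2), (2778, 2), (3344, 0), (3344, 2), (2876, 0), (2876, 1),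 (2444, 2), (1703, 0), (1703, 2), (2140, 0), (2140, 2), (1978, 2), (1716, 0), (1716, 1), (1716, 2), (687, 0), (687, 2), (968, 2), (1209, 0), (1209, 2), (994, 0), (994, 2), (2167, 0), (2167, 2), (1522, 1), (1522, 2), (1862, 0), (1862, 2), (1580, 1), (1580, 2), (3492, 2), (233, 2), (1488, 0), (1488, 1), (1488, 2), (3371, 2), (581, 0), (581, 2), (726, 2), (1711, 0), (1711, 2), (353, 0), (353, 1), (353, 2), (80, 0), (80, 2), (3118, 0), (3118, 2), (2932, 2), (3433, 0), (3433, 2), (2079, 0), (2079, 2), (624, 1), (1724, 0), (1724, 2), (454, 0), (454, 2), (3767, 0), (3767, 1), (2246, 0), (2246, 2), (3772, 0), (3772, 2), (3984, 0), (3984, 2), (3588, 0), (3588, 1), (2475, 2), (2215, 0), (2215, 1), (3896, 0), (3896, 2), (1404, 0), (1404, 2), (3381, 0), (3381, 2), (333, 0), (333, 2), (339, 0), (339, 1), (339, 2), (1141, 0), (2682, 0), (2682, 1), (3087, 0), (3087, 1), (3161, 0), (3161, 2), (3479, 1), (3479, 2), (3900, 0), (3900, 2), (1731, 2), (3288, 0), (3288, 1), (3288, 2),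 (2354, 0), (2354, 2), (2917, 0), (2917, 2), (2323, 0), (2323, 2), (3094, 2), (2134, 1), (586, 0), (1502, 0), (1502, 1), (1502, 2), (2476, 0), (2476, 1), (2476, 2), (2571, 0), (2571, 2), (2333, 0), (2333, 2), (691, 0), (691, 2), (2398, 2), (3973, 0), (646, 0), (646, 1), (2205, 0), (2878, 2), (1204, 0), (1204, 1), (1204, 2), (845, 0), (845, 2), (487, 0), (487, 1), (487, 2), (1656, 0), (57, 1), (57, 2), (53, 0), (53, 2), (523, 0), (523, 1), (523, 2), (1834, 0), (1834, 1), (1834, 2), (2887, 0), (2887, 2), (1185, 0), (1185, 2), (3012, 0), (3012, 1), (3012, 2), (2760, 0), (2760, 2), (1103, 0), (1103, 2), (1082, 0), (1082, 2), (2004, 0), (2004, 1), (2004, 2), (654, 2), (188, 0), (188, 1), (188, 2), (1550, 2), (558, 0), (558, 2), (474, 0), (474, 1), (474, 2), (1892, 0), (1892, 2), (170, 1), (170, 2), (1635, 0), (1635, 2), (4074, 2), (1109, 0), (557, 0), (557, 1), (557, 2), (472, 0), (472, 2), (2709, 0), (2709, 2), (794, 0), (794, 2), (730, 0), (730, 1), (730, 2), (1957,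 0), (1957, 2), (3457, 0), (3457, 1), (3457, 2), (3379, 0), (3379, 2), (2929, 0), (2929, 2), (2641, 1), (2641, 2), (2262, 2), (2025, 0), (2025, 1), (2025, 2), (2744, 0), (2744, 1), (2744, 2), (2757, 0), (2034, 0), (3052, 0), (1071, 0), (1336, 0), (189, 2), (806, 2), (607, 0), (607, 2), (651, 0), (651, 1), (651, 2), (1490, 0), (1490, 2), (4035, 0), (4035, 2), (1543, 0), (856, 2), (1063, 0), (1063, 1), (1063, 2), (3036, 0), (3036, 2), (1307, 0), (1307, 2), (633, 0), (404, 0), (701, 0), (701, 1), (701, 2), (459, 0), (459, 2), (1587, 2), (999, 0), (999, 1), (999, 2), (1804, 0), (1804, 1), (2953, 0), (2953, 2), (139, 2), (2653, 0), (2653, 1), (2653, 2), (2524, 0), (2524, 2), (1259, 0), (1259, 1), (1809, 0), (1809, 2), (2397, 1), (2397, 2), (2939, 0), (2939, 1), (2939, 2), (3285, 0), (3285, 2), (1881, 0), (1881, 1), (1881, 2), (2185, 0), (182, 2), (2018, 0), (2018, 1), (2018, 2), (1922, 0), (1265, 1), (1265, 2), (3630, 0), (3630, 2), (598, 0), (598, 2), (936, 0), (936,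 1), (936, 2), (736, 0), (736, 2), (426, 0), (426, 1), (426, 2), (1388, 0), (1388, 2), (1541, 0), (1541, 1), (1541, 2), (3122, 0), (3122, 2), (506, 0), (2986, 0), (2986, 2), (1680, 0), (1680, 1), (1680, 2), (711, 2), (31, 0), (31, 1), (31, 2), (1864, 0), (1055, 0), (1055, 2), (1589, 2), (3478, 0), (3478, 2), (413, 0), (413, 2), (2787, 0), (2787, 2), (4016, 2), (1553, 1), (1553, 2), (501, 2), (380, 2), (195, 0), (195, 1), (1843, 0), (622, 0), (622, 1), (1448, 2), (2325, 0), (2325, 1), (2429, 0), (1334, 0), (1334, 2), (1391, 0), (1173, 1), (1173, 2), (2466, 2), (637, 0), (637, 2), (3207, 0), (3207, 1), (3897, 0), (3897, 2), (1829, 2), (408, 0), (408, 2), (2589, 2), (2463, 0), (2463, 2), (1756, 0), (1756, 2), (2200, 2), (910, 0), (910, 2), (1458, 1), (2423, 2), (3133, 2), (3337, 0), (3337, 1), (3337, 2), (3851, 2), (2065, 2), (748, 0), (748, 2), (2667, 0), (2667, 1), (2667, 2), (3280, 0), (3280, 2), (3922, 0), (3922, 2), (2761, 0), (3206, 0), (3206, 2), (3564, 2), (2824,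 0), (2951, 2), (3768, 0), (3425, 0), (3425, 1), (3425, 2), (2352, 2), (3660, 2), (2507, 0), (2507, 2), (2855, 0), (2855, 2), (3780, 0), (3780, 2), (1263, 1), (1263, 2), (3150, 2), (1592, 0), (1592, 2), (944, 1), (997, 0), (693, 1), (926, 0), (1191, 0), (1191, 1), (1624, 0), (1624, 2), (556, 0), (556, 2), (3725, 0), (2587, 1), (2587, 2), (1258, 0), (1888, 2), (1138, 0), (1138, 1), (1138, 2), (1318, 0), (2900, 0), (2900, 1), (2900, 2), (4048, 0), (4048, 1), (4048, 2), (3797, 0), (3797, 1), (3797, 2), (2096, 0), (2096, 2), (3068, 2), (3878, 0), (3467, 0), (3856, 2), (2103, 0), (2103, 2), (3421, 0), (2613, 0), (2613, 1), (2613, 2), (3217, 0), (3217, 1), (1971, 0), (1971, 1), (1686, 0), (2616, 0), (2616, 1), (2616, 2), (2438, 0), (2438, 2), (1776, 0), (2484, 2), (965, 0), (965, 2), (1297, 0), (1297, 2), (308, 0), (308, 2), (2342, 0), (2342, 1), (2342, 2), (3369, 2), (2173, 2), (2431, 0), (2431, 2), (2331, 0), (2331, 1), (2331, 2), (1481, 0), (1481, 2), (3125, 0), (1140,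 0), (1140, 2), (2663, 1), (2663, 2), (3546, 2), (3654, 0), (3654, 1), (3654, 2), (2258, 0), (3476, 0), (3476, 1), (3476, 2), (2831, 2), (2790, 1), (110, 0), (3816, 2), (3364, 0), (3364, 2), (2091, 0), (3825, 0), (3825, 2), (2582, 0), (2582, 2), (2964, 0), (2964, 2), (3810, 1), (3810, 2), (3713, 0), (3864, 0), (3864, 1), (2212, 2), (893, 0), (893, 2), (3907, 0), (775, 0), (2530, 0), (2530, 2), (3840, 0), (3840, 2), (1609, 0), (1609, 1), (1609, 2), (3348, 0), (3348, 1), (3348, 2), (2152, 0), (2305, 0), (2305, 2), (2012, 0), (2012, 1), (2012, 2), (685, 0), (685, 2), (3242, 0), (3242, 1), (4052, 2), (3843, 2), (240, 0), (240, 2), (2207, 0), (2207, 1), (2207, 2), (3964, 0), (3560, 0), (3560, 1), (2593, 2), (2403, 0), (2403, 1), (2403, 2), (984, 0), (984, 2), (2101, 0), (2101, 1), (2101, 2), (2335, 0), (2335, 2), (1904, 0), (1904, 1), (421, 0), (1508, 0), (131, 2), (2716, 0), (2716, 1), (2716, 2), (1513, 1), (2135, 0), (2135, 1), (3167, 0), (681, 2), (708, 2), (1386,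 0), (1386, 1), (1386, 2), (1085, 0), (92, 2), (2030, 0), (3800, 0), (3800, 2), (1814, 0), (1814, 2), (700, 1), (700, 2), (972, 0), (223, 0), (223, 1), (223, 2), (976, 2), (1823, 0), (1823, 2), (927, 1), (1949, 2), (1364, 1), (2443, 0), (2443, 2), (481, 0), (481, 1), (787, 0), (787, 2), (1167, 0), (1167, 1), (1167, 2), (3664, 0), (3664, 2), (1850, 2), (872, 0), (872, 1), (872, 2), (480, 2), (1743, 2), (1327, 2), (1051, 2), (743, 1), (1758, 0), (1758, 1), (2672, 2), (1996, 0), (1996, 2), (2626, 0), (2626, 1), (2626, 2), (3523, 0), (3523, 2), (1310, 0), (1310, 1), (1310, 2), (1457, 0), (1457, 1), (822, 0), (822, 2), (753, 2), (756, 0), (2290, 0), (2106, 0), (3720, 1), (3042, 0), (2462, 0), (2462, 1), (2462, 2), (1089, 0), (3659, 0), (3659, 2), (851, 0), (851, 1), (851, 2), (1431, 0), (1431, 2), (3113, 0), (3113, 2), (732, 2), (858, 1), (371, 0), (371, 2), (1477, 0), (1477, 2), (1367, 2), (779, 0), (604, 0), (604, 1), (397, 2), (497, 0), (497, 1), (497, 2), (565, 0),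 (565, 2), (2107, 0), (2107, 1), (3159, 0), (428, 0), (428, 2), (727, 0), (1955, 0), (1955, 2), (1968, 0), (1968, 2), (3195, 0), (3195, 2), (4006, 0), (4006, 2), (77, 0), (1768, 0), (1768, 2), (3246, 0), (2815, 2), (1314, 0), (1314, 1), (1314, 2), (1393, 0), (855, 0), (855, 1), (855, 2), (1200, 1), (1200, 2), (3756, 0), (3756, 2), (612, 2), (40, 0), (2583, 0), (2583, 2), (3846, 0), (3846, 2), (3764, 0), (3764, 1), (3764, 2), (2703, 0), (2063, 0), (2063, 1), (2063, 2), (3353, 0), (3353, 2), (3341, 0), (862, 0), (862, 2), (1260, 0), (1260, 2), (227, 0), (227, 1), (227, 2), (1650, 0), (2907, 0), (2907, 1), (3171, 2), (3153, 0), (3153, 2), (3934, 0), (3934, 1), (3468, 0), (3468, 2), (4040, 0), (4040, 1), (2690, 0), (2690, 2), (3842, 0), (3842, 1), (2419, 0), (2590, 2), (2131, 0), (2131, 2), (2972, 0), (2972, 1), (2972, 2), (2958, 0), (1726, 0), (1726, 1), (2714, 0), (2714, 1), (4038, 0), (4038, 2), (1577, 0), (1577, 2), (1193, 0), (1193, 1), (1193, 2), (3742, 0), (3742,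 2), (784, 0), (784, 2), (570, 0), (570, 1), (570, 2), (2365, 0), (1287, 0), (2567, 0), (2567, 2), (3628, 0), (3628, 1), (3628, 2), (2249, 0), (2249, 2), (2640, 0), (3986, 0), (3986, 2), (3998, 0), (3724, 0), (242, 2), (2668, 0), (190, 0), (190, 2), (2506, 0), (2506, 2), (3225, 0), (3225, 2), (2903, 0), (2903, 2), (3506, 0), (3506, 1), (3506, 2), (3877, 2), (3209, 0), (3209, 1), (2673, 2), (3538, 0), (1317, 0), (1317, 1), (1317, 2), (751, 0), (751, 2), (198, 2), (1690, 2), (3286, 0), (3286, 2), (3394, 0), (3394, 2), (3629, 0), (2309, 0), (2309, 2), (2139, 0), (2139, 2), (2190, 0), (2190, 2), (3627, 0), (1369, 0), (1369, 2), (340, 0), (340, 2), (3867, 0), (3010, 0), (3010, 2), (2126, 1), (2126, 2), (3679, 0), (602, 0), (602, 1), (602, 2), (234, 0), (1254, 0), (1254, 2), (1446, 0), (1446, 1), (1802, 2), (243, 0), (243, 2), (1876, 0), (1876, 2), (828, 0), (828, 2), (3762, 2), (364, 0), (364, 2), (26, 1), (26, 2), (1351, 0), (1351, 2), (1285, 0), (3865, 2), (917, 0),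 (1203, 0), (1203, 2), (1020, 0), (2467, 0), (2467, 2), (3890, 2), (1616, 0), (1616, 1), (455, 0), (455, 2), (3554, 1), (2285, 2), (3648, 0), (3648, 2), (2404, 0), (2404, 1), (551, 0), (551, 1), (1465, 2), (1565, 0), (1565, 1), (1565, 2), (255, 2), (1002, 2), (1118, 0), (1118, 2), (2544, 2), (1389, 2), (279, 2), (1311, 2), (237, 1), (237, 2), (156, 2), (826, 2), (946, 1), (1959, 2), (3386, 0), (3386, 2), (817, 0), (215, 0), (215, 2), (2782, 0), (1578, 0), (1578, 1), (1578, 2), (1302, 0), (1302, 1), (3785, 2), (1070, 0), (1070, 2), (236, 0), (2378, 0), (2378, 2), (3361, 0), (3361, 2), (1421, 0), (1421, 1), (1421, 2), (603, 0), (603, 2), (365, 1), (365, 2), (346, 0), (346, 2), (978, 1), (3776, 1), (3776, 2), (3738, 2), (2946, 0), (2946, 2), (3737, 0), (3737, 2), (2884, 0), (2884, 2), (941, 2), (1012, 2), (901, 2), (655, 2), (3420, 0), (3420, 1), (3083, 2), (2092, 2), (2402, 0), (2402, 1), (1017, 0), (1017, 2), (2550, 0), (2550, 1), (2550, 2), (535, 1), (535, 2), (1692,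 2), (1069, 0), (1909, 0), (1909, 2), (303, 1), (303, 2), (1349, 0), (1349, 2), (2739, 0), (2739, 2), (1769, 1), (1769, 2), (689, 0), (689, 2), (3041, 2), (2769, 0), (1795, 0), (1795, 2), (531, 1), (531, 2), (866, 0), (2542, 0), (2542, 2), (3594, 0), (3594, 2), (1677, 1), (666, 0), (666, 2), (316, 1), (316, 2), (202, 0), (350, 1), (350, 2), (1619, 0), (1619, 2), (1294, 0), (229, 0), (229, 2), (793, 0), (793, 2), (437, 0), (499, 0), (499, 1), (869, 0), (869, 2), (1655, 0), (2500, 1), (2500, 2), (2858, 0), (2858, 2), (3374, 0), (3374, 1), (3374, 2), (2797, 2), (3146, 0), (3146, 2), (2286, 2), (3881, 2), (737, 0), (2630, 0), (2630, 2), (3626, 0), (3626, 2), (2575, 0), (2575, 2), (2666, 2), (940, 1), (940, 2), (821, 0), (821, 2), (969, 2), (2116, 0), (1077, 0), (1077, 2), (2033, 0), (2033, 2), (3333, 2), (663, 0), (663, 2), (1985, 0), (2956, 0), (2956, 2), (165, 0), (165, 2), (2839, 1), (3293, 0), (3293, 2), (1323, 0), (1323, 1), (1330, 0), (1330, 2), (1492, 1), (876,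 0), (368, 0), (368, 1), (368, 2), (1237, 1), (1237, 2), (3080, 0), (3080, 2), (574, 2), (694, 1), (2585, 1), (2585, 2), (1277, 0), (1277, 1), (1277, 2), (2517, 0), (2517, 1), (2685, 2), (840, 0), (840, 1), (161, 2), (1362, 0), (1039, 1), (3938, 0), (3938, 2), (1145, 0), (932, 2), (527, 1), (1243, 0), (1243, 2), (1222, 2), (2763, 0), (2763, 2), (3794, 2), (1230, 0), (1230, 1), (1230, 2), (1800, 2), (2417, 0), (2417, 1), (2390, 0), (2390, 2), (2788, 0), (3611, 0), (3611, 2), (418, 0), (418, 2), (1606, 2), (1644, 2), (1335, 0), (749, 0), (749, 2), (2186, 1), (2186, 2), (2238, 0), (2238, 1), (2238, 2), (667, 1), (1719, 1), (1786, 2), (1472, 2), (2679, 2), (1342, 1), (1356, 0), (1356, 2), (2627, 1), (2766, 0), (2766, 2), (1766, 2), (1228, 0), (842, 0), (3147, 0), (3147, 2), (2255, 0), (3609, 0), (3609, 2), (878, 0), (2409, 2), (1479, 0), (1479, 1), (1657, 0), (3860, 0), (3500, 2), (3716, 1), (3746, 0), (3746, 2), (2792, 2), (3002, 2), (2371, 2), (1398, 1), (1398, 2),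 (1324, 2), (2357, 0), (2357, 1), (2357, 2), (1549, 0), (2664, 0), (2664, 1), (2664, 2), (2275, 2), (2985, 0), (2985, 1), (2737, 0), (2737, 2), (3428, 1), (3651, 0), (3651, 1), (3651, 2), (3726, 2), (3460, 0), (3460, 1), (3460, 2), (3952, 0), (2908, 0), (2908, 2), (3760, 2), (2708, 2), (2982, 0), (2982, 2), (2854, 2), (3275, 0), (3275, 2), (3301, 0), (2681, 0), (2681, 2), (2451, 0), (2451, 1), (3925, 2), (2914, 0), (2914, 1), (3489, 0), (3489, 2), (2772, 0), (2772, 2), (1436, 2), (3481, 0), (3481, 2), (1820, 0), (1820, 2), (498, 0), (463, 0), (463, 1), (463, 2), (595, 0), (595, 1), (1836, 1), (458, 0), (278, 1), (278, 2), (2886, 0), (2886, 2), (2713, 2), (2360, 0), (1653, 1), (1653, 2), (677, 2), (569, 1), (471, 0), (471, 2), (1683, 2), (2474, 0), (2474, 2), (3936, 0), (3048, 0), (3048, 1), (3048, 2), (1415, 2), (2691, 0), (2691, 2), (2922, 2), (3096, 0), (3096, 2), (2149, 2), (3692, 2), (2963, 2), (3781, 1), (3781, 2), (2753, 0), (2734, 0), (2734, 1), (2734, 2),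 (3803, 0), (3803, 2), (2632, 0), (2632, 1), (2632, 2), (985, 2), (1867, 1), (1867, 2), (2243, 2), (3859, 2), (888, 0), (888, 2), (3687, 2), (1506, 0), (1506, 2), (1632, 0), (962, 0), (1178, 1), (3219, 2), (2130, 2), (3894, 0), (2702, 2), (3343, 0), (2239, 1), (2610, 2), (2904, 2), (1764, 0), (2586, 1), (2586, 2), (1594, 0), (1594, 2), (3917, 2), (3095, 2), (2851, 0), (3177, 0), (3177, 2), (322, 2), (3747, 0), (3747, 2), (3610, 0), (1079, 1), (1079, 2), (2540, 0), (2706, 1), (2706, 2), (4069, 2), (3093, 1), (3093, 2), (2936, 0), (3339, 0), (3155, 0), (3155, 2), (3530, 0), (3530, 1), (3530, 2), (3874, 0), (2228, 0), (3904, 1), (3904, 2), (3980, 2), (3121, 0), (3143, 0), (3143, 2), (1470, 0), (1551, 0), (2977, 0), (387, 0), (387, 1), (387, 2), (3313, 2), (2944, 0), (2944, 2), (1828, 0), (1828, 1), (1828, 2), (3895, 2), (2698, 1), (1256, 0), (1256, 2), (2176, 0), (2915, 2), (1006, 0), (1006, 1), (1143, 0), (1143, 2), (1992, 2), (1366, 0), (1366, 1), (1366, 2), (2306,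 0), (3969, 2), (1144, 1), (1144, 2), (2127, 0), (632, 2), (3006, 1), (3006, 2), (2804, 1), (2804, 2), (2405, 0), (2405, 2), (2225, 0), (2225, 2), (2933, 0), (492, 0), (492, 2), (3098, 0), (3098, 1), (3098, 2), (3906, 2), (3111, 0), (2191, 1), (1234, 0), (754, 0), (754, 1), (370, 2), (3406, 0), (2291, 2), (3400, 0), (3115, 0), (3022, 0), (2607, 0), (2607, 1), (367, 2), (1123, 2), (1717, 0), (1717, 1), (1717, 2), (1566, 1), (2924, 0), (2924, 2), (2281, 0), (2281, 2), (1931, 1), (1931, 2), (1746, 0), (1746, 2), (2153, 2), (1102, 0), (486, 1), (486, 2), (111, 2), (838, 0), (838, 2), (1083, 0), (833, 0), (833, 2), (911, 2), (1723, 0), (2245, 0), (2245, 1), (2680, 0), (393, 0), (393, 1), (393, 2), (1607, 0), (1607, 2), (2928, 0), (1531, 2), (2856, 1), (2856, 2), (671, 2), (436, 0), (436, 1), (1181, 2), (814, 0), (814, 2), (871, 0), (871, 2), (1241, 2), (599, 0), (879, 0), (109, 0), (2375, 2), (2022, 2), (1707, 0), (1707, 2), (2337, 0), (2099, 2), (2785, 1), (2785, 2),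 (1679, 2), (3298, 2), (1752, 0), (1435, 0), (1435, 1), (1435, 2), (1558, 0), (1558, 2), (378, 0), (378, 2), (2169, 2), (3101, 0), (1433, 0), (3569, 1), (3279, 1), (3440, 2), (3929, 0), (3929, 2), (1568, 1), (2853, 0), (2853, 2), (1449, 1), (3847, 0), (715, 1), (2580, 0), (2580, 1), (2509, 2), (185, 0), (185, 1), (2017, 0), (2017, 2), (1712, 2), (1413, 0), (1326, 0), (1326, 1), (1590, 0), (836, 2), (282, 0), (2077, 0), (2077, 1), (2603, 2), (363, 0), (363, 1), (2001, 0), (2001, 1), (982, 0), (982, 2), (2008, 2), (900, 0), (2621, 1), (2621, 2), (3027, 0), (1062, 1), (1908, 1), (1908, 2), (2647, 2), (657, 2), (1014, 0), (1720, 0), (1720, 2), (1841, 0), (484, 2), (2902, 1), (2902, 2), (3311, 2), (1094, 0), (1044, 0), (1044, 1), (2315, 0), (3347, 0), (3347, 2), (3930, 1), (3930, 2), (2499, 2), (3237, 2), (3399, 2), (3079, 0), (3079, 1), (2786, 2), (2694, 2), (1880, 2), (1137, 1), (1137, 2), (3868, 2), (277, 2), (825, 2), (2528, 0), (4015, 0), (4015, 1), (4015, 2), (3141,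 0), (3782, 1), (3817, 2), (4068, 0), (4068, 1), (3365, 0), (3393, 2), (2945, 1), (3257, 0), (2089, 0), (3534, 0), (3534, 1), (2497, 0), (3595, 0), (3595, 2), (2503, 1), (863, 2), (2381, 0), (2381, 1), (3043, 0), (3731, 2), (1812, 2), (2720, 0), (2720, 2), (238, 2), (2895, 1), (3483, 0), (3483, 2), (1081, 2), (3184, 0), (3172, 2), (3023, 0), (3023, 2), (3910, 2), (2358, 1), (1119, 0), (1308, 0), (2277, 2), (2873, 0), (2636, 0), (3499, 0), (3499, 2), (3665, 0), (2777, 0), (146, 0), (146, 2), (2998, 2), (3652, 0), (3652, 1), (2055, 0), (375, 0), (375, 1), (3691, 1), (3691, 2), (3745, 2), (2801, 0), (3862, 2), (3202, 0), (2119, 0), (2119, 1), (2119, 2), (2837, 0), (2837, 1), (2837, 2), (746, 0), (746, 2), (1194, 2), (2529, 1), (2867, 0), (2867, 2), (3414, 2), (2863, 1), (2863, 2), (301, 1), (301, 2), (1437, 2), (281, 2), (627, 0), (627, 1), (1747, 1), (1747, 2), (121, 0), (1698, 2), (1438, 1), (2518, 2), (1807, 0), (3466, 2), (2003, 0), (2003, 2), (1666, 0), (1482,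 0), (1482, 2), (213, 0), (3281, 0), (2871, 2), (2774, 2), (1832, 0), (2479, 0), (1251, 0), (1842, 0), (3119, 2), (2272, 2), (1268, 0), (1299, 2), (718, 0), (782, 1), (1117, 0), (2916, 2), (1555, 2), (884, 0), (1359, 0), (1291, 0), (573, 0), (1748, 2), (1432, 1), (2415, 1), (789, 0), (789, 1), (1675, 0), (1675, 1), (2416, 0), (2250, 2), (1182, 2), (1142, 1), (2938, 0), (1325, 0), (1325, 2), (89, 2), (1615, 0), (173, 0), (173, 1), (2437, 0), (2201, 0), (3521, 0), (2892, 2), (3587, 0), (3587, 2), (1573, 0), (1633, 2), (2522, 0), (2522, 2), (3373, 0), (3249, 1), (3342, 0), (508, 1), (846, 0), (2921, 2), (1139, 0), (534, 1), (954, 0), (2890, 0), (2890, 2), (2393, 1), (1368, 0), (1368, 1), (293, 0), (2408, 0), (2408, 1), (897, 1), (1979, 0), (1979, 2), (3677, 2), (3432, 0), (1659, 2), (809, 2), (396, 1), (396, 2), (218, 1), (249, 2), (798, 0), (434, 0), (434, 2), (1605, 0), (827, 1), (2453, 2), (2711, 1), (328, 2), (3773, 2), (3340, 0), (3340, 2), (3621, 0), (2203, 0),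 (1392, 0), (3363, 0), (3363, 2), (3377, 0), (3377, 2), (3861, 2), (2428, 2), (1131, 2), (1646, 0), (410, 0), (1831, 0), (587, 2), (3106, 1), (1562, 1), (709, 2), (2502, 1), (3944, 2), (2670, 2), (3464, 2), (1689, 2), (661, 0), (124, 0), (1208, 2), (3956, 2), (2283, 2), (4017, 2), (2377, 2), (638, 0), (638, 2), (716, 0), (3306, 0), (3255, 0), (357, 2), (2993, 1), (1596, 1), (2073, 0), (2073, 2), (2481, 0), (3268, 0), (3256, 0), (3634, 0), (2829, 0), (2829, 1), (1691, 1), (374, 0), (374, 2), (1132, 2), (3488, 2), (2143, 2), (414, 0), (931, 0), (1702, 2), (2523, 2), (2151, 0), (2151, 1), (2539, 0), (1463, 0), (1630, 0), (3921, 0), (2382, 2), (2846, 2), (2835, 2), (2260, 2), (1964, 0), (3696, 2), (3940, 2), (1798, 0), (1798, 1), (3359, 2), (3540, 1), (2392, 1), (2849, 2), (2513, 0), (3186, 2), (4032, 0), (4024, 2), (3657, 0), (3169, 0), (2661, 2), (2674, 0), (2674, 1), (3044, 0), (2410, 1), (2410, 2), (3168, 0), (2764, 0), (2764, 2), (1273, 1), (1563, 2), (3491, 2),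 (877, 0), (1223, 2), (2439, 2), (2369, 0), (3596, 2), (2925, 0), (3424, 0), (3424, 1), (3132, 2), (2861, 0), (1468, 1), (1468, 2), (1777, 2), (948, 0), (948, 2), (1192, 0), (1821, 2), (3218, 2), (3636, 2), (2508, 2), (3853, 0), (2294, 2), (2492, 2), (3717, 0), (3625, 0), (2449, 0), (3813, 0), (3813, 1), (2452, 2), (2971, 0), (2138, 2), (3357, 2), (2979, 0), (735, 2), (3536, 1), (3978, 2), (2501, 0), (2267, 0), (2267, 2), (2646, 0), (571, 0), (3612, 2), (3269, 2), (3590, 2), (2406, 0), (3026, 0), (3603, 0), (1401, 2), (2727, 0), (2326, 0), (2581, 2), (1598, 2), (3913, 2), (1157, 0), (3145, 0), (2349, 0), (2349, 2), (3270, 2), (419, 1), (416, 0), (416, 2), (1849, 2), (2146, 2), (2488, 0), (702, 2), (1443, 2), (1242, 2), (1257, 2), (1588, 2), (490, 0), (3601, 2), (3216, 0), (3216, 1), (2388, 0), (797, 2), (2343, 2), (3598, 1), (3598, 2), (2638, 0), (4012, 1), (3338, 1), (3338, 2), (1730, 0), (2552, 0), (1891, 0), (1000, 1), (2889, 2), (3416, 0), (920, 2), (3857, 0),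 (2181, 0), (151, 0), (2896, 0), (3493, 2), (1016, 0), (3818, 2), (3151, 0), (2791, 2), (2214, 2), (2384, 0), (2150, 2), (2765, 1), (3366, 2), (2773, 2), (2412, 2), (1211, 0), (1790, 0), (1790, 2), (2442, 2), (1962, 2), (313, 1), (1857, 1), (3089, 0), (2263, 0), (2263, 1), (625, 0), (3262, 2), (359, 1), (1418, 0), (3882, 0), (2649, 0), (619, 2), (3858, 0), (3736, 1), (358, 2), (2264, 0), (2658, 2), (2842, 0), (2533, 2), (2844, 0), (596, 0), (3302, 2), (3412, 2), (3533, 1), (1304, 2), (2157, 1), (1232, 1), (2505, 0), (2300, 1), (2952, 0)]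

theorem checkCert_oct :
    checkCert certOct 1 (codeList.filter (fun m => popc m == 8)) = true := by
  decide +kernel

theorem checkCert_dod :
    checkCert certDod 6 (codeList.filter (fun m => popc m == 12)) = true := by
  decide +kernel

/-- the group of the code is transitive on the words of weight 8. -/
theorem transitive_octads {o o' : Finset GolayPt} (ho : o ∈ octads) (ho' : o' ∈ octads) :
    SameOrbit o o' := by
  obtain ⟨m, hm, hm8, rfl⟩ := (mem_octads_iff o).mp ho
  obtain ⟨m', hm', hm8', rfl⟩ := (mem_octads_iff o').mp ho'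
  have key := orbit_of_cert certOct 1 _ checkCert_oct
    (fun x hx => (List.mem_filter.mp hx).1)
  have h1 := key m (List.mem_filter.mpr ⟨hm, by simpa using hm8⟩)
  have h2 := key m' (List.mem_filter.mpr ⟨hm', by simpa using hm8'⟩)
  exact h1.symm.trans h2

theorem mem_dodecads_iff (b : Finset GolayPt) :
    b ∈ dodecads ↔ ∃ m ∈ codeList, popc m = 12 ∧ suppM m = b := by
  unfold dodecads
  rw [wordsOfWeight_eq]
  simp only [Set.mem_image, Set.mem_ofPred_eq, List.mem_filter, beq_iff_eq]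
  constructor
  · rintro ⟨m, ⟨hm, hp⟩, rfl⟩; exact ⟨m, hm, hp, rfl⟩
  · rintro ⟨m, hm, hp, rfl⟩; exact ⟨m, ⟨hm, hp⟩, rfl⟩

/-- the group of the code is transitive on the words of weight 12. -/
theorem transitive_dodecads {d d' : Finset GolayPt} (hd : d ∈ dodecads) (hd' : d' ∈ dodecads) :
    SameOrbit d d' := by
  obtain ⟨m, hm, hm8, rfl⟩ := (mem_dodecads_iff d).mp hd
  obtain ⟨m', hm', hm8', rfl⟩ := (mem_dodecads_iff d').mp hd'
  have key := orbit_of_cert certDod 6 _ checkCert_dod
    (fun x hx => (List.mem_filter.mp hx).1)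
  have h1 := key m (List.mem_filter.mpr ⟨hm, by simpa using hm8⟩)
  have h2 := key m' (List.mem_filter.mpr ⟨hm', by simpa using hm8'⟩)
  exact h1.symm.trans h2

end Cfsg.Agent.Helper9.Golay
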