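import Mathlib
import Cfsg.Prelude.Def_Sporadic_a
import Cfsg.Agent.Helper9.Golay.Basic

set_option autoImplicit false

/-!
Permutations of the 24 points as tables of indices, and straight-line programs over them.
-/

namespace Cfsg.Agent.Helper9.Golay

open Cfsg

/-- the point with a given natural index (the extra point for indices out of range). -/
def idxPtN (i : ℕ) : GolayPt := if h : i < 24 then idxPt ⟨i, h⟩ else none

theorem idxPtN_ptIdx (p : GolayPt) : idxPtN (ptIdx p) = p := by
  unfold idxPtN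
  rw [dif_pos (ptIdx_lt p)]
  exact idxPt_ptIdx p

theorem ptIdx_idxPtN {i : ℕ} (h : i < 24) : ptIdx (idxPtN i) = i := by
  unfold idxPtN
  rw [dif_pos h]
  exact ptIdx_idxPt ⟨i, h⟩

theorem idxPtN_injOn {i j : ℕ} (hi : i < 24) (hj : j < 24) (h : idxPtN i = idxPtN j) : i = j := by
  rw [← ptIdx_idxPtN hi, ← ptIdx_idxPtN hj, h]

/-- `t` is the table of the permutation `σ`. -/
def IsTbl (σ : Equiv.Perm GolayPt) (t : List ℕ) : Prop :=
  t.length = 24 ∧ ∀ p, t.getD (ptIdx p) 0 = ptIdx (σ p)

/-- the table of a function on points. -/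
def tblOf (f : GolayPt → GolayPt) : List ℕ := (List.range 24).map (fun i => ptIdx (f (idxPtN i)))

theorem isTbl_tblOf (σ : Equiv.Perm GolayPt) : IsTbl σ (tblOf σ) := by
  refine ⟨by simp [tblOf], fun p => ?_⟩
  unfold tblOf
  have h := ptIdx_lt p
  rw [List.getD_eq_getElem _ _ (by simpa using h)]
  simp only [List.getElem_map, List.getElem_range]
  rw [idxPtN_ptIdx]

/-- the identity table. -/
def idT : List ℕ := List.range 24

theorem isTbl_one : IsTbl 1 idT := by
  refine ⟨by simp [idT], fun p => ?_⟩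
  unfold idT
  have h := ptIdx_lt p
  rw [List.getD_eq_getElem _ _ (by simpa using h)]
  simp

/-- table of a product. -/
def mulT (s t : List ℕ) : List ℕ := t.map (fun j => s.getD j 0)

theorem IsTbl.mul {σ τ : Equiv.Perm GolayPt} {s t : List ℕ} (hs : IsTbl σ s) (ht : IsTbl τ t) :
    IsTbl (σ * τ) (mulT s t) := by
  refine ⟨by simp [mulT, ht.1], fun p => ?_⟩
  unfold mulT
  have h := ptIdx_lt p
  have hl : ptIdx p < t.length := by rw [ht.1]; exact h
  rw [List.getD_eq_getElem _ _ (by simpa using hl)]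
  simp only [List.getElem_map]
  have h2 := ht.2 p
  rw [List.getD_eq_getElem _ _ hl] at h2
  rw [h2, hs.2 (τ p)]
  rfl

/-- a permutation is determined by its table. -/
theorem IsTbl.eq_of_eq {σ τ : Equiv.Perm GolayPt} {t : List ℕ} (hs : IsTbl σ t) (ht : IsTbl τ t) :
    σ = τ := by
  apply Equiv.ext
  intro p
  apply ptIdx_injective
  rw [← hs.2 p, ← ht.2 p]

theorem IsTbl.apply_idx {σ : Equiv.Perm GolayPt} {t : List ℕ} (h : IsTbl σ t) {i : ℕ}
    (hi : i < 24) : σ (idxPtN i) = idxPtN (t.getD i 0) := by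
  have := h.2 (idxPtN i)
  rw [ptIdx_idxPtN hi] at this
  rw [this, idxPtN_ptIdx]

/-- run a straight-line program: each instruction appends the product of two earlier tables. -/
def runSLP : List (ℕ × ℕ) → List (List ℕ) → List (List ℕ)
  | [], st => st
  | e :: rest, st => runSLP rest (st ++ [mulT (st.getD e.1 idT) (st.getD e.2 idT)])

/-- every table in the list is the table of an element of `H`. -/
def GoodT (H : Subgroup (Equiv.Perm GolayPt)) (st : List (List ℕ)) : Prop :=
  ∀ t ∈ st, ∃ σ ∈ H, IsTbl σ t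

theorem GoodT.getD {H : Subgroup (Equiv.Perm GolayPt)} {st : List (List ℕ)} (h : GoodT H st)
    (i : ℕ) : ∃ σ ∈ H, IsTbl σ (st.getD i idT) := by
  by_cases hi : i < st.length
  · rw [List.getD_eq_getElem _ _ hi]
    exact h _ (List.getElem_mem hi)
  · rw [List.getD_eq_default _ _ (by omega)]
    exact ⟨1, H.one_mem, isTbl_one⟩

theorem goodT_runSLP (H : Subgroup (Equiv.Perm GolayPt)) :
    ∀ (prog : List (ℕ × ℕ)) (st : List (List ℕ)), GoodT H st → GoodT H (runSLP prog st) := by
  intro prog
  induction prog with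
  | nil => intro st h; exact h
  | cons e rest ih =>
    intro st h
    apply ih
    intro t ht
    rw [List.mem_append, List.mem_singleton] at ht
    rcases ht with ht | ht
    · exact h t ht
    · obtain ⟨σ, hσ, hσt⟩ := h.getD e.1
      obtain ⟨τ, hτ, hτt⟩ := h.getD e.2
      rw [ht]
      exact ⟨σ * τ, H.mul_mem hσ hτ, hσt.mul hτt⟩

end Cfsg.Agent.Helper9.Golay
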