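import Mathlib
import Cfsg.Prelude.Def_Sporadic_a
import Cfsg.Agent.Helper9.Golay.Orbit
import Cfsg.Agent.Helper9.Golay.Tbl

set_option autoImplicit false

/-!
Propagation of fixed points: an element of the group of the code fixing five points of an octad
stabilizes the octad; intersections of stabilized sets that are singletons give new fixed points.
-/

namespace Cfsg.Agent.Helper9.Golay

open Cfsg
open scoped Pointwise

/-- `g` maps the set of points with mask `A` into itself. -/
def InvMask (g : Equiv.Perm GolayPt) (A : ℕ) : Prop :=
  ∀ p, A.testBit (ptIdx p) = true → A.testBit (ptIdx (g p)) = true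

/-- an element of the group of the code fixing five points of an octad stabilizes the octad. -/
theorem smul_octad_eq {g : Equiv.Perm GolayPt} (hg : g ∈ M24) {F m : ℕ}
    (hF : ∀ p, F.testBit (ptIdx p) = true → g p = p) (hm : m ∈ codeList) (h8 : popc m = 8)
    (h5 : 5 ≤ popc (m &&& F)) : g • suppM m = suppM m := by
  have hoct : suppM m ∈ octads := (mem_octads_iff _).mpr ⟨m, hm, h8, rfl⟩
  have hoct' : g • suppM m ∈ octads := smul_mem_wordsOfWeight hg hoct
  have hc : 5 ≤ (suppM m ∩ suppM F).card := by
    rw [suppM_inter, card_suppM]; exact h5
  obtain ⟨s, hs, hs5⟩ := Finset.exists_subset_card_eq hc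
  have h1 : s ⊆ suppM m := fun p hp => (Finset.mem_inter.mp (hs hp)).1
  have h2 : s ⊆ g • suppM m := by
    intro p hp
    have hpF : g p = p := hF p ((mem_suppM F p).mp (Finset.mem_inter.mp (hs hp)).2)
    rw [← hpF]
    exact Finset.smul_mem_smul_finset (h1 hp)
  exact octads_unique hoct' hoct s hs5 h2 h1

theorem invMask_octad {g : Equiv.Perm GolayPt} (hg : g ∈ M24) {F m : ℕ}
    (hF : ∀ p, F.testBit (ptIdx p) = true → g p = p) (hm : m ∈ codeList) (h8 : popc m = 8)
    (h5 : 5 ≤ popc (m &&& F)) : InvMask g m := by
  have heq := smul_octad_eq hg hF hm h8 h5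
  intro p hp
  rw [← mem_suppM] at hp ⊢
  rw [← heq]
  exact Finset.smul_mem_smul_finset hp

/-- check of one propagation step: keys of octads, extra stabilized masks, new fixed index. -/
def propStepOK (extra : List ℕ) (F : ℕ) (s : List ℕ × List ℕ × ℕ) : Bool :=
  s.1.all (fun k => popc (fromKey k) == 8 && decide (5 ≤ popc (fromKey k &&& F))) &&
  s.2.1.all (fun A => extra.contains A) &&
  (List.range 24).all (fun i =>
    (s.1.all (fun k => (fromKey k).testBit i) && s.2.1.all (fun A => A.testBit i) &&
      !F.testBit i) == (i == s.2.2))

def runProp (extra : List ℕ) : List (List ℕ × List ℕ × ℕ) → ℕ → Option ℕ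
  | [], F => some F
  | s :: rest, F =>
    if propStepOK extra F s then runProp extra rest (F ||| (1 <<< s.2.2)) else none

theorem runProp_sound {g : Equiv.Perm GolayPt} (hg : g ∈ M24) {extra : List ℕ}
    (hex : ∀ A ∈ extra, InvMask g A) :
    ∀ (steps : List (List ℕ × List ℕ × ℕ)) (F F' : ℕ), runProp extra steps F = some F' →
      (∀ p, F.testBit (ptIdx p) = true → g p = p) → ∀ p, F'.testBit (ptIdx p) = true → g p = p := by
  intro steps
  induction steps with
  | nil =>
    intro F F' hrun hF
    simp only [runProp, Option.some.injEq] at hrun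
    rw [← hrun]; exact hF
  | cons s rest ih =>
    intro F F' hrun hF
    simp only [runProp] at hrun
    by_cases hok : propStepOK extra F s = true
    · rw [if_pos hok] at hrun
      refine ih _ F' hrun ?_
      unfold propStepOK at hok
      simp only [Bool.and_eq_true, List.all_eq_true, beq_iff_eq, decide_eq_true_eq,
        List.mem_range] at hok
      obtain ⟨⟨hoct, hextra⟩, hpt⟩ := hok
      intro p hp
      rw [Nat.testBit_or, Bool.or_eq_true] at hp
      rcases hp with hp | hp
      · exact hF p hp
      · rw [Nat.one_shiftLeft, Nat.testBit_two_pow, decide_eq_true_eq] at hp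
        -- `p` has index `s.2.2`
        have hx : s.2.2 < 24 := by rw [hp]; exact ptIdx_lt p
        have hcx := hpt s.2.2 hx
        rw [beq_self_eq_true] at hcx
        simp only [Bool.and_eq_true, List.all_eq_true, Bool.not_eq_true'] at hcx
        obtain ⟨⟨hk, hA⟩, hFx⟩ := hcx
        have hj := hpt (ptIdx (g p)) (ptIdx_lt _)
        have hFj : F.testBit (ptIdx (g p)) = false := by
          by_contra hcon
          rw [Bool.not_eq_false] at hcon
          have h1 := hF (g p) hcon
          have h2 : g p = p := g.injective h1
          rw [h2, ← hp, hFx] at hcon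
          exact absurd hcon (by simp)
        have hlhs : (s.1.all (fun k => (fromKey k).testBit (ptIdx (g p))) &&
            s.2.1.all (fun A => A.testBit (ptIdx (g p))) && !F.testBit (ptIdx (g p))) = true := by
          simp only [Bool.and_eq_true, List.all_eq_true, Bool.not_eq_true']
          refine ⟨⟨fun k hk' => ?_, fun A hA' => ?_⟩, hFj⟩
          · have ho := hoct k hk'
            refine invMask_octad hg hF (fromKey_mem k) ho.1 ho.2 p ?_
            rw [← hp]; exact hk k hk'
          · have hAe : A ∈ extra := by
              have := hextra A hA'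
              simpa using this
            refine hex A hAe p ?_
            rw [← hp]; exact hA A hA'
        rw [hlhs] at hj
        have hjx : ptIdx (g p) = s.2.2 := by
          have := hj.symm
          simpa using this
        apply ptIdx_injective
        rw [hjx, hp]
    · rw [if_neg hok] at hrun
      exact absurd hrun (by simp)

/-- if the propagation reaches all 24 points, the element is the identity. -/
theorem eq_one_of_runProp {g : Equiv.Perm GolayPt} (hg : g ∈ M24) {extra : List ℕ}
    (hex : ∀ A ∈ extra, InvMask g A) (steps : List (List ℕ × List ℕ × ℕ)) (F : ℕ)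
    (hrun : runProp extra steps F = some (2 ^ 24 - 1))
    (hF : ∀ p, F.testBit (ptIdx p) = true → g p = p) : g = 1 := by
  apply Equiv.ext
  intro p
  refine runProp_sound hg hex steps F _ hrun hF p ?_
  have h := ptIdx_lt p
  generalize ptIdx p = i at h
  interval_cases i <;> decide

end Cfsg.Agent.Helper9.Golay
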