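import Mathlib
import Cfsg.Prelude.Def_Sporadic_a
import Cfsg.Agent.Helper9.Golay.Tbl

set_option autoImplicit false

/-!
Stabilizer chains in subgroups of the symmetric group on the 24 points.
-/

namespace Cfsg.Agent.Helper9.Golay

open Cfsg

/-- orbit-stabilizer for a subgroup `K` of a group acting on a type. -/
theorem card_eq_orbit_mul {G X : Type*} [Group G] [MulAction G X] (K : Subgroup G) (b : X) :
    Nat.card K = (MulAction.orbit K b).ncard * Nat.card (K ⊓ MulAction.stabilizer G b : Subgroup G) := by
  have h1 := Subgroup.card_mul_index (MulAction.stabilizer K b)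
  rw [MulAction.index_stabilizer] at h1
  have h2 : MulAction.stabilizer K b = (K ⊓ MulAction.stabilizer G b).subgroupOf K := by
    ext g
    simp only [MulAction.mem_stabilizer_iff, Subgroup.mem_subgroupOf, Subgroup.mem_inf]
    constructor
    · intro h
      exact ⟨g.2, h⟩
    · intro h
      exact h.2
  have h3 : Nat.card ((K ⊓ MulAction.stabilizer G b).subgroupOf K)
      = Nat.card (K ⊓ MulAction.stabilizer G b : Subgroup G) :=
    Nat.card_congr (Subgroup.subgroupOfEquivOfLe inf_le_left).toEquiv
  rw [h2, h3] at h1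
  rw [← h1, mul_comm]

/-- the pointwise stabilizer of a list of points. -/
def fixL : List GolayPt → Subgroup (Equiv.Perm GolayPt)
  | [] => ⊤
  | b :: bs => fixL bs ⊓ MulAction.stabilizer (Equiv.Perm GolayPt) b

theorem mem_fixL {l : List GolayPt} {g : Equiv.Perm GolayPt} : g ∈ fixL l ↔ ∀ b ∈ l, g b = b := by
  induction l with
  | nil => simp [fixL]
  | cons b bs ih =>
    simp only [fixL, Subgroup.mem_inf, ih, MulAction.mem_stabilizer_iff, Equiv.Perm.smul_def,
      List.mem_cons, forall_eq_or_imp]
    tauto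

theorem inf_fixL_cons (H : Subgroup (Equiv.Perm GolayPt)) (b : GolayPt) (bs : List GolayPt) :
    H ⊓ fixL (b :: bs) = (H ⊓ fixL bs) ⊓ MulAction.stabilizer (Equiv.Perm GolayPt) b := by
  rw [fixL, inf_assoc]

/-- a lower bound for an orbit from a list of distinct points in it. -/
theorem le_ncard_orbit {K : Subgroup (Equiv.Perm GolayPt)} {b : GolayPt} (l : List GolayPt)
    (hnd : l.Nodup) (h : ∀ a ∈ l, ∃ g ∈ K, g b = a) : l.length ≤ (MulAction.orbit K b).ncard := by
  have h1 : (l.toFinset : Set GolayPt) ⊆ MulAction.orbit K b := by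
    intro a ha
    simp only [Finset.mem_coe, List.mem_toFinset] at ha
    obtain ⟨g, hg, hga⟩ := h a ha
    exact ⟨⟨g, hg⟩, hga⟩
  have h2 := Set.ncard_le_ncard h1 (Set.toFinite _)
  rw [Set.ncard_coe_finset, List.toFinset_card_of_nodup hnd] at h2
  exact h2

/-- an upper bound for an orbit from a finite set containing it. -/
theorem ncard_orbit_le {K : Subgroup (Equiv.Perm GolayPt)} {b : GolayPt} (T : Finset GolayPt)
    (h : ∀ g ∈ K, g b ∈ T) : (MulAction.orbit K b).ncard ≤ T.card := by
  have h1 : MulAction.orbit K b ⊆ (T : Set GolayPt) := by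
    rintro a ⟨g, rfl⟩
    exact h g.1 g.2
  have h2 := Set.ncard_le_ncard h1 (Set.toFinite _)
  rw [Set.ncard_coe_finset] at h2
  exact h2

/-- the table fixes all the indices of a list. -/
def fixesAll (t : List ℕ) (base : List ℕ) : Bool := base.all (fun c => t.getD c 0 == c)

/-- check of one level: entries are (target index, index of a table fixing the base and mapping
`b` to the target). -/
def levelOK (st : List (List ℕ)) (base : List ℕ) (b : ℕ) (cert : List (ℕ × ℕ)) : Bool :=
  base.all (fun c => decide (c < 24)) && decide (b < 24) &&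
  cert.all (fun e => decide (e.1 < 24) && fixesAll (st.getD e.2 idT) base &&
    (st.getD e.2 idT).getD b 0 == e.1)

theorem levelOK_sound {H : Subgroup (Equiv.Perm GolayPt)} {st : List (List ℕ)} (hst : GoodT H st)
    {base : List ℕ} {b : ℕ} {cert : List (ℕ × ℕ)} (h : levelOK st base b cert = true) :
    ∀ e ∈ cert, e.1 < 24 ∧ ∃ σ ∈ H ⊓ fixL (base.map idxPtN), σ (idxPtN b) = idxPtN e.1 := by
  unfold levelOK at h
  simp only [Bool.and_eq_true, List.all_eq_true, decide_eq_true_eq, beq_iff_eq] at h
  obtain ⟨⟨hbase, hb⟩, hcert⟩ := h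
  intro e he
  obtain ⟨⟨he1, hfix⟩, hmap⟩ := hcert e he
  refine ⟨he1, ?_⟩
  obtain ⟨σ, hσ, hσt⟩ := hst.getD e.2
  refine ⟨σ, Subgroup.mem_inf.mpr ⟨hσ, ?_⟩, ?_⟩
  · rw [mem_fixL]
    intro p hp
    rw [List.mem_map] at hp
    obtain ⟨c, hc, rfl⟩ := hp
    rw [hσt.apply_idx (hbase c hc)]
    unfold fixesAll at hfix
    simp only [List.all_eq_true, beq_iff_eq] at hfix
    rw [hfix c hc]
  · rw [hσt.apply_idx hb, hmap]

/-- check of a chain of levels, the base being accumulated. -/
def chainOK (st : List (List ℕ)) : List ℕ → List (ℕ × List (ℕ × ℕ)) → Bool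
  | _, [] => true
  | base, lv :: rest =>
    levelOK st base lv.1 lv.2 && decide ((lv.2.map Prod.fst).Nodup) &&
      chainOK st (lv.1 :: base) rest

/-- the product of the orbit lengths claimed by a chain. -/
def chainBound : List (ℕ × List (ℕ × ℕ)) → ℕ
  | [] => 1
  | lv :: rest => lv.2.length * chainBound rest

theorem chain_lower {H : Subgroup (Equiv.Perm GolayPt)} {st : List (List ℕ)} (hst : GoodT H st) :
    ∀ (levels : List (ℕ × List (ℕ × ℕ))) (base : List ℕ), chainOK st base levels = true →
      chainBound levels ≤ Nat.card (H ⊓ fixL (base.map idxPtN) : Subgroup (Equiv.Perm GolayPt)) := by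
  intro levels
  induction levels with
  | nil =>
    intro base _
    exact Nat.card_pos
  | cons lv rest ih =>
    intro base h
    simp only [chainOK, Bool.and_eq_true, decide_eq_true_eq] at h
    obtain ⟨⟨hlv, hnd⟩, hrest⟩ := h
    have h1 := ih (lv.1 :: base) hrest
    rw [List.map_cons, inf_fixL_cons] at h1
    rw [card_eq_orbit_mul (H ⊓ fixL (base.map idxPtN)) (idxPtN lv.1)]
    unfold chainBound
    apply Nat.mul_le_mul _ h1
    have hs := levelOK_sound hst hlv
    have := le_ncard_orbit (K := H ⊓ fixL (base.map idxPtN)) (b := idxPtN lv.1)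
      ((lv.2.map Prod.fst).map idxPtN) ?_ ?_
    · simpa using this
    · apply List.Nodup.map_on _ hnd
      intro i hi j hj hij
      rw [List.mem_map] at hi hj
      obtain ⟨e, he, rfl⟩ := hi
      obtain ⟨e', he', rfl⟩ := hj
      exact idxPtN_injOn (hs e he).1 (hs e' he').1 hij
    · intro a ha
      simp only [List.map_map, List.mem_map, Function.comp_apply] at ha
      obtain ⟨e, he, rfl⟩ := ha
      exact (hs e he).2

end Cfsg.Agent.Helper9.Golay
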