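import Mathlib
import Cfsg.Prelude.Def_Sporadic_a
import Cfsg.Agent.Helper9.Golay.Count
import Cfsg.Agent.Helper9.Golay.Chain

set_option autoImplicit false

/-!
More tools for stabilizer chains: tables preserving a set of points, levels inside a set
stabilizer, and the passage from a chain to multiple transitivity.
-/

namespace Cfsg.Agent.Helper9.Golay

open Cfsg
open scoped Pointwise

theorem levelOK_sound_tbl {H : Subgroup (Equiv.Perm GolayPt)} {st : List (List ℕ)}
    (hst : GoodT H st) {base : List ℕ} {b : ℕ} {cert : List (ℕ × ℕ)}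
    (h : levelOK st base b cert = true) :
    ∀ e ∈ cert, e.1 < 24 ∧ ∃ σ ∈ H ⊓ fixL (base.map idxPtN),
      IsTbl σ (st.getD e.2 idT) ∧ σ (idxPtN b) = idxPtN e.1 := by
  unfold levelOK at h
  simp only [Bool.and_eq_true, List.all_eq_true, decide_eq_true_eq, beq_iff_eq] at h
  obtain ⟨⟨hbase, hb⟩, hcert⟩ := h
  intro e he
  obtain ⟨⟨he1, hfix⟩, hmap⟩ := hcert e he
  refine ⟨he1, ?_⟩
  obtain ⟨σ, hσ, hσt⟩ := hst.getD e.2
  refine ⟨σ, Subgroup.mem_inf.mpr ⟨hσ, ?_⟩, hσt, ?_⟩
  · rw [mem_fixL]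
    intro p hp
    rw [List.mem_map] at hp
    obtain ⟨c, hc, rfl⟩ := hp
    rw [hσt.apply_idx (hbase c hc)]
    unfold fixesAll at hfix
    simp only [List.all_eq_true, beq_iff_eq] at hfix
    rw [hfix c hc]
  · rw [hσt.apply_idx hb, hmap]

/-- the table maps the set of indices with mask `m` onto itself. -/
def preservesMask (t : List ℕ) (m : ℕ) : Bool :=
  (List.range 24).all (fun i => m.testBit i == m.testBit (t.getD i 0))

theorem smul_suppM_of_preserves {σ : Equiv.Perm GolayPt} {t : List ℕ} {m : ℕ} (ht : IsTbl σ t)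
    (h : preservesMask t m = true) : σ • suppM m = suppM m := by
  unfold preservesMask at h
  simp only [List.all_eq_true, List.mem_range, beq_iff_eq] at h
  have key : ∀ p, p ∈ suppM m ↔ σ p ∈ suppM m := by
    intro p
    rw [mem_suppM, mem_suppM, ← ht.2 p, h (ptIdx p) (ptIdx_lt p)]
  ext q
  constructor
  · intro hq
    obtain ⟨p, hp, rfl⟩ := Finset.mem_smul_finset.mp hq
    exact (key p).mp hp
  · intro hq
    have : σ (σ⁻¹ q) = q := by simp
    rw [← this] at hq ⊢
    exact Finset.smul_mem_smul_finset ((key _).mpr hq)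

/-- a level inside the stabilizer of the set with mask `dm`. -/
def levelOKD (st : List (List ℕ)) (dm : ℕ) (base : List ℕ) (b : ℕ) (cert : List (ℕ × ℕ)) : Bool :=
  levelOK st base b cert && cert.all (fun e => preservesMask (st.getD e.2 idT) dm)

/-- the certificate covers all indices of the mask `tm` outside the base. -/
def coversM (tm : ℕ) (base : List ℕ) (cert : List (ℕ × ℕ)) : Bool :=
  (List.range 24).all (fun j => !tm.testBit j || base.contains j || (cert.map Prod.fst).contains j)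

theorem levelD_trans {H : Subgroup (Equiv.Perm GolayPt)} {st : List (List ℕ)} (hst : GoodT H st)
    {dm tm : ℕ} {base : List ℕ} {b : ℕ} {cert : List (ℕ × ℕ)}
    (h : levelOKD st dm base b cert = true) (hcov : coversM tm base cert = true) :
    ∀ a : GolayPt, a ∈ suppM tm → ptIdx a ∉ base →
      ∃ σ ∈ H ⊓ fixL (base.map idxPtN), σ • suppM dm = suppM dm ∧ σ (idxPtN b) = a := by
  intro a hat ha
  unfold levelOKD at h
  rw [Bool.and_eq_true] at h
  unfold coversM at hcov
  simp only [List.all_eq_true, List.mem_range, Bool.or_eq_true, List.contains_eq_mem,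
    decide_eq_true_eq, Bool.not_eq_true'] at hcov
  rw [mem_suppM] at hat
  rcases hcov (ptIdx a) (ptIdx_lt a) with (h1 | h1) | h1
  · rw [hat] at h1; exact absurd h1 (by simp)
  · exact absurd h1 ha
  · rw [List.mem_map] at h1
    obtain ⟨e, he, hea⟩ := h1
    obtain ⟨-, σ, hσ, hσt, hσb⟩ := levelOK_sound_tbl hst h.1 e he
    refine ⟨σ, hσ, ?_, ?_⟩
    · exact smul_suppM_of_preserves hσt (List.all_eq_true.mp h.2 e he)
    · rw [hσb, hea, idxPtN_ptIdx]

/-- from a chain of transitive stabilizers to multiple transitivity: every injective tuple with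
values in `D` is the image of the base tuple. -/
theorem to_base_generic {n : ℕ} (K : Subgroup (Equiv.Perm GolayPt)) (D : Set GolayPt)
    (hD : ∀ g ∈ K, ∀ a ∈ D, g a ∈ D) (c : ℕ → GolayPt)
    (hstep : ∀ k < n, ∀ a ∈ D, (∀ i < k, a ≠ c i) →
      ∃ σ ∈ K, (∀ i < k, σ (c i) = c i) ∧ σ (c k) = a)
    (x : Fin n ↪ GolayPt) (hx : ∀ i, x i ∈ D) :
    ∀ k ≤ n, ∃ g ∈ K, ∀ i : Fin n, i.val < k → g (c i.val) = x i := by
  intro k
  induction k with
  | zero =>
    intro _
    exact ⟨1, K.one_mem, fun i hi => absurd hi (by omega)⟩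
  | succ k ih =>
    intro hk
    obtain ⟨g, hg, hgx⟩ := ih (by omega)
    have hkn : k < n := by omega
    obtain ⟨σ, hσ, hσfix, hσk⟩ := hstep k hkn (g⁻¹ (x ⟨k, hkn⟩))
      (hD g⁻¹ (K.inv_mem hg) _ (hx _)) (by
      intro i hi hcon
      have h1 := hgx ⟨i, by omega⟩ hi
      simp only at h1
      rw [← hcon] at h1
      simp only [Equiv.Perm.coe_inv, Equiv.apply_symm_apply] at h1
      have := x.injective h1
      simp only [Fin.mk.injEq] at this
      omega)
    refine ⟨g * σ, K.mul_mem hg hσ, ?_⟩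
    intro i hi
    rw [Equiv.Perm.mul_apply]
    by_cases hik : i.val < k
    · rw [hσfix i.val hik]
      exact hgx i hik
    · have : i.val = k := by omega
      have hi' : i = ⟨k, hkn⟩ := Fin.ext this
      rw [this, hσk, hi']
      simp

theorem trans_generic {n : ℕ} (K : Subgroup (Equiv.Perm GolayPt)) (D : Set GolayPt)
    (hD : ∀ g ∈ K, ∀ a ∈ D, g a ∈ D) (c : ℕ → GolayPt)
    (hstep : ∀ k < n, ∀ a ∈ D, (∀ i < k, a ≠ c i) →
      ∃ σ ∈ K, (∀ i < k, σ (c i) = c i) ∧ σ (c k) = a)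
    (x y : Fin n ↪ GolayPt) (hx : ∀ i, x i ∈ D) (hy : ∀ i, y i ∈ D) :
    ∃ g ∈ K, ∀ i, g (x i) = y i := by
  obtain ⟨gx, hgx, hx'⟩ := to_base_generic K D hD c hstep x hx n le_rfl
  obtain ⟨gy, hgy, hy'⟩ := to_base_generic K D hD c hstep y hy n le_rfl
  refine ⟨gy * gx⁻¹, K.mul_mem hgy (K.inv_mem hgx), ?_⟩
  intro i
  rw [Equiv.Perm.mul_apply, ← hx' i i.2]
  simp only [Equiv.Perm.coe_inv, Equiv.symm_apply_apply]
  exact hy' i i.2

end Cfsg.Agent.Helper9.Golay
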