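import Mathlib
import Cfsg.Prelude.Def_Sporadic_a
import Cfsg.Agent.Helper9.Golay.Chain2
import Cfsg.Agent.Helper9.Golay.Orbit

set_option autoImplicit false

/-!
Orbit certificates for subgroups of the group of the code given by tables: stabilizers of points and
of sets of points, acting on code words.
-/

namespace Cfsg.Agent.Helper9.Golay

open Cfsg
open scoped Pointwise

/-- pull a mask back along a table: bit `i` of the result is bit `t[i]` of `m`. -/
def pullT (t : List ℕ) (m : ℕ) : ℕ := Nat.ofBits (fun i : Fin 24 => m.testBit (t.getD i.val 0))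

theorem pullT_lt (t : List ℕ) (m : ℕ) : pullT t m < 2 ^ 24 := Nat.ofBits_lt_two_pow _

theorem testBit_pullT (t : List ℕ) (m : ℕ) (p : GolayPt) :
    (pullT t m).testBit (ptIdx p) = m.testBit (t.getD (ptIdx p) 0) := by
  unfold pullT
  rw [Nat.testBit_ofBits, dif_pos (ptIdx_lt p)]

theorem suppM_pullT {σ : Equiv.Perm GolayPt} {t : List ℕ} (ht : IsTbl σ t) (m : ℕ) :
    suppM (pullT t m) = σ⁻¹ • suppM m := by
  ext p
  rw [mem_suppM, testBit_pullT, ht.2 p, ← mem_suppM]
  constructor
  · intro h
    have : σ⁻¹ (σ p) = p := by simp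
    rw [← this]
    exact Finset.smul_mem_smul_finset h
  · intro h
    obtain ⟨q, hq, hqp⟩ := Finset.mem_smul_finset.mp h
    have : σ p = q := by
      rw [← hqp]
      simp
    rw [this]
    exact hq

theorem pullT_mem_codeList {σ : Equiv.Perm GolayPt} {t : List ℕ} (hσ : σ ∈ M24) (ht : IsTbl σ t)
    {m : ℕ} (hm : m ∈ codeList) : pullT t m ∈ codeList := by
  have h1 : σ⁻¹ • suppM m ∈ supports (golayCode : Set (GolayPt → ZMod 2)) :=
    smul_mem_supports (M24.inv_mem hσ) ((mem_supports_iff _).mpr ⟨m, hm, rfl⟩)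
  rw [← suppM_pullT ht] at h1
  obtain ⟨m', hm', heq⟩ := (mem_supports_iff _).mp h1
  have : m' = pullT t m := support₂_decW_injOn (codeList_lt hm') (pullT_lt t m) heq
  rw [← this]
  exact hm'

/-- the subgroup of the group of the code fixing the points of `base` and stabilizing the sets
with masks in `masks`. -/
def KOf (base masks : List ℕ) : Subgroup (Equiv.Perm GolayPt) where
  carrier := {g | g ∈ M24 ∧ (∀ c ∈ base, g (idxPtN c) = idxPtN c) ∧
    ∀ m ∈ masks, g • suppM m = suppM m}
  mul_mem' := by
    rintro a b ⟨ha1, ha2, ha3⟩ ⟨hb1, hb2, hb3⟩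
    refine ⟨M24.mul_mem ha1 hb1, ?_, ?_⟩
    · intro c hc
      rw [Equiv.Perm.mul_apply, hb2 c hc, ha2 c hc]
    · intro m hm
      rw [mul_smul, hb3 m hm, ha3 m hm]
  one_mem' := ⟨M24.one_mem, fun _ _ => rfl, fun _ _ => one_smul _ _⟩
  inv_mem' := by
    rintro a ⟨ha1, ha2, ha3⟩
    refine ⟨M24.inv_mem ha1, ?_, ?_⟩
    · intro c hc
      have := ha2 c hc
      nth_rewrite 1 [← this]
      simp
    · intro m hm
      have := ha3 m hm
      nth_rewrite 1 [← this]
      rw [inv_smul_smul]

theorem mem_KOf {base masks : List ℕ} {g : Equiv.Perm GolayPt} :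
    g ∈ KOf base masks ↔ g ∈ M24 ∧ (∀ c ∈ base, g (idxPtN c) = idxPtN c) ∧
      ∀ m ∈ masks, g • suppM m = suppM m := Iff.rfl

theorem KOf_le (base masks : List ℕ) : KOf base masks ≤ M24 := fun _ hg => hg.1

/-- the table fixes the base and preserves the masks. -/
def genOK (base masks : List ℕ) (t : List ℕ) : Bool :=
  base.all (fun c => decide (c < 24)) && fixesAll t base && masks.all (fun m => preservesMask t m)

theorem genOK_sound {σ : Equiv.Perm GolayPt} {t : List ℕ} (hσ : σ ∈ M24) (ht : IsTbl σ t)
    {base masks : List ℕ} (h : genOK base masks t = true) : σ ∈ KOf base masks := by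
  unfold genOK at h
  simp only [Bool.and_eq_true, List.all_eq_true, decide_eq_true_eq] at h
  obtain ⟨⟨hb, hf⟩, hm⟩ := h
  refine ⟨hσ, ?_, ?_⟩
  · intro c hc
    rw [ht.apply_idx (hb c hc)]
    unfold fixesAll at hf
    simp only [List.all_eq_true, beq_iff_eq] at hf
    rw [hf c hc]
  · intro m hm'
    exact smul_suppM_of_preserves ht (hm m hm')

/-- tables of elements of `KOf base masks` from a list of good tables. -/
theorem tabs_of_genOK {st : List (List ℕ)} (hst : GoodT M24 st) {base masks : List ℕ}
    (gens : List ℕ) (h : gens.all (fun j => genOK base masks (st.getD j idT)) = true) :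
    ∀ t ∈ gens.map (fun j => st.getD j idT), ∃ σ ∈ KOf base masks, IsTbl σ t := by
  intro t ht
  rw [List.mem_map] at ht
  obtain ⟨j, hj, rfl⟩ := ht
  obtain ⟨σ, hσ, hσt⟩ := hst.getD j
  exact ⟨σ, genOK_sound hσ hσt (List.all_eq_true.mp h j hj), hσt⟩

/-- two sets of points in the same orbit of a subgroup. -/
def SameOrbitK (K : Subgroup (Equiv.Perm GolayPt)) (a b : Finset GolayPt) : Prop :=
  ∃ g ∈ K, g • a = b

theorem SameOrbitK.refl (K : Subgroup (Equiv.Perm GolayPt)) (a : Finset GolayPt) :
    SameOrbitK K a a := ⟨1, K.one_mem, one_smul _ _⟩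

theorem SameOrbitK.symm {K : Subgroup (Equiv.Perm GolayPt)} {a b : Finset GolayPt}
    (h : SameOrbitK K a b) : SameOrbitK K b a := by
  obtain ⟨g, hg, rfl⟩ := h
  exact ⟨g⁻¹, K.inv_mem hg, inv_smul_smul g a⟩

theorem SameOrbitK.trans {K : Subgroup (Equiv.Perm GolayPt)} {a b c : Finset GolayPt}
    (h1 : SameOrbitK K a b) (h2 : SameOrbitK K b c) : SameOrbitK K a c := by
  obtain ⟨g, hg, rfl⟩ := h1
  obtain ⟨h, hh, rfl⟩ := h2
  exact ⟨h * g, K.mul_mem hh hg, mul_smul h g a⟩

/-- replay a search certificate with generators given by tables. -/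
def runCertT (tabs : List (List ℕ)) : List (ℕ × ℕ) → ℕ → Option ℕ
  | [], bits => some bits
  | e :: rest, bits =>
    if bits.testBit e.1 then
      runCertT tabs rest (bits ||| (1 <<< (pullT (tabs.getD e.2 idT) (fromKey e.1) >>> 12)))
    else none

def GoodK (K : Subgroup (Equiv.Perm GolayPt)) (root : Finset GolayPt) (bits : ℕ) : Prop :=
  ∀ i, bits.testBit i = true → SameOrbitK K root (suppM (fromKey i))

theorem goodK_runCertT (K : Subgroup (Equiv.Perm GolayPt)) (hKM : K ≤ M24) (tabs : List (List ℕ))
    (htabs : ∀ t ∈ tabs, ∃ σ ∈ K, IsTbl σ t) (root : Finset GolayPt) :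
    ∀ (cert : List (ℕ × ℕ)) (bits final : ℕ), GoodK K root bits →
      runCertT tabs cert bits = some final → GoodK K root final := by
  intro cert
  induction cert with
  | nil =>
    intro bits final hg hrun
    simp only [runCertT, Option.some.injEq] at hrun
    rw [← hrun]; exact hg
  | cons e rest ih =>
    intro bits final hg hrun
    simp only [runCertT] at hrun
    by_cases hpk : bits.testBit e.1 = true
    · rw [if_pos hpk] at hrun
      refine ih _ final ?_ hrun
      intro i hi
      rw [Nat.testBit_or, Bool.or_eq_true] at hi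
      rcases hi with hi | hi
      · exact hg i hi
      · rw [Nat.one_shiftLeft, Nat.testBit_two_pow, decide_eq_true_eq] at hi
        rw [← hi]
        obtain ⟨σ, hσ, hσt⟩ : ∃ σ ∈ K, IsTbl σ (tabs.getD e.2 idT) := by
          by_cases hj : e.2 < tabs.length
          · rw [List.getD_eq_getElem _ _ hj]
            exact htabs _ (List.getElem_mem hj)
          · rw [List.getD_eq_default _ _ (by omega)]
            exact ⟨1, K.one_mem, isTbl_one⟩
        have hc : pullT (tabs.getD e.2 idT) (fromKey e.1) ∈ codeList :=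
          pullT_mem_codeList (hKM hσ) hσt (fromKey_mem e.1)
        rw [fromKey_key hc, suppM_pullT hσt]
        exact (hg e.1 hpk).trans ⟨σ⁻¹, K.inv_mem hσ, rfl⟩
    · rw [if_neg hpk] at hrun
      exact absurd hrun (by simp)

def checkCertT (tabs : List (List ℕ)) (cert : List (ℕ × ℕ)) (rootKey : ℕ) (targets : List ℕ) :
    Bool :=
  match runCertT tabs cert (1 <<< rootKey) with
  | some final => targets.all (fun m => final.testBit (m >>> 12))
  | none => false

theorem orbit_of_certT (K : Subgroup (Equiv.Perm GolayPt)) (hKM : K ≤ M24) (tabs : List (List ℕ))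
    (htabs : ∀ t ∈ tabs, ∃ σ ∈ K, IsTbl σ t) (cert : List (ℕ × ℕ)) (rootKey : ℕ)
    (targets : List ℕ) (hcheck : checkCertT tabs cert rootKey targets = true)
    (htc : ∀ m ∈ targets, m ∈ codeList) :
    ∀ m ∈ targets, SameOrbitK K (suppM (fromKey rootKey)) (suppM m) := by
  unfold checkCertT at hcheck
  cases hrun : runCertT tabs cert (1 <<< rootKey) with
  | none => rw [hrun] at hcheck; exact absurd hcheck (by simp)
  | some final =>
    rw [hrun] at hcheck
    simp only at hcheck
    have hgood0 : GoodK K (suppM (fromKey rootKey)) (1 <<< rootKey) := by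
      intro i hi
      rw [Nat.one_shiftLeft, Nat.testBit_two_pow, decide_eq_true_eq] at hi
      rw [← hi]
      exact SameOrbitK.refl _ _
    have hgood := goodK_runCertT K hKM tabs htabs _ cert _ final hgood0 hrun
    intro m hm
    have h1 := List.all_eq_true.mp hcheck m hm
    have h2 := hgood _ h1
    rwa [fromKey_key (htc m hm)] at h2

end Cfsg.Agent.Helper9.Golay
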