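import Mathlib
import Cfsg.Prelude.Def_Sporadic_a
import Cfsg.Agent.Helper9.Golay.Chain
import Cfsg.Agent.Helper9.Golay.Prop

set_option autoImplicit false

/-!
A stabilizer chain for the group of the length-24 code, in terms of the three known elements.
-/

namespace Cfsg.Agent.Helper9.Golay

open Cfsg
open scoped Pointwise

def m24Prog : List (ℕ × ℕ) := [(0, 0), (1, 0), (2, 0), (0, 3), (1, 3), (2, 3), (2, 4), (0, 5), (2, 5), (1, 6), (0, 7), (0, 8), (2, 9), (0, 10), (0, 11), (0, 12), (0, 13), (1, 13), (2, 13), (2, 16), (1, 17), (2, 8), (3, 3), (3, 25), (25, 25), (27, 27), (26, 28), (29, 24), (2, 17), (20, 31), (0, 17), (8, 8), (34, 34), (34, 35), (36, 33), (30, 30), (32, 30), (30, 32), (32, 32), (37, 32), (32, 38), (37, 38), (30, 39), (32, 39), (32, 40), (37, 40), (30, 41), (30, 42), (32, 42), (32, 43), (30, 44), (32, 44), (37, 44), (32, 45), (30, 46), (37, 46), (50, 50), (50, 59), (59, 59), (60, 61), (62, 58), (37, 48), (46, 46), (65, 65), (65, 66), (66, 66), (67, 68), (69, 64), (30, 51), (51, 51), (72, 72), (72, 73), (74, 71),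 (63, 63), (70, 63), (75, 63), (63, 75), (70, 75), (75, 75), (63, 76), (75, 76), (63, 77), (70, 78), (63, 79), (75, 79), (63, 80), (63, 81), (70, 81), (63, 82), (70, 83), (75, 84), (63, 70), (78, 78), (95, 95), (96, 96), (95, 97), (98, 94), (70, 82), (83, 83), (101, 101), (101, 102), (103, 100), (75, 88), (89, 89), (106, 105), (99, 99), (104, 99), (107, 99), (99, 104), (107, 104), (104, 107), (107, 107), (104, 108), (99, 109), (104, 109), (107, 109), (99, 110), (104, 110), (107, 110), (107, 112), (99, 113), (107, 115), (99, 117), (114, 114), (126, 126), (126, 127), (128, 125), (99, 122), (120, 120), (131, 131), (132, 130), (99, 116), (133, 129), (134, 129), (129, 133), (134, 133), (133, 134), (134, 134), (129, 135), (129, 136), (133, 138), (134, 138), (134, 139), (129, 140), (133, 140), (129, 144), (129, 145), (129, 147), (134, 147), (142, 142), (152, 151), (129, 138), (138, 138), (155, 154), (134, 148), (150, 150), (158, 158), (159, 157), (153, 153), (156, 161), (161, 161), (163, 162), (160, 153), (163, 165), (166, 156), (166,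 164), (156, 153), (161, 169), (170, 166), (161, 160), (172, 156), (172, 164), (172, 166), (172, 170), (172, 167), (172, 168), (172, 171)]

def m24Levels : List (ℕ × List (ℕ × ℕ)) := [(0, [(0, 100000), (1, 0), (2, 3), (3, 6), (4, 11), (5, 17), (6, 8), (7, 14), (8, 21), (9, 23), (10, 22), (11, 7), (12, 13), (13, 19), (14, 9), (15, 12), (16, 18), (17, 15), (18, 5), (19, 10), (20, 16), (21, 20), (22, 4), (23, 1)]),
  (1, [(1, 100000), (2, 30), (3, 54), (4, 48), (5, 38), (6, 56), (7, 51), (8, 45), (9, 53), (10, 40), (11, 55), (12, 32), (13, 57), (14, 39), (15, 41), (16, 50), (17, 46), (18, 49), (19, 44), (20, 42), (21, 47), (22, 52), (23, 43)]),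
  (2, [(2, 100000), (3, 89), (4, 80), (5, 83), (6, 77), (7, 91), (8, 79), (9, 70), (10, 78), (11, 86), (12, 90), (13, 93), (14, 88), (15, 84), (16, 63), (17, 75), (18, 81), (19, 76), (20, 87), (21, 92), (22, 82), (23, 85)]),
  (3, [(3, 100000), (4, 115), (5, 99), (6, 120), (7, 113), (8, 122), (9, 116), (10, 107), (11, 112), (12, 121), (13, 109), (14, 104), (15, 119), (16, 108), (17, 124), (18, 114), (19, 110), (20, 111), (21, 117), (22, 123), (23, 118)]),
  (4, [(4, 100000), (5, 139), (6, 145), (7, 133), (8, 136), (9, 140), (10, 142), (11, 144), (12, 141), (13, 149), (14, 134), (15, 135), (16, 137), (17, 143), (18, 146), (19, 129), (20, 148), (21, 150), (22, 147), (23, 138)]),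
  (7, [(7, 100000), (10, 161), (12, 153)]),
  (5, [(5, 100000), (6, 170), (8, 175), (9, 174), (11, 166), (13, 172), (14, 173), (15, 176), (16, 164), (17, 178), (18, 179), (19, 167), (20, 168), (21, 156), (22, 177), (23, 171)])]

def m24Prop : List (List ℕ × List ℕ × ℕ) := [([64, 528], [], 6), ([64, 2], [], 8), ([128, 4], [], 9), ([1, 4], [], 10), ([2, 8], [], 11), ([1], [], 12), ([2], [], 13), ([4], [], 14), ([8], [], 15), ([16], [], 16), ([32], [], 17), ([64], [], 18), ([128], [], 19), ([256], [], 20), ([512], [], 21), ([1024], [], 22), ([], [], 23)]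

/-- the tables computed by the program from the three generators. -/
def m24Tables : List (List ℕ) :=
  runSLP m24Prog [tblOf (stepFun 0), tblOf (stepFun 1), tblOf (stepFun 2)]

theorem goodT_m24Tables (H : Subgroup (Equiv.Perm GolayPt)) (h : ∀ g, stepPerm g ∈ H) :
    GoodT H m24Tables := by
  apply goodT_runSLP
  intro t ht
  simp only [List.mem_cons, List.not_mem_nil, or_false] at ht
  rcases ht with rfl | rfl | rfl
  · exact ⟨stepPerm 0, h 0, by rw [stepFun_eq]; exact isTbl_tblOf _⟩
  · exact ⟨stepPerm 1, h 1, by rw [stepFun_eq]; exact isTbl_tblOf _⟩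
  · exact ⟨stepPerm 2, h 2, by rw [stepFun_eq]; exact isTbl_tblOf _⟩

theorem chainOK_m24 : chainOK m24Tables [] m24Levels = true := by decide +kernel

theorem chainBound_m24 : chainBound m24Levels = 244823040 := by decide +kernel

/-- any subgroup containing the three generators has at least 244823040 elements. -/
theorem card_ge_of_gens (H : Subgroup (Equiv.Perm GolayPt)) (h : ∀ g, stepPerm g ∈ H) :
    244823040 ≤ Nat.card H := by
  have h1 := chain_lower (goodT_m24Tables H h) m24Levels [] chainOK_m24
  rw [chainBound_m24] at h1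
  simpa [fixL] using h1

end Cfsg.Agent.Helper9.Golay
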