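import Mathlib
import Cfsg.Prelude.Def_Sporadic_a
import Cfsg.Agent.Helper9.Golay.M24Chain

set_option autoImplicit false

/-!
The order of the group of the length-24 code: upper bound along the stabilizer chain.
-/

namespace Cfsg.Agent.Helper9.Golay

open Cfsg
open scoped Pointwise

/-- the mask of a list of indices. -/
def maskOf (l : List ℕ) : ℕ := l.foldr (fun i m => m ||| (1 <<< i)) 0

theorem testBit_maskOf {l : List ℕ} {j : ℕ} : (maskOf l).testBit j = true ↔ j ∈ l := by
  induction l with
  | nil => simp [maskOf]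
  | cons i l ih =>
    have : maskOf (i :: l) = maskOf l ||| (1 <<< i) := rfl
    rw [this, Nat.testBit_or, Bool.or_eq_true, ih, Nat.one_shiftLeft, Nat.testBit_two_pow,
      decide_eq_true_eq, List.mem_cons]
    constructor
    · rintro (h | h)
      · exact Or.inr h
      · exact Or.inl h.symm
    · rintro (h | h)
      · exact Or.inr h.symm
      · exact Or.inl h

theorem fixes_of_mem_fixL {g : Equiv.Perm GolayPt} {base : List ℕ}
    (hg : g ∈ fixL (base.map idxPtN)) :
    ∀ p, (maskOf base).testBit (ptIdx p) = true → g p = p := by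
  intro p hp
  rw [testBit_maskOf] at hp
  rw [mem_fixL] at hg
  apply hg
  rw [List.mem_map]
  exact ⟨ptIdx p, hp, idxPtN_ptIdx p⟩

theorem card_le_of_mask (H : Subgroup (Equiv.Perm GolayPt)) (base : List ℕ) (b : ℕ) (T : ℕ)
    (hT : ∀ g ∈ H ⊓ fixL (base.map idxPtN), T.testBit (ptIdx (g (idxPtN b))) = true) :
    Nat.card (H ⊓ fixL (base.map idxPtN) : Subgroup (Equiv.Perm GolayPt))
      ≤ popc T * Nat.card (H ⊓ fixL ((b :: base).map idxPtN) : Subgroup (Equiv.Perm GolayPt)) := by
  rw [card_eq_orbit_mul (H ⊓ fixL (base.map idxPtN)) (idxPtN b), List.map_cons, inf_fixL_cons]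
  apply Nat.mul_le_mul_right
  rw [← card_suppM]
  apply ncard_orbit_le
  intro g hg
  rw [mem_suppM]
  exact hT g hg

/-- the mask of all 24 points. -/
def fullMask : ℕ := 2 ^ 24 - 1

theorem testBit_fullMask_xor (F : ℕ) {j : ℕ} (hj : j < 24) :
    (fullMask ^^^ F).testBit j = !F.testBit j := by
  unfold fullMask
  rw [Nat.testBit_xor, Nat.testBit_two_pow_sub_one]
  simp [hj]

/-- a level where the orbit is only known to avoid the base. -/
theorem card_le_free (H : Subgroup (Equiv.Perm GolayPt)) (base : List ℕ) (b : ℕ)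
    (hbase : ∀ c ∈ base, c < 24) (hb : b < 24) (hnb : b ∉ base) :
    Nat.card (H ⊓ fixL (base.map idxPtN) : Subgroup (Equiv.Perm GolayPt))
      ≤ popc (fullMask ^^^ maskOf base) *
        Nat.card (H ⊓ fixL ((b :: base).map idxPtN) : Subgroup (Equiv.Perm GolayPt)) := by
  apply card_le_of_mask
  intro g hg
  rw [testBit_fullMask_xor _ (ptIdx_lt _), Bool.not_eq_true']
  by_contra hcon
  rw [Bool.not_eq_false, testBit_maskOf] at hcon
  have hfix := (mem_fixL.mp (Subgroup.mem_inf.mp hg).2)
  have h1 : g (idxPtN (ptIdx (g (idxPtN b)))) = idxPtN (ptIdx (g (idxPtN b))) :=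
    hfix _ (List.mem_map.mpr ⟨_, hcon, rfl⟩)
  rw [idxPtN_ptIdx] at h1
  have h2 : g (idxPtN b) = idxPtN b := g.injective h1
  have h3 : ptIdx (g (idxPtN b)) = b := by rw [h2, ptIdx_idxPtN hb]
  rw [h3] at hcon
  exact hnb hcon

theorem m24Prop_ok : runProp [] m24Prop 191 = some (2 ^ 24 - 1) := by decide +kernel

theorem oct0_mem : (5279 : ℕ) ∈ codeList := by decide +kernel

theorem card_M24_le : Nat.card M24 ≤ 244823040 := by
  have e0 : Nat.card M24
      = Nat.card (M24 ⊓ fixL (([] : List ℕ).map idxPtN) : Subgroup (Equiv.Perm GolayPt)) := by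
    simp [fixL]
  have l1 := card_le_free M24 [] 0 (by decide) (by decide) (by decide)
  have l2 := card_le_free M24 [0] 1 (by decide) (by decide) (by decide)
  have l3 := card_le_free M24 [1, 0] 2 (by decide) (by decide) (by decide)
  have l4 := card_le_free M24 [2, 1, 0] 3 (by decide) (by decide) (by decide)
  have l5 := card_le_free M24 [3, 2, 1, 0] 4 (by decide) (by decide) (by decide)
  have l6 : Nat.card (M24 ⊓ fixL (([4, 3, 2, 1, 0] : List ℕ).map idxPtN) : Subgroup (Equiv.Perm GolayPt))
      ≤ popc (5279 ^^^ 31) *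
        Nat.card (M24 ⊓ fixL (([7, 4, 3, 2, 1, 0] : List ℕ).map idxPtN) :
          Subgroup (Equiv.Perm GolayPt)) := by
    apply card_le_of_mask
    intro g hg
    have hgM := (Subgroup.mem_inf.mp hg).1
    have hF := fixes_of_mem_fixL (Subgroup.mem_inf.mp hg).2
    have hinv := invMask_octad hgM hF oct0_mem (by decide) (by decide)
    have h7 := hinv (idxPtN 7) (by decide)
    rw [Nat.testBit_xor, h7]
    -- the image is not in the base
    have : (31 : ℕ).testBit (ptIdx (g (idxPtN 7))) = false := by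
      by_contra hcon
      rw [Bool.not_eq_false] at hcon
      have h31 : (31 : ℕ) = maskOf [4, 3, 2, 1, 0] := by decide
      rw [h31] at hcon
      have h1 := hF (g (idxPtN 7)) hcon
      have h2 : g (idxPtN 7) = idxPtN 7 := g.injective h1
      rw [h2] at hcon
      exact absurd hcon (by decide)
    rw [this]
    rfl
  have l7 : Nat.card (M24 ⊓ fixL (([7, 4, 3, 2, 1, 0] : List ℕ).map idxPtN) :
        Subgroup (Equiv.Perm GolayPt))
      ≤ popc (fullMask ^^^ 5279) *
        Nat.card (M24 ⊓ fixL (([5, 7, 4, 3, 2, 1, 0] : List ℕ).map idxPtN) :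
          Subgroup (Equiv.Perm GolayPt)) := by
    apply card_le_of_mask
    intro g hg
    have hgM := (Subgroup.mem_inf.mp hg).1
    have hF := fixes_of_mem_fixL (Subgroup.mem_inf.mp hg).2
    have heq : g • suppM 5279 = suppM 5279 :=
      smul_octad_eq hgM hF oct0_mem (by decide) (by decide)
    rw [testBit_fullMask_xor _ (ptIdx_lt _), Bool.not_eq_true']
    by_contra hcon
    rw [Bool.not_eq_false, ← mem_suppM, ← heq] at hcon
    have h5 : idxPtN 5 ∈ suppM 5279 := by
      have := (Finset.smul_mem_smul_finset_iff g).mp hcon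
      exact this
    rw [mem_suppM] at h5
    exact absurd h5 (by decide)
  have l8 : Nat.card (M24 ⊓ fixL (([5, 7, 4, 3, 2, 1, 0] : List ℕ).map idxPtN) :
        Subgroup (Equiv.Perm GolayPt)) = 1 := by
    have : (M24 ⊓ fixL (([5, 7, 4, 3, 2, 1, 0] : List ℕ).map idxPtN) :
        Subgroup (Equiv.Perm GolayPt)) = ⊥ := by
      rw [eq_bot_iff]
      intro g hg
      have hgM := (Subgroup.mem_inf.mp hg).1
      have hF := fixes_of_mem_fixL (Subgroup.mem_inf.mp hg).2
      have h191 : maskOf [5, 7, 4, 3, 2, 1, 0] = 191 := by decide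
      rw [h191] at hF
      rw [Subgroup.mem_bot]
      exact eq_one_of_runProp hgM (extra := []) (by simp) m24Prop 191 m24Prop_ok hF
    rw [this]
    exact Subgroup.card_bot
  have p1 : popc (fullMask ^^^ maskOf []) = 24 := by decide
  have p2 : popc (fullMask ^^^ maskOf [0]) = 23 := by decide
  have p3 : popc (fullMask ^^^ maskOf [1, 0]) = 22 := by decide
  have p4 : popc (fullMask ^^^ maskOf [2, 1, 0]) = 21 := by decide
  have p5 : popc (fullMask ^^^ maskOf [3, 2, 1, 0]) = 20 := by decide
  have p6 : popc (5279 ^^^ 31) = 3 := by decide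
  have p7 : popc (fullMask ^^^ 5279) = 16 := by decide
  rw [p1] at l1; rw [p2] at l2; rw [p3] at l3; rw [p4] at l4; rw [p5] at l5
  rw [p6] at l6; rw [p7, l8] at l7
  rw [e0]
  omega

end Cfsg.Agent.Helper9.Golay
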