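import Mathlib
import Cfsg.Prelude.Def_Sporadic_a
import Cfsg.Agent.Helper9.Golay.M24Upper

set_option autoImplicit false

/-!
Multiple transitivity of the group of the length-24 code, from the stabilizer chain.
-/

namespace Cfsg.Agent.Helper9.Golay

open Cfsg
open scoped Pointwise

/-- the certificate of a level covers all indices outside the base. -/
def coversAll (base : List ℕ) (cert : List (ℕ × ℕ)) : Bool :=
  (List.range 24).all (fun j => base.contains j || (cert.map Prod.fst).contains j)

theorem level_trans {H : Subgroup (Equiv.Perm GolayPt)} {st : List (List ℕ)} (hst : GoodT H st)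
    {base : List ℕ} {b : ℕ} {cert : List (ℕ × ℕ)} (h : levelOK st base b cert = true)
    (hcov : coversAll base cert = true) :
    ∀ a : GolayPt, ptIdx a ∉ base →
      ∃ σ ∈ H ⊓ fixL (base.map idxPtN), σ (idxPtN b) = a := by
  intro a ha
  unfold coversAll at hcov
  simp only [List.all_eq_true, List.mem_range, Bool.or_eq_true, List.contains_eq_mem,
    decide_eq_true_eq] at hcov
  rcases hcov (ptIdx a) (ptIdx_lt a) with h1 | h1
  · exact absurd h1 ha
  · rw [List.mem_map] at h1
    obtain ⟨e, he, hea⟩ := h1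
    obtain ⟨-, σ, hσ, hσb⟩ := levelOK_sound hst h e he
    refine ⟨σ, hσ, ?_⟩
    rw [hσb, hea, idxPtN_ptIdx]

theorem m24_lv0 : levelOK m24Tables [] 0 (m24Levels.getD 0 default).2 = true
    ∧ coversAll [] (m24Levels.getD 0 default).2 = true := by decide +kernel
theorem m24_lv1 : levelOK m24Tables [0] 1 (m24Levels.getD 1 default).2 = true
    ∧ coversAll [0] (m24Levels.getD 1 default).2 = true := by decide +kernel
theorem m24_lv2 : levelOK m24Tables [1, 0] 2 (m24Levels.getD 2 default).2 = true
    ∧ coversAll [1, 0] (m24Levels.getD 2 default).2 = true := by decide +kernel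
theorem m24_lv3 : levelOK m24Tables [2, 1, 0] 3 (m24Levels.getD 3 default).2 = true
    ∧ coversAll [2, 1, 0] (m24Levels.getD 3 default).2 = true := by decide +kernel
theorem m24_lv4 : levelOK m24Tables [3, 2, 1, 0] 4 (m24Levels.getD 4 default).2 = true
    ∧ coversAll [3, 2, 1, 0] (m24Levels.getD 4 default).2 = true := by decide +kernel

/-- the stabilizer of the first `k` base points is transitive on the remaining points, `k < 5`. -/
theorem m24_step (k : ℕ) (hk : k < 5) (a : GolayPt) (ha : ∀ i < k, a ≠ idxPtN i) :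
    ∃ σ ∈ M24, (∀ i < k, σ (idxPtN i) = idxPtN i) ∧ σ (idxPtN k) = a := by
  have hst := goodT_m24Tables M24 stepPerm_mem
  have hidx : ∀ i < k, ptIdx a ≠ i := by
    intro i hi hcon
    apply ha i hi
    rw [← hcon, idxPtN_ptIdx]
  interval_cases k
  · obtain ⟨σ, hσ, hσa⟩ := level_trans hst m24_lv0.1 m24_lv0.2 a (by simp)
    exact ⟨σ, (Subgroup.mem_inf.mp hσ).1, by simp, hσa⟩
  · obtain ⟨σ, hσ, hσa⟩ := level_trans hst m24_lv1.1 m24_lv1.2 a (by
      have := hidx 0 (by norm_num)
      simpa using this)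
    have hf := mem_fixL.mp (Subgroup.mem_inf.mp hσ).2
    refine ⟨σ, (Subgroup.mem_inf.mp hσ).1, ?_, hσa⟩
    intro i hi
    apply hf
    interval_cases i <;> simp
  · obtain ⟨σ, hσ, hσa⟩ := level_trans hst m24_lv2.1 m24_lv2.2 a (by
      have h0 := hidx 0 (by norm_num)
      have h1 := hidx 1 (by norm_num)
      simp only [List.mem_cons, List.not_mem_nil, or_false, not_or]
      exact ⟨h1, h0⟩)
    have hf := mem_fixL.mp (Subgroup.mem_inf.mp hσ).2
    refine ⟨σ, (Subgroup.mem_inf.mp hσ).1, ?_, hσa⟩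
    intro i hi
    apply hf
    interval_cases i <;> simp
  · obtain ⟨σ, hσ, hσa⟩ := level_trans hst m24_lv3.1 m24_lv3.2 a (by
      have h0 := hidx 0 (by norm_num)
      have h1 := hidx 1 (by norm_num)
      have h2 := hidx 2 (by norm_num)
      simp only [List.mem_cons, List.not_mem_nil, or_false, not_or]
      exact ⟨h2, h1, h0⟩)
    have hf := mem_fixL.mp (Subgroup.mem_inf.mp hσ).2
    refine ⟨σ, (Subgroup.mem_inf.mp hσ).1, ?_, hσa⟩
    intro i hi
    apply hf
    interval_cases i <;> simp
  · obtain ⟨σ, hσ, hσa⟩ := level_trans hst m24_lv4.1 m24_lv4.2 a (by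
      have h0 := hidx 0 (by norm_num)
      have h1 := hidx 1 (by norm_num)
      have h2 := hidx 2 (by norm_num)
      have h3 := hidx 3 (by norm_num)
      simp only [List.mem_cons, List.not_mem_nil, or_false, not_or]
      exact ⟨h3, h2, h1, h0⟩)
    have hf := mem_fixL.mp (Subgroup.mem_inf.mp hσ).2
    refine ⟨σ, (Subgroup.mem_inf.mp hσ).1, ?_, hσa⟩
    intro i hi
    apply hf
    interval_cases i <;> simp

/-- every injective 5-tuple is the image of the base tuple. -/
theorem m24_to_base (x : Fin 5 ↪ GolayPt) :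
    ∀ k ≤ 5, ∃ g ∈ M24, ∀ i : Fin 5, i.val < k → g (idxPtN i.val) = x i := by
  intro k
  induction k with
  | zero =>
    intro _
    exact ⟨1, M24.one_mem, fun i hi => absurd hi (by omega)⟩
  | succ k ih =>
    intro hk
    obtain ⟨g, hg, hgx⟩ := ih (by omega)
    have hk5 : k < 5 := by omega
    obtain ⟨σ, hσ, hσfix, hσk⟩ := m24_step k hk5 (g⁻¹ (x ⟨k, hk5⟩)) (by
      intro i hi hcon
      have h1 := hgx ⟨i, by omega⟩ hi
      simp only at h1
      rw [← hcon] at h1
      simp only [Equiv.Perm.coe_inv, Equiv.apply_symm_apply] at h1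
      have := x.injective h1
      simp only [Fin.mk.injEq] at this
      omega)
    refine ⟨g * σ, M24.mul_mem hg hσ, ?_⟩
    intro i hi
    rw [Equiv.Perm.mul_apply]
    by_cases hik : i.val < k
    · rw [hσfix i.val hik]
      exact hgx i hik
    · have : i.val = k := by omega
      have hi' : i = ⟨k, hk5⟩ := Fin.ext this
      rw [this, hσk, hi']
      simp

theorem m24_five_trans (x y : Fin 5 ↪ GolayPt) : ∃ g ∈ M24, ∀ i, g (x i) = y i := by
  obtain ⟨gx, hgx, hx⟩ := m24_to_base x 5 le_rfl
  obtain ⟨gy, hgy, hy⟩ := m24_to_base y 5 le_rfl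
  refine ⟨gy * gx⁻¹, M24.mul_mem hgy (M24.inv_mem hgx), ?_⟩
  intro i
  rw [Equiv.Perm.mul_apply, ← hx i i.2]
  simp only [Equiv.Perm.coe_inv, Equiv.symm_apply_apply]
  exact hy i i.2

theorem m24_isMultiplyPretransitive : MulAction.IsMultiplyPretransitive M24 GolayPt 5 := by
  rw [MulAction.isMultiplyPretransitive_iff]
  intro x y
  obtain ⟨g, hg, hgxy⟩ := m24_five_trans x y
  refine ⟨⟨g, hg⟩, ?_⟩
  apply Function.Embedding.ext
  intro i
  exact hgxy i

/-- embedding of `Fin 5` with two prescribed first values. -/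
theorem exists_emb_two {a b : GolayPt} (hab : a ≠ b) :
    ∃ x : Fin 5 ↪ GolayPt, x 0 = a ∧ x 1 = b := by
  classical
  have hc : 3 ≤ ((Finset.univ : Finset GolayPt) \ {a, b}).card := by
    have h1 : ({a, b} : Finset GolayPt).card ≤ 2 := Finset.card_le_two
    have h2 := Finset.le_card_sdiff ({a, b} : Finset GolayPt) (Finset.univ : Finset GolayPt)
    rw [Finset.card_univ, card_golayPt] at h2
    omega
  obtain ⟨t, ht, ht3⟩ := Finset.exists_subset_card_eq hc
  have e : Fin 3 ≃ t := (Fintype.equivFinOfCardEq (by simpa using ht3)).symm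
  have hnot : ∀ i : Fin 3, (e i : GolayPt) ≠ a ∧ (e i : GolayPt) ≠ b := by
    intro i
    have := ht (e i).2
    simp only [Finset.mem_sdiff, Finset.mem_univ, Finset.mem_insert, Finset.mem_singleton,
      true_and, not_or] at this
    exact this
  let f : Fin 5 → GolayPt := fun i =>
    if h0 : i.val = 0 then a else if h1 : i.val = 1 then b else
      (e ⟨i.val - 2, by omega⟩ : GolayPt)
  have hf : Function.Injective f := by
    intro i j hij
    simp only [f] at hij
    split_ifs at hij with h1 h2 h3 h4 h5 h6 h7 h8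
    · exact Fin.ext (by omega)
    · exact absurd hij hab
    · exact absurd hij.symm (hnot _).1
    · exact absurd hij.symm hab
    · exact Fin.ext (by omega)
    · exact absurd hij.symm (hnot _).2
    · exact absurd hij (hnot _).1
    · exact absurd hij (hnot _).2
    · have := e.injective (Subtype.ext hij)
      simp only [Fin.mk.injEq] at this
      exact Fin.ext (by omega)
  exact ⟨⟨f, hf⟩, by simp [f], by simp [f]⟩

theorem m24_two_trans {a b c d : GolayPt} (hab : a ≠ b) (hcd : c ≠ d) :
    ∃ g ∈ M24, g a = c ∧ g b = d := by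
  obtain ⟨x, hx0, hx1⟩ := exists_emb_two hab
  obtain ⟨y, hy0, hy1⟩ := exists_emb_two hcd
  obtain ⟨g, hg, hgxy⟩ := m24_five_trans x y
  refine ⟨g, hg, ?_, ?_⟩
  · rw [← hx0, hgxy 0, hy0]
  · rw [← hx1, hgxy 1, hy1]

theorem m24_trans (a c : GolayPt) : ∃ g ∈ M24, g a = c := by
  obtain ⟨b, hb⟩ : ∃ b, a ≠ b := by
    by_cases h : a = none
    · exact ⟨some 0, by rw [h]; simp⟩
    · exact ⟨none, h⟩
  obtain ⟨d, hd⟩ : ∃ d, c ≠ d := by
    by_cases h : c = none
    · exact ⟨some 0, by rw [h]; simp⟩
    · exact ⟨none, h⟩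
  obtain ⟨g, hg, h1, -⟩ := m24_two_trans hb hd
  exact ⟨g, hg, h1⟩

theorem m24_isPretransitive : MulAction.IsPretransitive M24 GolayPt := by
  constructor
  intro a c
  obtain ⟨g, hg, h⟩ := m24_trans a c
  exact ⟨⟨g, hg⟩, h⟩

theorem card_M24 : Nat.card M24 = 244823040 :=
  le_antisymm card_M24_le (card_ge_of_gens M24 stepPerm_mem)

end Cfsg.Agent.Helper9.Golay
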