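import Mathlib
import Cfsg.Prelude.Def_Sporadic_a
import Cfsg.Agent.Helper9.Golay.OctFlagData

set_option autoImplicit false

/-!
Orbits of stabilizers of flags (points and an octad) on octads: the statements.
-/

namespace Cfsg.Agent.Helper9.Golay

open Cfsg
open scoped Pointwise

/-- conjugating an orbit statement for `KOf base masks` from standard position. -/
theorem conj_glue (base masks : List ℕ) {h0 : Equiv.Perm GolayPt} (hh0 : h0 ∈ M24)
    {a b : Finset GolayPt} (hab : SameOrbitK (KOf base masks) (h0⁻¹ • a) (h0⁻¹ • b)) :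
    ∃ g ∈ M24, (∀ c ∈ base, g (h0 (idxPtN c)) = h0 (idxPtN c)) ∧
      (∀ m ∈ masks, g • (h0 • suppM m) = h0 • suppM m) ∧ g • a = b := by
  obtain ⟨g0, hg0, hgM, hgab⟩ := pair_conj_generic (KOf base masks) (KOf_le _ _) hh0 hab
  obtain ⟨-, hfix, hmask⟩ := mem_KOf.mp hg0
  refine ⟨h0 * g0 * h0⁻¹, hgM, ?_, ?_, hgab⟩
  · intro c hc
    simp only [Equiv.Perm.mul_apply, Equiv.Perm.coe_inv, Equiv.symm_apply_apply]
    rw [hfix c hc]
  · intro m hm
    rw [mul_smul, mul_smul, inv_smul_smul, hmask m hm]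

/-- counting octads with a property is invariant under the group. -/
theorem ncard_octads_smul {h : Equiv.Perm GolayPt} (hh : h ∈ M24) (Q : Finset GolayPt → Prop) :
    {o' : Finset GolayPt | o' ∈ octads ∧ Q o'}.ncard
      = {o'' : Finset GolayPt | o'' ∈ octads ∧ Q (h • o'')}.ncard := by
  have himg : {o' : Finset GolayPt | o' ∈ octads ∧ Q o'}
      = (fun o'' => h • o'') '' {o'' : Finset GolayPt | o'' ∈ octads ∧ Q (h • o'')} := by
    ext o'
    simp only [Set.mem_setOf_eq, Set.mem_image]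
    constructor
    · rintro ⟨ho', hQ⟩
      refine ⟨h⁻¹ • o', ⟨smul_mem_wordsOfWeight (M24.inv_mem hh) ho', ?_⟩, smul_inv_smul h o'⟩
      rw [smul_inv_smul]; exact hQ
    · rintro ⟨o'', ⟨ho'', hQ⟩, rfl⟩
      exact ⟨smul_mem_wordsOfWeight hh ho'', hQ⟩
  rw [himg]
  exact Set.ncard_image_of_injective _ (MulAction.injective h)

/-- a point of an octad and the octad can be moved to standard position. -/
theorem exists_flag_in {o : Finset GolayPt} (ho : o ∈ octads) {x : GolayPt} (hx : x ∈ o) :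
    ∃ h ∈ M24, h • suppM 5279 = o ∧ h (idxPtN 0) = x := by
  obtain ⟨h1, rfl⟩ := transitive_octads oct5279_mem ho
  have hh1 : (h1 : Equiv.Perm GolayPt) ∈ M24 := h1.2
  have hsm : (h1 • suppM 5279 : Finset GolayPt) = (h1 : Equiv.Perm GolayPt) • suppM 5279 := rfl
  rw [hsm] at hx ⊢
  generalize (h1 : Equiv.Perm GolayPt) = k at hh1 hx ⊢
  have hx' : k⁻¹ x ∈ suppM 5279 := by
    obtain ⟨y, hy, rfl⟩ := Finset.mem_smul_finset.mp hx
    simpa using hy
  obtain ⟨σ, hσ, hσd, -, hσb⟩ := step_of_level octFlag_good octA0_ok _ hx' (by simp)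
  refine ⟨k * σ, M24.mul_mem hh1 hσ, ?_, ?_⟩
  · rw [mul_smul, hσd]
  · rw [Equiv.Perm.mul_apply, hσb]
    simp

theorem mem_suppM_idx {m i : ℕ} (hi : i < 24) : idxPtN i ∈ suppM m ↔ m.testBit i = true := by
  rw [mem_suppM, ptIdx_idxPtN hi]

theorem count_C1_2 : ((codeList.filter (fun m => popc m == 8)).filter
    (fun m => m.testBit 0 && popc (m &&& 5279) == 2)).length = 112 := by decide +kernel
theorem count_C1_4 : ((codeList.filter (fun m => popc m == 8)).filter
    (fun m => m.testBit 0 && popc (m &&& 5279) == 4)).length = 140 := by decide +kernel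

theorem ncard_flag_in (k : ℕ) {o : Finset GolayPt} {x : GolayPt} {h : Equiv.Perm GolayPt}
    (hh : h ∈ M24) (ho : h • suppM 5279 = o) (hx : h (idxPtN 0) = x) :
    {o' : Finset GolayPt | o' ∈ octads ∧ x ∈ o' ∧ (o ∩ o').card = k}.ncard
      = ((codeList.filter (fun m => popc m == 8)).filter
        (fun m => m.testBit 0 && popc (m &&& 5279) == k)).length := by
  rw [ncard_octads_smul hh (fun o' => x ∈ o' ∧ (o ∩ o').card = k)]
  have : {o'' : Finset GolayPt | o'' ∈ octads ∧ (x ∈ h • o'' ∧ (o ∩ h • o'').card = k)}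
      = {b : Finset GolayPt | b ∈ wordsOfWeight (golayCode : Set (GolayPt → ZMod 2)) 8 ∧
        (idxPtN 0 ∈ b ∧ (suppM 5279 ∩ b).card = k)} := by
    ext b
    simp only [Set.mem_setOf_eq]
    rw [← hx, ← ho, ← Finset.smul_finset_inter, card_smul_finset]
    constructor
    · rintro ⟨hb, h1, h2⟩
      exact ⟨hb, (Finset.smul_mem_smul_finset_iff h).mp h1, h2⟩
    · rintro ⟨hb, h1, h2⟩
      exact ⟨hb, Finset.smul_mem_smul_finset h1, h2⟩
  rw [this]
  apply ncard_wordsOfWeight_filter
  intro m _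
  rw [mem_suppM_idx (by norm_num), suppM_inter, card_suppM, Nat.land_comm]
  simp

/-- the statement on the stabilizer of a point and an octad through it. -/
theorem flag_in_orbits (x : GolayPt) (o : Finset GolayPt) (ho : o ∈ octads) (hx : x ∈ o) :
    {o' : Finset GolayPt | o' ∈ octads ∧ x ∈ o' ∧ (o ∩ o').card = 2}.ncard = 112 ∧
    {o' : Finset GolayPt | o' ∈ octads ∧ x ∈ o' ∧ (o ∩ o').card = 4}.ncard = 140 ∧
    ∀ o' o'' : Finset GolayPt, o' ∈ octads → o'' ∈ octads → x ∈ o' → x ∈ o'' →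
      (o ∩ o').card = (o ∩ o'').card →
      ∃ g : Equiv.Perm GolayPt, g ∈ M24 ∧ g x = x ∧ g • o = o ∧ g • o' = o'' := by
  obtain ⟨h, hh, hho, hhx⟩ := exists_flag_in ho hx
  refine ⟨?_, ?_, ?_⟩
  · rw [ncard_flag_in 2 hh hho hhx]; exact count_C1_2
  · rw [ncard_flag_in 4 hh hho hhx]; exact count_C1_4
  · intro o' o'' ho' ho'' hxo' hxo'' hcard
    have he' : h⁻¹ • o' ∈ octads := smul_mem_wordsOfWeight (M24.inv_mem hh) ho'
    have he'' : h⁻¹ • o'' ∈ octads := smul_mem_wordsOfWeight (M24.inv_mem hh) ho''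
    obtain ⟨m', hm', hp', hs'⟩ := (mem_octads_iff _).mp he'
    obtain ⟨m'', hm'', hp'', hs''⟩ := (mem_octads_iff _).mp he''
    have hb' : m'.testBit 0 = true := by
      rw [← mem_suppM_idx (by norm_num), hs', mem_smul_finset_iff', inv_inv, hhx]
      exact hxo'
    have hb'' : m''.testBit 0 = true := by
      rw [← mem_suppM_idx (by norm_num), hs'', mem_smul_finset_iff', inv_inv, hhx]
      exact hxo''
    have hcls : popc (m' &&& 5279) = popc (m'' &&& 5279) := by
      have e1 : (suppM m' ∩ suppM 5279).card = (h • suppM 5279 ∩ o').card := by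
        rw [hs', Finset.inter_comm, card_inter_inv_smul]
      have e2 : (suppM m'' ∩ suppM 5279).card = (h • suppM 5279 ∩ o'').card := by
        rw [hs'', Finset.inter_comm, card_inter_inv_smul]
      rw [← card_suppM, ← card_suppM, ← suppM_inter, ← suppM_inter, e1, e2, hho]
      exact hcard
    have hconj := classes_conj (KOf [0] [5279]) (KOf_le _ _) octK1Tabs octK1_tabs octC1Ks octC1Cert
      octC1Root octC1Final _ _ octC1_runs octC1_pass hm' hm''
      (by simp [hp', hb']) (by simp [hp'', hb'']) hcls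
    rw [hs', hs''] at hconj
    obtain ⟨g, hg, hfix, hmask, hgab⟩ := conj_glue [0] [5279] hh hconj
    refine ⟨g, hg, ?_, ?_, hgab⟩
    · have := hfix 0 (by simp)
      rwa [hhx] at this
    · have := hmask 5279 (by simp)
      rwa [hho] at this

end Cfsg.Agent.Helper9.Golay
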