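import Mathlib
import Cfsg.Prelude.Def_Sporadic_a
import Cfsg.Agent.Helper9.Golay.OctFlag

set_option autoImplicit false

/-!
Orbits of the stabilizer of an octad and a point outside it, and of an octad and two of its points.
-/

namespace Cfsg.Agent.Helper9.Golay

open Cfsg
open scoped Pointwise

theorem apply_mem_smul_iff (h : Equiv.Perm GolayPt) (p : GolayPt) (b : Finset GolayPt) :
    h p ∈ h • b ↔ p ∈ b := Finset.smul_mem_smul_finset_iff h

theorem mem_coct0_iff (a : GolayPt) : a ∈ suppM coct0 ↔ a ∉ suppM 5279 := by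
  rw [mem_suppM, mem_suppM, coct0_eq, testBit_fullMask_xor _ (ptIdx_lt _)]
  simp

/-- an octad and a point outside it can be moved to standard position. -/
theorem exists_flag_out {o : Finset GolayPt} (ho : o ∈ octads) {x : GolayPt} (hx : x ∉ o) :
    ∃ h ∈ M24, h • suppM 5279 = o ∧ h (idxPtN 5) = x := by
  obtain ⟨h1, rfl⟩ := transitive_octads oct5279_mem ho
  have hh1 : (h1 : Equiv.Perm GolayPt) ∈ M24 := h1.2
  have hsm : (h1 • suppM 5279 : Finset GolayPt) = (h1 : Equiv.Perm GolayPt) • suppM 5279 := rfl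
  rw [hsm] at hx ⊢
  generalize (h1 : Equiv.Perm GolayPt) = k at hh1 hx ⊢
  have hx' : k⁻¹ x ∈ suppM coct0 := by
    rw [mem_coct0_iff]
    intro hcon
    exact hx ((mem_smul_finset_iff' k _ _).mpr hcon)
  obtain ⟨σ, hσ, hσd, -, hσb⟩ := step_of_level octFlag_good octB0_ok _ hx' (by simp)
  refine ⟨k * σ, M24.mul_mem hh1 hσ, ?_, ?_⟩
  · rw [mul_smul, hσd]
  · rw [Equiv.Perm.mul_apply, hσb]
    simp

theorem count_C2_0 : ((codeList.filter (fun m => popc m == 8)).filter
    (fun m => !m.testBit 5 && popc (m &&& 5279) == 0)).length = 15 := by decide +kernel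
theorem count_C2_4 : ((codeList.filter (fun m => popc m == 8)).filter
    (fun m => !m.testBit 5 && popc (m &&& 5279) == 4)).length = 210 := by decide +kernel
theorem count_C2_2 : ((codeList.filter (fun m => popc m == 8)).filter
    (fun m => !m.testBit 5 && popc (m &&& 5279) == 2)).length = 280 := by decide +kernel

theorem ncard_flag_out (k : ℕ) {o : Finset GolayPt} {x : GolayPt} {h : Equiv.Perm GolayPt}
    (hh : h ∈ M24) (ho : h • suppM 5279 = o) (hx : h (idxPtN 5) = x) :
    {o' : Finset GolayPt | o' ∈ octads ∧ x ∉ o' ∧ (o ∩ o').card = k}.ncard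
      = ((codeList.filter (fun m => popc m == 8)).filter
        (fun m => !m.testBit 5 && popc (m &&& 5279) == k)).length := by
  rw [ncard_octads_smul hh (fun o' => x ∉ o' ∧ (o ∩ o').card = k)]
  have : {o'' : Finset GolayPt | o'' ∈ octads ∧ (x ∉ h • o'' ∧ (o ∩ h • o'').card = k)}
      = {b : Finset GolayPt | b ∈ wordsOfWeight (golayCode : Set (GolayPt → ZMod 2)) 8 ∧
        (idxPtN 5 ∉ b ∧ (suppM 5279 ∩ b).card = k)} := by
    ext b
    simp only [Set.mem_setOf_eq]
    rw [← hx, ← ho, ← Finset.smul_finset_inter, card_smul_finset, apply_mem_smul_iff]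
    rfl
  rw [this]
  apply ncard_wordsOfWeight_filter
  intro m _
  rw [mem_suppM_idx (by norm_num), suppM_inter, card_suppM, Nat.land_comm]
  simp

theorem flag_out_orbits (x : GolayPt) (o : Finset GolayPt) (ho : o ∈ octads) (hx : x ∉ o) :
    {o' : Finset GolayPt | o' ∈ octads ∧ x ∉ o' ∧ (o ∩ o').card = 0}.ncard = 15 ∧
    {o' : Finset GolayPt | o' ∈ octads ∧ x ∉ o' ∧ (o ∩ o').card = 4}.ncard = 210 ∧
    {o' : Finset GolayPt | o' ∈ octads ∧ x ∉ o' ∧ (o ∩ o').card = 2}.ncard = 280 ∧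
    ∀ o' o'' : Finset GolayPt, o' ∈ octads → o'' ∈ octads → x ∉ o' → x ∉ o'' →
      (o ∩ o').card = (o ∩ o'').card →
      ∃ g : Equiv.Perm GolayPt, g ∈ M24 ∧ g x = x ∧ g • o = o ∧ g • o' = o'' := by
  obtain ⟨h, hh, hho, hhx⟩ := exists_flag_out ho hx
  refine ⟨?_, ?_, ?_, ?_⟩
  · rw [ncard_flag_out 0 hh hho hhx]; exact count_C2_0
  · rw [ncard_flag_out 4 hh hho hhx]; exact count_C2_4
  · rw [ncard_flag_out 2 hh hho hhx]; exact count_C2_2
  · intro o' o'' ho' ho'' hxo' hxo'' hcard
    have he' : h⁻¹ • o' ∈ octads := smul_mem_wordsOfWeight (M24.inv_mem hh) ho'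
    have he'' : h⁻¹ • o'' ∈ octads := smul_mem_wordsOfWeight (M24.inv_mem hh) ho''
    obtain ⟨m', hm', hp', hs'⟩ := (mem_octads_iff _).mp he'
    obtain ⟨m'', hm'', hp'', hs''⟩ := (mem_octads_iff _).mp he''
    have hb' : m'.testBit 5 = false := by
      rw [← Bool.not_eq_true, ← mem_suppM_idx (by norm_num), hs', mem_smul_finset_iff', inv_inv,
        hhx]
      exact hxo'
    have hb'' : m''.testBit 5 = false := by
      rw [← Bool.not_eq_true, ← mem_suppM_idx (by norm_num), hs'', mem_smul_finset_iff', inv_inv,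
        hhx]
      exact hxo''
    have hcls : popc (m' &&& 5279) = popc (m'' &&& 5279) := by
      have e1 : (suppM m' ∩ suppM 5279).card = (h • suppM 5279 ∩ o').card := by
        rw [hs', Finset.inter_comm, card_inter_inv_smul]
      have e2 : (suppM m'' ∩ suppM 5279).card = (h • suppM 5279 ∩ o'').card := by
        rw [hs'', Finset.inter_comm, card_inter_inv_smul]
      rw [← card_suppM, ← card_suppM, ← suppM_inter, ← suppM_inter, e1, e2, hho]
      exact hcard
    have hconj := classes_conj (KOf [5] [5279]) (KOf_le _ _) octK2Tabs octK2_tabs octC2Ks octC2Cert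
      octC2Root octC2Final _ _ octC2_runs octC2_pass hm' hm''
      (by simp [hp', hb']) (by simp [hp'', hb'']) hcls
    rw [hs', hs''] at hconj
    obtain ⟨g, hg, hfix, hmask, hgab⟩ := conj_glue [5] [5279] hh hconj
    refine ⟨g, hg, ?_, ?_, hgab⟩
    · have := hfix 5 (by simp)
      rwa [hhx] at this
    · have := hmask 5279 (by simp)
      rwa [hho] at this

/-- an octad and two of its points can be moved to standard position. -/
theorem exists_flag_in2 {o : Finset GolayPt} (ho : o ∈ octads) {p q : GolayPt} (hp : p ∈ o)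
    (hq : q ∈ o) (hpq : p ≠ q) :
    ∃ h ∈ M24, h • suppM 5279 = o ∧ h (idxPtN 0) = p ∧ h (idxPtN 1) = q := by
  obtain ⟨k, hk, rfl, rfl⟩ := exists_flag_in ho hp
  have hq' : k⁻¹ q ∈ suppM 5279 := (mem_smul_finset_iff' k _ _).mp hq
  obtain ⟨σ, hσ, hσd, hσf, hσb⟩ := step_of_level octFlag_good octA1_ok _ hq' (by
    intro c hc
    simp only [List.mem_cons, List.not_mem_nil, or_false] at hc
    subst hc
    intro hcon
    apply hpq
    rw [← hcon]
    simp)
  refine ⟨k * σ, M24.mul_mem hk hσ, ?_, ?_, ?_⟩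
  · rw [mul_smul, hσd]
  · rw [Equiv.Perm.mul_apply, hσf 0 (by simp)]
  · rw [Equiv.Perm.mul_apply, hσb]
    simp

theorem count_C3_2 : ((codeList.filter (fun m => popc m == 8)).filter
    (fun m => m.testBit 0 && m.testBit 1 && popc (m &&& 5279) == 2)).length = 16 := by
  decide +kernel
theorem count_C3_4 : ((codeList.filter (fun m => popc m == 8)).filter
    (fun m => m.testBit 0 && m.testBit 1 && popc (m &&& 5279) == 4)).length = 60 := by
  decide +kernel

theorem ncard_flag_in2 (k : ℕ) {o : Finset GolayPt} {p q : GolayPt} {h : Equiv.Perm GolayPt}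
    (hh : h ∈ M24) (ho : h • suppM 5279 = o) (hp : h (idxPtN 0) = p) (hq : h (idxPtN 1) = q) :
    {o' : Finset GolayPt | o' ∈ octads ∧ p ∈ o' ∧ q ∈ o' ∧ (o ∩ o').card = k}.ncard
      = ((codeList.filter (fun m => popc m == 8)).filter
        (fun m => m.testBit 0 && m.testBit 1 && popc (m &&& 5279) == k)).length := by
  rw [ncard_octads_smul hh (fun o' => p ∈ o' ∧ q ∈ o' ∧ (o ∩ o').card = k)]
  have : {o'' : Finset GolayPt | o'' ∈ octads ∧ (p ∈ h • o'' ∧ q ∈ h • o'' ∧
        (o ∩ h • o'').card = k)}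
      = {b : Finset GolayPt | b ∈ wordsOfWeight (golayCode : Set (GolayPt → ZMod 2)) 8 ∧
        (idxPtN 0 ∈ b ∧ idxPtN 1 ∈ b ∧ (suppM 5279 ∩ b).card = k)} := by
    ext b
    simp only [Set.mem_setOf_eq]
    rw [← hp, ← hq, ← ho, ← Finset.smul_finset_inter, card_smul_finset, apply_mem_smul_iff,
      apply_mem_smul_iff]
    rfl
  rw [this]
  apply ncard_wordsOfWeight_filter
  intro m _
  rw [mem_suppM_idx (by norm_num), mem_suppM_idx (by norm_num), suppM_inter, card_suppM,
    Nat.land_comm]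
  simp [and_assoc]

theorem flag_in2_orbits (p q : GolayPt) (hpq : p ≠ q) (o o' o'' : Finset GolayPt)
    (ho : o ∈ octads) (ho' : o' ∈ octads) (ho'' : o'' ∈ octads)
    (hp : p ∈ o ∧ p ∈ o' ∧ p ∈ o'') (hq : q ∈ o ∧ q ∈ o' ∧ q ∈ o'')
    (hcard : (o ∩ o').card = (o ∩ o'').card) :
    {x : Finset GolayPt | x ∈ octads ∧ p ∈ x ∧ q ∈ x ∧ (o ∩ x).card = 2}.ncard = 16 ∧
    {x : Finset GolayPt | x ∈ octads ∧ p ∈ x ∧ q ∈ x ∧ (o ∩ x).card = 4}.ncard = 60 ∧
    ∃ g : Equiv.Perm GolayPt, g ∈ M24 ∧ g p = p ∧ g q = q ∧ g • o = o ∧ g • o' = o'' := by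
  obtain ⟨h, hh, hho, hhp, hhq⟩ := exists_flag_in2 ho hp.1 hq.1 hpq
  refine ⟨?_, ?_, ?_⟩
  · rw [ncard_flag_in2 2 hh hho hhp hhq]; exact count_C3_2
  · rw [ncard_flag_in2 4 hh hho hhp hhq]; exact count_C3_4
  · have he' : h⁻¹ • o' ∈ octads := smul_mem_wordsOfWeight (M24.inv_mem hh) ho'
    have he'' : h⁻¹ • o'' ∈ octads := smul_mem_wordsOfWeight (M24.inv_mem hh) ho''
    obtain ⟨m', hm', hp', hs'⟩ := (mem_octads_iff _).mp he'
    obtain ⟨m'', hm'', hp'', hs''⟩ := (mem_octads_iff _).mp he''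
    have hb0' : m'.testBit 0 = true := by
      rw [← mem_suppM_idx (by norm_num), hs', mem_smul_finset_iff', inv_inv, hhp]
      exact hp.2.1
    have hb0'' : m''.testBit 0 = true := by
      rw [← mem_suppM_idx (by norm_num), hs'', mem_smul_finset_iff', inv_inv, hhp]
      exact hp.2.2
    have hb1' : m'.testBit 1 = true := by
      rw [← mem_suppM_idx (by norm_num), hs', mem_smul_finset_iff', inv_inv, hhq]
      exact hq.2.1
    have hb1'' : m''.testBit 1 = true := by
      rw [← mem_suppM_idx (by norm_num), hs'', mem_smul_finset_iff', inv_inv, hhq]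
      exact hq.2.2
    have hcls : popc (m' &&& 5279) = popc (m'' &&& 5279) := by
      have e1 : (suppM m' ∩ suppM 5279).card = (h • suppM 5279 ∩ o').card := by
        rw [hs', Finset.inter_comm, card_inter_inv_smul]
      have e2 : (suppM m'' ∩ suppM 5279).card = (h • suppM 5279 ∩ o'').card := by
        rw [hs'', Finset.inter_comm, card_inter_inv_smul]
      rw [← card_suppM, ← card_suppM, ← suppM_inter, ← suppM_inter, e1, e2, hho]
      exact hcard
    have hconj := classes_conj (KOf [0, 1] [5279]) (KOf_le _ _) octK3Tabs octK3_tabs octC3Ks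
      octC3Cert octC3Root octC3Final _ _ octC3_runs octC3_pass hm' hm''
      (by simp [hp', hb0', hb1']) (by simp [hp'', hb0'', hb1'']) hcls
    rw [hs', hs''] at hconj
    obtain ⟨g, hg, hfix, hmask, hgab⟩ := conj_glue [0, 1] [5279] hh hconj
    refine ⟨g, hg, ?_, ?_, ?_, hgab⟩
    · have := hfix 0 (by simp)
      rwa [hhp] at this
    · have := hfix 1 (by simp)
      rwa [hhq] at this
    · have := hmask 5279 (by simp)
      rwa [hho] at this

end Cfsg.Agent.Helper9.Golay
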