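import Mathlib
import Cfsg.Prelude.Def_Sporadic_a
import Cfsg.Agent.Helper9.Golay.OctFlag2

set_option autoImplicit false

/-!
More transitivity statements for flags of an octad and points: the data.
-/

namespace Cfsg.Agent.Helper9.Golay

open Cfsg
open scoped Pointwise

def octFlag3Prog : List (ℕ × ℕ) := [(0, 2), (0, 3), (0, 4), (1, 5), (2, 6), (0, 7), (2, 8), (1, 9), (0, 1), (0, 11), (1, 12), (2, 13), (0, 14), (0, 15), (0, 16), (0, 17), (18, 18), (19, 19), (19, 20), (20, 20), (21, 22), (23, 10), (2, 2), (2, 25), (0, 26), (2, 27), (0, 28), (1, 29), (1, 0), (2, 31), (2, 3), (0, 33), (0, 34), (2, 35), (2, 36), (0, 37), (1, 38), (1, 4), (0, 40), (0, 41), (0, 42), (0, 43), (44, 44), (44, 45), (46, 39), (2, 0), (0, 48), (2, 49), (2, 50), (0, 51), (0, 52), (0, 53), (2, 54), (0, 55), (0, 32), (0, 57), (0, 58), (2, 59), (2, 60), (61, 61), (62, 62), (63, 63), (62, 64), (65, 56), (2, 1), (2, 67), (2, 68), (1, 3), (2, 70), (2, 71), (0, 72), (1, 73), (0, 74), (0, 75), (2, 40), (2, 77), (2, 78), (79, 79), (79, 80), (80, 80), (81, 82), (83, 76),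 (0, 0), (2, 85), (0, 30), (0, 87), (2, 69), (89, 89), (90, 90), (91, 91), (89, 92), (93, 88), (2, 4), (0, 95), (1, 96), (0, 97), (0, 98), (2, 99), (1, 100), (0, 85), (0, 102), (0, 103), (1, 104), (0, 105), (2, 106), (0, 107), (108, 108), (109, 109), (110, 110), (111, 111), (110, 112), (113, 101), (1, 102), (2, 115), (0, 116), (0, 117), (0, 86), (1, 119), (120, 120), (121, 121), (121, 122), (122, 122), (124, 124), (123, 125), (126, 118), (0, 35), (2, 128), (2, 129), (1, 130), (0, 70), (2, 132), (2, 133), (0, 134), (2, 135), (136, 136), (137, 137), (137, 138), (138, 138), (139, 140), (141, 131), (66, 24), (84, 24), (47, 143), (127, 127), (127, 146), (146, 146), (147, 148), (149, 145), (47, 84), (84, 84), (152, 152), (152, 153), (153, 153), (154, 155), (156, 151), (94, 127), (149, 158), (66, 47), (149, 160), (24, 94), (142, 47), (156, 163), (143, 143), (165, 165), (165, 166), (94, 84), (144, 144), (169, 169), (169, 170), (170, 170), (171, 172), (173, 168), (114, 143), (167, 175), (159, 159), (161, 159), (174, 159), (162, 178), (176,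 179), (177, 177), (159, 182), (182, 182), (183, 184), (185, 181), (174, 162), (162, 162), (188, 188), (162, 189), (189, 189), (190, 191), (192, 187), (162, 159), (178, 178), (195, 195), (195, 196), (197, 194), (164, 176), (176, 176), (176, 200), (201, 199), (162, 176), (185, 203), (150, 159), (201, 205), (150, 178), (185, 207), (186, 186), (204, 186), (180, 180), (186, 180), (193, 180), (208, 180), (180, 186), (198, 186), (180, 193), (198, 202), (208, 202), (150, 150), (157, 150), (159, 150), (161, 150), (164, 150), (176, 150), (164, 159), (161, 174), (176, 174), (174, 227), (220, 220), (230, 229), (157, 220), (227, 227), (233, 233), (234, 232), (150, 227), (161, 161), (237, 237), (238, 236), (150, 174), (226, 226), (226, 241), (241, 241), (242, 243), (244, 240), (174, 174), (246, 246), (247, 199), (162, 150), (157, 157), (250, 250), (251, 249), (162, 174), (225, 225), (254, 254), (254, 255), (256, 253), (231, 231), (235, 231), (248, 231), (252, 231), (235, 235), (248, 235), (252, 239), (231, 245)]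

def oct3A0 : List (ℕ × ℕ) := [(0, 100000), (1, 127), (2, 144), (3, 84), (4, 143), (7, 24), (10, 94), (12, 47)]

def oct3A1 : List (ℕ × ℕ) := [(1, 100000), (2, 177), (3, 178), (4, 176), (7, 179), (10, 162), (12, 159)]

def oct3A2 : List (ℕ × ℕ) := [(2, 100000), (3, 209), (4, 206), (7, 202), (10, 210), (12, 186)]

def oct3B2 : List (ℕ × ℕ) := [(5, 100000), (6, 180), (8, 213), (9, 217), (11, 202), (13, 218), (14, 219), (15, 212), (16, 193), (17, 215), (18, 216), (19, 208), (20, 214), (21, 186), (22, 210), (23, 211)]

def oct3B1 : List (ℕ × ℕ) := [(5, 100000), (6, 221), (8, 224), (9, 227), (11, 157), (13, 161), (14, 159), (15, 176), (16, 222), (17, 225), (18, 228), (19, 226), (20, 174), (21, 150), (22, 220), (23, 223)]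

def oct3B1b : List (ℕ × ℕ) := [(6, 100000), (8, 231), (9, 252), (11, 263), (13, 262), (14, 257), (15, 259), (16, 260), (17, 235), (18, 264), (19, 265), (20, 258), (21, 239), (22, 261), (23, 245)]

def octFlag3Tables : List (List ℕ) := runSLP octFlag3Prog stdTabs

theorem octFlag3_good : GoodT M24 octFlag3Tables := goodT_std octFlag3Prog M24 stepPerm_mem

theorem oct3A0_ok : levelOKD octFlag3Tables 5279 [] 0 oct3A0 = true ∧
    coversM 5279 [] oct3A0 = true := by decide +kernel
theorem oct3A1_ok : levelOKD octFlag3Tables 5279 [0] 1 oct3A1 = true ∧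
    coversM 5279 [0] oct3A1 = true := by decide +kernel
theorem oct3A2_ok : levelOKD octFlag3Tables 5279 [1, 0] 2 oct3A2 = true ∧
    coversM 5279 [1, 0] oct3A2 = true := by decide +kernel
theorem oct3B2_ok : levelOKD octFlag3Tables 5279 [1, 0] 5 oct3B2 = true ∧
    coversM coct0 [1, 0] oct3B2 = true := by decide +kernel
theorem oct3B1_ok : levelOKD octFlag3Tables 5279 [0] 5 oct3B1 = true ∧
    coversM coct0 [0] oct3B1 = true := by decide +kernel
theorem oct3B1b_ok : levelOKD octFlag3Tables 5279 [5, 0] 6 oct3B1b = true ∧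
    coversM coct0 [5, 0] oct3B1b = true := by decide +kernel

end Cfsg.Agent.Helper9.Golay
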