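import Mathlib
import Cfsg.Prelude.Def_Sporadic_a
import Cfsg.Agent.Helper9.Golay.OctFlag3Data

set_option autoImplicit false

/-!
More transitivity statements for flags of an octad and points.
-/

namespace Cfsg.Agent.Helper9.Golay

open Cfsg
open scoped Pointwise

theorem idx0_mem_oct : idxPtN 0 ∈ suppM 5279 := by
  rw [mem_suppM]
  decide

theorem idx1_mem_oct : idxPtN 1 ∈ suppM 5279 := by
  rw [mem_suppM]
  decide

theorem idx5_notMem_oct : idxPtN 5 ∉ suppM 5279 := by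
  rw [mem_suppM]
  decide

/-- an octad, two of its points and a point outside it can be moved to standard position. -/
theorem exists_flag_in2_out {o : Finset GolayPt} (ho : o ∈ octads) {p q r : GolayPt} (hp : p ∈ o)
    (hq : q ∈ o) (hpq : p ≠ q) (hr : r ∉ o) :
    ∃ h ∈ M24, h • suppM 5279 = o ∧ h (idxPtN 0) = p ∧ h (idxPtN 1) = q ∧ h (idxPtN 5) = r := by
  obtain ⟨k, hk, rfl, rfl, rfl⟩ := exists_flag_in2 ho hp hq hpq
  have hr' : k⁻¹ r ∈ suppM coct0 := by
    rw [mem_coct0_iff]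
    intro hcon
    exact hr ((mem_smul_finset_iff' k _ _).mpr hcon)
  have hr'' : k⁻¹ r ∉ suppM 5279 := (mem_coct0_iff _).mp hr'
  obtain ⟨σ, hσ, hσd, hσf, hσb⟩ := step_of_level octFlag3_good oct3B2_ok _ hr' (by
    intro c hc
    simp only [List.mem_cons, List.not_mem_nil, or_false] at hc
    rcases hc with rfl | rfl
    · intro hcon
      exact hr'' (hcon ▸ idx1_mem_oct)
    · intro hcon
      exact hr'' (hcon ▸ idx0_mem_oct))
  refine ⟨k * σ, M24.mul_mem hk hσ, ?_, ?_, ?_, ?_⟩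
  · rw [mul_smul, hσd]
  · rw [Equiv.Perm.mul_apply, hσf 0 (by simp)]
  · rw [Equiv.Perm.mul_apply, hσf 1 (by simp)]
  · rw [Equiv.Perm.mul_apply, hσb]
    simp

/-- an octad and three of its points can be moved to standard position. -/
theorem exists_flag_in3 {o : Finset GolayPt} (ho : o ∈ octads) {p q t : GolayPt} (hp : p ∈ o)
    (hq : q ∈ o) (ht : t ∈ o) (hpq : p ≠ q) (hpt : p ≠ t) (hqt : q ≠ t) :
    ∃ h ∈ M24, h • suppM 5279 = o ∧ h (idxPtN 0) = p ∧ h (idxPtN 1) = q ∧ h (idxPtN 2) = t := by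
  obtain ⟨k, hk, rfl, rfl, rfl⟩ := exists_flag_in2 ho hp hq hpq
  have ht' : k⁻¹ t ∈ suppM 5279 := (mem_smul_finset_iff' k _ _).mp ht
  obtain ⟨σ, hσ, hσd, hσf, hσb⟩ := step_of_level octFlag3_good oct3A2_ok _ ht' (by
    intro c hc
    simp only [List.mem_cons, List.not_mem_nil, or_false] at hc
    rcases hc with rfl | rfl
    · intro hcon
      apply hqt
      rw [← hcon]
      simp
    · intro hcon
      apply hpt
      rw [← hcon]
      simp)
  refine ⟨k * σ, M24.mul_mem hk hσ, ?_, ?_, ?_, ?_⟩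
  · rw [mul_smul, hσd]
  · rw [Equiv.Perm.mul_apply, hσf 0 (by simp)]
  · rw [Equiv.Perm.mul_apply, hσf 1 (by simp)]
  · rw [Equiv.Perm.mul_apply, hσb]
    simp

/-- an octad, one of its points and two points outside it can be moved to standard position. -/
theorem exists_flag_in_out2 {o : Finset GolayPt} (ho : o ∈ octads) {p r s : GolayPt} (hp : p ∈ o)
    (hr : r ∉ o) (hs : s ∉ o) (hrs : r ≠ s) :
    ∃ h ∈ M24, h • suppM 5279 = o ∧ h (idxPtN 0) = p ∧ h (idxPtN 5) = r ∧ h (idxPtN 6) = s := by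
  obtain ⟨k, hk, rfl, rfl⟩ := exists_flag_in ho hp
  have hr' : k⁻¹ r ∈ suppM coct0 := by
    rw [mem_coct0_iff]
    intro hcon
    exact hr ((mem_smul_finset_iff' k _ _).mpr hcon)
  have hr'' : k⁻¹ r ∉ suppM 5279 := (mem_coct0_iff _).mp hr'
  obtain ⟨σ, hσ, hσd, hσf, hσb⟩ := step_of_level octFlag3_good oct3B1_ok _ hr' (by
    intro c hc
    simp only [List.mem_cons, List.not_mem_nil, or_false] at hc
    subst hc
    intro hcon
    exact hr'' (hcon ▸ idx0_mem_oct))
  have hs' : (k * σ)⁻¹ s ∈ suppM coct0 := by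
    rw [mem_coct0_iff]
    intro hcon
    apply hs
    have := (mem_smul_finset_iff' (k * σ) _ _).mpr hcon
    rwa [mul_smul, hσd] at this
  have hs'' : (k * σ)⁻¹ s ∉ suppM 5279 := (mem_coct0_iff _).mp hs'
  obtain ⟨τ, hτ, hτd, hτf, hτb⟩ := step_of_level octFlag3_good oct3B1b_ok _ hs' (by
    intro c hc
    simp only [List.mem_cons, List.not_mem_nil, or_false] at hc
    rcases hc with rfl | rfl
    · intro hcon
      apply hrs
      have e : (k * σ) ((k * σ)⁻¹ s) = (k * σ) (idxPtN 5) := by rw [hcon]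
      rw [Equiv.Perm.inv_def, Equiv.apply_symm_apply, Equiv.Perm.mul_apply, hσb] at e
      rw [e]
      simp
    · intro hcon
      exact hs'' (hcon ▸ idx0_mem_oct))
  refine ⟨k * σ * τ, M24.mul_mem (M24.mul_mem hk hσ) hτ, ?_, ?_, ?_, ?_⟩
  · rw [mul_smul, mul_smul, hτd, hσd]
  · rw [Equiv.Perm.mul_apply, hτf 0 (by simp), Equiv.Perm.mul_apply, hσf 0 (by simp)]
  · rw [Equiv.Perm.mul_apply, hτf 5 (by simp), Equiv.Perm.mul_apply, hσb]
    simp
  · rw [Equiv.Perm.mul_apply, hτb]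
    simp

end Cfsg.Agent.Helper9.Golay
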