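import Mathlib
import Cfsg.Prelude.Def_Sporadic_a
import Cfsg.Agent.Helper9.Golay.OctFlag3

set_option autoImplicit false

/-!
An octad and two points outside it can be moved to standard position.
-/

namespace Cfsg.Agent.Helper9.Golay

open Cfsg
open scoped Pointwise

def octFlag4Prog : List (ℕ × ℕ) := [(0, 1), (1, 0), (2, 4), (0, 5), (2, 6), (0, 7), (1, 8), (0, 9), (0, 2), (2, 11), (0, 12), (0, 13), (0, 14), (1, 15), (16, 16), (17, 17), (16, 18), (19, 10), (2, 3), (2, 21), (0, 22), (1, 23), (2, 24), (0, 25), (2, 0), (2, 27), (0, 28), (0, 29), (2, 30), (31, 31), (32, 32), (32, 33), (33, 33), (34, 35), (36, 26), (1, 3), (2, 38), (2, 39), (2, 40), (0, 41), (0, 42), (1, 43), (0, 27), (0, 45), (1, 46), (0, 47), (0, 48), (0, 49), (50, 50), (50, 51), (52, 44), (0, 21), (2, 54), (0, 55), (0, 56), (1, 57), (0, 58), (2, 2), (2, 60), (0, 61), (1, 62), (0, 63), (1, 64), (2, 65), (66, 66), (67, 67), (67, 68), (68, 68), (70, 70), (69, 71), (72, 59), (0, 11), (1, 74), (2, 75), (2, 76), (2, 77), (2, 78), (0,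 6), (80, 80), (81, 81), (82, 82), (80, 83), (84, 79), (1, 11), (0, 75), (0, 87), (0, 88), (0, 89), (1, 90), (2, 14), (2, 92), (0, 93), (94, 94), (94, 95), (95, 95), (96, 97), (98, 91), (0, 4), (2, 100), (0, 101), (0, 102), (2, 103), (0, 104), (0, 105), (2, 106), (2, 86), (0, 108), (0, 109), (110, 110), (111, 111), (110, 112), (113, 107), (20, 20), (37, 20), (53, 20), (73, 20), (85, 20), (114, 20), (37, 85), (85, 85), (114, 85), (53, 99), (114, 115), (73, 125), (122, 122), (122, 127), (128, 126), (37, 37), (117, 117), (131, 131), (131, 132), (133, 130), (114, 118), (124, 124), (136, 136), (136, 137), (137, 137), (138, 139), (140, 135), (37, 117), (115, 115), (143, 143), (143, 144), (144, 144), (145, 146), (147, 142), (20, 99), (123, 123), (123, 150), (151, 149), (114, 121), (121, 121), (121, 154), (155, 153), (53, 129), (141, 129), (148, 129), (156, 129), (53, 53), (148, 53), (53, 134), (129, 141)]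

def oct4B0 : List (ℕ × ℕ) := [(5, 100000), (6, 37), (8, 119), (9, 99), (11, 115), (13, 125), (14, 117), (15, 124), (16, 121), (17, 118), (18, 116), (19, 123), (20, 120), (21, 122), (22, 85), (23, 20)]

def oct4B0b : List (ℕ × ℕ) := [(6, 100000), (8, 162), (9, 160), (11, 134), (13, 161), (14, 157), (15, 156), (16, 141), (17, 164), (18, 53), (19, 152), (20, 163), (21, 159), (22, 158), (23, 129)]

def octFlag4Tables : List (List ℕ) := runSLP octFlag4Prog stdTabs

theorem octFlag4_good : GoodT M24 octFlag4Tables := goodT_std octFlag4Prog M24 stepPerm_mem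

theorem oct4B0_ok : levelOKD octFlag4Tables 5279 [] 5 oct4B0 = true ∧
    coversM coct0 [] oct4B0 = true := by decide +kernel
theorem oct4B0b_ok : levelOKD octFlag4Tables 5279 [5] 6 oct4B0b = true ∧
    coversM coct0 [5] oct4B0b = true := by decide +kernel

/-- an octad and two points outside it can be moved to standard position. -/
theorem exists_flag_out2 {o : Finset GolayPt} (ho : o ∈ octads) {r s : GolayPt} (hr : r ∉ o)
    (hs : s ∉ o) (hrs : r ≠ s) :
    ∃ h ∈ M24, h • suppM 5279 = o ∧ h (idxPtN 5) = r ∧ h (idxPtN 6) = s := by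
  obtain ⟨k, hk, rfl, rfl⟩ := exists_flag_out ho hr
  have hs' : k⁻¹ s ∈ suppM coct0 := by
    rw [mem_coct0_iff]
    intro hcon
    exact hs ((mem_smul_finset_iff' k _ _).mpr hcon)
  obtain ⟨τ, hτ, hτd, hτf, hτb⟩ := step_of_level octFlag4_good oct4B0b_ok _ hs' (by
    intro c hc
    simp only [List.mem_cons, List.not_mem_nil, or_false] at hc
    subst hc
    intro hcon
    apply hrs
    rw [← hcon]
    simp)
  refine ⟨k * τ, M24.mul_mem hk hτ, ?_, ?_, ?_⟩
  · rw [mul_smul, hτd]
  · rw [Equiv.Perm.mul_apply, hτf 5 (by simp)]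
  · rw [Equiv.Perm.mul_apply, hτb]
    simp

end Cfsg.Agent.Helper9.Golay
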