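import Mathlib
import Cfsg.Prelude.Def_Sporadic_a
import Cfsg.Agent.Helper9.Golay.OctPairs

set_option autoImplicit false

/-!
The graph on the octads in which two octads are adjacent when they are disjoint.
-/

namespace Cfsg.Agent.Helper9.Golay

open Cfsg
open scoped Pointwise

/-- two distinct octads meet in 0, 2 or 4 points. -/
theorem card_inter_octads {o o' : Finset GolayPt} (ho : o ∈ octads) (ho' : o' ∈ octads)
    (hne : o ≠ o') : (o ∩ o').card = 0 ∨ (o ∩ o').card = 2 ∨ (o ∩ o').card = 4 := by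
  obtain ⟨a, ha, ha8, rfl⟩ := (mem_octads_iff o).mp ho
  obtain ⟨b, hb, hb8, rfl⟩ := (mem_octads_iff o').mp ho'
  have hab : a ≠ b := fun h => hne (by rw [h])
  rw [suppM_inter, card_suppM]
  have h1 := popc_xor a b
  have h2 := eight_le_popc_xor ha hb hab
  have h3 := popc_mem_codeList (xor_mem_codeList ha hb)
  omega

theorem rep_mem : (10558 : ℕ) ∈ codeList ∧ (31554 : ℕ) ∈ codeList ∧ (8077824 : ℕ) ∈ codeList ∧
    (1009728 : ℕ) ∈ codeList ∧ (5275709 : ℕ) ∈ codeList := by decide +kernel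

theorem rep2_none : (codeList.filter (fun m => popc m == 8)).all
    (fun c => !(c &&& 5279 == 0 && c &&& 31554 == 0)) = true := by decide +kernel

theorem disjoint_suppM_iff {a b : ℕ} (ha : a < 2 ^ 24) (hb : b < 2 ^ 24) :
    Disjoint (suppM a) (suppM b) ↔ a &&& b = 0 := by
  rw [Finset.disjoint_iff_inter_eq_empty, suppM_inter]
  constructor
  · intro h
    have hlt : a &&& b < 2 ^ 24 := lt_of_le_of_lt Nat.and_le_left ha
    apply eq_zero_of_popc_eq_zero hlt
    rw [← card_suppM, h, Finset.card_empty]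
  · intro h
    rw [h, suppM_zero]

/-- any pair of octads with given intersection size is the image of a standard pair. -/
theorem exists_pair_map {o o' : Finset GolayPt} (ho : o ∈ octads) (ho' : o' ∈ octads) {r : ℕ}
    (hr : r ∈ codeList) (hr8 : popc r = 8) (hk : (o ∩ o').card = popc (5279 &&& r)) :
    ∃ g ∈ M24, g • suppM 5279 = o ∧ g • suppM r = o' := by
  obtain ⟨h, hh⟩ := transitive_octads oct5279_mem ho
  have hr' : suppM r ∈ octads := (mem_octads_iff _).mpr ⟨r, hr, hr8, rfl⟩
  have hhr : h.1 • suppM r ∈ octads := smul_mem_wordsOfWeight h.2 hr'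
  have hh' : h.1 • suppM 5279 = o := hh
  have hc : (o ∩ h.1 • suppM r).card = (o ∩ o').card := by
    rw [← hh', ← Finset.smul_finset_inter, card_smul_finset, suppM_inter, card_suppM, hh', hk]
  obtain ⟨g, hg, hgo, hgr⟩ := octad_pair_conj ho hhr ho' hc
  refine ⟨g * h.1, M24.mul_mem hg h.2, ?_, ?_⟩
  · rw [mul_smul, hh', hgo]
  · rw [mul_smul, hgr]

theorem disjoint_smul_iff (g : Equiv.Perm GolayPt) (a b : Finset GolayPt) :
    Disjoint (g • a) (g • b) ↔ Disjoint a b := by
  rw [Finset.disjoint_iff_inter_eq_empty, Finset.disjoint_iff_inter_eq_empty,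
    ← Finset.smul_finset_inter]
  constructor
  · intro h
    rw [← Finset.card_eq_zero] at h ⊢
    rwa [card_smul_finset] at h
  · intro h
    rw [h, Finset.smul_finset_empty]

theorem lt_of_mem {m : ℕ} (hm : m ∈ codeList) : m < 2 ^ 24 := codeList_lt hm

/-- two octads meeting in four points have a common disjoint octad. -/
theorem exists_common_disjoint {o o' : Finset GolayPt} (ho : o ∈ octads) (ho' : o' ∈ octads)
    (h4 : (o ∩ o').card = 4) : ∃ c ∈ octads, Disjoint o c ∧ Disjoint c o' := by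
  obtain ⟨g, hg, rfl, rfl⟩ := exists_pair_map ho ho' rep_mem.1 (by decide)
    (by rw [h4]; decide)
  refine ⟨g • suppM 8077824, smul_mem_wordsOfWeight hg
    ((mem_octads_iff _).mpr ⟨8077824, rep_mem.2.2.1, by decide, rfl⟩), ?_, ?_⟩
  · rw [disjoint_smul_iff, disjoint_suppM_iff (by decide) (by decide)]
    decide
  · rw [disjoint_smul_iff, disjoint_suppM_iff (by decide) (by decide)]
    decide

/-- two octads meeting in two points have no common disjoint octad. -/
theorem no_common_disjoint {o o' : Finset GolayPt} (ho : o ∈ octads) (ho' : o' ∈ octads)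
    (h2 : (o ∩ o').card = 2) : ¬ ∃ c ∈ octads, Disjoint o c ∧ Disjoint c o' := by
  obtain ⟨g, hg, rfl, rfl⟩ := exists_pair_map ho ho' rep_mem.2.1 (by decide)
    (by rw [h2]; decide)
  rintro ⟨c, hc, hd1, hd2⟩
  have hc' : g⁻¹ • c ∈ octads := smul_mem_wordsOfWeight (M24.inv_mem hg) hc
  obtain ⟨m, hm, hm8, hms⟩ := (mem_octads_iff _).mp hc'
  have hcm : c = g • suppM m := by rw [hms, smul_inv_smul]
  rw [hcm, disjoint_smul_iff, disjoint_suppM_iff (by decide) (lt_of_mem hm)] at hd1
  rw [hcm, disjoint_smul_iff, disjoint_suppM_iff (lt_of_mem hm) (by decide)] at hd2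
  have := List.all_eq_true.mp rep2_none m (List.mem_filter.mpr ⟨hm, by simpa using hm8⟩)
  rw [Nat.land_comm] at hd1
  simp [hd1, hd2] at this

/-- two octads meeting in two points are joined by a path of length three. -/
theorem exists_path_three {o o' : Finset GolayPt} (ho : o ∈ octads) (ho' : o' ∈ octads)
    (h2 : (o ∩ o').card = 2) :
    ∃ a ∈ octads, ∃ b ∈ octads, Disjoint o a ∧ Disjoint a b ∧ Disjoint b o' := by
  obtain ⟨g, hg, rfl, rfl⟩ := exists_pair_map ho ho' rep_mem.2.1 (by decide)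
    (by rw [h2]; decide)
  refine ⟨g • suppM 1009728, smul_mem_wordsOfWeight hg
    ((mem_octads_iff _).mpr ⟨1009728, rep_mem.2.2.2.1, by decide, rfl⟩),
    g • suppM 5275709, smul_mem_wordsOfWeight hg
    ((mem_octads_iff _).mpr ⟨5275709, rep_mem.2.2.2.2, by decide, rfl⟩), ?_, ?_, ?_⟩
  · rw [disjoint_smul_iff, disjoint_suppM_iff (by decide) (by decide)]; decide
  · rw [disjoint_smul_iff, disjoint_suppM_iff (by decide) (by decide)]; decide
  · rw [disjoint_smul_iff, disjoint_suppM_iff (by decide) (by decide)]; decide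

theorem adj_iff {u v : octads} :
    (blockGraph octads).Adj u v ↔ u ≠ v ∧ Disjoint (u : Finset GolayPt) (v : Finset GolayPt) := by
  unfold blockGraph
  rw [SimpleGraph.fromRel_adj]
  constructor
  · rintro ⟨hne, h | h⟩
    · exact ⟨hne, h⟩
    · exact ⟨hne, h.symm⟩
  · rintro ⟨hne, h⟩
    exact ⟨hne, Or.inl h⟩

theorem ne_of_disjoint_octads {a b : Finset GolayPt} (ha : a ∈ octads) (h : Disjoint a b) :
    a ≠ b := by
  rintro rfl
  rw [disjoint_self] at h
  have : a.card = 8 := ha.2
  rw [h] at this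
  simp at this

theorem adj_of_disjoint {a b : Finset GolayPt} (ha : a ∈ octads) (hb : b ∈ octads)
    (h : Disjoint a b) : (blockGraph octads).Adj ⟨a, ha⟩ ⟨b, hb⟩ := by
  rw [adj_iff]
  refine ⟨?_, h⟩
  intro hcon
  exact ne_of_disjoint_octads ha h (congrArg Subtype.val hcon)

/-- the distance between two distinct octads, by intersection size. -/
theorem octad_graph_dist (o o' : Finset GolayPt) (ho : o ∈ octads) (ho' : o' ∈ octads)
    (hne : o ≠ o') :
    (blockGraph octads).Reachable ⟨o, ho⟩ ⟨o', ho'⟩ ∧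
    (((o ∩ o').card = 0 ∧ (blockGraph octads).dist ⟨o, ho⟩ ⟨o', ho'⟩ = 1) ∨
     ((o ∩ o').card = 4 ∧ (blockGraph octads).dist ⟨o, ho⟩ ⟨o', ho'⟩ = 2) ∨
     ((o ∩ o').card = 2 ∧ (blockGraph octads).dist ⟨o, ho⟩ ⟨o', ho'⟩ = 3)) := by
  have hsne : (⟨o, ho⟩ : octads) ≠ ⟨o', ho'⟩ := fun h => hne (congrArg Subtype.val h)
  rcases card_inter_octads ho ho' hne with h0 | h2 | h4
  · -- disjoint
    have hd : Disjoint o o' := by
      rw [Finset.disjoint_iff_inter_eq_empty, ← Finset.card_eq_zero]; exact h0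
    have hadj := adj_of_disjoint ho ho' hd
    exact ⟨hadj.reachable, Or.inl ⟨h0, SimpleGraph.dist_eq_one_iff_adj.mpr hadj⟩⟩
  · -- two common points
    obtain ⟨a, ha, b, hb, h1, h2', h3⟩ := exists_path_three ho ho' h2
    have e1 := adj_of_disjoint ho ha h1
    have e2 := adj_of_disjoint ha hb h2'
    have e3 := adj_of_disjoint hb ho' h3
    let p : (blockGraph octads).Walk ⟨o, ho⟩ ⟨o', ho'⟩ :=
      SimpleGraph.Walk.cons e1 (SimpleGraph.Walk.cons e2 (SimpleGraph.Walk.cons e3 SimpleGraph.Walk.nil))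
    have hreach : (blockGraph octads).Reachable ⟨o, ho⟩ ⟨o', ho'⟩ := ⟨p⟩
    refine ⟨hreach, Or.inr (Or.inr ⟨h2, ?_⟩)⟩
    have hle : (blockGraph octads).dist ⟨o, ho⟩ ⟨o', ho'⟩ ≤ 3 := SimpleGraph.dist_le p
    have hpos := hreach.pos_dist_of_ne hsne
    have hn1 : (blockGraph octads).dist ⟨o, ho⟩ ⟨o', ho'⟩ ≠ 1 := by
      intro h
      have := (adj_iff.mp (SimpleGraph.dist_eq_one_iff_adj.mp h)).2
      rw [Finset.disjoint_iff_inter_eq_empty] at this
      simp only at this
      rw [this] at h2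
      simp at h2
    have hn2 : (blockGraph octads).dist ⟨o, ho⟩ ⟨o', ho'⟩ ≠ 2 := by
      intro h
      obtain ⟨q, hq⟩ := hreach.exists_walk_length_eq_dist
      rw [h] at hq
      cases q with
      | nil => simp at hq
      | cons hq1 q1 =>
        cases q1 with
        | nil => simp at hq
        | cons hq2 q2 =>
          cases q2 with
          | nil =>
            rename_i c
            apply no_common_disjoint ho ho' h2
            exact ⟨c.1, c.2, (adj_iff.mp hq1).2, (adj_iff.mp hq2).2⟩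
          | cons hq3 q3 => simp at hq
    omega
  · -- four common points
    obtain ⟨c, hc, h1, h2'⟩ := exists_common_disjoint ho ho' h4
    have e1 := adj_of_disjoint ho hc h1
    have e2 := adj_of_disjoint hc ho' h2'
    let p : (blockGraph octads).Walk ⟨o, ho⟩ ⟨o', ho'⟩ :=
      SimpleGraph.Walk.cons e1 (SimpleGraph.Walk.cons e2 SimpleGraph.Walk.nil)
    have hreach : (blockGraph octads).Reachable ⟨o, ho⟩ ⟨o', ho'⟩ := ⟨p⟩
    refine ⟨hreach, Or.inr (Or.inl ⟨h4, ?_⟩)⟩
    have hle : (blockGraph octads).dist ⟨o, ho⟩ ⟨o', ho'⟩ ≤ 2 := SimpleGraph.dist_le p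
    have hpos := hreach.pos_dist_of_ne hsne
    have hn1 : (blockGraph octads).dist ⟨o, ho⟩ ⟨o', ho'⟩ ≠ 1 := by
      intro h
      have := (adj_iff.mp (SimpleGraph.dist_eq_one_iff_adj.mp h)).2
      rw [Finset.disjoint_iff_inter_eq_empty] at this
      simp only at this
      rw [this] at h4
      simp at h4
    omega

theorem octad_graph_connected : (blockGraph octads).Connected := by
  haveI : Nonempty octads := ⟨⟨suppM 5279, oct5279_mem⟩⟩
  refine ⟨fun u v => ?_⟩
  by_cases h : u = v
  · rw [h]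
  · have hne : (u : Finset GolayPt) ≠ v := fun hc => h (Subtype.ext hc)
    exact (octad_graph_dist u.1 v.1 u.2 v.2 hne).1

end Cfsg.Agent.Helper9.Golay
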