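import Mathlib
import Cfsg.Prelude.Def_Sporadic_a
import Cfsg.Agent.Helper9.Golay.Orbit

set_option autoImplicit false

/-!
Intersection numbers of words of the code with a fixed word, transported along the group of the code.
-/

namespace Cfsg.Agent.Helper9.Golay

open Cfsg
open scoped Pointwise

/-- the number of words of weight `n` meeting `d` in `k` points is invariant under the group. -/
theorem ncard_inter_smul (n k : ℕ) (σ : Equiv.Perm GolayPt) (hσ : σ ∈ M24) (d : Finset GolayPt) :
    {o : Finset GolayPt | o ∈ wordsOfWeight (golayCode : Set (GolayPt → ZMod 2)) n ∧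
        (o ∩ σ • d).card = k}.ncard
      = {o : Finset GolayPt | o ∈ wordsOfWeight (golayCode : Set (GolayPt → ZMod 2)) n ∧
        (o ∩ d).card = k}.ncard := by
  have himg : {o : Finset GolayPt | o ∈ wordsOfWeight (golayCode : Set (GolayPt → ZMod 2)) n ∧
        (o ∩ σ • d).card = k}
      = (fun o => σ • o) '' {o : Finset GolayPt |
        o ∈ wordsOfWeight (golayCode : Set (GolayPt → ZMod 2)) n ∧ (o ∩ d).card = k} := by
    ext o
    simp only [Set.mem_setOf_eq, Set.mem_image]
    constructor
    · rintro ⟨ho, hk⟩
      refine ⟨σ⁻¹ • o, ⟨smul_mem_wordsOfWeight (M24.inv_mem hσ) ho, ?_⟩, smul_inv_smul σ o⟩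
      have : σ⁻¹ • o ∩ d = σ⁻¹ • (o ∩ σ • d) := by
        rw [Finset.smul_finset_inter, inv_smul_smul]
      rw [this, card_smul_finset]
      exact hk
    · rintro ⟨o', ⟨ho', hk⟩, rfl⟩
      refine ⟨smul_mem_wordsOfWeight hσ ho', ?_⟩
      rw [← Finset.smul_finset_inter, card_smul_finset]
      exact hk
  rw [himg]
  exact Set.ncard_image_of_injective _ (MulAction.injective σ)

/-- counting words of weight `n` with a decidable side condition. -/
theorem ncard_wordsOfWeight_filter (n : ℕ) (P : ℕ → Bool) (Q : Finset GolayPt → Prop)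
    (hPQ : ∀ m ∈ codeList, (P m = true ↔ Q (suppM m))) :
    {b : Finset GolayPt | b ∈ wordsOfWeight (golayCode : Set (GolayPt → ZMod 2)) n ∧ Q b}.ncard
      = ((codeList.filter (fun m => popc m == n)).filter P).length := by
  have himg : {b : Finset GolayPt | b ∈ wordsOfWeight (golayCode : Set (GolayPt → ZMod 2)) n ∧ Q b}
      = suppM '' {m | m ∈ (codeList.filter (fun m => popc m == n)).filter P} := by
    ext b
    rw [wordsOfWeight_eq]
    simp only [Set.mem_setOf_eq, Set.mem_image, List.mem_filter, beq_iff_eq]
    constructor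
    · rintro ⟨⟨m, ⟨hm, hp⟩, rfl⟩, hQ⟩
      exact ⟨m, ⟨⟨hm, hp⟩, (hPQ m hm).mpr hQ⟩, rfl⟩
    · rintro ⟨m, ⟨⟨hm, hp⟩, hP⟩, rfl⟩
      exact ⟨⟨m, ⟨hm, hp⟩, rfl⟩, (hPQ m hm).mp hP⟩
  rw [himg, Set.InjOn.ncard_image
    (suppM_injOn_of_sub _ (fun m hm => (List.mem_filter.mp (List.mem_filter.mp hm).1).1))]
  have hnd : ((codeList.filter (fun m => popc m == n)).filter P).Nodup :=
    (codeList_nodup.filter _).filter _
  rw [← List.toFinset_card_of_nodup hnd, ← Set.ncard_coe_finset]
  congr 1
  ext m
  simp

/-- the number of words of weight `n` meeting the word of mask `m₀` in `k` points. -/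
theorem ncard_inter_mask (n k m₀ : ℕ) :
    {o : Finset GolayPt | o ∈ wordsOfWeight (golayCode : Set (GolayPt → ZMod 2)) n ∧
        (o ∩ suppM m₀).card = k}.ncard
      = ((codeList.filter (fun m => popc m == n)).filter (fun a => popc (a &&& m₀) == k)).length := by
  apply ncard_wordsOfWeight_filter
  intro m _
  rw [suppM_inter, card_suppM, beq_iff_eq]

/-- the standard dodecad. -/
def dod0 : ℕ := 28637

theorem dod0_mem : suppM dod0 ∈ dodecads :=
  (mem_dodecads_iff _).mpr ⟨dod0, by decide +kernel, by decide +kernel, rfl⟩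

theorem oct_dod0_6 : ((codeList.filter (fun m => popc m == 8)).filter
    (fun a => popc (a &&& dod0) == 6)).length = 132 := by decide +kernel

theorem oct_dod0_2 : ((codeList.filter (fun m => popc m == 8)).filter
    (fun a => popc (a &&& dod0) == 2)).length = 132 := by decide +kernel

theorem oct_dod0_4 : ((codeList.filter (fun m => popc m == 8)).filter
    (fun a => popc (a &&& dod0) == 4)).length = 495 := by decide +kernel

theorem dod_dod0_4 : ((codeList.filter (fun m => popc m == 12)).filter
    (fun a => popc (a &&& dod0) == 4)).length = 495 := by decide +kernel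

theorem dod_dod0_6 : ((codeList.filter (fun m => popc m == 12)).filter
    (fun a => popc (a &&& dod0) == 6)).length = 1584 := by decide +kernel

theorem dod_dod0_8 : ((codeList.filter (fun m => popc m == 12)).filter
    (fun a => popc (a &&& dod0) == 8)).length = 495 := by decide +kernel

/-- intersection counts with an arbitrary dodecad, reduced to the standard one. -/
theorem ncard_inter_dodecad (n k : ℕ) {d : Finset GolayPt} (hd : d ∈ dodecads) :
    {o : Finset GolayPt | o ∈ wordsOfWeight (golayCode : Set (GolayPt → ZMod 2)) n ∧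
        (o ∩ d).card = k}.ncard
      = ((codeList.filter (fun m => popc m == n)).filter (fun a => popc (a &&& dod0) == k)).length := by
  obtain ⟨g, hg⟩ := transitive_dodecads dod0_mem hd
  rw [← hg, Subgroup.smul_def, ncard_inter_smul n k g.1 g.2, ncard_inter_mask]

end Cfsg.Agent.Helper9.Golay
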