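import Mathlib
import Cfsg.Prelude.Def_Sporadic_a
import Cfsg.Agent.Helper9.Golay.Chain2
import Cfsg.Agent.Helper9.Golay.Inter
import Cfsg.Agent.Helper9.Golay.M24Trans

set_option autoImplicit false

/-!
Stabilizer chains inside the stabilizer of the standard dodecad.
-/

namespace Cfsg.Agent.Helper9.Golay

open Cfsg
open scoped Pointwise

def m12Prog : List (ℕ × ℕ) := [(1, 0), (0, 3), (1, 4), (2, 5), (2, 6), (0, 7), (2, 8), (1, 9), (2, 1), (0, 11), (0, 12), (0, 13), (1, 14), (0, 15), (0, 16), (17, 17), (18, 18), (19, 19), (18, 20), (21, 10), (2, 0), (2, 23), (2, 24), (2, 25), (0, 26), (2, 27), (2, 28), (2, 29), (1, 30), (0, 23), (1, 32), (0, 33), (0, 34), (2, 35), (0, 36), (1, 37), (0, 38), (39, 39), (40, 40), (40, 41), (41, 41), (43, 43), (42, 44), (45, 31), (46, 22), (22, 46), (46, 46), (22, 47), (22, 48), (46, 48), (22, 51), (22, 52), (46, 53), (22, 49), (52, 52), (57, 57), (52, 58), (59, 56), (46, 51), (48, 48), (48, 62), (62, 62), (63, 64), (65, 61), (60, 60), (66, 60),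 (60, 67), (60, 68), (66, 68), (60, 69), (60, 70), (60, 71), (66, 73), (66, 74), (72, 72), (77, 77), (78, 76), (66, 75), (70, 70), (70, 81), (81, 81), (82, 83), (84, 80), (79, 79), (85, 79), (85, 85), (0, 0), (1, 89), (2, 90), (0, 91), (2, 92), (0, 93), (0, 94), (1, 95), (2, 3), (2, 97), (2, 98), (2, 99), (0, 100), (2, 101), (102, 102), (103, 103), (104, 104), (105, 105), (104, 106), (107, 96), (2, 2), (0, 109), (1, 110), (2, 111), (0, 112), (1, 113), (2, 114), (0, 115), (0, 116), (0, 2), (0, 118), (0, 119), (2, 120), (0, 121), (1, 122), (2, 123), (2, 124), (2, 125), (126, 126), (127, 127), (128, 128), (129, 129), (128, 130), (131, 117), (2, 89), (2, 133), (2, 134), (2, 135), (0, 136), (0, 137), (2, 138), (0, 139), (1, 140), (1, 118), (0, 142), (1, 143), (2, 144), (0, 145), (2, 146), (0, 147), (2, 148), (149, 149), (150, 150), (151, 151), (149, 152), (153, 141), (132, 22), (47, 47), (47, 156), (156, 156), (157, 158), (159, 155), (160, 67), (84, 161), (79, 162), (162, 162), (162,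 164), (162, 79), (85, 88), (167, 166), (162, 88), (86, 86), (170, 169), (171, 168), (168, 171), (171, 171), (171, 172), (168, 174), (171, 175), (171, 174), (173, 173), (173, 179), (180, 178), (168, 172), (174, 182), (181, 181), (183, 181), (181, 183), (181, 184), (183, 184), (154, 22), (108, 46), (132, 46), (22, 154), (46, 190), (65, 193), (46, 191), (189, 189), (196, 196), (197, 195), (194, 194), (198, 194), (198, 198), (194, 199), (194, 200), (198, 200), (194, 201), (198, 201), (194, 205), (198, 202), (203, 203), (209, 209), (210, 208), (194, 206), (212, 211), (211, 212), (212, 212), (211, 213), (212, 213), (211, 214), (211, 216), (211, 217), (211, 215), (217, 217), (222, 222), (223, 223), (222, 224), (225, 221), (212, 218), (219, 219), (228, 227), (226, 226), (229, 226), (226, 229), (229, 229), (226, 230), (226, 231), (229, 233)]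

def m12A0 : List (ℕ × ℕ) := [(0, 100000), (2, 48), (3, 52), (4, 54), (6, 55), (7, 22), (8, 46), (9, 53), (10, 50), (11, 47), (13, 51), (14, 49)]

def m12A1 : List (ℕ × ℕ) := [(2, 100000), (3, 75), (4, 73), (6, 74), (7, 72), (8, 70), (9, 67), (10, 69), (11, 60), (13, 71), (14, 68)]

def m12A2 : List (ℕ × ℕ) := [(3, 100000), (4, 163), (6, 165), (7, 79), (8, 86), (9, 164), (10, 162), (11, 85), (13, 88), (14, 87)]

def m12A3 : List (ℕ × ℕ) := [(4, 100000), (6, 175), (7, 172), (8, 171), (9, 177), (10, 168), (11, 174), (13, 173), (14, 176)]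

def m12A4 : List (ℕ × ℕ) := [(6, 100000), (7, 181), (8, 188), (9, 183), (10, 187), (11, 185), (13, 184), (14, 186)]

def m12B0 : List (ℕ × ℕ) := [(0, 100000), (2, 48), (3, 191), (4, 154), (6, 192), (7, 22), (8, 46), (9, 189), (10, 108), (11, 47), (13, 190), (14, 49)]

def m12B1 : List (ℕ × ℕ) := [(1, 100000), (5, 194), (12, 198), (15, 202), (16, 207), (17, 206), (18, 205), (19, 203), (20, 204), (21, 200), (22, 201), (23, 199)]

def m12B2 : List (ℕ × ℕ) := [(5, 100000), (12, 218), (15, 215), (16, 212), (17, 220), (18, 213), (19, 216), (20, 219), (21, 217), (22, 214), (23, 211)]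

def m12B3 : List (ℕ × ℕ) := [(12, 100000), (15, 234), (16, 236), (17, 231), (18, 226), (19, 232), (20, 230), (21, 233), (22, 229), (23, 235)]

def m12Tables : List (List ℕ) :=
  runSLP m12Prog [tblOf (stepFun 0), tblOf (stepFun 1), tblOf (stepFun 2)]

theorem goodT_m12Tables (H : Subgroup (Equiv.Perm GolayPt)) (h : ∀ g, stepPerm g ∈ H) :
    GoodT H m12Tables := by
  apply goodT_runSLP
  intro t ht
  simp only [List.mem_cons, List.not_mem_nil, or_false] at ht
  rcases ht with rfl | rfl | rfl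
  · exact ⟨stepPerm 0, h 0, by rw [stepFun_eq]; exact isTbl_tblOf _⟩
  · exact ⟨stepPerm 1, h 1, by rw [stepFun_eq]; exact isTbl_tblOf _⟩
  · exact ⟨stepPerm 2, h 2, by rw [stepFun_eq]; exact isTbl_tblOf _⟩

/-- the mask of the complement of the standard dodecad. -/
def cdod0 : ℕ := 16748578

theorem cdod0_eq : cdod0 = fullMask ^^^ dod0 := by decide

theorem step_of_level {H : Subgroup (Equiv.Perm GolayPt)} {st : List (List ℕ)} (hst : GoodT H st)
    {dm tm : ℕ} {base : List ℕ} {b : ℕ} {cert : List (ℕ × ℕ)}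
    (h : levelOKD st dm base b cert = true ∧ coversM tm base cert = true)
    (a : GolayPt) (hat : a ∈ suppM tm) (hne : ∀ c ∈ base, a ≠ idxPtN c) :
    ∃ σ ∈ H, σ • suppM dm = suppM dm ∧ (∀ c ∈ base, σ (idxPtN c) = idxPtN c) ∧
      σ (idxPtN b) = a := by
  obtain ⟨σ, hσ, hσd, hσb⟩ := levelD_trans hst h.1 h.2 a hat (by
    intro hcon
    apply hne _ hcon
    rw [idxPtN_ptIdx])
  refine ⟨σ, (Subgroup.mem_inf.mp hσ).1, hσd, ?_, hσb⟩
  intro c hc
  exact mem_fixL.mp (Subgroup.mem_inf.mp hσ).2 _ (List.mem_map.mpr ⟨c, hc, rfl⟩)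

theorem m12A_ok0 : levelOKD m12Tables dod0 [] 0 m12A0 = true ∧ coversM dod0 [] m12A0 = true := by
  decide +kernel
theorem m12A_ok1 : levelOKD m12Tables dod0 [0] 2 m12A1 = true ∧ coversM dod0 [0] m12A1 = true := by
  decide +kernel
theorem m12A_ok2 : levelOKD m12Tables dod0 [2, 0] 3 m12A2 = true
    ∧ coversM dod0 [2, 0] m12A2 = true := by decide +kernel
theorem m12A_ok3 : levelOKD m12Tables dod0 [3, 2, 0] 4 m12A3 = true
    ∧ coversM dod0 [3, 2, 0] m12A3 = true := by decide +kernel
theorem m12A_ok4 : levelOKD m12Tables dod0 [4, 3, 2, 0] 6 m12A4 = true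
    ∧ coversM dod0 [4, 3, 2, 0] m12A4 = true := by decide +kernel

theorem m12B_ok1 : levelOKD m12Tables dod0 [0] 1 m12B1 = true ∧ coversM cdod0 [0] m12B1 = true := by
  decide +kernel
theorem m12B_ok2 : levelOKD m12Tables dod0 [1, 0] 5 m12B2 = true
    ∧ coversM cdod0 [1, 0] m12B2 = true := by decide +kernel
theorem m12B_ok3 : levelOKD m12Tables dod0 [5, 1, 0] 12 m12B3 = true
    ∧ coversM cdod0 [5, 1, 0] m12B3 = true := by decide +kernel

/-- the stabilizer of the standard dodecad, as a group of permutations of the 24 points. -/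
def KD : Subgroup (Equiv.Perm GolayPt) :=
  M24 ⊓ MulAction.stabilizer (Equiv.Perm GolayPt) (suppM dod0)

theorem mem_KD {g : Equiv.Perm GolayPt} : g ∈ KD ↔ g ∈ M24 ∧ g • suppM dod0 = suppM dod0 := by
  unfold KD
  rw [Subgroup.mem_inf]
  exact and_congr Iff.rfl MulAction.mem_stabilizer_iff

theorem KD_maps {g : Equiv.Perm GolayPt} (hg : g ∈ KD) {a : GolayPt} (ha : a ∈ suppM dod0) :
    g a ∈ suppM dod0 := by
  have := (mem_KD.mp hg).2
  rw [← this]
  exact Finset.smul_mem_smul_finset ha

theorem KD_maps_compl {g : Equiv.Perm GolayPt} (hg : g ∈ KD) {a : GolayPt}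
    (ha : a ∈ suppM cdod0) : g a ∈ suppM cdod0 := by
  rw [mem_suppM, cdod0_eq, testBit_fullMask_xor _ (ptIdx_lt _), Bool.not_eq_true',
    ← Bool.not_eq_true, ← mem_suppM] at ha ⊢
  intro hcon
  apply ha
  have := (mem_KD.mp hg).2
  rw [← this] at hcon
  exact (Finset.smul_mem_smul_finset_iff g).mp hcon

/-- the base points of the first chain. -/
def cA (i : ℕ) : GolayPt := idxPtN (([0, 2, 3, 4, 6] : List ℕ).getD i 0)

theorem m12A_step (k : ℕ) (hk : k < 5) (a : GolayPt) (ha : a ∈ (suppM dod0 : Set GolayPt))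
    (hne : ∀ i < k, a ≠ cA i) :
    ∃ σ ∈ KD, (∀ i < k, σ (cA i) = cA i) ∧ σ (cA k) = a := by
  have hst := goodT_m12Tables M24 stepPerm_mem
  interval_cases k
  · obtain ⟨σ, hσ, hσd, hσf, hσb⟩ := step_of_level hst m12A_ok0 a ha (by simp)
    exact ⟨σ, mem_KD.mpr ⟨hσ, hσd⟩, by simp, hσb⟩
  · obtain ⟨σ, hσ, hσd, hσf, hσb⟩ := step_of_level hst m12A_ok1 a ha (by
      intro c hc
      simp only [List.mem_cons, List.not_mem_nil, or_false] at hc
      rcases hc with rfl
      exact hne 0 (by norm_num))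
    refine ⟨σ, mem_KD.mpr ⟨hσ, hσd⟩, ?_, hσb⟩
    intro i hi
    interval_cases i
    exact hσf 0 (by simp)
  · obtain ⟨σ, hσ, hσd, hσf, hσb⟩ := step_of_level hst m12A_ok2 a ha (by
      intro c hc
      simp only [List.mem_cons, List.not_mem_nil, or_false] at hc
      rcases hc with rfl | rfl
      · exact hne 1 (by norm_num)
      · exact hne 0 (by norm_num))
    refine ⟨σ, mem_KD.mpr ⟨hσ, hσd⟩, ?_, hσb⟩
    intro i hi
    interval_cases i
    · exact hσf 0 (by simp)
    · exact hσf 2 (by simp)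
  · obtain ⟨σ, hσ, hσd, hσf, hσb⟩ := step_of_level hst m12A_ok3 a ha (by
      intro c hc
      simp only [List.mem_cons, List.not_mem_nil, or_false] at hc
      rcases hc with rfl | rfl | rfl
      · exact hne 2 (by norm_num)
      · exact hne 1 (by norm_num)
      · exact hne 0 (by norm_num))
    refine ⟨σ, mem_KD.mpr ⟨hσ, hσd⟩, ?_, hσb⟩
    intro i hi
    interval_cases i
    · exact hσf 0 (by simp)
    · exact hσf 2 (by simp)
    · exact hσf 3 (by simp)
  · obtain ⟨σ, hσ, hσd, hσf, hσb⟩ := step_of_level hst m12A_ok4 a ha (by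
      intro c hc
      simp only [List.mem_cons, List.not_mem_nil, or_false] at hc
      rcases hc with rfl | rfl | rfl | rfl
      · exact hne 3 (by norm_num)
      · exact hne 2 (by norm_num)
      · exact hne 1 (by norm_num)
      · exact hne 0 (by norm_num))
    refine ⟨σ, mem_KD.mpr ⟨hσ, hσd⟩, ?_, hσb⟩
    intro i hi
    interval_cases i
    · exact hσf 0 (by simp)
    · exact hσf 2 (by simp)
    · exact hσf 3 (by simp)
    · exact hσf 4 (by simp)

/-- the stabilizer of the standard dodecad is 5-transitive on it. -/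
theorem KD_five_trans (x y : Fin 5 ↪ GolayPt) (hx : ∀ i, x i ∈ suppM dod0)
    (hy : ∀ i, y i ∈ suppM dod0) : ∃ g ∈ KD, ∀ i, g (x i) = y i :=
  trans_generic KD (suppM dod0 : Set GolayPt) (fun g hg a ha => KD_maps hg ha) cA m12A_step x y hx hy

/-- the stabilizer of the standard dodecad and of its first base point. -/
def KD0 : Subgroup (Equiv.Perm GolayPt) :=
  KD ⊓ MulAction.stabilizer (Equiv.Perm GolayPt) (idxPtN 0)

/-- the base points of the second chain, outside the dodecad. -/
def cB (i : ℕ) : GolayPt := idxPtN (([1, 5, 12] : List ℕ).getD i 0)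

theorem m12B_step (k : ℕ) (hk : k < 3) (a : GolayPt) (ha : a ∈ (suppM cdod0 : Set GolayPt))
    (hne : ∀ i < k, a ≠ cB i) :
    ∃ σ ∈ KD0, (∀ i < k, σ (cB i) = cB i) ∧ σ (cB k) = a := by
  have hst := goodT_m12Tables M24 stepPerm_mem
  have h0 : a ≠ idxPtN 0 := by
    intro hcon
    rw [hcon] at ha
    exact absurd ha (by decide)
  interval_cases k
  · obtain ⟨σ, hσ, hσd, hσf, hσb⟩ := step_of_level hst m12B_ok1 a ha (by
      intro c hc
      simp only [List.mem_cons, List.not_mem_nil, or_false] at hc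
      rcases hc with rfl
      exact h0)
    refine ⟨σ, Subgroup.mem_inf.mpr ⟨mem_KD.mpr ⟨hσ, hσd⟩, hσf 0 (by simp)⟩, by simp, hσb⟩
  · obtain ⟨σ, hσ, hσd, hσf, hσb⟩ := step_of_level hst m12B_ok2 a ha (by
      intro c hc
      simp only [List.mem_cons, List.not_mem_nil, or_false] at hc
      rcases hc with rfl | rfl
      · exact hne 0 (by norm_num)
      · exact h0)
    refine ⟨σ, Subgroup.mem_inf.mpr ⟨mem_KD.mpr ⟨hσ, hσd⟩, hσf 0 (by simp)⟩, ?_, hσb⟩
    intro i hi
    interval_cases i
    exact hσf 1 (by simp)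
  · obtain ⟨σ, hσ, hσd, hσf, hσb⟩ := step_of_level hst m12B_ok3 a ha (by
      intro c hc
      simp only [List.mem_cons, List.not_mem_nil, or_false] at hc
      rcases hc with rfl | rfl | rfl
      · exact hne 1 (by norm_num)
      · exact hne 0 (by norm_num)
      · exact h0)
    refine ⟨σ, Subgroup.mem_inf.mpr ⟨mem_KD.mpr ⟨hσ, hσd⟩, hσf 0 (by simp)⟩, ?_, hσb⟩
    intro i hi
    interval_cases i
    · exact hσf 1 (by simp)
    · exact hσf 5 (by simp)

/-- the stabilizer of the standard dodecad and of one of its points is 3-transitive on the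
complementary dodecad. -/
theorem KD0_three_trans (x y : Fin 3 ↪ GolayPt) (hx : ∀ i, x i ∈ suppM cdod0)
    (hy : ∀ i, y i ∈ suppM cdod0) : ∃ g ∈ KD0, ∀ i, g (x i) = y i :=
  trans_generic KD0 (suppM cdod0 : Set GolayPt)
    (fun g hg a ha => KD_maps_compl (Subgroup.mem_inf.mp hg).1 ha) cB m12B_step x y hx hy

end Cfsg.Agent.Helper9.Golay
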