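import Mathlib
import Cfsg.Prelude.Def_Sporadic_a
import Cfsg.Agent.Helper9.Golay.M12Chain

set_option autoImplicit false

/-!
Transitivity properties of the stabilizer of an arbitrary dodecad.
-/

namespace Cfsg.Agent.Helper9.Golay

open Cfsg
open scoped Pointwise

theorem mem_smul_finset_iff' (h : Equiv.Perm GolayPt) (s : Finset GolayPt) (a : GolayPt) :
    a ∈ h • s ↔ h⁻¹ a ∈ s := by
  constructor
  · intro ha
    obtain ⟨b, hb, rfl⟩ := Finset.mem_smul_finset.mp ha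
    simpa using hb
  · intro ha
    have : h (h⁻¹ a) = a := by simp
    rw [← this]
    exact Finset.smul_mem_smul_finset ha

theorem mem_cdod0_iff (a : GolayPt) : a ∈ suppM cdod0 ↔ a ∉ suppM dod0 := by
  rw [mem_suppM, mem_suppM, cdod0_eq, testBit_fullMask_xor _ (ptIdx_lt _)]
  simp

/-- every dodecad is the image of the standard one. -/
theorem exists_smul_dod0 {d : Finset GolayPt} (hd : d ∈ dodecads) :
    ∃ h ∈ M24, h • suppM dod0 = d := by
  obtain ⟨g, hg⟩ := transitive_dodecads dod0_mem hd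
  exact ⟨g.1, g.2, hg⟩

/-- conjugating an element of the stabilizer of the standard dodecad. -/
theorem conj_mem {h g : Equiv.Perm GolayPt} (hh : h ∈ M24) (hg : g ∈ KD) :
    h * g * h⁻¹ ∈ M24 ∧ (h * g * h⁻¹) • (h • suppM dod0) = h • suppM dod0 := by
  obtain ⟨hgM, hgd⟩ := mem_KD.mp hg
  refine ⟨M24.mul_mem (M24.mul_mem hh hgM) (M24.inv_mem hh), ?_⟩
  rw [mul_smul, mul_smul, inv_smul_smul, hgd]

theorem dodecad_five_trans {d : Finset GolayPt} (hd : d ∈ dodecads) (x y : Fin 5 ↪ GolayPt)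
    (hx : ∀ i, x i ∈ d) (hy : ∀ i, y i ∈ d) :
    ∃ g ∈ M24, g • d = d ∧ ∀ i, g (x i) = y i := by
  obtain ⟨h, hh, rfl⟩ := exists_smul_dod0 hd
  let x' : Fin 5 ↪ GolayPt := x.trans (Equiv.toEmbedding h⁻¹)
  let y' : Fin 5 ↪ GolayPt := y.trans (Equiv.toEmbedding h⁻¹)
  have hx' : ∀ i, x' i ∈ suppM dod0 := fun i => (mem_smul_finset_iff' h _ _).mp (hx i)
  have hy' : ∀ i, y' i ∈ suppM dod0 := fun i => (mem_smul_finset_iff' h _ _).mp (hy i)
  obtain ⟨g0, hg0, hg0xy⟩ := KD_five_trans x' y' hx' hy'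
  obtain ⟨h1, h2⟩ := conj_mem hh hg0
  refine ⟨h * g0 * h⁻¹, h1, h2, ?_⟩
  intro i
  have := hg0xy i
  simp only [x', y', Function.Embedding.trans_apply, Equiv.coe_toEmbedding] at this
  simp only [Equiv.Perm.mul_apply, this]
  simp

theorem dodecad_trans_pt {d : Finset GolayPt} (hd : d ∈ dodecads) {a b : GolayPt}
    (ha : a ∈ d) (hb : b ∈ d) : ∃ g ∈ M24, g • d = d ∧ g a = b := by
  obtain ⟨h, hh, rfl⟩ := exists_smul_dod0 hd
  have ha' : h⁻¹ a ∈ (suppM dod0 : Set GolayPt) := (mem_smul_finset_iff' h _ _).mp ha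
  have hb' : h⁻¹ b ∈ (suppM dod0 : Set GolayPt) := (mem_smul_finset_iff' h _ _).mp hb
  obtain ⟨σa, hσa, -, hσa0⟩ := m12A_step 0 (by norm_num) _ ha' (by simp)
  obtain ⟨σb, hσb, -, hσb0⟩ := m12A_step 0 (by norm_num) _ hb' (by simp)
  have hg0 : σb * σa⁻¹ ∈ KD := KD.mul_mem hσb (KD.inv_mem hσa)
  obtain ⟨h1, h2⟩ := conj_mem hh hg0
  refine ⟨h * (σb * σa⁻¹) * h⁻¹, h1, h2, ?_⟩
  simp only [Equiv.Perm.mul_apply]
  rw [← hσa0]
  simp only [Equiv.Perm.coe_inv, Equiv.symm_apply_apply]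
  have : σb (cA 0) = h⁻¹ b := hσb0
  rw [this]
  simp

theorem dodecad_pt_three_trans {d : Finset GolayPt} (hd : d ∈ dodecads) {p : GolayPt}
    (hp : p ∈ d) (x y : Fin 3 ↪ GolayPt) (hx : ∀ i, x i ∉ d) (hy : ∀ i, y i ∉ d) :
    ∃ g ∈ M24, g • d = d ∧ g p = p ∧ ∀ i, g (x i) = y i := by
  obtain ⟨h0, hh0, rfl⟩ := exists_smul_dod0 hd
  have hp' : h0⁻¹ p ∈ (suppM dod0 : Set GolayPt) := (mem_smul_finset_iff' h0 _ _).mp hp
  obtain ⟨σ, hσ, -, hσ0⟩ := m12A_step 0 (by norm_num) _ hp' (by simp)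
  -- replace `h0` by `h = h0 * σ`, which maps the base point to `p`
  obtain ⟨hσM, hσd⟩ := mem_KD.mp hσ
  have hh : h0 * σ ∈ M24 := M24.mul_mem hh0 hσM
  have hd' : (h0 * σ) • suppM dod0 = h0 • suppM dod0 := by rw [mul_smul, hσd]
  have hp0 : (h0 * σ) (idxPtN 0) = p := by
    rw [Equiv.Perm.mul_apply]
    have : σ (cA 0) = h0⁻¹ p := hσ0
    have h' : cA 0 = idxPtN 0 := rfl
    rw [← h', this]
    simp
  rw [← hd'] at hx hy ⊢
  generalize h0 * σ = h at hh hp0 hx hy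
  let x' : Fin 3 ↪ GolayPt := x.trans (Equiv.toEmbedding h⁻¹)
  let y' : Fin 3 ↪ GolayPt := y.trans (Equiv.toEmbedding h⁻¹)
  have hx' : ∀ i, x' i ∈ suppM cdod0 := fun i => by
    rw [mem_cdod0_iff]
    exact fun hc => hx i ((mem_smul_finset_iff' h _ _).mpr hc)
  have hy' : ∀ i, y' i ∈ suppM cdod0 := fun i => by
    rw [mem_cdod0_iff]
    exact fun hc => hy i ((mem_smul_finset_iff' h _ _).mpr hc)
  obtain ⟨g0, hg0, hg0xy⟩ := KD0_three_trans x' y' hx' hy'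
  obtain ⟨hg0K, hg0p⟩ := Subgroup.mem_inf.mp hg0
  obtain ⟨h1, h2⟩ := conj_mem hh hg0K
  refine ⟨h * g0 * h⁻¹, h1, h2, ?_, ?_⟩
  · simp only [Equiv.Perm.mul_apply]
    rw [← hp0]
    simp only [Equiv.Perm.coe_inv, Equiv.symm_apply_apply]
    have : g0 (idxPtN 0) = idxPtN 0 := hg0p
    rw [this]
  · intro i
    have := hg0xy i
    simp only [x', y', Function.Embedding.trans_apply, Equiv.coe_toEmbedding] at this
    simp only [Equiv.Perm.mul_apply, this]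
    simp

end Cfsg.Agent.Helper9.Golay
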