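import Mathlib
import Cfsg.Prelude.Def_Sporadic_a
import Cfsg.Agent.Helper9.Golay.M12Trans
import Cfsg.Agent.S0382

set_option autoImplicit false

/-!
Stabilizers of few points of a dodecad in the stabilizer of the dodecad.
-/

namespace Cfsg.Agent.Helper9.Golay

open Cfsg
open scoped Pointwise

theorem fullMask_mem : fullMask ∈ codeList := by decide +kernel

theorem suppM_fullMask_xor (m : ℕ) : suppM (fullMask ^^^ m) = (suppM m)ᶜ := by
  ext a
  rw [Finset.mem_compl, mem_suppM, mem_suppM, testBit_fullMask_xor _ (ptIdx_lt _)]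
  simp

theorem compl_mem_dodecads {d : Finset GolayPt} (hd : d ∈ dodecads) : dᶜ ∈ dodecads := by
  obtain ⟨m, hm, h12, rfl⟩ := (mem_dodecads_iff d).mp hd
  refine (mem_dodecads_iff _).mpr ⟨fullMask ^^^ m, xor_mem_codeList fullMask_mem hm, ?_,
    suppM_fullMask_xor m⟩
  rw [← card_suppM, suppM_fullMask_xor, Finset.card_compl, card_suppM, h12, card_golayPt]

theorem smul_finset_compl' (g : Equiv.Perm GolayPt) (s : Finset GolayPt) :
    g • sᶜ = (g • s)ᶜ := by
  rw [Finset.compl_eq_univ_sdiff, Finset.compl_eq_univ_sdiff, Finset.smul_finset_sdiff,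
    Finset.smul_finset_univ]

theorem smul_compl_eq_iff (g : Equiv.Perm GolayPt) (s : Finset GolayPt) :
    g • sᶜ = sᶜ ↔ g • s = s := by
  rw [smul_finset_compl', compl_inj_iff]

/-- an embedding of `Fin 3` from three distinct points. -/
def emb3 (a b c : GolayPt) (h : [a, b, c].Nodup) : Fin 3 ↪ GolayPt :=
  ⟨fun i => [a, b, c].get (i.cast (by simp)), by
    intro i j hij
    have := (List.Nodup.get_inj_iff h).mp hij
    exact Fin.ext (by simpa using congrArg Fin.val this)⟩

theorem nodup3 {a b c : GolayPt} (hab : a ≠ b) (hac : a ≠ c) (hbc : b ≠ c) :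
    [a, b, c].Nodup := by
  simp only [List.nodup_cons, List.mem_cons, List.not_mem_nil, or_false, not_or,
    List.nodup_nil, and_true, not_false_eq_true]
  exact ⟨⟨hab, hac⟩, hbc⟩

/-- the stabilizer of three points of a dodecad in its stabilizer is transitive on the
complement. -/
theorem three_stab_trans_compl {d : Finset GolayPt} (hd : d ∈ dodecads) {p q r : GolayPt}
    (hp : p ∈ d) (hq : q ∈ d) (hr : r ∈ d) (hpq : p ≠ q) (hpr : p ≠ r) (hqr : q ≠ r)
    {x y : GolayPt} (hx : x ∉ d) (hy : y ∉ d) :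
    ∃ g ∈ M24, g • d = d ∧ g p = p ∧ g q = q ∧ g r = r ∧ g x = y := by
  have hd' := compl_mem_dodecads hd
  have hx' : x ∈ dᶜ := Finset.mem_compl.mpr hx
  have hy' : y ∈ dᶜ := Finset.mem_compl.mpr hy
  obtain ⟨h, hh, hhd', hhx⟩ := dodecad_trans_pt hd' hx' hy'
  have hhd : h • d = d := (smul_compl_eq_iff h d).mp hhd'
  have hmem : ∀ a ∈ d, h a ∉ dᶜ := by
    intro a ha
    rw [Finset.mem_compl, not_not]
    rw [← hhd]
    exact Finset.smul_mem_smul_finset ha
  let X : Fin 3 ↪ GolayPt := emb3 (h p) (h q) (h r)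
    (nodup3 (fun e => hpq (h.injective e)) (fun e => hpr (h.injective e))
      (fun e => hqr (h.injective e)))
  let Y : Fin 3 ↪ GolayPt := emb3 p q r (nodup3 hpq hpr hqr)
  have hX : ∀ i, X i ∉ dᶜ := by
    intro i
    fin_cases i
    · exact hmem p hp
    · exact hmem q hq
    · exact hmem r hr
  have hY : ∀ i, Y i ∉ dᶜ := by
    intro i
    rw [Finset.mem_compl, not_not]
    fin_cases i
    · exact hp
    · exact hq
    · exact hr
  obtain ⟨g, hg, hgd', hgy, hgXY⟩ := dodecad_pt_three_trans hd' hy' X Y hX hY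
  have hgd : g • d = d := (smul_compl_eq_iff g d).mp hgd'
  refine ⟨g * h, M24.mul_mem hg hh, ?_, ?_, ?_, ?_, ?_⟩
  · rw [mul_smul, hhd, hgd]
  · exact hgXY 0
  · exact hgXY 1
  · exact hgXY 2
  · rw [Equiv.Perm.mul_apply, hhx, hgy]

/-- the stabilizer of a dodecad is `k`-transitive on it for `k ≤ 5`. -/
theorem dodecad_k_trans {d : Finset GolayPt} (hd : d ∈ dodecads) {k : ℕ} (hk : k ≤ 5)
    (x y : Fin k ↪ GolayPt) (hx : ∀ i, x i ∈ d) (hy : ∀ i, y i ∈ d) :
    ∃ g ∈ M24, g • d = d ∧ ∀ i, g (x i) = y i := by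
  classical
  have h12 : d.card = 12 := hd.2
  have hcard : 5 ≤ Nat.card ↥d := by
    rw [Nat.card_eq_fintype_card, Fintype.card_coe, h12]; norm_num
  let x' : Fin k ↪ ↥d := ⟨fun i => ⟨x i, hx i⟩, fun i j h => x.injective (Subtype.ext_iff.mp h)⟩
  let y' : Fin k ↪ ↥d := ⟨fun i => ⟨y i, hy i⟩, fun i j h => y.injective (Subtype.ext_iff.mp h)⟩
  obtain ⟨X, hX⟩ := Fin.Embedding.restrictSurjective_of_le_natCard hk hcard x'
  obtain ⟨Y, hY⟩ := Fin.Embedding.restrictSurjective_of_le_natCard hk hcard y'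
  obtain ⟨g, hg, hgd, hgXY⟩ := dodecad_five_trans hd (X.trans (Function.Embedding.subtype _))
    (Y.trans (Function.Embedding.subtype _)) (fun i => (X i).2) (fun i => (Y i).2)
  refine ⟨g, hg, hgd, ?_⟩
  intro i
  have h1 : (x i : GolayPt) = ((X (Fin.castLE hk i) : ↥d) : GolayPt) := by
    have := congrArg (fun f : Fin k ↪ ↥d => ((f i : ↥d) : GolayPt)) hX
    exact this.symm
  have h2 : (y i : GolayPt) = ((Y (Fin.castLE hk i) : ↥d) : GolayPt) := by
    have := congrArg (fun f : Fin k ↪ ↥d => ((f i : ↥d) : GolayPt)) hY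
    exact this.symm
  rw [h1, h2]
  exact hgXY (Fin.castLE hk i)

/-- the order of the stabilizer of three points of a dodecad in its stabilizer. -/
theorem card_three_stab {d : Finset GolayPt} (hd : d ∈ dodecads) {p q r : GolayPt}
    (hp : p ∈ d) (hq : q ∈ d) (hr : r ∈ d) (hpq : p ≠ q) (hpr : p ≠ r) (hqr : q ≠ r) :
    Nat.card ↥(MulAction.stabilizer M24 d ⊓ MulAction.stabilizer M24 p ⊓
      MulAction.stabilizer M24 q ⊓ MulAction.stabilizer M24 r) = 72 := by
  classical
  let t0 : Fin 3 ↪ GolayPt := emb3 p q r (nodup3 hpq hpr hqr)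
  have h := card_eq_orbit_mul (MulAction.stabilizer M24 d) t0
  rw [Cfsg.Agent.S0382.result d hd] at h
  have hJ : (MulAction.stabilizer M24 d ⊓ MulAction.stabilizer M24 t0 : Subgroup M24) =
      MulAction.stabilizer M24 d ⊓ MulAction.stabilizer M24 p ⊓
      MulAction.stabilizer M24 q ⊓ MulAction.stabilizer M24 r := by
    ext g
    simp only [Subgroup.mem_inf, MulAction.mem_stabilizer_iff]
    constructor
    · rintro ⟨h1, h2⟩
      have e := fun i => congrArg (fun f : Fin 3 ↪ GolayPt => f i) h2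
      exact ⟨⟨⟨h1, e 0⟩, e 1⟩, e 2⟩
    · rintro ⟨⟨⟨h1, h2⟩, h3⟩, h4⟩
      refine ⟨h1, ?_⟩
      apply Function.Embedding.ext
      intro i
      fin_cases i
      · exact h2
      · exact h3
      · exact h4
  rw [hJ] at h
  have horb : MulAction.orbit (MulAction.stabilizer M24 d) t0 =
      {t : Fin 3 ↪ GolayPt | ∀ i, t i ∈ d} := by
    ext t
    constructor
    · rintro ⟨g, rfl⟩ i
      have hg : (g : M24) • d = d := g.2
      have h0 : t0 i ∈ d := by
        fin_cases i
        · exact hp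
        · exact hq
        · exact hr
      have : (g : M24) • (t0 i) ∈ (g : M24) • d := Finset.smul_mem_smul_finset h0
      rw [hg] at this
      exact this
    · intro ht
      obtain ⟨g, hg, hgd, hgt⟩ := dodecad_k_trans hd (by norm_num : 3 ≤ 5) t0 t (by
        intro i
        fin_cases i
        · exact hp
        · exact hq
        · exact hr) ht
      refine ⟨⟨⟨g, hg⟩, hgd⟩, ?_⟩
      apply Function.Embedding.ext
      intro i
      exact hgt i
  have hcount : {t : Fin 3 ↪ GolayPt | ∀ i, t i ∈ d}.ncard = 1320 := by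
    have e : {t : Fin 3 ↪ GolayPt | ∀ i, t i ∈ d} ≃ (Fin 3 ↪ ↥d) :=
      { toFun := fun z => ⟨fun i => ⟨z.1 i, z.2 i⟩, fun i j h => z.1.injective (Subtype.ext_iff.mp h)⟩
        invFun := fun w => ⟨w.trans (Function.Embedding.subtype _), fun i => (w i).2⟩
        left_inv := fun z => by
          apply Subtype.ext
          apply Function.Embedding.ext
          intro i
          rfl
        right_inv := fun w => by
          apply Function.Embedding.ext
          intro i
          rfl }
    rw [← Nat.card_coe_set_eq, Nat.card_congr e, Nat.card_eq_fintype_card,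
      Fintype.card_embedding_eq, Fintype.card_coe, hd.2, Fintype.card_fin]
    decide
  have hcount' : (MulAction.orbit (MulAction.stabilizer M24 d) t0).ncard = 1320 := by
    rw [horb, hcount]
  have h' : 95040 = 1320 * Nat.card ↥(MulAction.stabilizer M24 d ⊓ MulAction.stabilizer M24 p ⊓
      MulAction.stabilizer M24 q ⊓ MulAction.stabilizer M24 r) := by
    rw [← hcount']
    exact h
  omega

end Cfsg.Agent.Helper9.Golay
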