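import Mathlib
import Cfsg.Prelude.Def_Sporadic_a
import Cfsg.Agent.Helper9.Golay.M24Trans

set_option autoImplicit false

/-!
Transitivity of the group of the length-24 code on lists of at most five distinct points.
-/

namespace Cfsg.Agent.Helper9.Golay

open Cfsg
open scoped Pointwise

theorem m24_k_trans {k : ℕ} (hk : k ≤ 5) (x y : Fin k ↪ GolayPt) :
    ∃ g ∈ M24, ∀ i, g (x i) = y i := by
  have hcard : 5 ≤ Nat.card GolayPt := by
    rw [Nat.card_eq_fintype_card, card_golayPt]; norm_num
  obtain ⟨X, hX⟩ := Fin.Embedding.restrictSurjective_of_le_natCard hk hcard x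
  obtain ⟨Y, hY⟩ := Fin.Embedding.restrictSurjective_of_le_natCard hk hcard y
  obtain ⟨g, hg, hgXY⟩ := m24_five_trans X Y
  refine ⟨g, hg, ?_⟩
  intro i
  have h1 : x i = X (Fin.castLE hk i) := by
    have := congrArg (fun f : Fin k ↪ GolayPt => f i) hX
    exact this.symm
  have h2 : y i = Y (Fin.castLE hk i) := by
    have := congrArg (fun f : Fin k ↪ GolayPt => f i) hY
    exact this.symm
  rw [h1, h2]
  exact hgXY _

theorem m24_map_list (l l' : List GolayPt) (hl : l.Nodup) (hl' : l'.Nodup)
    (hlen : l.length = l'.length) (h5 : l.length ≤ 5) : ∃ g ∈ M24, l.map g = l' := by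
  let x : Fin l.length ↪ GolayPt := ⟨l.get, List.nodup_iff_injective_get.mp hl⟩
  let y : Fin l.length ↪ GolayPt := ⟨fun i => l'.get (i.cast hlen), by
    intro i j hij
    have := List.nodup_iff_injective_get.mp hl' hij
    exact Fin.ext (by simpa using congrArg Fin.val this)⟩
  obtain ⟨g, hg, hgxy⟩ := m24_k_trans h5 x y
  refine ⟨g, hg, ?_⟩
  apply List.ext_get
  · rw [List.length_map, hlen]
  · intro n h1 h2
    rw [List.length_map] at h1
    have := hgxy ⟨n, h1⟩
    simp only [List.get_eq_getElem, List.getElem_map]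
    exact this

end Cfsg.Agent.Helper9.Golay
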