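import Mathlib
import Cfsg.Prelude.Def_Sporadic_a
import Cfsg.Agent.Helper9.Golay.OctPairs
import Cfsg.Agent.Helper9.Golay.Inter
import Cfsg.Agent.Helper9.Golay.M24Trans

set_option autoImplicit false

/-!
Orders of the stabilizer of an octad and of the joint stabilizer of two octads.
-/

namespace Cfsg.Agent.Helper9.Golay

open Cfsg
open scoped Pointwise

theorem ncard_octads : octads.ncard = 759 := by
  unfold octads
  rw [ncard_wordsOfWeight]
  exact count_weight8

theorem card_stab_octad {o : Finset GolayPt} (ho : o ∈ octads) :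
    Nat.card (MulAction.stabilizer M24 o) = 322560 := by
  have hcard := Subgroup.card_mul_index (MulAction.stabilizer M24 o)
  rw [MulAction.index_stabilizer, card_M24] at hcard
  have horb : MulAction.orbit M24 o = octads := by
    ext o'
    constructor
    · rintro ⟨g, rfl⟩
      exact smul_mem_wordsOfWeight g.2 ho
    · intro ho'
      obtain ⟨g, hg⟩ := transitive_octads ho ho'
      exact ⟨g, hg⟩
  rw [horb, ncard_octads] at hcard
  omega

theorem oct_oct_0 : ((codeList.filter (fun m => popc m == 8)).filter
    (fun a => popc (a &&& 5279) == 0)).length = 30 := by decide +kernel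
theorem oct_oct_4 : ((codeList.filter (fun m => popc m == 8)).filter
    (fun a => popc (a &&& 5279) == 4)).length = 280 := by decide +kernel
theorem oct_oct_2 : ((codeList.filter (fun m => popc m == 8)).filter
    (fun a => popc (a &&& 5279) == 2)).length = 448 := by decide +kernel

theorem ncard_inter_octad (k : ℕ) {o : Finset GolayPt} (ho : o ∈ octads) :
    {o' : Finset GolayPt | o' ∈ octads ∧ (o ∩ o').card = k}.ncard
      = ((codeList.filter (fun m => popc m == 8)).filter
        (fun a => popc (a &&& 5279) == k)).length := by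
  obtain ⟨g, hg⟩ := transitive_octads oct5279_mem ho
  have : {o' : Finset GolayPt | o' ∈ octads ∧ (o ∩ o').card = k}
      = {o' : Finset GolayPt | o' ∈ wordsOfWeight (golayCode : Set (GolayPt → ZMod 2)) 8 ∧
        (o' ∩ g.1 • suppM 5279).card = k} := by
    ext o'
    simp only [Set.mem_setOf_eq]
    have : (g.1 • suppM 5279 : Finset GolayPt) = o := hg
    rw [this, Finset.inter_comm]
    rfl
  rw [this, ncard_inter_smul 8 k g.1 g.2, ncard_inter_mask]

theorem joint_stab_octads {o o' : Finset GolayPt} (ho : o ∈ octads) (ho' : o' ∈ octads) :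
    322560 = {o'' : Finset GolayPt | o'' ∈ octads ∧ (o ∩ o'').card = (o ∩ o').card}.ncard *
      Nat.card ↥(MulAction.stabilizer M24 o ⊓ MulAction.stabilizer M24 o') := by
  have hos := card_eq_orbit_mul (MulAction.stabilizer M24 o) o'
  rw [card_stab_octad ho] at hos
  have horb : MulAction.orbit (MulAction.stabilizer M24 o) o'
      = {o'' : Finset GolayPt | o'' ∈ octads ∧ (o ∩ o'').card = (o ∩ o').card} := by
    ext o''
    constructor
    · rintro ⟨g, rfl⟩
      have hg : (g : M24) • o = o := g.2
      refine ⟨smul_mem_wordsOfWeight (g : M24).2 ho', ?_⟩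
      have h1 : ((g : M24) • o ∩ (g : M24) • o').card = (o ∩ o').card := by
        rw [← Finset.smul_finset_inter]
        exact card_smul_finset _ _
      rw [hg] at h1
      exact h1
    · rintro ⟨ho'', hc⟩
      obtain ⟨g, hg, hgo, hgo'⟩ := octad_pair_conj ho ho' ho'' hc.symm
      exact ⟨⟨⟨g, hg⟩, hgo⟩, hgo'⟩
  rw [horb] at hos
  exact hos

end Cfsg.Agent.Helper9.Golay
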