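import Mathlib
import Cfsg.Prelude.Def_Sporadic_a

set_option autoImplicit false

/-!
Restriction of permutations stabilizing a finite set to that set, as a group homomorphism.
-/

namespace Cfsg.Agent.Helper9.Golay

open Cfsg
open scoped Pointwise

theorem apply_mem_iff_of_smul_eq {g : Equiv.Perm GolayPt} {E : Finset GolayPt} (h : g • E = E)
    (x : GolayPt) : g x ∈ E ↔ x ∈ E := by
  conv_lhs => rw [← h]
  exact Finset.smul_mem_smul_finset_iff g

/-- restriction to a stabilized finite set. -/
def restrictHom (E : Finset GolayPt) :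
    ↥(MulAction.stabilizer (Equiv.Perm GolayPt) E) →* Equiv.Perm ↥E where
  toFun g := Equiv.Perm.subtypePerm g.1 (fun x => apply_mem_iff_of_smul_eq g.2 x)
  map_one' := by
    apply Equiv.ext
    intro x
    rfl
  map_mul' := by
    intro a b
    apply Equiv.ext
    intro x
    rfl

theorem restrictHom_apply (E : Finset GolayPt) (g : ↥(MulAction.stabilizer (Equiv.Perm GolayPt) E))
    (x : ↥E) : ((restrictHom E g x : ↥E) : GolayPt) = g.1 x.1 := rfl

/-- the stabilizer in the group of the code maps to the full stabilizer. -/
def stabToPerm (E : Finset GolayPt) :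
    ↥(MulAction.stabilizer M24 E) →* ↥(MulAction.stabilizer (Equiv.Perm GolayPt) E) where
  toFun g := ⟨g.1.1, g.2⟩
  map_one' := rfl
  map_mul' := fun _ _ => rfl

/-- restriction for a subgroup of the group of the code stabilizing the set. -/
def restrictOf (E : Finset GolayPt) (J : Subgroup M24) (hJ : J ≤ MulAction.stabilizer M24 E) :
    ↥J →* Equiv.Perm ↥E :=
  ((restrictHom E).comp (stabToPerm E)).comp (Subgroup.inclusion hJ)

theorem restrictOf_apply (E : Finset GolayPt) (J : Subgroup M24)
    (hJ : J ≤ MulAction.stabilizer M24 E) (g : ↥J) (x : ↥E) :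
    ((restrictOf E J hJ g x : ↥E) : GolayPt) = ((g : M24) : Equiv.Perm GolayPt) x.1 := rfl

/-- a permutation of a six-element type fixing five points is trivial. -/
theorem perm_eq_one_of_fix {α : Type*} [Fintype α] [DecidableEq α] (f : Equiv.Perm α)
    (s : Finset α) (hs : Fintype.card α ≤ s.card + 1) (hfix : ∀ x ∈ s, f x = x) : f = 1 := by
  have hsub : f.support ⊆ sᶜ := by
    intro x hx
    rw [Finset.mem_compl]
    intro hxs
    exact (Equiv.Perm.mem_support.mp hx) (hfix x hxs)
  have hle : f.support.card ≤ 1 := by
    have h1 := Finset.card_le_card hsub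
    rw [Finset.card_compl] at h1
    omega
  have hne := Equiv.Perm.card_support_ne_one f
  have h0 : f.support.card = 0 := by omega
  exact Equiv.Perm.card_support_eq_zero.mp h0

end Cfsg.Agent.Helper9.Golay
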