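import Mathlib
import Cfsg.Prelude.Def_Sporadic_a
import Cfsg.Agent.Helper9.Golay.M24Trans

set_option autoImplicit false

/-!
The pointwise stabilizer of an octad in the group of the length-24 code.
-/

namespace Cfsg.Agent.Helper9.Golay

open Cfsg
open scoped Pointwise

/-- the stabilizer of the six base points inside the standard octad. -/
def K6 : Subgroup (Equiv.Perm GolayPt) := M24 ⊓ fixL (([7, 4, 3, 2, 1, 0] : List ℕ).map idxPtN)

/-- the stabilizer of the seven base points. -/
def K7 : Subgroup (Equiv.Perm GolayPt) := M24 ⊓ fixL (([5, 7, 4, 3, 2, 1, 0] : List ℕ).map idxPtN)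

theorem K7_eq_bot : K7 = ⊥ := by
  rw [eq_bot_iff]
  intro g hg
  have hgM := (Subgroup.mem_inf.mp hg).1
  have hF := fixes_of_mem_fixL (Subgroup.mem_inf.mp hg).2
  have h191 : maskOf [5, 7, 4, 3, 2, 1, 0] = 191 := by decide
  rw [h191] at hF
  rw [Subgroup.mem_bot]
  exact eq_one_of_runProp hgM (extra := []) (by simp) m24Prop 191 m24Prop_ok hF

/-- the certificate of the last level. -/
def cert6 : List (ℕ × ℕ) := (m24Levels.getD 6 default).2

theorem m24_lv6 : levelOK m24Tables [7, 4, 3, 2, 1, 0] 5 cert6 = true := by decide +kernel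

theorem cert6_cover : (List.range 24).all
    (fun j => (5279 : ℕ).testBit j || (cert6.map Prod.fst).contains j) = true := by decide +kernel

theorem cert6_tables : cert6.all (fun e =>
    (m24Tables.getD e.2 idT).getD 10 0 == 10 && (m24Tables.getD e.2 idT).getD 12 0 == 12 &&
      mulT (m24Tables.getD e.2 idT) (m24Tables.getD e.2 idT) == idT) = true := by decide +kernel

/-- every element of `K6` is one of the sixteen elements of the certificate. -/
theorem K6_table {g : Equiv.Perm GolayPt} (hg : g ∈ K6) :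
    ∃ e ∈ cert6, IsTbl g (m24Tables.getD e.2 idT) := by
  have hst := goodT_m24Tables M24 stepPerm_mem
  have hgM := (Subgroup.mem_inf.mp hg).1
  have hF := fixes_of_mem_fixL (Subgroup.mem_inf.mp hg).2
  -- the image of the seventh base point is outside the octad
  have heq : g • suppM 5279 = suppM 5279 :=
    smul_octad_eq hgM hF oct0_mem (by decide) (by decide)
  have hout : (5279 : ℕ).testBit (ptIdx (g (idxPtN 5))) = false := by
    by_contra hcon
    rw [Bool.not_eq_false, ← mem_suppM, ← heq] at hcon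
    have h5 : idxPtN 5 ∈ suppM 5279 := (Finset.smul_mem_smul_finset_iff g).mp hcon
    rw [mem_suppM] at h5
    exact absurd h5 (by decide)
  have hcov := List.all_eq_true.mp cert6_cover (ptIdx (g (idxPtN 5)))
    (List.mem_range.mpr (ptIdx_lt _))
  rw [hout, Bool.false_or, List.contains_eq_mem, decide_eq_true_eq, List.mem_map] at hcov
  obtain ⟨e, he, hea⟩ := hcov
  refine ⟨e, he, ?_⟩
  -- the element of the certificate
  have hlv := m24_lv6
  unfold levelOK at hlv
  simp only [Bool.and_eq_true, List.all_eq_true, decide_eq_true_eq, beq_iff_eq] at hlv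
  obtain ⟨⟨hbase, hb⟩, hcert⟩ := hlv
  obtain ⟨⟨he1, hfix⟩, hmap⟩ := hcert e he
  obtain ⟨σ, hσ, hσt⟩ := hst.getD e.2
  have hσfix : σ ∈ fixL (([7, 4, 3, 2, 1, 0] : List ℕ).map idxPtN) := by
    rw [mem_fixL]
    intro p hp
    rw [List.mem_map] at hp
    obtain ⟨c, hc, rfl⟩ := hp
    rw [hσt.apply_idx (hbase c hc)]
    unfold fixesAll at hfix
    simp only [List.all_eq_true, beq_iff_eq] at hfix
    rw [hfix c hc]
  have hσ5 : σ (idxPtN 5) = g (idxPtN 5) := by
    rw [hσt.apply_idx hb, hmap, hea, idxPtN_ptIdx]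
  -- `σ⁻¹ * g` fixes all seven base points
  have hmem : σ⁻¹ * g ∈ K7 := by
    refine Subgroup.mem_inf.mpr ⟨M24.mul_mem (M24.inv_mem hσ) hgM, ?_⟩
    rw [mem_fixL]
    intro p hp
    rw [List.map_cons, List.mem_cons] at hp
    rw [Equiv.Perm.mul_apply]
    rcases hp with rfl | hp
    · rw [← hσ5]
      simp
    · have h1 := mem_fixL.mp (Subgroup.mem_inf.mp hg).2 p hp
      have h2 := mem_fixL.mp hσfix p hp
      rw [h1]
      nth_rewrite 1 [← h2]
      simp
  rw [K7_eq_bot, Subgroup.mem_bot] at hmem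
  have : g = σ := by
    have := congrArg (fun x => σ * x) hmem
    simpa using this
  rw [this]
  exact hσt

theorem K6_sq {g : Equiv.Perm GolayPt} (hg : g ∈ K6) : g * g = 1 := by
  obtain ⟨e, he, ht⟩ := K6_table hg
  have hc := List.all_eq_true.mp cert6_tables e he
  simp only [Bool.and_eq_true, beq_iff_eq] at hc
  have h2 := ht.mul ht
  rw [hc.2] at h2
  exact h2.eq_of_eq isTbl_one

theorem K6_fix {g : Equiv.Perm GolayPt} (hg : g ∈ K6) :
    g (idxPtN 10) = idxPtN 10 ∧ g (idxPtN 12) = idxPtN 12 := by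
  obtain ⟨e, he, ht⟩ := K6_table hg
  have hc := List.all_eq_true.mp cert6_tables e he
  simp only [Bool.and_eq_true, beq_iff_eq] at hc
  constructor
  · rw [ht.apply_idx (by norm_num), hc.1.1]
  · rw [ht.apply_idx (by norm_num), hc.1.2]

theorem tail_ok : chainOK m24Tables [7, 4, 3, 2, 1, 0] (m24Levels.drop 6) = true := by
  decide +kernel

theorem card_K6 : Nat.card K6 = 16 := by
  apply le_antisymm
  · have l7 : Nat.card K6 ≤ popc (fullMask ^^^ 5279) * Nat.card K7 := by
      unfold K6 K7
      apply card_le_of_mask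
      intro g hg
      have hgM := (Subgroup.mem_inf.mp hg).1
      have hF := fixes_of_mem_fixL (Subgroup.mem_inf.mp hg).2
      have heq : g • suppM 5279 = suppM 5279 :=
        smul_octad_eq hgM hF oct0_mem (by decide) (by decide)
      rw [testBit_fullMask_xor _ (ptIdx_lt _), Bool.not_eq_true']
      by_contra hcon
      rw [Bool.not_eq_false, ← mem_suppM, ← heq] at hcon
      have h5 : idxPtN 5 ∈ suppM 5279 := (Finset.smul_mem_smul_finset_iff g).mp hcon
      rw [mem_suppM] at h5
      exact absurd h5 (by decide)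
    rw [K7_eq_bot, Subgroup.card_bot] at l7
    have p7 : popc (fullMask ^^^ 5279) = 16 := by decide
    rw [p7] at l7
    omega
  · have h1 := chain_lower (goodT_m24Tables M24 stepPerm_mem) (m24Levels.drop 6)
      [7, 4, 3, 2, 1, 0] tail_ok
    have h2 : chainBound (m24Levels.drop 6) = 16 := by decide +kernel
    rw [h2] at h1
    exact h1

/-- the pointwise stabilizer of the standard octad is `K6`. -/
theorem fix_oct0_eq : M24 ⊓ fixingSubgroup (Equiv.Perm GolayPt) ((suppM 5279 : Finset GolayPt) : Set GolayPt)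
    = K6 := by
  ext g
  simp only [Subgroup.mem_inf, mem_fixingSubgroup_iff, Finset.mem_coe, Equiv.Perm.smul_def]
  constructor
  · rintro ⟨hgM, hfix⟩
    refine Subgroup.mem_inf.mpr ⟨hgM, ?_⟩
    rw [mem_fixL]
    intro p hp
    apply hfix
    rw [mem_suppM]
    simp only [List.map_cons, List.map_nil, List.mem_cons, List.not_mem_nil, or_false] at hp
    rcases hp with rfl | rfl | rfl | rfl | rfl | rfl <;> decide
  · intro hg
    refine ⟨(Subgroup.mem_inf.mp hg).1, ?_⟩
    intro p hp
    rw [mem_suppM] at hp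
    have hfixL := mem_fixL.mp (Subgroup.mem_inf.mp hg).2
    have h1012 := K6_fix hg
    have hp24 := ptIdx_lt p
    have hpp := idxPtN_ptIdx p
    generalize ptIdx p = j at hp hp24 hpp
    interval_cases j
    all_goals first
      | exact absurd hp (by decide)
      | (rw [← hpp]; exact h1012.1)
      | (rw [← hpp]; exact h1012.2)
      | (rw [← hpp]; apply hfixL; simp)

/-- conjugation carries the pointwise stabilizer of `s` to that of `h • s`. -/
theorem mem_fix_smul_iff {h : Equiv.Perm GolayPt} (hh : h ∈ M24) (s : Finset GolayPt)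
    (g : Equiv.Perm GolayPt) :
    g ∈ M24 ⊓ fixingSubgroup (Equiv.Perm GolayPt) ((h • s : Finset GolayPt) : Set GolayPt) ↔
      h⁻¹ * g * h ∈ M24 ⊓ fixingSubgroup (Equiv.Perm GolayPt) ((s : Finset GolayPt) : Set GolayPt) := by
  simp only [Subgroup.mem_inf, mem_fixingSubgroup_iff, Finset.mem_coe, Equiv.Perm.smul_def]
  constructor
  · rintro ⟨hgM, hfix⟩
    refine ⟨M24.mul_mem (M24.mul_mem (M24.inv_mem hh) hgM) hh, ?_⟩
    intro x hx
    have := hfix (h x) (Finset.smul_mem_smul_finset hx)
    simp only [Equiv.Perm.mul_apply, this, Equiv.Perm.coe_inv, Equiv.symm_apply_apply]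
  · rintro ⟨hgM, hfix⟩
    constructor
    · have := M24.mul_mem (M24.mul_mem hh hgM) (M24.inv_mem hh)
      simpa [mul_assoc] using this
    · intro y hy
      obtain ⟨x, hx, rfl⟩ := Finset.mem_smul_finset.mp hy
      have := hfix x hx
      simp only [Equiv.Perm.mul_apply, Equiv.Perm.coe_inv] at this
      have h2 := congrArg h this
      simpa using h2

theorem oct_fix_card_sq {o : Finset GolayPt} (ho : o ∈ octads) :
    Nat.card ↥(M24 ⊓ fixingSubgroup (Equiv.Perm GolayPt) (o : Set GolayPt)) = 16 ∧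
      ∀ g ∈ M24 ⊓ fixingSubgroup (Equiv.Perm GolayPt) (o : Set GolayPt), g * g = 1 := by
  have h0 : suppM 5279 ∈ octads := (mem_octads_iff _).mpr ⟨5279, oct0_mem, by decide, rfl⟩
  obtain ⟨h, rfl⟩ := transitive_octads h0 ho
  have hh : (h : Equiv.Perm GolayPt) ∈ M24 := h.2
  have hsm : (h • suppM 5279 : Finset GolayPt) = (h : Equiv.Perm GolayPt) • suppM 5279 := rfl
  rw [hsm]
  constructor
  · rw [← card_K6, ← fix_oct0_eq]
    apply Nat.card_congr
    refine ⟨fun g => ⟨(h : Equiv.Perm GolayPt)⁻¹ * g.1 * h, (mem_fix_smul_iff hh _ _).mp g.2⟩,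
      fun g => ⟨(h : Equiv.Perm GolayPt) * g.1 * (h : Equiv.Perm GolayPt)⁻¹,
        (mem_fix_smul_iff hh _ _).mpr (by
          have : (h : Equiv.Perm GolayPt)⁻¹ * ((h : Equiv.Perm GolayPt) * g.1 *
              (h : Equiv.Perm GolayPt)⁻¹) * h = g.1 := by group
          rw [this]; exact g.2)⟩, ?_, ?_⟩
    · intro g
      apply Subtype.ext
      simp only
      group
    · intro g
      apply Subtype.ext
      simp only
      group
  · intro g hg
    have h1 := (mem_fix_smul_iff hh _ _).mp hg
    rw [fix_oct0_eq] at h1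
    have h2 := K6_sq h1
    have h3 : g * g = (h : Equiv.Perm GolayPt) * (((h : Equiv.Perm GolayPt)⁻¹ * g * h) *
        ((h : Equiv.Perm GolayPt)⁻¹ * g * h)) * (h : Equiv.Perm GolayPt)⁻¹ := by group
    rw [h3, h2]
    group

end Cfsg.Agent.Helper9.Golay
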