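import Mathlib
import Cfsg.Prelude.Def_Sporadic_a
import Cfsg.Agent.Helper9.Golay.OctFix
import Cfsg.Agent.Helper9.Golay.OctPairs

set_option autoImplicit false

/-!
The stabilizer of five points of the standard octad, and standard forms for six points.
-/

namespace Cfsg.Agent.Helper9.Golay

open Cfsg
open scoped Pointwise

theorem level_trans' {H : Subgroup (Equiv.Perm GolayPt)} {st : List (List ℕ)} (hst : GoodT H st)
    {base : List ℕ} {b : ℕ} {cert : List (ℕ × ℕ)} (h : levelOK st base b cert = true)
    (a : GolayPt) (ha : ptIdx a ∈ cert.map Prod.fst) :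
    ∃ σ ∈ H ⊓ fixL (base.map idxPtN), σ (idxPtN b) = a := by
  rw [List.mem_map] at ha
  obtain ⟨e, he, hea⟩ := ha
  obtain ⟨-, σ, hσ, hσb⟩ := levelOK_sound hst h e he
  refine ⟨σ, hσ, ?_⟩
  rw [hσb, hea, idxPtN_ptIdx]

theorem mem_suppM_idx' {m i : ℕ} (hi : i < 24) : idxPtN i ∈ suppM m ↔ m.testBit i = true := by
  rw [mem_suppM, ptIdx_idxPtN hi]

/-- the stabilizer of five points of the standard octad. -/
def K5 : Subgroup (Equiv.Perm GolayPt) := M24 ⊓ fixL (([4, 3, 2, 1, 0] : List ℕ).map idxPtN)

/-- the stabilizer of five points of the standard octad and a point outside. -/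
def K5' : Subgroup (Equiv.Perm GolayPt) :=
  M24 ⊓ fixL (([5, 4, 3, 2, 1, 0] : List ℕ).map idxPtN)

def cert5 : List (ℕ × ℕ) := (m24Levels.getD 5 default).2

theorem m24_lv5 : levelOK m24Tables [4, 3, 2, 1, 0] 7 cert5 = true := by decide +kernel

theorem m24_lv6' : levelOK m24Tables [4, 3, 2, 1, 0] 5 cert6 = true := by decide +kernel

theorem cert5_cover : (List.range 24).all
    (fun j => !(5279 : ℕ).testBit j || decide (j < 5) || (cert5.map Prod.fst).contains j) = true := by
  decide +kernel

theorem K5_smul_oct0 {g : Equiv.Perm GolayPt} (hg : g ∈ K5) : g • suppM 5279 = suppM 5279 := by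
  have hgM := (Subgroup.mem_inf.mp hg).1
  have hF := fixes_of_mem_fixL (Subgroup.mem_inf.mp hg).2
  exact smul_octad_eq hgM hF oct0_mem (by decide) (by decide)

theorem K5_fix {g : Equiv.Perm GolayPt} (hg : g ∈ K5) {i : ℕ} (hi : i < 5) :
    g (idxPtN i) = idxPtN i := by
  apply mem_fixL.mp (Subgroup.mem_inf.mp hg).2
  interval_cases i <;> simp

theorem K5_trans_in (a : GolayPt) (ha : a ∈ suppM 5279) (hne : ∀ i < 5, a ≠ idxPtN i) :
    ∃ σ ∈ K5, σ (idxPtN 7) = a := by
  have hst := goodT_m24Tables M24 stepPerm_mem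
  have hc := List.all_eq_true.mp cert5_cover (ptIdx a) (List.mem_range.mpr (ptIdx_lt a))
  rw [mem_suppM] at ha
  rw [ha] at hc
  simp only [Bool.not_true, Bool.false_or, Bool.or_eq_true, decide_eq_true_eq,
    List.contains_eq_mem] at hc
  rcases hc with h | h
  · exact absurd (idxPtN_ptIdx a).symm (hne (ptIdx a) h)
  · exact level_trans' hst m24_lv5 a h

theorem K5_trans_out (a : GolayPt) (ha : a ∉ suppM 5279) : ∃ σ ∈ K5, σ (idxPtN 5) = a := by
  have hst := goodT_m24Tables M24 stepPerm_mem
  have hc := List.all_eq_true.mp cert6_cover (ptIdx a) (List.mem_range.mpr (ptIdx_lt a))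
  rw [mem_suppM, Bool.not_eq_true] at ha
  rw [ha] at hc
  simp only [Bool.false_or, List.contains_eq_mem, decide_eq_true_eq] at hc
  exact level_trans' hst m24_lv6' a hc

theorem tail_ok5 : chainOK m24Tables [4, 3, 2, 1, 0] (m24Levels.drop 5) = true := by
  decide +kernel

theorem card_K5 : Nat.card K5 = 48 := by
  apply le_antisymm
  · have l6 : Nat.card K5 ≤ popc 5248 * Nat.card K6 := by
      unfold K5 K6
      apply card_le_of_mask
      intro g hg
      have heq := K5_smul_oct0 hg
      have h7 : g (idxPtN 7) ∈ suppM 5279 := by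
        rw [← heq]
        exact Finset.smul_mem_smul_finset ((mem_suppM_idx' (by norm_num)).mpr (by decide))
      rw [mem_suppM] at h7
      have hne : ∀ i < 5, g (idxPtN 7) ≠ idxPtN i := by
        intro i hi hcon
        rw [← K5_fix hg hi] at hcon
        have := idxPtN_injOn (by norm_num) (by omega) (g.injective hcon)
        omega
      have hlt := ptIdx_lt (g (idxPtN 7))
      have hne' : ∀ i < 5, ptIdx (g (idxPtN 7)) ≠ i := by
        intro i hi hcon
        apply hne i hi
        rw [← hcon, idxPtN_ptIdx]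
      generalize ptIdx (g (idxPtN 7)) = j at h7 hlt hne'
      have h0 := hne' 0 (by norm_num)
      have h1 := hne' 1 (by norm_num)
      have h2 := hne' 2 (by norm_num)
      have h3 := hne' 3 (by norm_num)
      have h4 := hne' 4 (by norm_num)
      interval_cases j <;> first | omega | exact absurd h7 (by decide) | decide
    rw [card_K6] at l6
    have p : popc 5248 = 3 := by decide
    rw [p] at l6
    omega
  · have h1 := chain_lower (goodT_m24Tables M24 stepPerm_mem) (m24Levels.drop 5)
      [4, 3, 2, 1, 0] tail_ok5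
    have h2 : chainBound (m24Levels.drop 5) = 48 := by decide +kernel
    rw [h2] at h1
    exact h1

theorem cert6_nodup : (cert6.map Prod.fst).Nodup ∧ cert6.length = 16
    ∧ cert6.all (fun e => decide (e.1 < 24)) = true := by decide +kernel

theorem card_K5' : Nat.card K5' = 3 := by
  have hst := goodT_m24Tables M24 stepPerm_mem
  have h := card_eq_orbit_mul K5 (idxPtN 5)
  have hK : (K5 ⊓ MulAction.stabilizer (Equiv.Perm GolayPt) (idxPtN 5) :
      Subgroup (Equiv.Perm GolayPt)) = K5' := by
    unfold K5 K5'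
    conv_rhs => rw [List.map_cons, inf_fixL_cons]
  rw [hK, card_K5] at h
  have horb : (MulAction.orbit K5 (idxPtN 5)).ncard = 16 := by
    apply le_antisymm
    · have := ncard_orbit_le (K := K5) (b := idxPtN 5) (suppM (fullMask ^^^ 5279)) (by
        intro g hg
        rw [mem_suppM, testBit_fullMask_xor _ (ptIdx_lt _), Bool.not_eq_true', ← Bool.not_eq_true,
          ← mem_suppM, ← K5_smul_oct0 hg]
        intro hcon
        have h5 : idxPtN 5 ∈ suppM 5279 := (Finset.smul_mem_smul_finset_iff g).mp hcon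
        rw [mem_suppM] at h5
        exact absurd h5 (by decide))
      rw [card_suppM] at this
      have p : popc (fullMask ^^^ 5279) = 16 := by decide
      rw [p] at this
      exact this
    · have := le_ncard_orbit (K := K5) (b := idxPtN 5) ((cert6.map Prod.fst).map idxPtN) (by
        apply List.Nodup.map_on _ cert6_nodup.1
        intro x hx y hy hxy
        rw [List.mem_map] at hx hy
        obtain ⟨e, he, rfl⟩ := hx
        obtain ⟨e', he', rfl⟩ := hy
        have h1 := of_decide_eq_true (List.all_eq_true.mp cert6_nodup.2.2 e he)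
        have h2 := of_decide_eq_true (List.all_eq_true.mp cert6_nodup.2.2 e' he')
        exact idxPtN_injOn h1 h2 hxy) (by
        intro a ha
        rw [List.mem_map] at ha
        obtain ⟨j, hj, rfl⟩ := ha
        have hj24 : j < 24 := by
          rw [List.mem_map] at hj
          obtain ⟨e, he, rfl⟩ := hj
          exact of_decide_eq_true (List.all_eq_true.mp cert6_nodup.2.2 e he)
        obtain ⟨σ, hσ, hσa⟩ := level_trans' hst m24_lv6' (idxPtN j) (by
          rw [ptIdx_idxPtN hj24]; exact hj)
        exact ⟨σ, hσ, hσa⟩)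
      rw [List.length_map, List.length_map, cert6_nodup.2.1] at this
      exact this
  rw [horb] at h
  omega

/-- standard form of six points: the first five go to the base points, the sixth to the base
point 7 or 5 according as the six points lie in an octad or not. -/
theorem six_std (e : Fin 6 ↪ GolayPt) :
    ∃ k ∈ M24, (∀ i : Fin 5, k (idxPtN i.val) = e i.castSucc) ∧
      (((∃ o ∈ octads, ∀ i, e i ∈ o) ∧ k (idxPtN 7) = e (Fin.last 5)) ∨
        ((¬ ∃ o ∈ octads, ∀ i, e i ∈ o) ∧ k (idxPtN 5) = e (Fin.last 5))) := by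
  classical
  let x : Fin 5 ↪ GolayPt := ⟨fun i => e i.castSucc, fun i j h =>
    Fin.castSucc_injective _ (e.injective h)⟩
  obtain ⟨k0, hk0, hk0x⟩ := m24_to_base x 5 le_rfl
  have hk0x' : ∀ i : Fin 5, k0 (idxPtN i.val) = e i.castSucc := fun i => hk0x i i.2
  set a := k0⁻¹ (e (Fin.last 5)) with ha
  have hka : k0 a = e (Fin.last 5) := by
    rw [ha]; simp only [Equiv.Perm.coe_inv, Equiv.apply_symm_apply]
  have hne : ∀ i < 5, a ≠ idxPtN i := by
    intro i hi hcon
    have h1 := hk0x' ⟨i, hi⟩
    simp only at h1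
    rw [← hcon, hka] at h1
    have := e.injective h1
    have h2 := congrArg Fin.val this
    simp at h2
    omega
  have hoct : ∀ k ∈ M24, (∀ i : Fin 5, k (idxPtN i.val) = e i.castSucc) →
      ∀ o ∈ octads, (∀ i, e i ∈ o) → o = k • suppM 5279 := by
    intro k hk hkx o ho hall
    have h1 : k • suppM 5279 ∈ octads := smul_mem_wordsOfWeight hk oct5279_mem
    refine octads_unique ho h1 (Finset.univ.map x) (by simp) ?_ ?_
    · intro p hp
      rw [Finset.mem_map] at hp
      obtain ⟨i, -, rfl⟩ := hp
      exact hall _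
    · intro p hp
      rw [Finset.mem_map] at hp
      obtain ⟨i, -, rfl⟩ := hp
      change e i.castSucc ∈ _
      rw [← hkx i]
      apply Finset.smul_mem_smul_finset
      rw [mem_suppM_idx' (by omega)]
      have := i.2
      interval_cases (i : ℕ) <;> decide
  by_cases hin : a ∈ suppM 5279
  · obtain ⟨σ, hσ, hσa⟩ := K5_trans_in a hin hne
    have hσM := (Subgroup.mem_inf.mp hσ).1
    have hkx : ∀ i : Fin 5, (k0 * σ) (idxPtN i.val) = e i.castSucc := by
      intro i
      rw [Equiv.Perm.mul_apply, K5_fix hσ i.2, hk0x' i]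
    have hk7 : (k0 * σ) (idxPtN 7) = e (Fin.last 5) := by
      rw [Equiv.Perm.mul_apply, hσa, hka]
    refine ⟨k0 * σ, M24.mul_mem hk0 hσM, hkx, Or.inl ⟨?_, hk7⟩⟩
    refine ⟨(k0 * σ) • suppM 5279, smul_mem_wordsOfWeight (M24.mul_mem hk0 hσM) oct5279_mem, ?_⟩
    intro i
    rcases i.eq_castSucc_or_eq_last with ⟨j, rfl⟩ | rfl
    · rw [← hkx j]
      apply Finset.smul_mem_smul_finset
      rw [mem_suppM_idx' (by omega)]
      have := j.2
      interval_cases (j : ℕ) <;> decide
    · rw [← hk7]
      apply Finset.smul_mem_smul_finset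
      rw [mem_suppM_idx' (by norm_num)]
      decide
  · obtain ⟨σ, hσ, hσa⟩ := K5_trans_out a hin
    have hσM := (Subgroup.mem_inf.mp hσ).1
    have hkx : ∀ i : Fin 5, (k0 * σ) (idxPtN i.val) = e i.castSucc := by
      intro i
      rw [Equiv.Perm.mul_apply, K5_fix hσ i.2, hk0x' i]
    have hk5 : (k0 * σ) (idxPtN 5) = e (Fin.last 5) := by
      rw [Equiv.Perm.mul_apply, hσa, hka]
    refine ⟨k0 * σ, M24.mul_mem hk0 hσM, hkx, Or.inr ⟨?_, hk5⟩⟩
    rintro ⟨o, ho, hall⟩
    have heq := hoct (k0 * σ) (M24.mul_mem hk0 hσM) hkx o ho hall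
    have h5 := hall (Fin.last 5)
    rw [heq, ← hk5] at h5
    have h5' : idxPtN 5 ∈ suppM 5279 := (Finset.smul_mem_smul_finset_iff (k0 * σ)).mp h5
    rw [mem_suppM_idx' (by norm_num)] at h5'
    exact absurd h5' (by decide)

end Cfsg.Agent.Helper9.Golay
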