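import Mathlib
import Cfsg.Prelude.Def_Sporadic_a
import Cfsg.Agent.Helper9.Golay.SixPts
import Cfsg.Agent.Helper9.Golay.OctJoint
import Cfsg.Agent.Helper9.Golay.Restrict

set_option autoImplicit false

/-!
The stabilizer of an octad: the action on the octad and the regular normal subgroup.
-/

namespace Cfsg.Agent.Helper9.Golay

open Cfsg
open scoped Pointwise

/-- the stabilizer of a set in the group of the code, as a group of permutations. -/
def GO (o : Finset GolayPt) : Subgroup (Equiv.Perm GolayPt) :=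
  M24 ⊓ MulAction.stabilizer (Equiv.Perm GolayPt) o

/-- the pointwise stabilizer of a set in the group of the code. -/
def KO (o : Finset GolayPt) : Subgroup (Equiv.Perm GolayPt) :=
  M24 ⊓ fixingSubgroup (Equiv.Perm GolayPt) (o : Set GolayPt)

theorem mem_KO_iff {o : Finset GolayPt} {g : Equiv.Perm GolayPt} :
    g ∈ KO o ↔ g ∈ M24 ∧ ∀ p ∈ o, g p = p := by
  unfold KO
  rw [Subgroup.mem_inf, mem_fixingSubgroup_iff]
  rfl

theorem smul_eq_of_fix {o : Finset GolayPt} {g : Equiv.Perm GolayPt} (h : ∀ p ∈ o, g p = p) :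
    g • o = o := by
  apply Finset.eq_of_subset_of_card_le
  · intro q hq
    obtain ⟨p, hp, rfl⟩ := Finset.mem_smul_finset.mp hq
    change g p ∈ o
    rw [h p hp]
    exact hp
  · rw [card_smul_finset]

theorem KO_le_GO (o : Finset GolayPt) : KO o ≤ GO o := by
  intro g hg
  obtain ⟨h1, h2⟩ := mem_KO_iff.mp hg
  exact Subgroup.mem_inf.mpr ⟨h1, MulAction.mem_stabilizer_iff.mpr (smul_eq_of_fix h2)⟩

/-- the action of the stabilizer on the set. -/
def rhoO (o : Finset GolayPt) : ↥(GO o) →* Equiv.Perm ↥o :=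
  (restrictHom o).comp (Subgroup.inclusion inf_le_right)

theorem rhoO_apply (o : Finset GolayPt) (g : ↥(GO o)) (x : ↥o) :
    ((rhoO o g x : ↥o) : GolayPt) = g.1 x.1 := rfl

theorem mem_ker_rhoO {o : Finset GolayPt} (g : ↥(GO o)) : g ∈ (rhoO o).ker ↔ g.1 ∈ KO o := by
  rw [MonoidHom.mem_ker, mem_KO_iff]
  constructor
  · intro h
    refine ⟨(Subgroup.mem_inf.mp g.2).1, ?_⟩
    intro p hp
    exact congrArg (fun f : Equiv.Perm ↥o => ((f ⟨p, hp⟩ : ↥o) : GolayPt)) h
  · rintro ⟨-, h⟩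
    apply Equiv.ext
    intro p
    apply Subtype.ext
    exact h p.1 p.2

theorem card_GO {o : Finset GolayPt} (ho : o ∈ octads) : Nat.card (GO o) = 322560 := by
  rw [← card_stab_octad ho]
  apply Nat.card_congr
  exact ⟨fun x => ⟨⟨x.1, (Subgroup.mem_inf.mp x.2).1⟩, (Subgroup.mem_inf.mp x.2).2⟩,
    fun x => ⟨x.1.1, Subgroup.mem_inf.mpr ⟨x.1.2, x.2⟩⟩, fun _ => rfl, fun _ => rfl⟩

theorem card_KO {o : Finset GolayPt} (ho : o ∈ octads) : Nat.card (KO o) = 16 :=
  (oct_fix_card_sq ho).1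

theorem card_ker_rhoO {o : Finset GolayPt} (ho : o ∈ octads) : Nat.card (rhoO o).ker = 16 := by
  rw [← card_KO ho]
  apply Nat.card_congr
  exact ⟨fun x => ⟨x.1.1, (mem_ker_rhoO x.1).mp x.2⟩,
    fun g => ⟨⟨g.1, KO_le_GO o g.2⟩, (mem_ker_rhoO _).mpr g.2⟩, fun _ => rfl, fun _ => rfl⟩

theorem card_range_rhoO {o : Finset GolayPt} (ho : o ∈ octads) :
    Nat.card (rhoO o).range = 20160 := by
  have h1 := Subgroup.card_mul_index (rhoO o).ker
  rw [Subgroup.index_ker, card_ker_rhoO ho, card_GO ho] at h1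
  omega

theorem range_rhoO {o : Finset GolayPt} (ho : o ∈ octads) :
    (rhoO o).range = alternatingGroup ↥o := by
  apply Equiv.Perm.eq_alternatingGroup_of_index_eq_two
  have h1 := Subgroup.card_mul_index (rhoO o).range
  have h8 : o.card = 8 := ho.2
  rw [card_range_rhoO ho, Nat.card_perm, Nat.card_eq_fintype_card, Fintype.card_coe, h8] at h1
  have : Nat.factorial 8 = 40320 := by decide
  rw [this] at h1
  omega

/-! ### the regular normal subgroup -/

theorem cert6_regular : cert6.all (fun e => (m24Tables.getD e.2 idT) == idT ||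
    (List.range 24).all (fun j => (5279 : ℕ).testBit j ||
      (m24Tables.getD e.2 idT).getD j 0 != j)) = true := by decide +kernel

theorem K6_regular {g : Equiv.Perm GolayPt} (hg : g ∈ K6) {a : GolayPt} (ha : a ∉ suppM 5279)
    (hga : g a = a) : g = 1 := by
  obtain ⟨e, he, ht⟩ := K6_table hg
  have hc := List.all_eq_true.mp cert6_regular e he
  rw [Bool.or_eq_true] at hc
  rcases hc with h | h
  · rw [beq_iff_eq] at h
    rw [h] at ht
    exact ht.eq_of_eq isTbl_one
  · have h1 := List.all_eq_true.mp h (ptIdx a) (List.mem_range.mpr (ptIdx_lt a))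
    rw [mem_suppM, Bool.not_eq_true] at ha
    rw [ha, Bool.false_or, ht.2 a, hga] at h1
    simp at h1

theorem K6_trans_out (a : GolayPt) (ha : a ∉ suppM 5279) : ∃ σ ∈ K6, σ (idxPtN 5) = a := by
  have hst := goodT_m24Tables M24 stepPerm_mem
  have hc := List.all_eq_true.mp cert6_cover (ptIdx a) (List.mem_range.mpr (ptIdx_lt a))
  rw [mem_suppM, Bool.not_eq_true] at ha
  rw [ha] at hc
  simp only [Bool.false_or, List.contains_eq_mem, decide_eq_true_eq] at hc
  exact level_trans' hst m24_lv6 a hc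

theorem KO_oct0 : KO (suppM 5279) = K6 := fix_oct0_eq

theorem exists_smul_oct0 {o : Finset GolayPt} (ho : o ∈ octads) :
    ∃ k ∈ M24, k • suppM 5279 = o := by
  obtain ⟨h, hh⟩ := transitive_octads oct5279_mem ho
  exact ⟨h.1, h.2, hh⟩

theorem conj_mem_KO {k : Equiv.Perm GolayPt} (hk : k ∈ M24) (s : Finset GolayPt)
    (g : Equiv.Perm GolayPt) : g ∈ KO (k • s) ↔ k⁻¹ * g * k ∈ KO s :=
  mem_fix_smul_iff hk s g

/-- a nontrivial element fixing an octad pointwise has no fixed point outside. -/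
theorem KO_regular {o : Finset GolayPt} (ho : o ∈ octads) {g : Equiv.Perm GolayPt}
    (hg : g ∈ KO o) {p : GolayPt} (hp : p ∉ o) (hgp : g p = p) : g = 1 := by
  obtain ⟨k, hk, rfl⟩ := exists_smul_oct0 ho
  have h1 := (conj_mem_KO hk _ g).mp hg
  rw [KO_oct0] at h1
  have h2 : k⁻¹ * g * k = 1 := by
    apply K6_regular h1 (a := k⁻¹ p)
    · intro hcon
      exact hp (Finset.inv_smul_mem_iff.mp hcon)
    · rw [Equiv.Perm.mul_apply, Equiv.Perm.mul_apply]
      simp only [Equiv.Perm.coe_inv, Equiv.apply_symm_apply]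
      rw [hgp]
  have : g = k * (k⁻¹ * g * k) * k⁻¹ := by group
  rw [this, h2]
  group

/-- the pointwise stabilizer of an octad is transitive on the complement. -/
theorem KO_trans {o : Finset GolayPt} (ho : o ∈ octads) {p q : GolayPt} (hp : p ∉ o)
    (hq : q ∉ o) : ∃ g ∈ KO o, g p = q := by
  obtain ⟨k, hk, rfl⟩ := exists_smul_oct0 ho
  have ha : k⁻¹ p ∉ suppM 5279 := by
    intro hcon
    exact hp (Finset.inv_smul_mem_iff.mp hcon)
  have hb : k⁻¹ q ∉ suppM 5279 := by
    intro hcon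
    exact hq (Finset.inv_smul_mem_iff.mp hcon)
  obtain ⟨σ, hσ, hσa⟩ := K6_trans_out _ ha
  obtain ⟨τ, hτ, hτb⟩ := K6_trans_out _ hb
  refine ⟨k * (τ * σ⁻¹) * k⁻¹, ?_, ?_⟩
  · rw [conj_mem_KO hk, KO_oct0]
    have : k⁻¹ * (k * (τ * σ⁻¹) * k⁻¹) * k = τ * σ⁻¹ := by group
    rw [this]
    exact K6.mul_mem hτ (K6.inv_mem hσ)
  · rw [Equiv.Perm.mul_apply, Equiv.Perm.mul_apply, Equiv.Perm.mul_apply, ← hσa]
    simp only [Equiv.Perm.coe_inv, Equiv.symm_apply_apply]
    rw [hτb]
    simp only [Equiv.Perm.coe_inv, Equiv.apply_symm_apply]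

end Cfsg.Agent.Helper9.Golay
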