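import Mathlib
import Cfsg.Prelude.Def_Sporadic_a
import Cfsg.Agent.Helper9.CosetLeader
import Cfsg.Agent.Helper9.Golay.Steiner
import Cfsg.Agent.Helper9.Golay.ListTrans
import Cfsg.Agent.Helper9.Golay.OctA8
import Cfsg.Agent.Helper9.Golay.DodThree
import Cfsg.Agent.Helper9.Leech.Basic
import Cfsg.Agent.S0358
import Cfsg.Agent.S0359

/-!
The stabilizer of a word of the code fixes no non-zero coset of the code.
-/

set_option autoImplicit false

namespace Cfsg.Agent.Helper9.FixCoset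

open Cfsg Cfsg.Agent.Helper9 Cfsg.Agent.Helper9.Golay
open scoped Pointwise

/-- the action of a permutation on words. -/
def actW (σ : Equiv.Perm GolayPt) (v : GolayPt → ZMod 2) : GolayPt → ZMod 2 :=
  fun p => v (σ.symm p)

theorem actW_apply (σ : Equiv.Perm GolayPt) (v : GolayPt → ZMod 2) (p : GolayPt) :
    actW σ v p = v (σ.symm p) := rfl

theorem actW_mem {σ : Equiv.Perm GolayPt} (hσ : σ ∈ M24) {c : GolayPt → ZMod 2}
    (hc : c ∈ golayCode) : actW σ c ∈ golayCode :=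
  Leech.comp_mem_code (M24.inv_mem hσ) hc

theorem actW_sub (σ : Equiv.Perm GolayPt) (a b : GolayPt → ZMod 2) :
    actW σ (a - b) = actW σ a - actW σ b := rfl

theorem supp2_actW (σ : Equiv.Perm GolayPt) (v : GolayPt → ZMod 2) :
    supp2 (actW σ v) = (supp2 v).image σ := by
  ext p
  rw [mem_supp2, Finset.mem_image, actW_apply]
  constructor
  · intro h
    exact ⟨σ.symm p, (mem_supp2 _ _).mpr h, σ.apply_symm_apply p⟩
  · rintro ⟨q, hq, rfl⟩
    rw [σ.symm_apply_apply]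
    exact (mem_supp2 _ _).mp hq

theorem hammingNorm_actW (σ : Equiv.Perm GolayPt) (v : GolayPt → ZMod 2) :
    hammingNorm (actW σ v) = hammingNorm v := by
  rw [hammingNorm_eq_card_supp2, hammingNorm_eq_card_supp2, supp2_actW,
    Finset.card_image_of_injective _ σ.injective]

theorem actW_eq_of_smul {σ : Equiv.Perm GolayPt} {u : GolayPt → ZMod 2}
    (h : σ • supp2 u = supp2 u) : actW σ u = u := by
  apply (suppEquiv (α := GolayPt)).injective
  show supp2 (actW σ u) = supp2 u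
  rw [supp2_actW]
  exact h

theorem hmin : ∀ x ∈ golayCode, x ≠ 0 → 8 ≤ hammingNorm x := by
  intro x hx hx0
  have h0 : hammingNorm x ≠ 0 := fun h => hx0 (hammingNorm_eq_zero.mp h)
  rcases Cfsg.Agent.S0359.result x hx with h | h | h | h | h <;> omega

/-- the abstract statement. -/
theorem no_fixed_coset (H : Set (Equiv.Perm GolayPt)) (hH : ∀ σ ∈ H, σ ∈ M24)
    (hT : ∀ p : GolayPt, ∃ Δ : Finset GolayPt, 4 ≤ Δ.card ∧ ∀ q ∈ Δ, ∃ σ ∈ H, σ p = q)
    (hD : ∃ Δ : Finset GolayPt, 7 ≤ Δ.card ∧ ∀ x1 ∈ Δ, ∀ x2 ∈ Δ, ∀ y ∈ Δ, x1 ≠ x2 → x1 ≠ y →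
      ∃ σ ∈ H, σ x1 = x1 ∧ σ x2 = y)
    (w : GolayPt → ZMod 2) (hw : w ∉ golayCode) :
    ∃ σ ∈ H, actW σ w - w ∉ golayCode := by
  classical
  by_contra hcon
  push Not at hcon
  have hL : ∀ σ ∈ H, ∀ v : GolayPt → ZMod 2, (v - w ∈ golayCode ∧ hammingNorm v ≤ 4) →
      (actW σ v - w ∈ golayCode ∧ hammingNorm (actW σ v) ≤ 4) := by
    intro σ hσ v hv
    constructor
    · have h1 : actW σ v - w = actW σ (v - w) + (actW σ w - w) := by
        rw [actW_sub]
        abel
      rw [h1]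
      exact golayCode.add_mem (actW_mem (hH σ hσ) hv.1) (hcon σ hσ)
    · rw [hammingNorm_actW]
      exact hv.2
  rcases coset_leaders card_golayPt golayCode Cfsg.Agent.S0358.result hmin w with
    ⟨v, hv, hv3⟩ | ⟨h6, hall⟩
  · -- unique leader
    have hvL : v ∈ {u : GolayPt → ZMod 2 | u - w ∈ golayCode ∧ hammingNorm u ≤ 4} := by
      rw [hv]
      exact Set.mem_singleton v
    have hv0 : v ≠ 0 := by
      rintro rfl
      apply hw
      have := golayCode.neg_mem hvL.1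
      rwa [zero_sub, neg_neg] at this
    obtain ⟨p, hp⟩ : ∃ p, v p ≠ 0 := by
      by_contra h
      push Not at h
      exact hv0 (funext h)
    obtain ⟨Δ, hΔ4, hΔ⟩ := hT p
    have hsub : Δ ⊆ supp2 v := by
      intro q hq
      obtain ⟨σ, hσ, rfl⟩ := hΔ q hq
      have h1 : actW σ v ∈ {u : GolayPt → ZMod 2 | u - w ∈ golayCode ∧ hammingNorm u ≤ 4} :=
        hL σ hσ v hvL
      rw [hv] at h1
      have h2 : actW σ v = v := h1
      rw [mem_supp2, ← h2, actW_apply, σ.symm_apply_apply]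
      exact hp
    have := Finset.card_le_card hsub
    rw [← hammingNorm_eq_card_supp2] at this
    omega
  · -- six leaders
    have hfin : {u : GolayPt → ZMod 2 | u - w ∈ golayCode ∧ hammingNorm u ≤ 4}.Finite :=
      Set.finite_of_ncard_ne_zero (by rw [h6]; norm_num)
    have hcard : hfin.toFinset.card = 6 := by
      rw [← Set.ncard_eq_toFinset_card _ hfin]
      exact h6
    have hmemL : ∀ v, v ∈ hfin.toFinset ↔
        v ∈ {u : GolayPt → ZMod 2 | u - w ∈ golayCode ∧ hammingNorm u ≤ 4} :=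
      fun v => Set.Finite.mem_toFinset hfin
    have hbU : (hfin.toFinset.biUnion supp2).card = 24 := by
      rw [Finset.card_biUnion]
      · have h4 : ∀ v ∈ hfin.toFinset, (supp2 v).card = 4 := by
          intro v hv
          rw [← hammingNorm_eq_card_supp2]
          exact (hall v ((hmemL v).mp hv)).1
        rw [Finset.sum_congr rfl h4, Finset.sum_const, hcard]
        rfl
      · intro a ha b hb hab
        exact (hall a ((hmemL a).mp ha)).2 b ((hmemL b).mp hb) hab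
    have hcover : ∀ p, ∃ v ∈ {u : GolayPt → ZMod 2 | u - w ∈ golayCode ∧ hammingNorm u ≤ 4},
        p ∈ supp2 v := by
      intro p
      have hu : hfin.toFinset.biUnion supp2 = Finset.univ :=
        Finset.eq_univ_of_card _ (by rw [hbU, card_golayPt])
      have hp : p ∈ hfin.toFinset.biUnion supp2 := by
        rw [hu]
        exact Finset.mem_univ p
      obtain ⟨v, hv, hpv⟩ := Finset.mem_biUnion.mp hp
      exact ⟨v, (hmemL v).mp hv, hpv⟩
    choose f hfL hfp using hcover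
    obtain ⟨Δ, hΔ7, hΔ⟩ := hD
    obtain ⟨x1, hx1, x2, hx2, hne, hfx⟩ :=
      Finset.exists_ne_map_eq_of_card_lt_of_maps_to (s := Δ) (t := hfin.toFinset)
        (by rw [hcard]; omega) (f := f) (fun a _ => (hmemL _).mpr (hfL a))
    have hv4 : (supp2 (f x1)).card = 4 := by
      rw [← hammingNorm_eq_card_supp2]
      exact (hall _ (hfL x1)).1
    obtain ⟨y, hyΔ, hyv⟩ :=
      Finset.exists_mem_notMem_of_card_lt_card (s := supp2 (f x1)) (t := Δ) (by omega)
    have hx1y : x1 ≠ y := by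
      rintro rfl
      exact hyv (hfp x1)
    obtain ⟨σ, hσ, hσ1, hσ2⟩ := hΔ x1 hx1 x2 hx2 y hyΔ hne hx1y
    have hv'L := hL σ hσ _ (hfL x1)
    have h1 : x1 ∈ supp2 (actW σ (f x1)) := by
      rw [supp2_actW, Finset.mem_image]
      exact ⟨x1, hfp x1, hσ1⟩
    have h2 : y ∈ supp2 (actW σ (f x1)) := by
      rw [supp2_actW, Finset.mem_image]
      exact ⟨x2, by rw [hfx]; exact hfp x2, hσ2⟩
    by_cases heq : actW σ (f x1) = f x1
    · rw [heq] at h2
      exact hyv h2
    · have := (hall _ hv'L).2 _ (hfL x1) heq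
      exact Finset.disjoint_left.mp this h1 (hfp x1)

/-- the stabilizer of a set of points in the group of the code. -/
def Hs (S : Finset GolayPt) : Set (Equiv.Perm GolayPt) := {σ | σ ∈ M24 ∧ σ • S = S}

/-- a form of double transitivity. -/
def TwoTrans (H : Set (Equiv.Perm GolayPt)) (Δ : Finset GolayPt) : Prop :=
  ∀ x1 ∈ Δ, ∀ x2 ∈ Δ, ∀ y ∈ Δ, x1 ≠ x2 → x1 ≠ y → ∃ σ ∈ H, σ x1 = x1 ∧ σ x2 = y

theorem trans_of_twoTrans {H : Set (Equiv.Perm GolayPt)} {Δ : Finset GolayPt}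
    (h : TwoTrans H Δ) (h3 : 3 ≤ Δ.card) {p q : GolayPt} (hp : p ∈ Δ) (hq : q ∈ Δ) :
    ∃ σ ∈ H, σ p = q := by
  classical
  by_cases hpq : p = q
  · subst hpq
    obtain ⟨x2, hx2, hx2p⟩ :=
      Finset.exists_mem_notMem_of_card_lt_card (s := {p}) (t := Δ) (by
        rw [Finset.card_singleton]; omega)
    rw [Finset.mem_singleton] at hx2p
    obtain ⟨σ, hσ, h1, -⟩ := h p hp x2 hx2 x2 hx2 (Ne.symm hx2p) (Ne.symm hx2p)
    exact ⟨σ, hσ, h1⟩
  · obtain ⟨x1, hx1, hx1n⟩ :=
      Finset.exists_mem_notMem_of_card_lt_card (s := {p, q}) (t := Δ) (by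
        have := Finset.card_le_two (a := p) (b := q)
        omega)
    rw [Finset.mem_insert, Finset.mem_singleton, not_or] at hx1n
    obtain ⟨σ, hσ, -, h2⟩ := h x1 hx1 p hp q hq hx1n.1 hx1n.2
    exact ⟨σ, hσ, h2⟩

/-- three further points of a set. -/
theorem exists_three {Δ : Finset GolayPt} (h : 6 ≤ Δ.card) (x1 x2 y : GolayPt) :
    ∃ a b c, a ∈ Δ ∧ b ∈ Δ ∧ c ∈ Δ ∧ a ≠ b ∧ a ≠ c ∧ b ≠ c ∧
      a ≠ x1 ∧ a ≠ x2 ∧ a ≠ y ∧ b ≠ x1 ∧ b ≠ x2 ∧ b ≠ y ∧ c ≠ x1 ∧ c ≠ x2 ∧ c ≠ y := by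
  classical
  have h1 : 3 ≤ (Δ \ {x1, x2, y}).card := by
    have h2 := Finset.le_card_sdiff ({x1, x2, y} : Finset GolayPt) Δ
    have h3 : ({x1, x2, y} : Finset GolayPt).card ≤ 3 := Finset.card_le_three
    omega
  obtain ⟨t, ht, ht3⟩ := Finset.exists_subset_card_eq h1
  obtain ⟨a, b, c, hab, hac, hbc, rfl⟩ := Finset.card_eq_three.mp ht3
  have ha := ht (show a ∈ ({a, b, c} : Finset GolayPt) by simp)
  have hb := ht (show b ∈ ({a, b, c} : Finset GolayPt) by simp)
  have hc := ht (show c ∈ ({a, b, c} : Finset GolayPt) by simp)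
  simp only [Finset.mem_sdiff, Finset.mem_insert, Finset.mem_singleton, not_or] at ha hb hc
  exact ⟨a, b, c, ha.1, hb.1, hc.1, hab, hac, hbc, ha.2.1, ha.2.2.1, ha.2.2.2, hb.2.1, hb.2.2.1,
    hb.2.2.2, hc.2.1, hc.2.2.1, hc.2.2.2⟩

theorem nodup5 {x1 x2 a b c : GolayPt} (h12 : x1 ≠ x2) (hab : a ≠ b) (hac : a ≠ c) (hbc : b ≠ c)
    (ha1 : a ≠ x1) (ha2 : a ≠ x2) (hb1 : b ≠ x1) (hb2 : b ≠ x2) (hc1 : c ≠ x1) (hc2 : c ≠ x2) :
    [x1, x2, a, b, c].Nodup := by
  simp only [List.nodup_cons, List.mem_cons, List.not_mem_nil, or_false, not_or,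
    List.nodup_nil, and_true, not_false_eq_true]
  exact ⟨⟨h12, Ne.symm ha1, Ne.symm hb1, Ne.symm hc1⟩, ⟨Ne.symm ha2, Ne.symm hb2, Ne.symm hc2⟩,
    ⟨hab, hac⟩, hbc⟩

theorem twoTrans_M24 : TwoTrans (M24 : Set (Equiv.Perm GolayPt)) Finset.univ := by
  intro x1 _ x2 _ y _ h12 h1y
  obtain ⟨g, hg, h1, h2⟩ := m24_two_trans h12 h1y
  exact ⟨g, hg, h1, h2⟩

theorem twoTrans_octad {o : Finset GolayPt} (ho : o ∈ octads) : TwoTrans (Hs o) o := by
  classical
  intro x1 h1 x2 h2 y hy h12 h1y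
  have h8 : o.card = 8 := ho.2
  obtain ⟨a, b, c, ha, hb, hc, hab, hac, hbc, ha1, ha2, hay, hb1, hb2, hby, hc1, hc2, hcy⟩ :=
    exists_three (Δ := o) (by omega) x1 x2 y
  obtain ⟨g, hg, hgl⟩ := m24_map_list [x1, x2, a, b, c] [x1, y, a, b, c]
    (nodup5 h12 hab hac hbc ha1 ha2 hb1 hb2 hc1 hc2)
    (nodup5 h1y hab hac hbc ha1 hay hb1 hby hc1 hcy) rfl (by simp)
  simp only [List.map_cons, List.map_nil, List.cons.injEq, and_true] at hgl
  obtain ⟨g1, g2, ga, gb, gc⟩ := hgl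
  refine ⟨g, ⟨hg, ?_⟩, g1, g2⟩
  have hgo : g • o ∈ octads := smul_mem_wordsOfWeight hg ho
  have hs5 : ({x1, y, a, b, c} : Finset GolayPt).card = 5 := by
    rw [Finset.card_insert_of_notMem, Finset.card_insert_of_notMem, Finset.card_insert_of_notMem,
      Finset.card_insert_of_notMem, Finset.card_singleton]
    · simp only [Finset.mem_singleton]; exact hbc
    · simp only [Finset.mem_insert, Finset.mem_singleton, not_or]; exact ⟨hab, hac⟩
    · simp only [Finset.mem_insert, Finset.mem_singleton, not_or]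
      exact ⟨Ne.symm hay, Ne.symm hby, Ne.symm hcy⟩
    · simp only [Finset.mem_insert, Finset.mem_singleton, not_or]
      exact ⟨h1y, Ne.symm ha1, Ne.symm hb1, Ne.symm hc1⟩
  apply octads_unique hgo ho _ hs5
  · intro z hz
    simp only [Finset.mem_insert, Finset.mem_singleton] at hz
    rcases hz with rfl | rfl | rfl | rfl | rfl
    · rw [← g1]; exact Finset.smul_mem_smul_finset h1
    · rw [← g2]; exact Finset.smul_mem_smul_finset h2
    · rw [← ga]; exact Finset.smul_mem_smul_finset ha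
    · rw [← gb]; exact Finset.smul_mem_smul_finset hb
    · rw [← gc]; exact Finset.smul_mem_smul_finset hc
  · intro z hz
    simp only [Finset.mem_insert, Finset.mem_singleton] at hz
    rcases hz with rfl | rfl | rfl | rfl | rfl
    · exact h1
    · exact hy
    · exact ha
    · exact hb
    · exact hc

theorem dodecad_map_list {d : Finset GolayPt} (hd : d ∈ dodecads) (l l' : List GolayPt)
    (hl : l.Nodup) (hl' : l'.Nodup) (h5 : l.length = 5) (h5' : l'.length = 5)
    (hld : ∀ a ∈ l, a ∈ d) (hld' : ∀ a ∈ l', a ∈ d) :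
    ∃ g ∈ M24, g • d = d ∧ l.map g = l' := by
  let x : Fin 5 ↪ GolayPt := ⟨fun i => l.get (i.cast h5.symm), by
    intro i j hij
    have := List.nodup_iff_injective_get.mp hl hij
    exact Fin.ext (by simpa using congrArg Fin.val this)⟩
  let y : Fin 5 ↪ GolayPt := ⟨fun i => l'.get (i.cast h5'.symm), by
    intro i j hij
    have := List.nodup_iff_injective_get.mp hl' hij
    exact Fin.ext (by simpa using congrArg Fin.val this)⟩
  obtain ⟨g, hg, hgd, hgxy⟩ := dodecad_five_trans hd x y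
    (fun i => hld _ (List.get_mem _ _)) (fun i => hld' _ (List.get_mem _ _))
  refine ⟨g, hg, hgd, ?_⟩
  apply List.ext_get
  · rw [List.length_map, h5, h5']
  · intro n h1 h2
    rw [List.length_map] at h1
    have := hgxy ⟨n, by omega⟩
    simp only [List.get_eq_getElem, List.getElem_map]
    exact this

theorem twoTrans_dodecad {d : Finset GolayPt} (hd : d ∈ dodecads) : TwoTrans (Hs d) d := by
  classical
  intro x1 h1 x2 h2 y hy h12 h1y
  have h12' : d.card = 12 := hd.2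
  obtain ⟨a, b, c, ha, hb, hc, hab, hac, hbc, ha1, ha2, hay, hb1, hb2, hby, hc1, hc2, hcy⟩ :=
    exists_three (Δ := d) (by omega) x1 x2 y
  obtain ⟨g, hg, hgd, hgl⟩ := dodecad_map_list hd [x1, x2, a, b, c] [x1, y, a, b, c]
    (nodup5 h12 hab hac hbc ha1 ha2 hb1 hb2 hc1 hc2)
    (nodup5 h1y hab hac hbc ha1 hay hb1 hby hc1 hcy) rfl rfl
    (by
      intro z hz
      simp only [List.mem_cons, List.not_mem_nil, or_false] at hz
      rcases hz with rfl | rfl | rfl | rfl | rfl <;> assumption)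
    (by
      intro z hz
      simp only [List.mem_cons, List.not_mem_nil, or_false] at hz
      rcases hz with rfl | rfl | rfl | rfl | rfl <;> assumption)
  simp only [List.map_cons, List.map_nil, List.cons.injEq, and_true] at hgl
  exact ⟨g, ⟨hg, hgd⟩, hgl.1, hgl.2.1⟩

/-- the hypotheses of the abstract statement from double transitivity on a set and
transitivity outside it. -/
theorem main_of_twoTrans (S Δ : Finset GolayPt) (h7 : 7 ≤ Δ.card) (h2 : TwoTrans (Hs S) Δ)
    (hout : ∀ p, p ∉ Δ → ∃ Δ' : Finset GolayPt, 4 ≤ Δ'.card ∧ ∀ q ∈ Δ', ∃ σ ∈ Hs S, σ p = q)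
    (w : GolayPt → ZMod 2) (hw : w ∉ golayCode) :
    ∃ σ ∈ Hs S, actW σ w - w ∉ golayCode := by
  apply no_fixed_coset (Hs S) (fun σ hσ => hσ.1) _ ⟨Δ, h7, h2⟩ w hw
  intro p
  by_cases hp : p ∈ Δ
  · exact ⟨Δ, by omega, fun q hq => trans_of_twoTrans h2 (by omega) hp hq⟩
  · exact hout p hp

theorem hs_compl (S : Finset GolayPt) : Hs Sᶜ = Hs S := by
  ext σ
  unfold Hs
  simp only [Set.mem_ofPred_eq, smul_compl_eq_iff]

theorem main_S (S : Finset GolayPt)
    (hS : S = ∅ ∨ S = Finset.univ ∨ S ∈ octads ∨ Sᶜ ∈ octads ∨ S ∈ dodecads)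
    (w : GolayPt → ZMod 2) (hw : w ∉ golayCode) :
    ∃ σ ∈ Hs S, actW σ w - w ∉ golayCode := by
  classical
  have hoct : ∀ o : Finset GolayPt, o ∈ octads → ∃ σ ∈ Hs o, actW σ w - w ∉ golayCode := by
    intro o ho
    have h8 : o.card = 8 := ho.2
    apply main_of_twoTrans o o (by omega) (twoTrans_octad ho) _ w hw
    intro p hp
    refine ⟨oᶜ, ?_, ?_⟩
    · rw [Finset.card_compl, card_golayPt, h8]
      norm_num
    · intro q hq
      obtain ⟨g, hg, hgp⟩ := KO_trans ho hp (Finset.mem_compl.mp hq)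
      rw [mem_KO_iff] at hg
      exact ⟨g, ⟨hg.1, smul_eq_of_fix hg.2⟩, hgp⟩
  have hall : ∀ σ : Equiv.Perm GolayPt, σ ∈ M24 → σ ∈ Hs (Finset.univ : Finset GolayPt) :=
    fun σ hσ => ⟨hσ, Finset.smul_finset_univ⟩
  have huniv : ∃ σ ∈ Hs (Finset.univ : Finset GolayPt), actW σ w - w ∉ golayCode := by
    apply main_of_twoTrans Finset.univ Finset.univ (by rw [Finset.card_univ, card_golayPt]; norm_num)
      _ _ w hw
    · intro x1 h1 x2 h2 y hy h12 h1y
      obtain ⟨σ, hσ, e1, e2⟩ := twoTrans_M24 x1 h1 x2 h2 y hy h12 h1y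
      exact ⟨σ, hall σ hσ, e1, e2⟩
    · intro p hp
      exact absurd (Finset.mem_univ p) hp
  rcases hS with rfl | rfl | h | h | h
  · rw [← hs_compl, Finset.compl_empty]
    exact huniv
  · exact huniv
  · exact hoct S h
  · rw [← hs_compl]
    exact hoct _ h
  · have h12 : S.card = 12 := h.2
    apply main_of_twoTrans S S (by omega) (twoTrans_dodecad h) _ w hw
    intro p hp
    refine ⟨Sᶜ, ?_, ?_⟩
    · rw [Finset.card_compl, card_golayPt, h12]
      norm_num
    · intro q hq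
      have hc := compl_mem_dodecads h
      have h12c : Sᶜ.card = 12 := hc.2
      have h2 := twoTrans_dodecad hc
      rw [hs_compl] at h2
      exact trans_of_twoTrans h2 (by omega) (Finset.mem_compl.mpr hp) hq

theorem supp2_one_add (u : GolayPt → ZMod 2) : supp2 (1 + u) = (supp2 u)ᶜ := by
  ext p
  rw [Finset.mem_compl, mem_supp2, mem_supp2, Pi.add_apply, Pi.one_apply]
  rcases Golay.zmod2_cases (u p) with h | h <;> rw [h] <;> decide

theorem classify {u : GolayPt → ZMod 2} (hu : u ∈ golayCode) :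
    supp2 u = ∅ ∨ supp2 u = Finset.univ ∨ supp2 u ∈ octads ∨ (supp2 u)ᶜ ∈ octads ∨
      supp2 u ∈ dodecads := by
  rcases Cfsg.Agent.S0359.result u hu with h | h | h | h | h
  · left
    rw [hammingNorm_eq_card_supp2, Finset.card_eq_zero] at h
    exact h
  · right; right; left
    exact ⟨⟨u, hu, rfl⟩, h⟩
  · right; right; right; right
    exact ⟨⟨u, hu, rfl⟩, h⟩
  · right; right; right; left
    refine ⟨⟨1 + u, golayCode.add_mem Leech.one_mem_code hu, supp2_one_add u⟩, ?_⟩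
    rw [hammingNorm_eq_card_supp2] at h
    rw [Finset.card_compl, card_golayPt, h]
  · right; left
    rw [hammingNorm_eq_card_supp2] at h
    exact Finset.eq_univ_of_card _ (by rw [h, card_golayPt])

theorem fix_coset_main (u : GolayPt → ZMod 2) (hu : u ∈ golayCode) (w : GolayPt → ZMod 2)
    (hw : w ∉ golayCode) :
    ∃ σ ∈ M24, (fun p => u (σ.symm p)) = u ∧ (fun p => w (σ.symm p)) - w ∉ golayCode := by
  obtain ⟨σ, hσ, h⟩ := main_S (supp2 u) (classify hu) w hw
  exact ⟨σ, hσ.1, actW_eq_of_smul hσ.2, h⟩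

end Cfsg.Agent.Helper9.FixCoset
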