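import Mathlib
import Cfsg.Prelude.Def_Sporadic_a
import Cfsg.Agent.Helper9.Golay.CertT

set_option autoImplicit false

/-!
Classification of a family of code words into orbits of a subgroup given by tables.
-/

namespace Cfsg.Agent.Helper9.Golay

open Cfsg
open scoped Pointwise

theorem goodK_of_run (K : Subgroup (Equiv.Perm GolayPt)) (hKM : K ≤ M24) (tabs : List (List ℕ))
    (htabs : ∀ t ∈ tabs, ∃ σ ∈ K, IsTbl σ t) (cert : List (ℕ × ℕ)) (rootKey final : ℕ)
    (hrun : runCertT tabs cert (1 <<< rootKey) = some final) :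
    GoodK K (suppM (fromKey rootKey)) final := by
  have hgood0 : GoodK K (suppM (fromKey rootKey)) (1 <<< rootKey) := by
    intro i hi
    rw [Nat.one_shiftLeft, Nat.testBit_two_pow, decide_eq_true_eq] at hi
    rw [← hi]
    exact SameOrbitK.refl _ _
  exact goodK_runCertT K hKM tabs htabs _ cert _ final hgood0 hrun

/-- the runs of the certificates of all classes give the announced final sets. -/
def runsOK (tabs : List (List ℕ)) (ks : List ℕ) (certOf : ℕ → List (ℕ × ℕ)) (rootOf finalOf : ℕ → ℕ) :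
    Bool :=
  ks.all (fun k => runCertT tabs (certOf k) (1 <<< rootOf k) == some (finalOf k))

/-- every member of the family lies in the final set of its class. -/
def passOK (ks : List ℕ) (finalOf : ℕ → ℕ) (P : ℕ → Bool) (cls : ℕ → ℕ) : Bool :=
  codeList.all (fun m => !P m || (ks.contains (cls m) && (finalOf (cls m)).testBit (m >>> 12)))

theorem classes_sound (K : Subgroup (Equiv.Perm GolayPt)) (hKM : K ≤ M24) (tabs : List (List ℕ))
    (htabs : ∀ t ∈ tabs, ∃ σ ∈ K, IsTbl σ t) (ks : List ℕ) (certOf : ℕ → List (ℕ × ℕ))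
    (rootOf finalOf : ℕ → ℕ) (P : ℕ → Bool) (cls : ℕ → ℕ)
    (hruns : runsOK tabs ks certOf rootOf finalOf = true)
    (hpass : passOK ks finalOf P cls = true) :
    ∀ m ∈ codeList, P m = true → SameOrbitK K (suppM (fromKey (rootOf (cls m)))) (suppM m) := by
  intro m hm hP
  unfold passOK at hpass
  have h1 := List.all_eq_true.mp hpass m hm
  rw [hP] at h1
  simp only [Bool.not_true, Bool.false_or, Bool.and_eq_true, List.contains_eq_mem,
    decide_eq_true_eq] at h1
  obtain ⟨hk, hbit⟩ := h1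
  unfold runsOK at hruns
  have h2 := List.all_eq_true.mp hruns (cls m) hk
  rw [beq_iff_eq] at h2
  have hgood := goodK_of_run K hKM tabs htabs _ _ _ h2
  have h3 := hgood _ hbit
  rwa [fromKey_key hm] at h3

/-- two members of the family in the same class are conjugate under the subgroup. -/
theorem classes_conj (K : Subgroup (Equiv.Perm GolayPt)) (hKM : K ≤ M24) (tabs : List (List ℕ))
    (htabs : ∀ t ∈ tabs, ∃ σ ∈ K, IsTbl σ t) (ks : List ℕ) (certOf : ℕ → List (ℕ × ℕ))
    (rootOf finalOf : ℕ → ℕ) (P : ℕ → Bool) (cls : ℕ → ℕ)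
    (hruns : runsOK tabs ks certOf rootOf finalOf = true)
    (hpass : passOK ks finalOf P cls = true) {m m' : ℕ} (hm : m ∈ codeList) (hm' : m' ∈ codeList)
    (hP : P m = true) (hP' : P m' = true) (hcls : cls m = cls m') :
    SameOrbitK K (suppM m) (suppM m') := by
  have h1 := classes_sound K hKM tabs htabs ks certOf rootOf finalOf P cls hruns hpass m hm hP
  have h2 := classes_sound K hKM tabs htabs ks certOf rootOf finalOf P cls hruns hpass m' hm' hP'
  rw [hcls] at h1
  exact h1.symm.trans h2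

/-- the tables of the three generators. -/
def stdTabs : List (List ℕ) := [tblOf (stepFun 0), tblOf (stepFun 1), tblOf (stepFun 2)]

theorem goodT_std (prog : List (ℕ × ℕ)) (H : Subgroup (Equiv.Perm GolayPt))
    (h : ∀ g, stepPerm g ∈ H) : GoodT H (runSLP prog stdTabs) := by
  apply goodT_runSLP
  intro t ht
  simp only [stdTabs, List.mem_cons, List.not_mem_nil, or_false] at ht
  rcases ht with rfl | rfl | rfl
  · exact ⟨stepPerm 0, h 0, by rw [stepFun_eq]; exact isTbl_tblOf _⟩
  · exact ⟨stepPerm 1, h 1, by rw [stepFun_eq]; exact isTbl_tblOf _⟩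
  · exact ⟨stepPerm 2, h 2, by rw [stepFun_eq]; exact isTbl_tblOf _⟩

/-- conjugating an orbit statement from standard position. -/
theorem pair_conj_generic (K : Subgroup (Equiv.Perm GolayPt)) (hKM : K ≤ M24)
    {h0 : Equiv.Perm GolayPt} (hh0 : h0 ∈ M24) {a b : Finset GolayPt}
    (hab : SameOrbitK K (h0⁻¹ • a) (h0⁻¹ • b)) :
    ∃ g0 ∈ K, h0 * g0 * h0⁻¹ ∈ M24 ∧ (h0 * g0 * h0⁻¹) • a = b := by
  obtain ⟨g0, hg0, hg0ab⟩ := hab
  refine ⟨g0, hg0, M24.mul_mem (M24.mul_mem hh0 (hKM hg0)) (M24.inv_mem hh0), ?_⟩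
  rw [mul_smul, mul_smul, hg0ab, smul_inv_smul]

theorem card_inter_inv_smul (h0 : Equiv.Perm GolayPt) (s a : Finset GolayPt) :
    (s ∩ h0⁻¹ • a).card = (h0 • s ∩ a).card := by
  have : s ∩ h0⁻¹ • a = h0⁻¹ • (h0 • s ∩ a) := by
    rw [Finset.smul_finset_inter, inv_smul_smul]
  rw [this, card_smul_finset]

end Cfsg.Agent.Helper9.Golay
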