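import Mathlib
import Cfsg.Prelude.Def_Sporadic_a

set_option autoImplicit false

/-!
The Iwasawa criterion for groups of permutations of the 24 points acting on a family of blocks,
with the pointwise stabilizers of the blocks as the commutative subgroups.
-/

namespace Cfsg.Agent.Helper9.Golay

open Cfsg
open scoped Pointwise

theorem simple_of_iwasawa (G : Subgroup (Equiv.Perm GolayPt)) (B : Set (Finset GolayPt))
    (hB : ∀ g ∈ G, ∀ o ∈ B, g • o ∈ B)
    (htrans : ∀ o ∈ B, ∀ o' ∈ B, ∃ g ∈ G, g • o = o')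
    (hnt : ∃ o ∈ B, ∃ o' ∈ B, o ≠ o')
    (hmax : ∀ o ∈ B, IsCoatom (MulAction.stabilizer ↥G o))
    (hinv : ∀ o ∈ B, ∀ x ∈ G, (∀ p ∈ o, x p = p) → x * x = 1)
    (hgen : ∀ V : Subgroup ↥G, (∀ o ∈ B, ∀ x : ↥G, (∀ p ∈ o, x.1 p = p) → x ∈ V) → V = ⊤)
    (hperf : commutator ↥G = ⊤)
    (hfaith : ∀ g ∈ G, (∀ o ∈ B, g • o = o) → g = 1)
    (hG : Nontrivial ↥G) : IsSimpleGroup ↥G := by
  classical
  let A : SubMulAction ↥G (Finset GolayPt) := ⟨B, fun g o ho => hB g.1 g.2 o ho⟩
  have : MulAction.IsPretransitive ↥G ↥A := ⟨fun a b => by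
    obtain ⟨g, hg, hgab⟩ := htrans a.1 a.2 b.1 b.2
    exact ⟨⟨g, hg⟩, Subtype.ext hgab⟩⟩
  have : Nontrivial ↥A := by
    obtain ⟨o, ho, o', ho', hne⟩ := hnt
    exact ⟨⟨⟨o, ho⟩, ⟨o', ho'⟩, fun h => hne (congrArg Subtype.val h)⟩⟩
  have : MulAction.IsPreprimitive ↥G ↥A := by
    obtain ⟨o, ho, -⟩ := hnt
    rw [← MulAction.isCoatom_stabilizer_iff_preprimitive ↥G (⟨o, ho⟩ : ↥A)]
    rw [SubMulAction.stabilizer_of_subMul]
    exact hmax o ho
  let T : ↥A → Subgroup ↥G := fun a =>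
    (fixingSubgroup (Equiv.Perm GolayPt) ((a.1 : Finset GolayPt) : Set GolayPt)).subgroupOf G
  have memT : ∀ (a : ↥A) (x : ↥G), x ∈ T a ↔ ∀ p ∈ a.1, x.1 p = p := by
    intro a x
    simp only [T, Subgroup.mem_subgroupOf, mem_fixingSubgroup_iff, Finset.mem_coe]
    rfl
  let IwaS : MulAction.IwasawaStructure ↥G ↥A :=
    { T := T
      is_comm := fun a => by
        rw [isMulCommutative_iff]
        intro x y
        have hsq : ∀ z : ↥(T a), z * z = 1 := by
          intro z
          apply Subtype.ext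
          apply Subtype.ext
          exact hinv a.1 a.2 z.1.1 z.1.2 ((memT a z.1).mp z.2)
        have hinv' : ∀ z : ↥(T a), z⁻¹ = z := fun z => inv_eq_of_mul_eq_one_right (hsq z)
        calc x * y = (x * y)⁻¹ := (hinv' _).symm
          _ = y⁻¹ * x⁻¹ := mul_inv_rev x y
          _ = y * x := by rw [hinv' x, hinv' y]
      is_conj := fun g a => by
        ext x
        rw [Subgroup.mem_pointwise_smul_iff_inv_smul_mem, memT, memT]
        have hsm : ((g • a : ↥A) : Finset GolayPt) = g.1 • (a : Finset GolayPt) := rfl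
        rw [hsm]
        have hconj : (((MulAut.conj g)⁻¹ • x : ↥G) : Equiv.Perm GolayPt) = g.1⁻¹ * x.1 * g.1 := by
          rw [← map_inv, MulAut.smul_def, MulAut.conj_apply, inv_inv]
          rfl
        rw [hconj]
        constructor
        · intro h q hq
          have := h (g.1 q) (Finset.smul_mem_smul_finset hq)
          simp only [Equiv.Perm.mul_apply, this, Equiv.Perm.coe_inv, Equiv.symm_apply_apply]
        · intro h p hp
          obtain ⟨q, hq, rfl⟩ := Finset.mem_smul_finset.mp hp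
          have := h q hq
          simp only [Equiv.Perm.mul_apply, Equiv.Perm.coe_inv] at this
          have h2 := congrArg g.1 this
          simpa using h2
      is_generator := hgen _ (fun o ho x hx =>
        Subgroup.mem_iSup_of_mem (⟨o, ho⟩ : ↥A) ((memT _ _).mpr hx)) }
  refine IwaS.isSimpleGroup hperf ⟨?_⟩
  intro m₁ m₂ h
  have h1 : (m₁⁻¹ * m₂).1 = 1 := by
    apply hfaith _ (m₁⁻¹ * m₂).2
    intro o ho
    have := h (⟨o, ho⟩ : ↥A)
    have h2 : m₁.1 • o = m₂.1 • o := congrArg Subtype.val this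
    change (m₁.1⁻¹ * m₂.1) • o = o
    rw [mul_smul, ← h2, inv_smul_smul]
  have h2 : m₁⁻¹ * m₂ = 1 := Subtype.ext h1
  have := congrArg (fun z => m₁ * z) h2
  simpa using this.symm

end Cfsg.Agent.Helper9.Golay
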