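import Mathlib
import Cfsg.Prelude.Def_Sporadic_a
import Cfsg.Agent.Helper9.Golay.CertT2
import Cfsg.Agent.Helper9.Golay.OctFix
import Cfsg.Agent.Helper9.Golay.Iwasawa

set_option autoImplicit false

/-!
Simplicity of the stabilizer of some base points in the group of the length-24 code, from a
certificate: involutions fixing an octad pointwise which generate the group, and relations of
odd order among them.
-/

namespace Cfsg.Agent.Helper9.Golay

open Cfsg
open scoped Pointwise

/-- the stabilizer of the base points with indices in `F`. -/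
def GF (F : List ℕ) : Subgroup (Equiv.Perm GolayPt) := M24 ⊓ fixL (F.map idxPtN)

/-- the octads through these points. -/
def BF (F : List ℕ) : Set (Finset GolayPt) := {o | o ∈ octads ∧ ∀ i ∈ F, idxPtN i ∈ o}

/-- table of a power. -/
def powT (t : List ℕ) : ℕ → List ℕ
  | 0 => idT
  | n + 1 => mulT t (powT t n)

theorem IsTbl.pow {σ : Equiv.Perm GolayPt} {t : List ℕ} (h : IsTbl σ t) (n : ℕ) :
    IsTbl (σ ^ n) (powT t n) := by
  induction n with
  | zero => rw [pow_zero]; exact isTbl_one
  | succ n ih => rw [pow_succ']; exact h.mul ih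

def certTabs1 (prog1 : List (ℕ × ℕ)) : List (List ℕ) := runSLP prog1 stdTabs

def certInit2 (prog1 zs : List (ℕ × ℕ)) : List (List ℕ) :=
  zs.map (fun e => (certTabs1 prog1).getD e.1 idT)

def certTabs2 (prog1 zs prog2 : List (ℕ × ℕ)) : List (List ℕ) :=
  runSLP prog2 (certInit2 prog1 zs)

/-- the involutions fix an octad through the base points pointwise. -/
def zsOK (F : List ℕ) (prog1 zs : List (ℕ × ℕ)) : Bool :=
  zs.all (fun e => decide (e.2 ∈ codeList) && popc e.2 == 8 &&
    F.all (fun i => decide (i < 24) && e.2.testBit i) &&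
    (List.range 24).all (fun i => !e.2.testBit i || ((certTabs1 prog1).getD e.1 idT).getD i 0 == i))

/-- the relations: products of the first involution with the others, and one triple product,
have odd order. -/
def relsOK (prog1 zs : List (ℕ × ℕ)) (pairM : List ℕ) (triM : ℕ) : Bool :=
  (List.range (zs.length - 1)).all (fun j =>
    pairM.getD j 0 % 2 == 1 &&
      powT (mulT ((certInit2 prog1 zs).getD 0 idT) ((certInit2 prog1 zs).getD (j + 1) idT))
        (pairM.getD j 0) == idT) &&
  (triM % 2 == 1 &&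
    powT (mulT (mulT ((certInit2 prog1 zs).getD 0 idT) ((certInit2 prog1 zs).getD 1 idT))
      ((certInit2 prog1 zs).getD 2 idT)) triM == idT)

theorem eq_one_of_odd {A : Type*} [CommGroup A] {x : A} {m : ℕ} (hm : m % 2 = 1)
    (h2 : x ^ 2 = 1) (hx : x ^ m = 1) : x = 1 := by
  have h1 := orderOf_dvd_of_pow_eq_one hx
  have h2' := orderOf_dvd_of_pow_eq_one h2
  have h3 : orderOf x ∣ Nat.gcd m 2 := Nat.dvd_gcd h1 h2'
  have h4 : Nat.gcd m 2 = 1 := by
    have : Nat.Coprime 2 m := (Nat.Prime.coprime_iff_not_dvd Nat.prime_two).mpr (by omega)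
    exact this.symm
  rw [h4, Nat.dvd_one] at h3
  exact orderOf_eq_one_iff.mp h3

theorem simple_of_cert (F : List ℕ) (prog1 zs prog2 : List (ℕ × ℕ))
    (levels : List (ℕ × List (ℕ × ℕ))) (pairM : List ℕ) (triM N0 : ℕ)
    (hzs : zsOK F prog1 zs = true)
    (hchain : chainOK (certTabs2 prog1 zs prog2) [] levels = true)
    (hbound : chainBound levels = N0)
    (hrels : relsOK prog1 zs pairM triM = true)
    (hk : 3 ≤ zs.length)
    (hcard : Nat.card (GF F) = N0) (hN0 : 1 < N0)
    (htrans : ∀ o ∈ BF F, ∀ o' ∈ BF F, ∃ g ∈ GF F, g • o = o')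
    (hnt : ∃ o ∈ BF F, ∃ o' ∈ BF F, o ≠ o')
    (hmax : ∀ o ∈ BF F, IsCoatom (MulAction.stabilizer ↥(GF F) o))
    (hfaith : ∀ g ∈ GF F, (∀ o ∈ BF F, g • o = o) → g = 1) :
    IsSimpleGroup ↥(GF F) := by
  classical
  have hst1 : GoodT M24 (certTabs1 prog1) := goodT_std prog1 M24 stepPerm_mem
  -- the involutions
  have zmem : ∀ e ∈ zs, ∃ σ ∈ GF F, IsTbl σ ((certTabs1 prog1).getD e.1 idT) ∧
      ∃ o ∈ BF F, ∀ p ∈ o, σ p = p := by
    intro e he
    have hc := List.all_eq_true.mp hzs e he
    simp only [Bool.and_eq_true, decide_eq_true_eq, beq_iff_eq, List.all_eq_true,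
      List.mem_range, Bool.or_eq_true, Bool.not_eq_true'] at hc
    obtain ⟨⟨⟨hm, h8⟩, hF⟩, hfix⟩ := hc
    obtain ⟨σ, hσ, hσt⟩ := hst1.getD e.1
    have hfix' : ∀ p ∈ suppM e.2, σ p = p := by
      intro p hp
      rw [mem_suppM] at hp
      rcases hfix (ptIdx p) (ptIdx_lt p) with h | h
      · rw [hp] at h; exact absurd h (by simp)
      · apply ptIdx_injective
        rw [← hσt.2 p]
        exact h
    have hFmem : ∀ i ∈ F, idxPtN i ∈ suppM e.2 := by
      intro i hi
      rw [mem_suppM, ptIdx_idxPtN (hF i hi).1]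
      exact (hF i hi).2
    refine ⟨σ, Subgroup.mem_inf.mpr ⟨hσ, ?_⟩, hσt, suppM e.2,
      ⟨(mem_octads_iff _).mpr ⟨e.2, hm, h8, rfl⟩, hFmem⟩, hfix'⟩
    rw [mem_fixL]
    intro b hb
    rw [List.mem_map] at hb
    obtain ⟨i, hi, rfl⟩ := hb
    exact hfix' _ (hFmem i hi)
  -- a subgroup containing the involutions is everything
  have gens_top : ∀ V : Subgroup ↥(GF F),
      (∀ e ∈ zs, ∀ x : ↥(GF F), IsTbl x.1 ((certTabs1 prog1).getD e.1 idT) → x ∈ V) → V = ⊤ := by
    intro V hV
    apply Subgroup.eq_top_of_le_card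
    have hinit : GoodT (V.map (GF F).subtype) (certInit2 prog1 zs) := by
      intro t ht
      unfold certInit2 at ht
      rw [List.mem_map] at ht
      obtain ⟨e, he, rfl⟩ := ht
      obtain ⟨σ, hσ, hσt, -⟩ := zmem e he
      exact ⟨σ, ⟨⟨σ, hσ⟩, hV e he ⟨σ, hσ⟩ hσt, rfl⟩, hσt⟩
    have hst2 : GoodT (V.map (GF F).subtype) (certTabs2 prog1 zs prog2) :=
      goodT_runSLP _ prog2 _ hinit
    have h1 := chain_lower hst2 levels [] hchain
    rw [hbound] at h1
    have h2 : (V.map (GF F).subtype ⊓ fixL (([] : List ℕ).map idxPtN) :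
        Subgroup (Equiv.Perm GolayPt)) = V.map (GF F).subtype := by
      simp [fixL]
    rw [h2, Subgroup.card_map_of_injective (GF F).subtype_injective] at h1
    rw [hcard]
    exact h1
  have hinv : ∀ o ∈ BF F, ∀ x ∈ GF F, (∀ p ∈ o, x p = p) → x * x = 1 := by
    intro o ho x hx hfix
    apply (oct_fix_card_sq ho.1).2 x
    rw [Subgroup.mem_inf, mem_fixingSubgroup_iff]
    exact ⟨(Subgroup.mem_inf.mp hx).1, hfix⟩
  apply simple_of_iwasawa (GF F) (BF F)
  · intro g hg o ho
    refine ⟨smul_mem_wordsOfWeight (Subgroup.mem_inf.mp hg).1 ho.1, ?_⟩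
    intro i hi
    have h1 : g (idxPtN i) = idxPtN i :=
      mem_fixL.mp (Subgroup.mem_inf.mp hg).2 _ (List.mem_map.mpr ⟨i, hi, rfl⟩)
    rw [← h1]
    exact Finset.smul_mem_smul_finset (ho.2 i hi)
  · exact htrans
  · exact hnt
  · exact hmax
  · exact hinv
  · intro V hV
    apply gens_top
    intro e he x hx
    obtain ⟨σ, hσ, hσt, o, ho, hfix⟩ := zmem e he
    have : x.1 = σ := hx.eq_of_eq hσt
    apply hV o ho
    rw [this]
    exact hfix
  · -- perfectness
    apply gens_top
    have hex : ∀ i, i < zs.length → ∃ x : ↥(GF F),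
        IsTbl x.1 ((certInit2 prog1 zs).getD i idT) ∧ x * x = 1 := by
      intro i hi
      have hmem : zs[i] ∈ zs := List.getElem_mem hi
      obtain ⟨σ, hσ, hσt, o, ho, hfix⟩ := zmem _ hmem
      refine ⟨⟨σ, hσ⟩, ?_, Subtype.ext (hinv o ho σ hσ hfix)⟩
      unfold certInit2
      rw [List.getD_eq_getElem _ _ (by rw [List.length_map]; exact hi), List.getElem_map]
      exact hσt
    choose x hxt hxsq using hex
    let φ : ↥(GF F) →* Abelianization ↥(GF F) := Abelianization.of
    have hsq : ∀ i (hi : i < zs.length), φ (x i hi) ^ 2 = 1 := by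
      intro i hi
      rw [← map_pow, pow_two, hxsq i hi, map_one]
    unfold relsOK at hrels
    simp only [Bool.and_eq_true, List.all_eq_true, List.mem_range, beq_iff_eq] at hrels
    obtain ⟨hpair, htm, htri⟩ := hrels
    have h0 : 0 < zs.length := by omega
    have h1' : 1 < zs.length := by omega
    have h2' : 2 < zs.length := by omega
    have hpair1 : ∀ j (hj : j + 1 < zs.length), φ (x 0 h0) * φ (x (j + 1) hj) = 1 := by
      intro j hj
      obtain ⟨hodd, hpow⟩ := hpair j (by omega)
      have ht := ((hxt 0 h0).mul (hxt (j + 1) hj)).pow (pairM.getD j 0)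
      rw [hpow] at ht
      have h1 : ((x 0 h0).1 * (x (j + 1) hj).1) ^ (pairM.getD j 0) = 1 := ht.eq_of_eq isTbl_one
      have h2 : (x 0 h0 * x (j + 1) hj) ^ (pairM.getD j 0) = 1 := Subtype.ext h1
      have h3 := congrArg φ h2
      rw [map_pow, map_mul, map_one] at h3
      apply eq_one_of_odd hodd _ h3
      rw [mul_pow, hsq, hsq, one_mul]
    have htri1 : φ (x 0 h0) * φ (x 1 h1') * φ (x 2 h2') = 1 := by
      have ht := (((hxt 0 h0).mul (hxt 1 h1')).mul (hxt 2 h2')).pow triM
      rw [htri] at ht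
      have h1 : ((x 0 h0).1 * (x 1 h1').1 * (x 2 h2').1) ^ triM = 1 := ht.eq_of_eq isTbl_one
      have h2 : (x 0 h0 * x 1 h1' * x 2 h2') ^ triM = 1 := Subtype.ext h1
      have h3 := congrArg φ h2
      rw [map_pow, map_mul, map_mul, map_one] at h3
      apply eq_one_of_odd htm _ h3
      rw [mul_pow, mul_pow, hsq, hsq, hsq, one_mul, one_mul]
    have hinv0 : ∀ j (hj : j + 1 < zs.length), φ (x (j + 1) hj) = φ (x 0 h0) := by
      intro j hj
      have h1 := hpair1 j hj
      have h2 := hsq 0 h0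
      rw [pow_two] at h2
      have : φ (x 0 h0) * φ (x (j + 1) hj) = φ (x 0 h0) * φ (x 0 h0) := by rw [h1, h2]
      exact mul_left_cancel this
    have hx0 : φ (x 0 h0) = 1 := by
      have h1 := htri1
      rw [hinv0 0 h1', hinv0 1 h2'] at h1
      have h2 := hsq 0 h0
      rw [pow_two] at h2
      rw [h2, one_mul] at h1
      exact h1
    have hall : ∀ i (hi : i < zs.length), φ (x i hi) = 1 := by
      intro i hi
      cases i with
      | zero => exact hx0
      | succ j => rw [hinv0 j hi]; exact hx0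
    intro e he y hy
    obtain ⟨i, hi, rfl⟩ := List.getElem_of_mem he
    have hyx : y = x i hi := by
      apply Subtype.ext
      have h1 := hxt i hi
      unfold certInit2 at h1
      rw [List.getD_eq_getElem _ _ (by rw [List.length_map]; exact hi), List.getElem_map] at h1
      exact hy.eq_of_eq h1
    rw [hyx, ← Abelianization.ker_of]
    exact hall i hi
  · exact hfaith
  · rw [← Finite.one_lt_card_iff_nontrivial, hcard]
    exact hN0

end Cfsg.Agent.Helper9.Golay
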