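import Mathlib
import Cfsg.Prelude.Def_Sporadic_a
import Cfsg.Agent.Helper9.Golay.SimpleCert
import Cfsg.Agent.Helper9.Golay.OctFlag2
import Cfsg.Agent.Helper9.Golay.OctGraph
import Cfsg.Agent.Helper9.Golay.ListTrans
import Cfsg.Agent.Helper9.Coatom
import Cfsg.Agent.S0378

set_option autoImplicit false

/-!
Simplicity of the two-point stabilizer in the group of the length-24 code.
-/

namespace Cfsg.Agent.Helper9.Golay

open Cfsg
open scoped Pointwise

def s22Prog1 : List (ℕ × ℕ) := [(1, 0), (2, 3), (4, 4), (5, 5), (5, 6), (6, 6), (8, 8), (7, 9), (0, 0), (1, 11), (2, 11), (0, 13), (1, 14), (0, 12), (0, 16), (17, 17), (18, 18), (19, 19), (18, 20), (21, 15), (0, 11), (0, 23), (2, 0), (2, 25), (26, 26), (27, 27), (28, 24), (2, 4), (0, 30), (25, 25), (32, 32), (25, 33), (34, 31), (1, 23), (0, 17), (10, 37), (0, 25), (0, 39), (2, 40), (1, 41), (0, 36), (43, 43), (44, 44), (45, 45), (44, 46), (47, 42), (2, 13), (11, 11), (11, 50), (50, 50),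 (52, 52), (51, 53), (54, 49), (2, 12), (39, 39), (57, 57), (57, 58), (59, 56), (2, 35), (22, 61), (22, 29), (35, 63), (64, 64), (65, 65), (65, 66), (66, 66), (68, 68), (67, 69), (70, 62), (22, 35), (38, 72), (72, 72), (74, 74), (72, 75), (76, 73), (35, 35), (22, 78), (29, 2), (80, 80), (81, 81), (81, 82), (83, 79), (55, 35), (38, 85), (48, 2), (87, 87), (88, 88), (89, 89), (88, 90), (91, 86), (38, 35), (2, 93), (55, 63), (95, 95), (96, 96), (96, 97), (97, 97), (98, 99), (100, 94), (38, 61), (29, 29), (29, 103), (103, 103), (104, 105), (106, 102), (60, 29), (38, 108), (78, 78), (110, 110), (110, 111), (111, 111), (113, 113), (112, 114), (115, 109), (38, 64), (92, 116), (101, 118), (101, 119), (117, 120), (116, 121), (71, 122), (117, 123), (124, 124), (116, 116), (84, 126), (107, 127), (107, 128), (77, 129), (130, 125), (130, 130), (132, 132), (131, 133), (84, 77), (107, 107), (117, 136), (101, 137), (71, 138), (116, 139), (84, 140), (92,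 141), (116, 142), (143, 125), (143, 143), (145, 145), (146, 146), (145, 147), (144, 148), (77, 84), (101, 150), (71, 151), (77, 152), (77, 153), (71, 154), (117, 155), (71, 156), (101, 157), (92, 158), (159, 125), (159, 159), (161, 161), (161, 162), (160, 163), (107, 135), (101, 165), (77, 166), (84, 167), (84, 168), (169, 125), (169, 169), (171, 171), (170, 172), (116, 107), (71, 174), (101, 175), (84, 176), (92, 177), (71, 178), (101, 179), (77, 180), (181, 125), (181, 181), (183, 183), (183, 184), (182, 185)]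

def s22Z : List (ℕ × ℕ) := [(125, 657763), (134, 1053483), (149, 8536111), (164, 4587803), (173, 10496547), (186, 1188915)]

def s22Prog2 : List (ℕ × ℕ) := [(1, 0), (2, 0), (4, 0), (5, 0), (0, 1), (2, 1), (5, 1), (0, 4), (1, 4), (2, 5), (3, 5), (4, 5), (4, 6), (0, 7), (5, 7), (3, 8), (1, 13), (5, 10), (13, 13), (24, 23), (3, 6), (0, 26), (2, 19), (22, 22), (29, 29), (30, 28), (25, 25), (31, 25), (25, 31), (27, 31), (31, 31), (25, 32), (31, 32), (27, 33), (31, 33), (27, 34), (25, 35), (31, 35), (25, 36), (27, 36), (25, 38), (27, 38), (31, 40), (25, 43), (25, 33), (25, 46), (48, 48), (52, 52), (53, 51), (25, 47), (43, 43), (56, 56), (56, 57), (58, 55), (50, 50), (54, 50), (59, 50), (50, 54), (54, 54), (54, 60), (59, 60), (50, 61), (54, 61), (59, 62), (59, 64), (50, 65), (59, 65), (50, 66), (59, 66), (59, 68), (59, 74), (54, 75), (66, 66), (78, 78), (79, 77), (59, 75), (71, 71), (82, 81), (59, 70), (64, 64), (85, 84), (83, 83), (80, 83),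 (87, 88), (89, 86), (80, 86), (80, 89), (80, 90), (86, 83), (87, 94), (95, 86), (95, 89), (95, 80), (95, 90), (95, 91), (95, 92), (95, 93)]

def s22Levels : List (ℕ × List (ℕ × ℕ)) := [(2, [(2, 100000), (3, 10), (4, 19), (5, 16), (6, 9), (7, 13), (8, 12), (9, 21), (10, 4), (11, 22), (12, 5), (13, 14), (14, 18), (15, 0), (16, 1), (17, 17), (18, 11), (19, 6), (20, 8), (21, 7), (22, 15), (23, 20)]),
  (3, [(3, 100000), (4, 40), (5, 39), (6, 36), (7, 32), (8, 46), (9, 35), (10, 31), (11, 43), (12, 45), (13, 33), (14, 44), (15, 42), (16, 48), (17, 38), (18, 49), (19, 37), (20, 34), (21, 47), (22, 25), (23, 41)]),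
  (4, [(4, 100000), (5, 76), (6, 50), (7, 64), (8, 74), (9, 65), (10, 70), (11, 63), (12, 54), (13, 62), (14, 75), (15, 71), (16, 60), (17, 66), (18, 67), (19, 68), (20, 61), (21, 72), (22, 69), (23, 73)]),
  (7, [(7, 100000), (10, 83), (12, 87)]),
  (5, [(5, 100000), (6, 93), (8, 89), (9, 102), (11, 92), (13, 80), (14, 95), (15, 90), (16, 99), (17, 96), (18, 91), (19, 97), (20, 100), (21, 98), (22, 101), (23, 86)])]

def s22PairM : List ℕ := [5, 5, 5, 3, 5]

def s22TriM : ℕ := 7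

theorem s22_zs : zsOK [0, 1] s22Prog1 s22Z = true := by decide +kernel

theorem s22_chain : chainOK (certTabs2 s22Prog1 s22Z s22Prog2) [] s22Levels = true := by
  decide +kernel

theorem s22_bound : chainBound s22Levels = 443520 := by decide +kernel

theorem s22_rels : relsOK s22Prog1 s22Z s22PairM s22TriM = true := by decide +kernel

theorem idx01_ne : idxPtN 0 ≠ idxPtN 1 := by decide

theorem mem_GF01 {g : Equiv.Perm GolayPt} :
    g ∈ GF [0, 1] ↔ g ∈ M24 ∧ g (idxPtN 0) = idxPtN 0 ∧ g (idxPtN 1) = idxPtN 1 := by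
  unfold GF
  rw [Subgroup.mem_inf, mem_fixL]
  simp

theorem mem_BF01 {o : Finset GolayPt} :
    o ∈ BF [0, 1] ↔ o ∈ octads ∧ idxPtN 0 ∈ o ∧ idxPtN 1 ∈ o := by
  unfold BF
  constructor
  · rintro ⟨h1, h2⟩
    exact ⟨h1, h2 0 (by simp), h2 1 (by simp)⟩
  · rintro ⟨h1, h2, h3⟩
    refine ⟨h1, ?_⟩
    intro i hi
    simp only [List.mem_cons, List.not_mem_nil, or_false] at hi
    rcases hi with rfl | rfl
    · exact h2
    · exact h3

theorem card_GF01 : Nat.card (GF [0, 1]) = 443520 := by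
  rw [← Cfsg.Agent.S0378.result (idxPtN 0) (idxPtN 1) idx01_ne]
  apply Nat.card_congr
  exact ⟨fun x => ⟨⟨x.1, (mem_GF01.mp x.2).1⟩,
      Subgroup.mem_inf.mpr ⟨(mem_GF01.mp x.2).2.1, (mem_GF01.mp x.2).2.2⟩⟩,
    fun x => ⟨x.1.1, mem_GF01.mpr ⟨x.1.2, (Subgroup.mem_inf.mp x.2).1, (Subgroup.mem_inf.mp x.2).2⟩⟩,
    fun _ => rfl, fun _ => rfl⟩

theorem trans_BF01 : ∀ o ∈ BF [0, 1], ∀ o' ∈ BF [0, 1], ∃ g ∈ GF [0, 1], g • o = o' := by
  intro o ho o' ho'
  rw [mem_BF01] at ho ho'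
  obtain ⟨h, hh, hho, hh0, hh1⟩ := exists_flag_in2 ho.1 ho.2.1 ho.2.2 idx01_ne
  obtain ⟨h', hh', hho', hh0', hh1'⟩ := exists_flag_in2 ho'.1 ho'.2.1 ho'.2.2 idx01_ne
  refine ⟨h' * h⁻¹, mem_GF01.mpr ⟨M24.mul_mem hh' (M24.inv_mem hh), ?_, ?_⟩, ?_⟩
  · rw [Equiv.Perm.mul_apply]
    nth_rewrite 1 [← hh0]
    simp only [Equiv.Perm.coe_inv, Equiv.symm_apply_apply]
    exact hh0'
  · rw [Equiv.Perm.mul_apply]
    nth_rewrite 1 [← hh1]
    simp only [Equiv.Perm.coe_inv, Equiv.symm_apply_apply]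
    exact hh1'
  · rw [mul_smul, ← hho, inv_smul_smul, hho']

theorem oct18147_mem' : suppM 18147 ∈ octads :=
  (mem_octads_iff _).mpr ⟨18147, by decide +kernel, by decide, rfl⟩

theorem nt_BF01 : ∃ o ∈ BF [0, 1], ∃ o' ∈ BF [0, 1], o ≠ o' := by
  refine ⟨suppM 5279, mem_BF01.mpr ⟨oct5279_mem, by rw [mem_suppM]; decide,
      by rw [mem_suppM]; decide⟩,
    suppM 18147, mem_BF01.mpr ⟨oct18147_mem', by rw [mem_suppM]; decide,
      by rw [mem_suppM]; decide⟩, ?_⟩
  intro h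
  have h5 : idxPtN 5 ∈ suppM 18147 := by rw [mem_suppM]; decide
  rw [← h, mem_suppM] at h5
  exact absurd h5 (by decide)

theorem max_BF01 : ∀ o ∈ BF [0, 1], IsCoatom (MulAction.stabilizer ↥(GF [0, 1]) o) := by
  intro o ho
  have ho' := mem_BF01.mp ho
  have hflag := fun o' o'' ho1 ho2 hp hq hc =>
    flag_in2_orbits (idxPtN 0) (idxPtN 1) idx01_ne o o' o'' ho'.1 ho1 ho2 hp hq hc
  obtain ⟨h16, h60, -⟩ := hflag o o ho'.1 ho'.1 ⟨ho'.2.1, ho'.2.1, ho'.2.1⟩
    ⟨ho'.2.2, ho'.2.2, ho'.2.2⟩ rfl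
  have horb : MulAction.orbit ↥(GF [0, 1]) o = BF [0, 1] := by
    ext o'
    constructor
    · rintro ⟨g, rfl⟩
      rw [mem_BF01]
      obtain ⟨hgM, hg0, hg1⟩ := mem_GF01.mp g.2
      refine ⟨smul_mem_wordsOfWeight hgM ho'.1, ?_, ?_⟩
      · rw [← hg0]
        exact Finset.smul_mem_smul_finset ho'.2.1
      · rw [← hg1]
        exact Finset.smul_mem_smul_finset ho'.2.2
    · intro ho''
      obtain ⟨g, hg, hgo⟩ := trans_BF01 o ho o' ho''
      exact ⟨⟨g, hg⟩, hgo⟩
  apply Cfsg.Agent.Helper9.isCoatom_stabilizer_of_suborbits' o (fun o' => (o ∩ o').card)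
    ({2, 4} : Finset ℕ) (fun v => if v = 2 then 16 else 60)
  · decide
  · intro y hy z hz hc
    rw [horb, mem_BF01] at hy hz
    obtain ⟨-, -, g, hg, hg0, hg1, hgo, hgy⟩ := hflag y z hy.1 hz.1 ⟨ho'.2.1, hy.2.1, hz.2.1⟩
      ⟨ho'.2.2, hy.2.2, hz.2.2⟩ hc
    exact ⟨⟨g, mem_GF01.mpr ⟨hg, hg0, hg1⟩⟩, hgo, hgy⟩
  · intro y hy hne
    rw [horb, mem_BF01] at hy
    have h1 := card_inter_octads ho'.1 hy.1 (Ne.symm hne)
    have h2 : 0 < (o ∩ y).card :=
      Finset.card_pos.mpr ⟨idxPtN 0, Finset.mem_inter.mpr ⟨ho'.2.1, hy.2.1⟩⟩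
    simp only [Finset.mem_insert, Finset.mem_singleton]
    omega
  · rw [Finset.inter_self, ho'.1.2]
    decide
  · intro v hv
    rw [horb]
    have hset : {y | y ∈ BF [0, 1] ∧ (o ∩ y).card = v} =
        {x : Finset GolayPt | x ∈ octads ∧ idxPtN 0 ∈ x ∧ idxPtN 1 ∈ x ∧ (o ∩ x).card = v} := by
      ext y
      simp only [Set.mem_ofPred_eq, mem_BF01, and_assoc]
    rw [hset]
    simp only [Finset.mem_insert, Finset.mem_singleton] at hv
    rcases hv with rfl | rfl
    · exact h16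
    · exact h60
  · decide

theorem faith_BF01 : ∀ g ∈ GF [0, 1], (∀ o ∈ BF [0, 1], g • o = o) → g = 1 := by
  intro g hg hfix
  obtain ⟨hgM, hg0, hg1⟩ := mem_GF01.mp hg
  apply Equiv.ext
  intro p
  by_contra hne
  have hne' : g p ≠ p := hne
  have hp0 : p ≠ idxPtN 0 := fun h => hne' (by rw [h]; exact hg0)
  have hp1 : p ≠ idxPtN 1 := fun h => hne' (by rw [h]; exact hg1)
  have hq0 : g p ≠ idxPtN 0 := by
    intro h
    apply hp0
    apply g.injective
    rw [h, hg0]
  have hq1 : g p ≠ idxPtN 1 := by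
    intro h
    apply hp1
    apply g.injective
    rw [h, hg1]
  have hnd : [idxPtN 0, idxPtN 1, p, g p].Nodup := by
    simp only [List.nodup_cons, List.mem_cons, List.not_mem_nil, or_false, not_or,
      List.nodup_nil, and_true, not_false_eq_true]
    exact ⟨⟨idx01_ne, Ne.symm hp0, Ne.symm hq0⟩, ⟨Ne.symm hp1, Ne.symm hq1⟩, Ne.symm hne'⟩
  have hnd0 : [idxPtN 0, idxPtN 1, idxPtN 2, idxPtN 5].Nodup := by decide
  obtain ⟨k, hk, hkl⟩ := m24_map_list [idxPtN 0, idxPtN 1, idxPtN 2, idxPtN 5]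
    [idxPtN 0, idxPtN 1, p, g p] hnd0 hnd rfl (by simp)
  simp only [List.map_cons, List.map_nil, List.cons.injEq, and_true] at hkl
  obtain ⟨hk0, hk1, hk2, hk5⟩ := hkl
  have hoct : k • suppM 5279 ∈ BF [0, 1] := by
    rw [mem_BF01]
    refine ⟨smul_mem_wordsOfWeight hk oct5279_mem, ?_, ?_⟩
    · nth_rewrite 1 [← hk0]
      exact Finset.smul_mem_smul_finset (by rw [mem_suppM]; decide)
    · nth_rewrite 1 [← hk1]
      exact Finset.smul_mem_smul_finset (by rw [mem_suppM]; decide)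
  have hp : p ∈ k • suppM 5279 := by
    rw [← hk2]; exact Finset.smul_mem_smul_finset (by rw [mem_suppM]; decide)
  have hgp : g p ∉ k • suppM 5279 := by
    rw [← hk5]
    intro hcon
    have := (Finset.smul_mem_smul_finset_iff k).mp hcon
    rw [mem_suppM] at this
    exact absurd this (by decide)
  apply hgp
  rw [← hfix _ hoct]
  exact Finset.smul_mem_smul_finset hp

theorem GF01_simple : IsSimpleGroup ↥(GF [0, 1]) :=
  simple_of_cert [0, 1] s22Prog1 s22Z s22Prog2 s22Levels s22PairM s22TriM 443520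
    s22_zs s22_chain s22_bound s22_rels (by decide) card_GF01 (by norm_num)
    trans_BF01 nt_BF01 max_BF01 faith_BF01

/-- the stabilizer of two points is isomorphic to the standard one. -/
noncomputable def stabEquiv01 {k : Equiv.Perm GolayPt} (hk : k ∈ M24) {p q : GolayPt}
    (hkp : k (idxPtN 0) = p) (hkq : k (idxPtN 1) = q) :
    ↥(MulAction.stabilizer M24 p ⊓ MulAction.stabilizer M24 q) ≃* ↥(GF [0, 1]) where
  toFun x := ⟨k⁻¹ * x.1.1 * k,
    mem_GF01.mpr ⟨M24.mul_mem (M24.mul_mem (M24.inv_mem hk) x.1.2) hk, by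
      have hx : x.1.1 p = p := (Subgroup.mem_inf.mp x.2).1
      rw [Equiv.Perm.mul_apply, Equiv.Perm.mul_apply, hkp, hx, ← hkp]
      simp only [Equiv.Perm.coe_inv, Equiv.symm_apply_apply], by
      have hx : x.1.1 q = q := (Subgroup.mem_inf.mp x.2).2
      rw [Equiv.Perm.mul_apply, Equiv.Perm.mul_apply, hkq, hx, ← hkq]
      simp only [Equiv.Perm.coe_inv, Equiv.symm_apply_apply]⟩⟩
  invFun y := ⟨⟨k * y.1 * k⁻¹,
      M24.mul_mem (M24.mul_mem hk (mem_GF01.mp y.2).1) (M24.inv_mem hk)⟩, by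
    refine Subgroup.mem_inf.mpr ⟨?_, ?_⟩
    · change (k * y.1 * k⁻¹) p = p
      rw [Equiv.Perm.mul_apply, Equiv.Perm.mul_apply, ← hkp]
      simp only [Equiv.Perm.coe_inv, Equiv.symm_apply_apply]
      rw [(mem_GF01.mp y.2).2.1]
    · change (k * y.1 * k⁻¹) q = q
      rw [Equiv.Perm.mul_apply, Equiv.Perm.mul_apply, ← hkq]
      simp only [Equiv.Perm.coe_inv, Equiv.symm_apply_apply]
      rw [(mem_GF01.mp y.2).2.2]⟩
  left_inv x := by
    apply Subtype.ext
    apply Subtype.ext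
    simp only
    group
  right_inv y := by
    apply Subtype.ext
    simp only
    group
  map_mul' x y := by
    apply Subtype.ext
    simp only [Subgroup.coe_mul]
    group

theorem two_point_stab_simple (p q : GolayPt) (hpq : p ≠ q) :
    IsSimpleGroup ↥(MulAction.stabilizer M24 p ⊓ MulAction.stabilizer M24 q) := by
  obtain ⟨k, hk, hkp, hkq⟩ := m24_two_trans idx01_ne hpq
  have := GF01_simple
  exact (stabEquiv01 hk hkp hkq).isSimpleGroup

end Cfsg.Agent.Helper9.Golay
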