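import Mathlib
import Cfsg.Prelude.Def_Sporadic_a
import Cfsg.Agent.Helper9.Golay.CertT2
import Cfsg.Agent.Helper9.Golay.M24Trans
import Cfsg.Agent.Helper9.Golay.OctFix
import Cfsg.Agent.Helper9.Golay.Iwasawa
import Cfsg.Agent.S1565

set_option autoImplicit false

/-!
Simplicity of the group of the length-24 code, by the Iwasawa criterion for its action on the
octads.
-/

namespace Cfsg.Agent.Helper9.Golay

open Cfsg
open scoped Pointwise

def sProg1 : List (ℕ × ℕ) := [(0, 2), (2, 2), (1, 2), (0, 4), (1, 1), (0, 7), (0, 8), (2, 9), (0, 10), (0, 11), (2, 12), (1, 13), (2, 14), (1, 15), (16, 16), (16, 17), (1, 5), (2, 19), (0, 20), (0, 21), (2, 22), (1, 23), (0, 24), (25, 25), (26, 26), (0, 6), (2, 28), (2, 29), (1, 30), (2, 31), (2, 32), (2, 33), (1, 34), (35, 35), (35, 36), (36, 36), (37, 38), (0, 0), (0, 40), (1, 8), (2, 42), (1, 43), (0, 44), (0, 45), (0, 46), (0, 47), (48, 48), (49, 49), (2, 41), (1, 51), (2, 52), (1, 53), (1, 54), (55, 55), (55, 56), (56, 56), (57, 58), (2, 3), (0, 60),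 (0, 61), (1, 62), (2, 63), (0, 64), (0, 65), (66, 66), (67, 67), (67, 68)]

def sZ : List (ℕ × ℕ) := [(18, 12638592), (27, 2512448), (39, 10916112), (50, 9158944), (59, 6432416), (69, 168928)]

def sProg2 : List (ℕ × ℕ) := [(1, 2), (4, 2), (1, 3), (0, 4), (3, 4), (0, 7), (3, 8), (5, 10), (3, 11), (11, 11), (15, 15), (11, 16), (17, 14), (5, 9), (12, 19), (3, 6), (6, 6), (22, 21), (18, 20), (23, 20), (18, 23), (20, 24), (18, 25), (23, 26), (23, 27), (20, 28), (20, 29), (20, 30), (20, 31), (20, 32), (20, 33), (20, 34), (18, 35), (23, 38), (36, 36), (40, 40), (36, 41), (41, 41), (42, 43), (44, 39), (18, 34), (44, 46), (18, 30), (32, 32), (49, 49), (50, 50), (49, 51), (52, 48), (45, 45), (47, 45), (45, 54), (47, 54), (53, 54), (45, 55), (45, 56), (47, 56), (47, 57), (45, 59), (53, 59), (53, 62), (55, 55), (66, 66), (66, 67), (68, 65), (45, 64), (64, 64), (71, 71), (72, 72), (71, 73), (74, 70), (53, 60), (62, 62), (77, 77), (77, 78), (79, 76), (80, 69), (69, 75), (80, 75), (69, 81), (69, 83),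 (80, 84), (75, 85), (83, 83), (88, 88), (75, 82), (81, 81), (91, 91), (92, 90), (75, 81), (75, 87), (89, 95), (93, 93), (94, 93), (94, 94), (94, 98), (96, 98), (94, 99), (94, 100), (94, 101), (97, 104), (96, 101), (100, 106), (93, 98), (99, 99), (109, 108), (105, 105), (110, 105), (111, 112), (107, 105), (111, 114), (115, 110), (10, 37), (117, 58), (118, 86), (119, 98), (120, 113), (13, 30), (122, 63), (123, 83), (124, 102), (125, 105), (126, 113), (20, 61), (128, 85), (129, 103), (130, 105), (131, 116)]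

def sOuts : List ℕ := [121, 127, 132]

def sTabs1 : List (List ℕ) := runSLP sProg1 stdTabs

def sInit2 : List (List ℕ) := sZ.map (fun e => sTabs1.getD e.1 idT)

def sTabs2 : List (List ℕ) := runSLP sProg2 sInit2

theorem sZ_ok : sZ.all (fun e => decide (e.2 ∈ codeList) && popc e.2 == 8 &&
    (List.range 24).all (fun i => !e.2.testBit i || (sTabs1.getD e.1 idT).getD i 0 == i)) = true := by
  decide +kernel

theorem sOuts_ok : (sTabs2.getD (sOuts.getD 0 0) idT == tblOf (stepFun 0) &&
    sTabs2.getD (sOuts.getD 1 0) idT == tblOf (stepFun 1) &&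
    sTabs2.getD (sOuts.getD 2 0) idT == tblOf (stepFun 2)) = true := by decide +kernel

/-- the generators as elements of the group. -/
noncomputable def sGen (j : ℕ) : ↥M24 := ⟨stepPerm j, stepPerm_mem j⟩

/-- a subgroup containing the three generators is everything. -/
theorem gens_top (V : Subgroup ↥M24) (h : ∀ j, sGen j ∈ V) : V = ⊤ := by
  apply Subgroup.eq_top_of_le_card
  have h1 := card_ge_of_gens (V.map M24.subtype) (fun j => ⟨sGen j, h j, rfl⟩)
  rw [Subgroup.card_map_of_injective M24.subtype_injective] at h1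
  rw [card_M24]
  exact h1

/-- the group is generated by the elements fixing an octad pointwise. -/
theorem gen_by_octad_fixers (V : Subgroup ↥M24)
    (hV : ∀ o ∈ octads, ∀ x : ↥M24, (∀ p ∈ o, x.1 p = p) → x ∈ V) : V = ⊤ := by
  apply gens_top
  have hst1 : GoodT M24 sTabs1 := goodT_std sProg1 M24 stepPerm_mem
  have hinit : GoodT (V.map M24.subtype) sInit2 := by
    intro t ht
    unfold sInit2 at ht
    rw [List.mem_map] at ht
    obtain ⟨e, he, rfl⟩ := ht
    have hc := List.all_eq_true.mp sZ_ok e he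
    simp only [Bool.and_eq_true, decide_eq_true_eq, beq_iff_eq, List.all_eq_true,
      List.mem_range, Bool.or_eq_true, Bool.not_eq_true'] at hc
    obtain ⟨⟨hm, h8⟩, hfix⟩ := hc
    obtain ⟨σ, hσ, hσt⟩ := hst1.getD e.1
    refine ⟨σ, ⟨⟨σ, hσ⟩, ?_, rfl⟩, hσt⟩
    apply hV (suppM e.2) ((mem_octads_iff _).mpr ⟨e.2, hm, h8, rfl⟩)
    intro p hp
    rw [mem_suppM] at hp
    rcases hfix (ptIdx p) (ptIdx_lt p) with h | h
    · rw [hp] at h; exact absurd h (by simp)
    · apply ptIdx_injective
      rw [← hσt.2 p]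
      exact h
  have hst2 : GoodT (V.map M24.subtype) sTabs2 := goodT_runSLP _ sProg2 sInit2 hinit
  have hout := sOuts_ok
  simp only [Bool.and_eq_true, beq_iff_eq] at hout
  obtain ⟨⟨h0, h1⟩, h2⟩ := hout
  have key : ∀ j i : ℕ, sTabs2.getD i idT = tblOf (stepFun j) → sGen j ∈ V := by
    intro j i hi
    obtain ⟨σ, hσ, hσt⟩ := hst2.getD i
    rw [hi] at hσt
    have h3 : IsTbl (stepPerm j) (tblOf (stepFun j)) := by
      rw [stepFun_eq]; exact isTbl_tblOf _
    have h4 : σ = stepPerm j := hσt.eq_of_eq h3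
    obtain ⟨x, hx, hxσ⟩ := hσ
    have : x = sGen j := Subtype.ext (hxσ.trans h4)
    rw [← this]
    exact hx
  intro j
  match j with
  | 0 => exact key 0 _ h0
  | 1 => exact key 1 _ h1
  | (n + 2) => exact key 2 _ h2

/-! ### perfectness -/

/-- table of a word in the generators. -/
def evalT : List ℕ → List ℕ
  | [] => idT
  | j :: w => mulT (tblOf (stepFun j)) (evalT w)

theorem isTbl_evalT (w : List ℕ) : IsTbl ((w.map (fun j => (sGen j).1)).prod) (evalT w) := by
  induction w with
  | nil => exact isTbl_one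
  | cons j w ih =>
    rw [List.map_cons, List.prod_cons]
    have h3 : IsTbl (stepPerm j) (tblOf (stepFun j)) := by
      rw [stepFun_eq]; exact isTbl_tblOf _
    exact h3.mul ih

theorem word_eq_one {w : List ℕ} (h : evalT w = idT) : (w.map sGen).prod = 1 := by
  apply Subtype.ext
  have h1 := isTbl_evalT w
  rw [h] at h1
  have h2 : ((w.map sGen).prod : ↥M24).1 = (w.map (fun j => (sGen j).1)).prod := by
    rw [show ((w.map sGen).prod : ↥M24).1 = M24.subtype ((w.map sGen).prod) from rfl,
      map_list_prod, List.map_map]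
    rfl
  rw [h2]
  exact h1.eq_of_eq isTbl_one

theorem rel_checks : (evalT (List.replicate 23 0) == idT && evalT [1, 1] == idT &&
    evalT [0, 1, 0, 1, 0, 1] == idT && evalT (List.replicate 5 2) == idT &&
    evalT [2, 0, 2, 0, 2, 0, 2, 0, 2, 0, 2, 0] == idT) = true := by decide +kernel

theorem commutator_M24 : commutator ↥M24 = ⊤ := by
  apply gens_top
  have hrel := rel_checks
  simp only [Bool.and_eq_true, beq_iff_eq] at hrel
  obtain ⟨⟨⟨⟨r1, r2⟩, r3⟩, r4⟩, r5⟩ := hrel
  let φ : ↥M24 →* Abelianization ↥M24 := Abelianization.of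
  have hφ : ∀ w : List ℕ, evalT w = idT → ((w.map (fun j => φ (sGen j))).prod = 1) := by
    intro w hw
    have := congrArg φ (word_eq_one hw)
    rw [map_list_prod, List.map_map, map_one] at this
    exact this
  have e1 : φ (sGen 0) ^ 23 = 1 := by
    have := hφ _ r1
    rw [List.map_replicate, List.prod_replicate] at this
    exact this
  have e2 : φ (sGen 1) ^ 2 = 1 := by
    have := hφ _ r2
    simp only [List.map_cons, List.map_nil, List.prod_cons, List.prod_nil, mul_one] at this
    rw [pow_two]; exact this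
  have e3 : (φ (sGen 0) * φ (sGen 1)) ^ 3 = 1 := by
    have := hφ _ r3
    simp only [List.map_cons, List.map_nil, List.prod_cons, List.prod_nil, mul_one] at this
    rw [← this]
    simp only [pow_succ, pow_zero, one_mul, mul_assoc]
  have e4 : φ (sGen 2) ^ 5 = 1 := by
    have := hφ _ r4
    rw [List.map_replicate, List.prod_replicate] at this
    exact this
  have e5 : (φ (sGen 2) * φ (sGen 0)) ^ 6 = 1 := by
    have := hφ _ r5
    simp only [List.map_cons, List.map_nil, List.prod_cons, List.prod_nil, mul_one] at this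
    rw [← this]
    simp only [pow_succ, pow_zero, one_mul, mul_assoc]
  have hker : ∀ g : ↥M24, φ g = 1 → g ∈ commutator ↥M24 := by
    intro g hg
    rw [← Abelianization.ker_of]
    exact hg
  clear hφ
  generalize hx0 : φ (sGen 0) = x at e1 e3 e5
  generalize hy0 : φ (sGen 1) = y at e2 e3
  generalize hz0 : φ (sGen 2) = z at e4 e5
  have hx6 : x ^ 6 = 1 := by
    have h1 : ((x * y) ^ 3) ^ 2 = 1 := by rw [e3, one_pow]
    rw [mul_pow, mul_pow, ← pow_mul, ← pow_mul] at h1
    have h2 : y ^ (3 * 2) = 1 := by rw [mul_comm, pow_mul, e2, one_pow]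
    rw [h2, mul_one] at h1
    exact h1
  have hx1 : x = 1 := by
    have h1 := orderOf_dvd_of_pow_eq_one e1
    have h2 := orderOf_dvd_of_pow_eq_one hx6
    have h3 : orderOf x ∣ Nat.gcd 23 6 := Nat.dvd_gcd h1 h2
    have h4 : Nat.gcd 23 6 = 1 := by decide
    rw [h4, Nat.dvd_one] at h3
    exact orderOf_eq_one_iff.mp h3
  have hy1 : y = 1 := by
    rw [hx1, one_mul] at e3
    have h1 := orderOf_dvd_of_pow_eq_one e3
    have h2 := orderOf_dvd_of_pow_eq_one e2
    have h3 : orderOf y ∣ Nat.gcd 3 2 := Nat.dvd_gcd h1 h2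
    have h4 : Nat.gcd 3 2 = 1 := by decide
    rw [h4, Nat.dvd_one] at h3
    exact orderOf_eq_one_iff.mp h3
  have hz1 : z = 1 := by
    rw [hx1, mul_one] at e5
    have h1 := orderOf_dvd_of_pow_eq_one e5
    have h2 := orderOf_dvd_of_pow_eq_one e4
    have h3 : orderOf z ∣ Nat.gcd 6 5 := Nat.dvd_gcd h1 h2
    have h4 : Nat.gcd 6 5 = 1 := by decide
    rw [h4, Nat.dvd_one] at h3
    exact orderOf_eq_one_iff.mp h3
  intro j
  match j with
  | 0 => exact hker _ (hx0.trans hx1)
  | 1 => exact hker _ (hy0.trans hy1)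
  | (n + 2) => exact hker _ (hz0.trans hz1)

/-- the action on the octads is faithful. -/
theorem faithful_octads {g : Equiv.Perm GolayPt} (hg : g ∈ M24)
    (h : ∀ o ∈ octads, g • o = o) : g = 1 := by
  apply Equiv.ext
  intro p
  by_contra hne
  have hne' : g p ≠ p := hne
  -- an octad containing `p` and not `g p`
  have h5 : idxPtN 5 ∉ suppM 5279 := by rw [mem_suppM]; decide
  have h0 : idxPtN 0 ∈ suppM 5279 := by rw [mem_suppM]; decide
  have h05 : idxPtN 0 ≠ idxPtN 5 := fun hcon => h5 (hcon ▸ h0)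
  obtain ⟨k, hk, hk0, hk5⟩ := m24_two_trans h05 (Ne.symm hne')
  have hoct : k • suppM 5279 ∈ octads := smul_mem_wordsOfWeight hk oct5279_mem
  have hp : p ∈ k • suppM 5279 := by rw [← hk0]; exact Finset.smul_mem_smul_finset h0
  have hgp : g p ∉ k • suppM 5279 := by
    rw [← hk5]
    intro hcon
    exact h5 ((Finset.smul_mem_smul_finset_iff k).mp hcon)
  apply hgp
  rw [← h _ hoct]
  exact Finset.smul_mem_smul_finset hp

theorem M24_simple : IsSimpleGroup ↥M24 := by
  apply simple_of_iwasawa M24 octads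
  · intro g hg o ho
    exact smul_mem_wordsOfWeight hg ho
  · intro o ho o' ho'
    obtain ⟨g, hg⟩ := transitive_octads ho ho'
    exact ⟨g.1, g.2, hg⟩
  · have h1 : (1 : ℕ) < octads.ncard := by
      unfold octads
      rw [ncard_wordsOfWeight, count_weight8]
      norm_num
    obtain ⟨a, b, ha, hb, hab⟩ := (Set.one_lt_ncard_iff (Set.toFinite _)).mp h1
    exact ⟨a, ha, b, hb, hab⟩
  · intro o ho
    exact Cfsg.Agent.S1565.result o ho
  · intro o ho x hx hfix
    apply (oct_fix_card_sq ho).2 x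
    rw [Subgroup.mem_inf, mem_fixingSubgroup_iff]
    exact ⟨hx, hfix⟩
  · exact gen_by_octad_fixers
  · exact commutator_M24
  · intro g hg h
    exact faithful_octads hg h
  · rw [← Finite.one_lt_card_iff_nontrivial, card_M24]
    norm_num

end Cfsg.Agent.Helper9.Golay
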