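import Mathlib
import Cfsg.Prelude
import Cfsg.Agent.Helper9.Golay.M24Trans
import Cfsg.Agent.Helper9.Golay.CertT2

set_option autoImplicit false

/-! Explicit subgroups of the group of the code given by lists of tables, and Sylow's theorem
for them. -/

namespace Cfsg.Agent.Helper9.Golay

open Cfsg
open scoped Pointwise

theorem tbl_eq_tblOf {σ : Equiv.Perm GolayPt} {t : List ℕ} (h : IsTbl σ t) : t = tblOf σ := by
  have h' := isTbl_tblOf σ
  apply List.ext_getElem
  · rw [h.1, h'.1]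
  · intro i h1 h2
    have hi : i < 24 := by rw [h.1] at h1; exact h1
    have e1 := h.2 (idxPtN i)
    have e2 := h'.2 (idxPtN i)
    rw [ptIdx_idxPtN hi, List.getD_eq_getElem _ _ h1] at e1
    rw [ptIdx_idxPtN hi, List.getD_eq_getElem _ _ h2] at e2
    rw [e1, e2]

/-- the elements of the group whose table lies in a list. -/
def tblCarrier (L : List (List ℕ)) : Set ↥M24 :=
  {g | ∃ t ∈ L, IsTbl (g : Equiv.Perm GolayPt) t}

theorem mem_tblCarrier_iff (L : List (List ℕ)) (g : ↥M24) :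
    g ∈ tblCarrier L ↔ tblOf (g : Equiv.Perm GolayPt) ∈ L := by
  constructor
  · rintro ⟨t, ht, h⟩
    rw [← tbl_eq_tblOf h]
    exact ht
  · intro h
    exact ⟨_, h, isTbl_tblOf _⟩

theorem pow_mem_tblCarrier (L : List (List ℕ)) (hid : idT ∈ L)
    (hmul : ∀ g h : ↥M24, g ∈ tblCarrier L → h ∈ tblCarrier L → g * h ∈ tblCarrier L)
    (g : ↥M24) (hg : g ∈ tblCarrier L) (n : ℕ) : g ^ n ∈ tblCarrier L := by
  induction n with
  | zero =>
    rw [pow_zero]
    exact ⟨idT, hid, isTbl_one⟩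
  | succ n ih =>
    rw [pow_succ]
    exact hmul _ _ ih hg

/-- the subgroup of the elements with a table in a list closed under products. -/
def tblSubgroup (L : List (List ℕ)) (hid : idT ∈ L)
    (hmul : ∀ g h : ↥M24, g ∈ tblCarrier L → h ∈ tblCarrier L → g * h ∈ tblCarrier L) :
    Subgroup ↥M24 where
  carrier := tblCarrier L
  one_mem' := ⟨idT, hid, isTbl_one⟩
  mul_mem' := fun ha hb => hmul _ _ ha hb
  inv_mem' := by
    intro g hg
    have hpos := orderOf_pos g
    have h1 : g * g ^ (orderOf g - 1) = 1 := by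
      rw [← pow_succ', Nat.sub_add_cancel hpos, pow_orderOf_eq_one]
    have h2 : g⁻¹ = g ^ (orderOf g - 1) := (eq_inv_of_mul_eq_one_right h1).symm ▸ rfl
    rw [h2]
    exact pow_mem_tblCarrier L hid hmul g hg _

theorem mem_tblSubgroup (L : List (List ℕ)) (hid : idT ∈ L)
    (hmul : ∀ g h : ↥M24, g ∈ tblCarrier L → h ∈ tblCarrier L → g * h ∈ tblCarrier L) (g : ↥M24) :
    g ∈ tblSubgroup L hid hmul ↔ ∃ t ∈ L, IsTbl (g : Equiv.Perm GolayPt) t := Iff.rfl

theorem hmul_of_tables (L : List (List ℕ)) (h : ∀ a ∈ L, ∀ b ∈ L, mulT a b ∈ L) :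
    ∀ g h : ↥M24, g ∈ tblCarrier L → h ∈ tblCarrier L → g * h ∈ tblCarrier L := by
  rintro g k ⟨a, ha, hga⟩ ⟨b, hb, hkb⟩
  exact ⟨mulT a b, h a ha b hb, hga.mul hkb⟩

theorem card_tblSubgroup (L : List (List ℕ)) (hid : idT ∈ L)
    (hmul : ∀ g h : ↥M24, g ∈ tblCarrier L → h ∈ tblCarrier L → g * h ∈ tblCarrier L)
    (hnd : L.Nodup) (hreal : ∀ t ∈ L, ∃ σ ∈ M24, IsTbl σ t) :
    Nat.card (tblSubgroup L hid hmul) = L.length := by
  have e : ↥(tblSubgroup L hid hmul) ≃ {t // t ∈ L} :=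
    { toFun := fun g => ⟨tblOf ((g : ↥M24) : Equiv.Perm GolayPt),
        (mem_tblCarrier_iff L g.1).mp g.2⟩
      invFun := fun t => ⟨⟨Classical.choose (hreal t.1 t.2),
        (Classical.choose_spec (hreal t.1 t.2)).1⟩,
        ⟨t.1, t.2, (Classical.choose_spec (hreal t.1 t.2)).2⟩⟩
      left_inv := by
        intro g
        apply Subtype.ext
        apply Subtype.ext
        have h := (Classical.choose_spec (hreal _ ((mem_tblCarrier_iff L g.1).mp g.2))).2
        exact h.eq_of_eq (isTbl_tblOf _)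
      right_inv := by
        intro t
        apply Subtype.ext
        have h := (Classical.choose_spec (hreal t.1 t.2)).2
        exact (tbl_eq_tblOf h).symm }
  rw [Nat.card_congr e, Nat.card_congr (List.Nodup.getEquiv L hnd).symm, Nat.card_eq_fintype_card,
    Fintype.card_fin]

/-! ### Sylow -/

theorem exists_conj_le {G : Type*} [Group G] [Finite G] {p n : ℕ} [Fact p.Prime]
    (P : Subgroup G) (hP : Nat.card P = p ^ n) (hn : ¬ p ^ (n + 1) ∣ Nat.card G)
    (X : Subgroup G) (hX : IsPGroup p X) : ∃ c : G, MulAut.conj c • X ≤ P := by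
  have hp : p.Prime := Fact.out
  have hG0 : Nat.card G ≠ 0 := Nat.card_pos.ne'
  have hdvd : p ^ n ∣ Nat.card G := hP ▸ Subgroup.card_subgroup_dvd_card P
  have h1 : n ≤ (Nat.card G).factorization p := (hp.pow_dvd_iff_le_factorization hG0).mp hdvd
  have h2 : ¬ n + 1 ≤ (Nat.card G).factorization p :=
    fun h => hn ((hp.pow_dvd_iff_le_factorization hG0).mpr h)
  have hfac : (Nat.card G).factorization p = n := by omega
  let Ps : Sylow p G := Sylow.ofCard P (by rw [hP, hfac])
  obtain ⟨Q, hQ⟩ := hX.exists_le_sylow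
  obtain ⟨c, hc⟩ := MulAction.exists_smul_eq G Q Ps
  refine ⟨c, ?_⟩
  have h3 : MulAut.conj c • (Q : Subgroup G) = P := by
    rw [← Sylow.coe_subgroup_smul, hc]
    rfl
  rw [← h3]
  exact Subgroup.pointwise_smul_le_pointwise_smul_iff.mpr hQ

end Cfsg.Agent.Helper9.Golay
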