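import Mathlib
import Cfsg.Prelude
import Cfsg.Agent.Helper9.Golay.TblGroup

set_option autoImplicit false

/-! An explicit Sylow 3-subgroup of the group of the code, with conjugating elements. -/

namespace Cfsg.Agent.Helper9.Golay

open Cfsg
open scoped Pointwise

def p3Prog : List (ℕ × ℕ) := [(1, 0), (0, 3), (0, 4), (0, 5), (0, 6), (0, 7), (0, 8), (2, 9), (0, 10), (1, 11), (2, 12), (2, 13), (0, 0), (1, 15), (0, 16), (2, 17), (0, 18), (1, 19), (2, 20), (0, 21), (1, 22), (0, 23), (0, 24), (0, 25), (26, 26), (27, 27), (27, 28), (28, 28), (29, 30), (31, 14), (0, 1), (0, 33), (0, 2), (2, 35), (1, 4), (2, 37), (2, 38), (2, 39), (2, 40), (0, 41), (0, 42), (1, 43), (0, 44), (1, 45), (2, 46), (0, 15), (2, 48), (2, 49), (0, 50), (1, 51), (0, 52), (0, 53), (0, 54), (0, 55), (0, 56), (1, 57), (58, 58), (59, 59), (60, 60), (61, 61), (60, 62), (63, 47), (2, 1), (0, 65), (0, 66), (1, 67), (2, 68), (0, 69), (1, 70),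 (2, 71), (0, 72), (0, 73), (0, 74), (2, 75), (0, 76), (0, 35), (0, 78), (2, 79), (2, 80), (0, 81), (1, 82), (0, 83), (0, 84), (0, 85), (0, 86), (1, 87), (88, 88), (89, 89), (90, 90), (88, 91), (92, 77), (0, 79), (1, 94), (2, 95), (2, 96), (0, 97), (0, 98), (0, 99), (0, 100), (1, 101), (0, 102), (2, 65), (0, 104), (0, 105), (1, 106), (0, 107), (1, 108), (2, 109), (0, 110), (0, 111), (0, 112), (2, 113), (114, 114), (115, 115), (115, 116), (116, 116), (117, 118), (119, 103), (0, 48), (0, 121), (1, 122), (2, 123), (0, 124), (2, 125), (0, 126), (2, 127), (0, 128), (2, 129), (2, 130), (2, 131), (1, 132), (0, 19), (1, 134), (2, 135), (0, 136), (0, 137), (2, 138), (2, 139), (0, 140), (141, 141), (142, 142), (142, 143), (143, 143), (144, 145), (146, 133), (2, 15), (2, 148), (0, 149), (0, 150), (2, 151), (0, 152), (0, 153), (1, 154), (0, 155), (2, 156), (0, 157), (0, 17), (1, 159), (2, 160), (0, 161), (2, 162),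 (2, 163), (0, 164), (0, 165), (1, 166), (167, 167), (168, 168), (168, 169), (169, 169), (170, 171), (172, 158), (0, 34), (2, 174), (2, 175), (0, 176), (2, 177), (2, 178), (0, 179), (1, 180), (2, 181), (2, 182), (2, 183), (2, 34), (2, 185), (0, 186), (2, 187), (0, 188), (0, 189), (2, 190), (0, 191), (1, 192), (0, 193), (194, 194), (195, 195), (194, 196), (196, 196), (197, 198), (199, 184), (2, 4), (0, 201), (1, 202), (0, 203), (2, 204), (2, 205), (0, 206), (0, 207), (1, 208), (0, 209), (1, 210), (2, 2), (0, 212), (0, 213), (1, 214), (2, 215), (0, 216), (0, 217), (0, 218), (0, 219), (0, 220), (0, 221), (222, 222), (222, 223), (223, 223), (225, 225), (224, 226), (227, 211), (2, 36), (2, 229), (0, 230), (1, 231), (2, 232), (2, 233), (2, 234), (2, 235), (0, 236), (2, 237), (0, 238), (2, 5), (0, 240), (2, 241), (0, 242), (2, 243), (0, 244), (1, 245), (2, 246), (247, 247), (248, 248), (247, 249), (250, 239),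 (2, 212), (0, 252), (0, 253), (2, 254), (0, 255), (1, 256), (0, 257), (1, 258), (2, 259), (2, 260), (2, 261), (0, 67), (1, 263), (0, 264), (0, 265), (0, 266), (1, 267), (0, 268), (0, 269), (270, 270), (270, 271), (271, 271), (273, 273), (272, 274), (275, 262), (32, 64), (32, 93), (32, 173), (32, 200), (64, 32), (64, 147), (64, 173), (64, 228), (93, 200), (93, 251), (120, 120), (120, 147), (147, 200), (147, 228), (147, 276), (173, 200), (200, 147), (200, 276), (228, 228), (228, 276), (251, 228), (276, 64), (276, 93), (277, 120), (277, 147), (278, 228), (279, 64), (279, 120), (280, 228), (281, 173), (282, 120), (282, 147), (283, 276), (284, 251), (285, 120), (286, 147), (287, 120), (288, 228), (289, 64), (290, 93), (291, 200), (292, 120), (293, 276), (294, 173), (296, 276), (297, 251), (299, 147), (300, 32), (301, 173), (302, 200), (303, 32), (304, 93), (306, 200), (307, 147), (308, 120), (309, 120),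 (310, 200), (311, 147), (313, 173), (316, 251), (320, 200), (325, 64), (15, 15), (15, 339), (339, 339), (341, 341), (340, 342), (212, 212), (343, 2), (345, 2), (346, 1), (347, 0), (348, 344), (349, 343), (350, 343), (351, 1), (352, 0), (353, 353), (354, 354), (353, 355), (2, 343), (357, 1), (358, 0), (359, 344), (360, 1), (361, 0), (362, 344), (363, 343), (364, 2), (365, 0), (366, 366), (366, 367), (15, 344), (369, 343), (370, 343), (371, 1), (372, 0), (373, 2), (374, 0), (375, 1), (376, 376), (377, 377), (376, 378), (344, 344), (380, 343), (381, 2), (382, 343), (383, 344), (384, 343), (385, 2), (386, 343), (387, 387), (388, 388), (389, 389), (388, 390), (344, 343), (392, 343), (393, 2), (394, 1), (395, 0), (396, 0), (397, 1), (398, 398), (399, 399), (398, 400), (400, 400), (401, 402), (2, 0), (404, 2), (405, 2), (406, 343), (407, 1), (408, 0), (409, 0), (410, 0), (411, 344), (412, 412), (413, 413),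 (413, 414), (414, 414), (415, 416), (3, 1), (418, 343), (419, 344), (420, 0), (421, 0), (422, 0), (423, 1), (424, 0), (425, 425), (426, 426), (425, 427), (427, 427), (428, 429), (0, 344), (431, 1), (432, 0), (433, 344), (434, 344), (435, 1), (436, 343), (437, 343), (438, 438), (439, 439), (439, 440), (440, 440), (441, 442), (15, 2), (444, 343), (445, 343), (446, 2), (447, 447), (448, 448), (447, 449), (1, 343), (451, 343), (452, 343), (453, 344), (454, 0), (455, 1), (456, 343), (457, 344), (458, 0), (459, 344), (460, 460), (461, 461), (461, 462), (462, 462), (463, 464), (35, 0), (466, 2), (467, 0), (468, 2), (469, 2), (470, 0), (471, 0), (472, 472), (473, 473), (472, 474), (431, 343), (476, 2), (477, 343), (478, 344), (479, 344), (480, 1), (481, 0), (482, 1), (483, 483), (484, 484), (483, 485), (345, 0), (487, 0), (488, 2), (489, 0), (490, 0), (491, 491), (492, 492), (492, 493), (392, 2), (495, 2),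 (496, 343), (497, 344), (498, 343), (499, 344), (500, 0), (501, 0), (502, 1), (503, 503), (504, 504), (505, 505), (503, 506), (393, 344), (508, 1), (509, 343), (510, 343), (511, 1), (512, 0), (513, 1), (514, 514), (515, 515), (516, 516), (517, 517), (516, 518), (344, 1), (520, 343), (521, 343), (522, 343), (523, 343), (524, 343), (525, 2), (526, 1), (527, 0), (528, 1), (529, 529), (530, 530), (529, 531), (212, 0), (533, 344), (534, 344), (535, 0), (536, 0), (537, 0), (538, 344), (539, 539), (539, 540), (540, 540), (541, 542), (345, 343), (544, 2), (545, 0), (546, 2), (547, 2), (548, 343), (549, 2), (550, 0), (551, 551), (551, 552), (380, 0), (554, 2), (555, 0), (556, 344), (557, 344), (558, 1), (559, 343), (560, 2), (561, 0), (562, 562), (562, 563), (344, 0), (565, 0), (566, 344), (567, 0), (568, 0), (569, 0), (570, 1), (571, 0), (572, 0), (573, 573), (574, 574), (575, 575), (573, 576), (432, 343),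 (578, 344), (579, 344), (580, 1), (581, 581), (582, 582), (581, 583), (65, 0), (585, 1), (586, 343), (587, 2), (588, 343), (589, 2), (590, 0), (591, 0), (592, 592), (593, 593), (593, 594), (594, 594), (595, 596), (565, 2), (598, 0), (599, 344), (600, 343), (601, 343), (602, 344), (603, 343), (604, 343), (605, 1), (606, 606), (606, 607), (607, 607), (609, 609), (608, 610), (369, 0), (612, 1), (613, 343), (614, 2), (615, 343), (616, 343)]

def p3Idx : List ℕ := [100000, 305, 295, 315, 330, 317, 318, 329, 314, 326, 328, 319, 337, 334, 336, 312, 331, 324, 298, 335, 332, 333, 321, 322, 323, 338, 327]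

def p3Tabs : List (List ℕ) := [[0, 1, 2, 3, 4, 5, 6, 7, 8, 9, 10, 11, 12, 13, 14, 15, 16, 17, 18, 19, 20, 21, 22, 23], [0, 1, 2, 3, 4, 5, 16, 10, 13, 19, 12, 8, 7, 11, 23, 20, 21, 14, 9, 18, 22, 6, 15, 17], [0, 1, 2, 3, 4, 5, 21, 12, 11, 18, 7, 13, 10, 8, 17, 22, 6, 23, 19, 9, 15, 16, 20, 14], [0, 2, 4, 3, 1, 5, 14, 10, 8, 18, 12, 11, 7, 13, 20, 21, 23, 15, 19, 9, 6, 17, 16, 22], [0, 2, 4, 3, 1, 5, 17, 7, 11, 19, 10, 13, 12, 8, 15, 16, 14, 22, 9, 18, 21, 23, 6, 20], [0, 2, 4, 3, 1, 5, 23, 12, 13, 9, 7, 8, 10, 11, 22, 6, 17, 20, 18, 19, 16, 14, 21, 15], [0, 4, 1, 3, 2, 5, 15, 10, 11, 9, 12, 13, 7, 8, 21, 23, 20, 16, 18, 19, 17, 22, 14, 6], [0, 4, 1, 3, 2, 5, 20, 12, 8, 19, 7, 11, 10, 13, 6, 17, 22, 21, 9, 18, 14, 15, 23, 16], [0, 4, 1, 3, 2, 5, 22, 7, 13, 18, 10, 8, 12, 11, 16, 14, 15, 6, 19, 9, 23, 20, 17, 21], [3, 1, 2, 5, 4, 0, 6, 8, 18, 10, 13, 19, 11, 9, 23, 22, 16, 14, 7, 12, 15, 21, 20, 17],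 [3, 1, 2, 5, 4, 0, 16, 13, 9, 12, 11, 18, 8, 19, 17, 15, 21, 23, 10, 7, 20, 6, 22, 14], [3, 1, 2, 5, 4, 0, 21, 11, 19, 7, 8, 9, 13, 18, 14, 20, 6, 17, 12, 10, 22, 16, 15, 23], [3, 2, 4, 5, 1, 0, 14, 8, 19, 12, 13, 9, 11, 18, 22, 16, 23, 20, 10, 7, 21, 17, 6, 15], [3, 2, 4, 5, 1, 0, 17, 11, 9, 10, 8, 18, 13, 19, 20, 6, 14, 15, 7, 12, 16, 23, 21, 22], [3, 2, 4, 5, 1, 0, 23, 13, 18, 7, 11, 19, 8, 9, 15, 21, 17, 22, 12, 10, 6, 14, 16, 20], [3, 4, 1, 5, 2, 0, 15, 11, 18, 12, 8, 19, 13, 9, 6, 14, 20, 21, 10, 7, 23, 22, 17, 16], [3, 4, 1, 5, 2, 0, 20, 8, 9, 7, 13, 18, 11, 19, 16, 23, 22, 6, 12, 10, 17, 15, 14, 21], [3, 4, 1, 5, 2, 0, 22, 13, 19, 10, 11, 9, 8, 18, 21, 17, 15, 16, 7, 12, 14, 20, 23, 6], [5, 1, 2, 0, 4, 3, 6, 18, 7, 13, 9, 12, 19, 10, 17, 20, 16, 23, 8, 11, 22, 21, 15, 14], [5, 1, 2, 0, 4, 3, 16, 9, 10, 11, 19, 7, 18, 12, 14, 22, 21, 17, 13, 8, 15, 6, 20, 23], [5, 1, 2, 0, 4, 3, 21, 19, 12, 8,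 18, 10, 9, 7, 23, 15, 6, 14, 11, 13, 20, 16, 22, 17], [5, 2, 4, 0, 1, 3, 14, 19, 10, 13, 18, 7, 9, 12, 15, 6, 23, 22, 8, 11, 16, 17, 21, 20], [5, 2, 4, 0, 1, 3, 17, 9, 7, 8, 19, 12, 18, 10, 22, 21, 14, 20, 11, 13, 6, 23, 16, 15], [5, 2, 4, 0, 1, 3, 23, 18, 12, 11, 9, 10, 19, 7, 20, 16, 17, 15, 13, 8, 21, 14, 6, 22], [5, 4, 1, 0, 2, 3, 15, 18, 10, 8, 9, 7, 19, 12, 16, 17, 20, 6, 11, 13, 14, 22, 23, 21], [5, 4, 1, 0, 2, 3, 20, 9, 12, 13, 19, 10, 18, 7, 21, 14, 22, 16, 8, 11, 23, 15, 17, 6], [5, 4, 1, 0, 2, 3, 22, 19, 7, 11, 18, 12, 9, 10, 6, 23, 15, 21, 13, 8, 17, 20, 14, 16]]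

def p3ConjIdx : List ℕ := [100000, 356, 368, 379, 391, 403, 417, 430, 443, 450, 465, 100000, 507, 519, 532, 543, 553, 475, 486, 494, 564, 577, 584, 597, 611, 617]

def p3ConjTabs : List (List ℕ) := [[0, 1, 2, 3, 4, 5, 6, 7, 8, 9, 10, 11, 12, 13, 14, 15, 16, 17, 18, 19, 20, 21, 22, 23], [4, 1, 5, 0, 3, 2, 12, 16, 17, 11, 6, 14, 21, 23, 19, 20, 10, 18, 8, 13, 15, 7, 22, 9], [1, 22, 15, 3, 20, 5, 17, 19, 4, 10, 18, 2, 9, 0, 14, 16, 11, 6, 12, 7, 23, 21, 13, 8], [1, 21, 6, 5, 16, 2, 13, 0, 12, 20, 3, 7, 4, 10, 18, 9, 19, 11, 15, 22, 23, 17, 8, 14], [3, 15, 20, 1, 22, 5, 14, 18, 7, 2, 19, 12, 9, 10, 13, 17, 6, 16, 4, 0, 21, 8, 11, 23], [3, 16, 6, 2, 21, 0, 7, 18, 8, 1, 9, 13, 19, 11, 23, 10, 22, 20, 5, 4, 15, 17, 14, 12], [4, 14, 17, 3, 23, 1, 8, 18, 0, 15, 19, 2, 9, 5, 11, 21, 12, 6, 22, 20, 13, 16, 7, 10], [2, 18, 19, 5, 9, 3, 20, 1, 10, 21, 0, 7, 4, 12, 13, 8, 11, 15, 6, 16, 17, 23, 22, 14], [8, 2, 0,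 13, 4, 11, 3, 18, 9, 22, 15, 12, 10, 20, 21, 17, 1, 16, 19, 7, 23, 5, 14, 6], [10, 5, 4, 12, 2, 7, 21, 13, 18, 9, 22, 15, 19, 11, 17, 1, 6, 14, 20, 8, 3, 16, 0, 23], [11, 1, 4, 8, 0, 13, 15, 9, 21, 18, 16, 19, 10, 12, 2, 23, 22, 3, 7, 6, 17, 20, 14, 5], [0, 1, 2, 3, 4, 5, 6, 7, 8, 9, 10, 11, 12, 13, 14, 15, 16, 17, 18, 19, 20, 21, 22, 23], [23, 6, 14, 15, 22, 16, 12, 21, 10, 13, 18, 17, 19, 7, 1, 9, 4, 11, 20, 8, 2, 5, 3, 0], [2, 7, 8, 4, 19, 1, 15, 22, 9, 14, 0, 3, 11, 6, 18, 10, 20, 21, 12, 5, 23, 13, 17, 16], [1, 22, 14, 2, 6, 4, 7, 23, 11, 18, 12, 15, 10, 13, 19, 8, 17, 3, 9, 16, 20, 5, 0, 21], [17, 18, 13, 20, 10, 21, 0, 19, 7, 8, 2, 12, 9, 4, 14, 16, 22, 5, 11, 1, 3, 15, 6, 23], [13, 6, 22, 18, 14, 10, 15, 7, 11, 3, 5, 0, 12, 8, 4, 21, 20, 17, 19, 9, 2, 1, 16, 23], [21, 4, 2, 16, 1, 6, 0, 8, 11, 10, 7, 19, 18, 12, 17, 22, 5, 14, 13, 9, 15, 3, 20, 23], [17, 2, 5, 23, 4, 14, 21, 13, 18, 11, 9, 8,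 15, 22, 3, 12, 6, 0, 20, 19, 10, 16, 7, 1], [16, 2, 4, 6, 5, 21, 10, 18, 15, 22, 13, 8, 20, 19, 14, 0, 7, 17, 11, 9, 1, 12, 3, 23], [8, 22, 6, 7, 14, 19, 18, 21, 11, 4, 9, 20, 2, 1, 10, 13, 3, 23, 12, 17, 0, 16, 15, 5], [2, 14, 22, 1, 6, 4, 0, 23, 16, 15, 12, 18, 10, 9, 19, 17, 8, 3, 13, 11, 5, 20, 7, 21], [18, 0, 3, 13, 5, 10, 21, 23, 9, 1, 4, 2, 12, 16, 14, 8, 19, 7, 15, 11, 22, 6, 20, 17], [8, 6, 22, 7, 14, 19, 13, 9, 20, 17, 21, 11, 2, 1, 23, 18, 15, 10, 12, 4, 16, 0, 3, 5], [15, 12, 9, 23, 11, 16, 3, 2, 22, 4, 21, 20, 6, 1, 13, 10, 19, 8, 14, 17, 5, 18, 7, 0], [12, 14, 6, 9, 22, 11, 2, 15, 23, 3, 20, 5, 0, 17, 1, 7, 19, 13, 21, 16, 10, 18, 4, 8]]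

def p3Rep6 : List ℕ := [0, 1, 2, 3, 4, 5, 16, 10, 13, 19, 12, 8, 7, 11, 23, 20, 21, 14, 9, 18, 22, 6, 15, 17]

def p3Rep0 : List ℕ := [3, 2, 4, 5, 1, 0, 14, 8, 19, 12, 13, 9, 11, 18, 22, 16, 23, 20, 10, 7, 21, 17, 6, 15]

theorem p3Tabs_eq : p3Tabs = p3Idx.map (fun j => (runSLP p3Prog stdTabs).getD j idT) := by
  decide +kernel

theorem p3ConjTabs_eq :
    p3ConjTabs = p3ConjIdx.map (fun j => (runSLP p3Prog stdTabs).getD j idT) := by
  decide +kernel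

theorem p3_real : ∀ t ∈ p3Tabs, ∃ σ ∈ M24, IsTbl σ t := by
  intro t ht
  rw [p3Tabs_eq, List.mem_map] at ht
  obtain ⟨j, -, rfl⟩ := ht
  exact (goodT_std p3Prog M24 stepPerm_mem).getD j

theorem p3conj_real : ∀ t ∈ p3ConjTabs, ∃ σ ∈ M24, IsTbl σ t := by
  intro t ht
  rw [p3ConjTabs_eq, List.mem_map] at ht
  obtain ⟨j, -, rfl⟩ := ht
  exact (goodT_std p3Prog M24 stepPerm_mem).getD j

theorem p3_closed : ∀ a ∈ p3Tabs, ∀ b ∈ p3Tabs, mulT a b ∈ p3Tabs := by decide +kernel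
theorem p3_nodup : p3Tabs.Nodup := by decide +kernel
theorem p3_id : idT ∈ p3Tabs := by decide +kernel
theorem p3_length : p3Tabs.length = 27 := by decide

/-- the explicit Sylow 3-subgroup. -/
def P3 : Subgroup ↥M24 := tblSubgroup p3Tabs p3_id (hmul_of_tables _ p3_closed)

theorem card_P3 : Nat.card P3 = 3 ^ 3 := by
  unfold P3
  rw [card_tblSubgroup _ _ _ p3_nodup p3_real, p3_length]
  norm_num

/-- number of fixed points of a table. -/
def fixCount (t : List ℕ) : ℕ := ((List.range 24).filter (fun i => t.getD i 0 == i)).length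

theorem card_fix_of_tbl {σ : Equiv.Perm GolayPt} {t : List ℕ} (h : IsTbl σ t) :
    (Finset.univ.filter (fun p => σ p = p)).card = fixCount t := by
  unfold fixCount
  rw [← List.toFinset_card_of_nodup (List.nodup_range.filter _)]
  apply Finset.card_bij (fun p _ => ptIdx p)
  · intro p hp
    rw [Finset.mem_filter] at hp
    rw [List.mem_toFinset, List.mem_filter, List.mem_range, beq_iff_eq, h.2 p, hp.2]
    exact ⟨ptIdx_lt p, rfl⟩
  · intro p _ q _ hpq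
    exact ptIdx_injective hpq
  · intro i hi
    rw [List.mem_toFinset, List.mem_filter, List.mem_range, beq_iff_eq] at hi
    refine ⟨idxPtN i, ?_, ptIdx_idxPtN hi.1⟩
    rw [Finset.mem_filter]
    refine ⟨Finset.mem_univ _, ?_⟩
    rw [h.apply_idx hi.1, hi.2]

theorem p3_conj_check : (List.range 26).all (fun i =>
    (fixCount (p3Tabs.getD (i + 1) idT) == 6 &&
        mulT (p3ConjTabs.getD i idT) (p3Tabs.getD (i + 1) idT) ==
          mulT p3Rep6 (p3ConjTabs.getD i idT)) ||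
      (fixCount (p3Tabs.getD (i + 1) idT) == 0 &&
        mulT (p3ConjTabs.getD i idT) (p3Tabs.getD (i + 1) idT) ==
          mulT p3Rep0 (p3ConjTabs.getD i idT))) = true := by decide +kernel

theorem p3Rep6_mem : p3Rep6 ∈ p3Tabs := by decide +kernel
theorem p3Rep0_mem : p3Rep0 ∈ p3Tabs := by decide +kernel
theorem p3Rep6_props : fixCount p3Rep6 = 6 ∧ p3Rep6 ≠ idT ∧ mulT p3Rep6 (mulT p3Rep6 p3Rep6) = idT := by
  decide +kernel
theorem p3Rep0_props : fixCount p3Rep0 = 0 ∧ p3Rep0 ≠ idT ∧ mulT p3Rep0 (mulT p3Rep0 p3Rep0) = idT := by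
  decide +kernel
theorem p3ConjTabs_length : p3ConjTabs.length = 26 := by decide

end Cfsg.Agent.Helper9.Golay
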