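import Mathlib
import Cfsg.Prelude
import Cfsg.Agent.Helper9.Golay.Syl3

set_option autoImplicit false

/-! The subgroups of order three of the group of the code. -/

namespace Cfsg.Agent.Helper9.Golay

open Cfsg
open scoped Pointwise

/-- the common fixed points of a subgroup. -/
def fixSet (X : Subgroup ↥M24) : Set GolayPt :=
  {p | ∀ x ∈ X, ((x : ↥M24) : Equiv.Perm GolayPt) p = p}

theorem mem_conj_smul_iff (c : ↥M24) (X : Subgroup ↥M24) (y : ↥M24) :
    y ∈ MulAut.conj c • X ↔ ∃ x ∈ X, c * x * c⁻¹ = y := by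
  rw [Subgroup.mem_smul_pointwise_iff_exists]
  rfl

theorem fixSet_conj (c : ↥M24) (X : Subgroup ↥M24) :
    fixSet (MulAut.conj c • X) = ((c : ↥M24) : Equiv.Perm GolayPt) '' fixSet X := by
  obtain ⟨C, hC⟩ : ∃ C : Equiv.Perm GolayPt, C = ((c : ↥M24) : Equiv.Perm GolayPt) := ⟨_, rfl⟩
  have hmul : ∀ x : ↥M24, (((c * x * c⁻¹ : ↥M24) : ↥M24) : Equiv.Perm GolayPt) =
      C * ((x : ↥M24) : Equiv.Perm GolayPt) * C⁻¹ := by
    intro x
    rw [hC]
    rfl
  rw [← hC]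
  ext p
  simp only [fixSet, Set.mem_ofPred_eq, Set.mem_image]
  constructor
  · intro h
    refine ⟨C⁻¹ p, ?_, by simp⟩
    intro x hx
    have := h (c * x * c⁻¹) ((mem_conj_smul_iff c X _).mpr ⟨x, hx, rfl⟩)
    rw [hmul, Equiv.Perm.mul_apply, Equiv.Perm.mul_apply] at this
    exact Equiv.Perm.eq_inv_iff_eq.mpr this
  · rintro ⟨q, hq, rfl⟩ y hy
    obtain ⟨x, hx, rfl⟩ := (mem_conj_smul_iff c X y).mp hy
    rw [hmul, Equiv.Perm.mul_apply, Equiv.Perm.mul_apply]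
    have : C⁻¹ (C q) = q := by simp
    rw [this, hq x hx]

theorem ncard_fixSet_conj (c : ↥M24) (X : Subgroup ↥M24) :
    (fixSet (MulAut.conj c • X)).ncard = (fixSet X).ncard := by
  rw [fixSet_conj, Set.ncard_image_of_injective _ (Equiv.injective _)]

theorem fixSet_zpowers (u : ↥M24) :
    fixSet (Subgroup.zpowers u) = {p | ((u : ↥M24) : Equiv.Perm GolayPt) p = p} := by
  ext p
  simp only [fixSet, Set.mem_ofPred_eq]
  constructor
  · intro h
    exact h u (Subgroup.mem_zpowers u)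
  · intro h x hx
    obtain ⟨k, rfl⟩ := Subgroup.mem_zpowers_iff.mp hx
    have : (((u ^ k : ↥M24) : ↥M24) : Equiv.Perm GolayPt) = ((u : ↥M24) : Equiv.Perm GolayPt) ^ k := by
      simp
    rw [this]
    exact Equiv.Perm.zpow_apply_eq_self_of_apply_eq_self h k

theorem ncard_fixSet_zpowers {u : ↥M24} {t : List ℕ}
    (ht : IsTbl ((u : ↥M24) : Equiv.Perm GolayPt) t) :
    (fixSet (Subgroup.zpowers u)).ncard = fixCount t := by
  rw [fixSet_zpowers, ← card_fix_of_tbl ht, ← Set.ncard_coe_finset]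
  congr 1
  ext p
  simp

theorem conj_zpowers (c u : ↥M24) :
    MulAut.conj c • Subgroup.zpowers u = Subgroup.zpowers (c * u * c⁻¹) := by
  ext y
  rw [mem_conj_smul_iff]
  constructor
  · rintro ⟨x, hx, rfl⟩
    obtain ⟨k, rfl⟩ := Subgroup.mem_zpowers_iff.mp hx
    rw [← conj_zpow]
    exact Subgroup.zpow_mem_zpowers _ k
  · intro hy
    obtain ⟨k, rfl⟩ := Subgroup.mem_zpowers_iff.mp hy
    exact ⟨u ^ k, Subgroup.zpow_mem_zpowers u k, conj_zpow.symm⟩

theorem card_conj_smul (c : ↥M24) (X : Subgroup ↥M24) :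
    Nat.card ↥(MulAut.conj c • X) = Nat.card X :=
  (Nat.card_congr (Subgroup.equivSMul (MulAut.conj c) X).toEquiv).symm

/-- an element with a given table of the list. -/
theorem exists_elt_of_tbl {L : List (List ℕ)} (hreal : ∀ t ∈ L, ∃ σ ∈ M24, IsTbl σ t)
    {t : List ℕ} (ht : t ∈ L) : ∃ r : ↥M24, IsTbl ((r : ↥M24) : Equiv.Perm GolayPt) t := by
  obtain ⟨σ, hσ, h⟩ := hreal t ht
  exact ⟨⟨σ, hσ⟩, h⟩

theorem eq_of_tbl {r s : ↥M24} {t : List ℕ} (hr : IsTbl ((r : ↥M24) : Equiv.Perm GolayPt) t)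
    (hs : IsTbl ((s : ↥M24) : Equiv.Perm GolayPt) t) : r = s :=
  Subtype.ext (hr.eq_of_eq hs)

theorem p3_head : p3Tabs.getD 0 idT = idT := by decide

/-- every subgroup of order three is conjugate to the group of one of two elements. -/
theorem sub3_classify (X : Subgroup ↥M24) (hX : Nat.card X = 3) :
    ∃ k r : ↥M24, ((IsTbl ((r : ↥M24) : Equiv.Perm GolayPt) p3Rep6 ∧ (fixSet X).ncard = 6) ∨
      (IsTbl ((r : ↥M24) : Equiv.Perm GolayPt) p3Rep0 ∧ (fixSet X).ncard = 0)) ∧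
      MulAut.conj k • X = Subgroup.zpowers r := by
  have : Fact (Nat.Prime 3) := ⟨by norm_num⟩
  have hXp : IsPGroup 3 X := IsPGroup.of_card (n := 1) (by rw [hX]; norm_num)
  have hn : ¬ 3 ^ (3 + 1) ∣ Nat.card ↥M24 := by
    have : Nat.card ↥M24 = 244823040 := card_M24
    rw [this]
    decide
  obtain ⟨c, hc⟩ := exists_conj_le P3 card_P3 hn X hXp
  obtain ⟨X', hX'⟩ : ∃ X', X' = MulAut.conj c • X := ⟨_, rfl⟩
  rw [← hX'] at hc
  have hX'card : Nat.card X' = 3 := by rw [hX', card_conj_smul, hX]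
  have hne : X' ≠ ⊥ := by
    rintro rfl
    rw [Subgroup.card_bot] at hX'card
    omega
  obtain ⟨⟨u, huX⟩, hu1⟩ := (Subgroup.ne_bot_iff_exists_ne_one).mp hne
  have hu1' : u ≠ 1 := fun h => hu1 (Subtype.ext h)
  have hzle : Subgroup.zpowers u ≤ X' := (Subgroup.zpowers_le).mpr huX
  have hord : orderOf u = 3 := by
    have h1 : orderOf (⟨u, huX⟩ : ↥X') ∣ 3 := hX'card ▸ orderOf_dvd_natCard _
    rw [Subgroup.orderOf_mk] at h1
    rcases (Nat.dvd_prime (by norm_num : Nat.Prime 3)).mp h1 with h | h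
    · exact absurd (orderOf_eq_one_iff.mp h) hu1'
    · exact h
  have hz : Subgroup.zpowers u = X' := by
    apply Subgroup.eq_of_le_of_card_ge hzle
    rw [Nat.card_zpowers, hord, hX'card]
  -- the table of `u`
  obtain ⟨t, htL, htu⟩ := hc huX
  have htne : t ≠ idT := by
    rintro rfl
    exact hu1' (eq_of_tbl htu isTbl_one)
  obtain ⟨n, hn', hnt⟩ := List.getElem_of_mem htL
  have hn0 : n ≠ 0 := by
    rintro rfl
    apply htne
    rw [← hnt]
    have := p3_head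
    rw [List.getD_eq_getElem _ _ hn'] at this
    exact this
  rw [p3_length] at hn'
  obtain ⟨i, rfl⟩ : ∃ i, n = i + 1 := ⟨n - 1, by omega⟩
  have hi : i < 26 := by omega
  have hgt : p3Tabs.getD (i + 1) idT = t := by
    rw [List.getD_eq_getElem _ _ (by rw [p3_length]; omega)]
    exact hnt
  have hchk := List.all_eq_true.mp p3_conj_check i (List.mem_range.mpr hi)
  rw [hgt] at hchk
  have hcm : p3ConjTabs.getD i idT ∈ p3ConjTabs := by
    rw [List.getD_eq_getElem _ _ (by rw [p3ConjTabs_length]; exact hi)]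
    exact List.getElem_mem _
  obtain ⟨cσ, hcσ⟩ := exists_elt_of_tbl p3conj_real hcm
  have hfix : (fixSet X).ncard = fixCount t := by
    rw [← ncard_fixSet_conj c X, ← hX', ← hz, ncard_fixSet_zpowers htu]
  have hfinal : ∀ r : ↥M24, cσ * u = r * cσ → MulAut.conj (cσ * c) • X = Subgroup.zpowers r := by
    intro r hr
    rw [map_mul, mul_smul, ← hX', ← hz, conj_zpowers, hr]
    congr 1
    group
  simp only [Bool.or_eq_true, Bool.and_eq_true, beq_iff_eq] at hchk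
  rcases hchk with ⟨h6, he⟩ | ⟨h0, he⟩
  · obtain ⟨r, hr⟩ := exists_elt_of_tbl p3_real p3Rep6_mem
    refine ⟨cσ * c, r, Or.inl ⟨hr, by rw [hfix, h6]⟩, hfinal r ?_⟩
    apply eq_of_tbl (t := mulT (p3ConjTabs.getD i idT) t)
    · exact hcσ.mul htu
    · rw [he]
      exact hr.mul hcσ
  · obtain ⟨r, hr⟩ := exists_elt_of_tbl p3_real p3Rep0_mem
    refine ⟨cσ * c, r, Or.inr ⟨hr, by rw [hfix, h0]⟩, hfinal r ?_⟩
    apply eq_of_tbl (t := mulT (p3ConjTabs.getD i idT) t)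
    · exact hcσ.mul htu
    · rw [he]
      exact hr.mul hcσ

theorem card_zpowers_of_tbl {r : ↥M24} {t : List ℕ}
    (hr : IsTbl ((r : ↥M24) : Equiv.Perm GolayPt) t) (hne : t ≠ idT)
    (h3 : mulT t (mulT t t) = idT) : Nat.card (Subgroup.zpowers r) = 3 := by
  have : Fact (Nat.Prime 3) := ⟨by norm_num⟩
  rw [Nat.card_zpowers]
  apply orderOf_eq_prime
  · have : r * (r * r) = 1 := by
      apply eq_of_tbl (t := mulT t (mulT t t)) (hr.mul (hr.mul hr))
      rw [h3]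
      exact isTbl_one
    rw [pow_succ, pow_succ, pow_one, mul_assoc]
    exact this
  · rintro rfl
    exact hne (tbl_eq_tblOf hr ▸ (tbl_eq_tblOf isTbl_one).symm ▸ rfl)

theorem order_three_main :
    (∀ X : Subgroup ↥M24, Nat.card X = 3 → (fixSet X).ncard = 6 ∨ (fixSet X).ncard = 0) ∧
    (∃ X : Subgroup ↥M24, Nat.card X = 3 ∧ (fixSet X).ncard = 6) ∧
    (∃ X : Subgroup ↥M24, Nat.card X = 3 ∧ (fixSet X).ncard = 0) ∧
    ∀ X Y : Subgroup ↥M24, Nat.card X = 3 → Nat.card Y = 3 →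
      (fixSet X).ncard = (fixSet Y).ncard → ∃ k : ↥M24, MulAut.conj k • X = Y := by
  refine ⟨?_, ?_, ?_, ?_⟩
  · intro X hX
    obtain ⟨k, r, h, -⟩ := sub3_classify X hX
    rcases h with ⟨-, h⟩ | ⟨-, h⟩
    · exact Or.inl h
    · exact Or.inr h
  · obtain ⟨r, hr⟩ := exists_elt_of_tbl p3_real p3Rep6_mem
    refine ⟨Subgroup.zpowers r, card_zpowers_of_tbl hr p3Rep6_props.2.1 p3Rep6_props.2.2, ?_⟩
    rw [ncard_fixSet_zpowers hr, p3Rep6_props.1]
  · obtain ⟨r, hr⟩ := exists_elt_of_tbl p3_real p3Rep0_mem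
    refine ⟨Subgroup.zpowers r, card_zpowers_of_tbl hr p3Rep0_props.2.1 p3Rep0_props.2.2, ?_⟩
    rw [ncard_fixSet_zpowers hr, p3Rep0_props.1]
  · intro X Y hX hY hXY
    obtain ⟨k, r, h, hk⟩ := sub3_classify X hX
    obtain ⟨k', r', h', hk'⟩ := sub3_classify Y hY
    have hrr : r = r' := by
      rcases h with ⟨hr, hf⟩ | ⟨hr, hf⟩ <;> rcases h' with ⟨hr', hf'⟩ | ⟨hr', hf'⟩
      · exact eq_of_tbl hr hr'
      · omega
      · omega
      · exact eq_of_tbl hr hr'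
    refine ⟨k'⁻¹ * k, ?_⟩
    rw [map_mul, mul_smul, hk, hrr, ← hk', ← mul_smul, ← map_mul, inv_mul_cancel, map_one, one_smul]

end Cfsg.Agent.Helper9.Golay
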