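import Mathlib
import Cfsg.Prelude
import Cfsg.Agent.Helper9.Golay.Syl2
import Cfsg.Agent.Helper9.Golay.Syl3Thm
import Cfsg.Agent.Helper9.Golay.M12Trans

set_option autoImplicit false

/-! The involutions of the group of the code. -/

namespace Cfsg.Agent.Helper9.Golay

open Cfsg
open scoped Pointwise

theorem fix_eq_suppM {σ : Equiv.Perm GolayPt} {t : List ℕ} (h : IsTbl σ t) :
    (Finset.univ.filter fun p => σ p = p) = suppM (fixMask t) := by
  ext p
  rw [Finset.mem_filter, mem_suppM]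
  unfold fixMask
  rw [Nat.testBit_ofBits, dif_pos (ptIdx_lt p)]
  simp only [Finset.mem_univ, true_and, beq_iff_eq]
  rw [h.2 p]
  constructor
  · intro h1; rw [h1]
  · intro h1; exact ptIdx_injective h1

theorem fix_conj (k g : Equiv.Perm GolayPt) :
    (Finset.univ.filter fun p => (k * g * k⁻¹) p = p) = k • (Finset.univ.filter fun p => g p = p) := by
  ext p
  rw [mem_smul_finset_iff', Finset.mem_filter, Finset.mem_filter]
  simp only [Finset.mem_univ, true_and, Equiv.Perm.mul_apply]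
  constructor
  · intro h1
    exact Equiv.Perm.eq_inv_iff_eq.mpr h1
  · intro h1
    exact Equiv.Perm.eq_inv_iff_eq.mp h1

theorem idT_eq_tblOf_one : idT = tblOf (1 : Equiv.Perm GolayPt) := tbl_eq_tblOf isTbl_one

theorem octad_of_fixMask {t : List ℕ} (h8 : popc (fixMask t) = 8)
    (hk : fromKey (fixMask t >>> 12) = fixMask t) : suppM (fixMask t) ∈ octads := by
  refine (mem_octads_iff _).mpr ⟨fixMask t, ?_, h8, rfl⟩
  rw [← hk]
  exact fromKey_mem _

theorem card_M24_not_dvd : ¬ 2 ^ (10 + 1) ∣ Nat.card ↥M24 := by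
  have : Nat.card ↥M24 = 244823040 := card_M24
  rw [this]
  decide

theorem acc_mem_tabs {j : ℕ} (hj : j < 1024) : p2G.acc j ∈ p2G.tabs :=
  (p2G.mem_tabs _).mpr ⟨j, hj, rfl⟩

/-- every involution is conjugate to one of two elements. -/
theorem inv_classify (g : Equiv.Perm GolayPt) (hg : g ∈ M24) (h2 : orderOf g = 2) :
    ∃ k ∈ M24, ∃ r : Equiv.Perm GolayPt, k * g * k⁻¹ = r ∧
      ((IsTbl r (p2G.acc p2R8) ∧ (Finset.univ.filter fun p => g p = p) ∈ octads) ∨
        (IsTbl r (p2G.acc p2R0) ∧ ∀ p, g p ≠ p)) := by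
  have : Fact (Nat.Prime 2) := ⟨by norm_num⟩
  have hg2 : g ^ 2 = 1 := by rw [← h2]; exact pow_orderOf_eq_one g
  have hg1 : g ≠ 1 := by
    rintro rfl
    rw [orderOf_one] at h2
    omega
  obtain ⟨gM, hgM⟩ : ∃ gM : ↥M24, (gM : Equiv.Perm GolayPt) = g := ⟨⟨g, hg⟩, rfl⟩
  have hordM : orderOf gM = 2 := by
    rw [← h2, ← hgM]
    exact (Subgroup.orderOf_coe gM).symm
  have hXc : Nat.card (Subgroup.zpowers gM) = 2 ^ 1 := by rw [Nat.card_zpowers, hordM]; rfl
  have hXp : IsPGroup 2 (Subgroup.zpowers gM) := IsPGroup.of_card hXc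
  obtain ⟨c, hc⟩ := exists_conj_le P2 card_P2 card_M24_not_dvd _ hXp
  have huP : c * gM * c⁻¹ ∈ P2 :=
    hc ((mem_conj_smul_iff c _ _).mpr ⟨gM, Subgroup.mem_zpowers gM, rfl⟩)
  obtain ⟨t, htL, htu⟩ := (mem_P2 _).mp huP
  obtain ⟨j, hj, rfl⟩ := (p2G.mem_tabs t).mp htL
  have hj' : j < 1024 := hj
  obtain ⟨C, hC⟩ : ∃ C : Equiv.Perm GolayPt, C = ((c : ↥M24) : Equiv.Perm GolayPt) := ⟨_, rfl⟩
  have hCM : C ∈ M24 := hC ▸ c.2
  have hu : (((c * gM * c⁻¹ : ↥M24) : ↥M24) : Equiv.Perm GolayPt) = C * g * C⁻¹ := by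
    rw [hC, ← hgM]
    rfl
  rw [hu] at htu
  -- the table is an involution
  have husq : (C * g * C⁻¹) * (C * g * C⁻¹) = 1 := by
    have : g * g = 1 := by rw [← pow_two]; exact hg2
    calc (C * g * C⁻¹) * (C * g * C⁻¹) = C * (g * g) * C⁻¹ := by group
      _ = 1 := by rw [this]; group
  have hune : C * g * C⁻¹ ≠ 1 := by
    intro h
    apply hg1
    have : g = C⁻¹ * (C * g * C⁻¹) * C := by group
    rw [this, h]
    group
  have ht2 : mulT (p2G.acc j) (p2G.acc j) = idT := by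
    rw [tbl_eq_tblOf (htu.mul htu), husq, ← idT_eq_tblOf_one]
  have htne : p2G.acc j ≠ idT := by
    intro h
    rw [h] at htu
    exact hune (htu.eq_of_eq isTbl_one)
  have hcomp := List.all_eq_true.mp p2_inv_complete j (List.mem_range.mpr hj')
  simp only [Bool.or_eq_true, Bool.not_eq_true', beq_eq_false_iff_ne, beq_iff_eq,
    List.contains_eq_mem, decide_eq_true_eq] at hcomp
  have hmem : j ∈ p2Inv.map Prod.fst := by
    rcases hcomp with (h | h) | h
    · exact absurd ht2 h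
    · exact absurd h htne
    · exact h
  obtain ⟨e, he, hej⟩ := List.mem_map.mp hmem
  have hchk := List.all_eq_true.mp p2_inv_check e he
  rw [hej] at hchk
  simp only [Bool.and_eq_true, decide_eq_true_eq, Bool.or_eq_true, beq_iff_eq] at hchk
  obtain ⟨⟨-, he2⟩, hcases⟩ := hchk
  obtain ⟨τ, hτ, hτt⟩ := p2S.real p2S_ok e.2 he2
  have hfinal : ∀ r : Equiv.Perm GolayPt, τ * (C * g * C⁻¹) = r * τ →
      (τ * C) * g * (τ * C)⁻¹ = r := by
    intro r hr
    calc (τ * C) * g * (τ * C)⁻¹ = τ * (C * g * C⁻¹) * τ⁻¹ := by group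
      _ = r * τ * τ⁻¹ := by rw [hr]
      _ = r := by group
  rcases hcases with ⟨⟨⟨h8, hmul⟩, hp8⟩, hkey⟩ | ⟨h0, hmul⟩
  · obtain ⟨r, hr, hrt⟩ := p2_real _ (acc_mem_tabs p2R8_props.1)
    refine ⟨τ * C, M24.mul_mem hτ hCM, r, hfinal r ?_, Or.inl ⟨hrt, ?_⟩⟩
    · apply (hτt.mul htu).eq_of_eq
      rw [hmul]
      exact hrt.mul hτt
    · have h1 : (Finset.univ.filter fun p => (C * g * C⁻¹) p = p) ∈ octads := by
        rw [fix_eq_suppM htu]
        exact octad_of_fixMask hp8 hkey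
      rw [fix_conj] at h1
      have := smul_mem_wordsOfWeight (M24.inv_mem hCM) h1
      rwa [inv_smul_smul] at this
  · obtain ⟨r, hr, hrt⟩ := p2_real _ (acc_mem_tabs p2R0_props.1)
    refine ⟨τ * C, M24.mul_mem hτ hCM, r, hfinal r ?_, Or.inr ⟨hrt, ?_⟩⟩
    · apply (hτt.mul htu).eq_of_eq
      rw [hmul]
      exact hrt.mul hτt
    · intro p hp
      have hcard := card_fix_of_tbl htu
      rw [h0, Finset.card_eq_zero] at hcard
      have : C p ∈ (Finset.univ.filter fun q => (C * g * C⁻¹) q = q) := by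
        rw [Finset.mem_filter]
        refine ⟨Finset.mem_univ _, ?_⟩
        have e : C⁻¹ (C p) = p := by simp
        rw [Equiv.Perm.mul_apply, Equiv.Perm.mul_apply, e, hp]
      rw [hcard] at this
      exact absurd this (Finset.notMem_empty _)

theorem involutions_main :
    (∀ g ∈ M24, orderOf g = 2 →
      (Finset.univ.filter fun p => g p = p) ∈ octads ∨ ∀ p, g p ≠ p) ∧
    (∃ g ∈ M24, orderOf g = 2 ∧ (Finset.univ.filter fun p => g p = p) ∈ octads) ∧
    (∃ g ∈ M24, orderOf g = 2 ∧ ∀ p, g p ≠ p) ∧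
    ∀ g ∈ M24, ∀ h ∈ M24, orderOf g = 2 → orderOf h = 2 →
      ((∀ p, g p ≠ p) ↔ (∀ p, h p ≠ p)) → ∃ k ∈ M24, k * g * k⁻¹ = h := by
  have : Fact (Nat.Prime 2) := ⟨by norm_num⟩
  have hord : ∀ (r : Equiv.Perm GolayPt) (t : List ℕ), IsTbl r t → t ≠ idT → mulT t t = idT →
      orderOf r = 2 := by
    intro r t hr hne hsq
    apply orderOf_eq_prime
    · rw [pow_two]
      apply (hr.mul hr).eq_of_eq
      rw [hsq]
      exact isTbl_one
    · rintro rfl
      exact hne (by rw [tbl_eq_tblOf hr, ← idT_eq_tblOf_one])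
  refine ⟨?_, ?_, ?_, ?_⟩
  · intro g hg h2
    obtain ⟨k, -, r, -, h⟩ := inv_classify g hg h2
    rcases h with ⟨-, h⟩ | ⟨-, h⟩
    · exact Or.inl h
    · exact Or.inr h
  · obtain ⟨r, hr, hrt⟩ := p2_real _ (acc_mem_tabs p2R8_props.1)
    refine ⟨r, hr, hord r _ hrt p2R8_props.2.2.1 p2R8_props.2.2.2.1, ?_⟩
    rw [fix_eq_suppM hrt]
    exact octad_of_fixMask p2R8_props.2.2.2.2.1 p2R8_props.2.2.2.2.2
  · obtain ⟨r, hr, hrt⟩ := p2_real _ (acc_mem_tabs p2R0_props.1)
    refine ⟨r, hr, hord r _ hrt p2R0_props.2.2.1 p2R0_props.2.2.2, ?_⟩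
    intro p hp
    have hcard := card_fix_of_tbl hrt
    rw [p2R0_props.2.1, Finset.card_eq_zero] at hcard
    have : p ∈ (Finset.univ.filter fun q => r q = q) := by
      rw [Finset.mem_filter]; exact ⟨Finset.mem_univ _, hp⟩
    rw [hcard] at this
    exact absurd this (Finset.notMem_empty _)
  · intro g hg h hh hg2 hh2 hiff
    obtain ⟨k, hk, r, hkr, hcase⟩ := inv_classify g hg hg2
    obtain ⟨k', hk', r', hkr', hcase'⟩ := inv_classify h hh hh2
    have hne_of_oct : ∀ f : Equiv.Perm GolayPt,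
        (Finset.univ.filter fun p => f p = p) ∈ octads → ¬ ∀ p, f p ≠ p := by
      intro f hf hall
      have h8 : (Finset.univ.filter fun p => f p = p).card = 8 := hf.2
      have : (Finset.univ.filter fun p => f p = p) = ∅ := by
        rw [Finset.filter_eq_empty_iff]
        intro p _
        exact hall p
      rw [this] at h8
      simp at h8
    have hrr : r = r' := by
      rcases hcase with ⟨hr, hf⟩ | ⟨hr, hf⟩ <;> rcases hcase' with ⟨hr', hf'⟩ | ⟨hr', hf'⟩
      · exact hr.eq_of_eq hr'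
      · exact absurd (hiff.mpr hf') (hne_of_oct g hf)
      · exact absurd (hiff.mp hf) (hne_of_oct h hf')
      · exact hr.eq_of_eq hr'
    refine ⟨k'⁻¹ * k, M24.mul_mem (M24.inv_mem hk') hk, ?_⟩
    have h1 : k * g * k⁻¹ = k' * h * k'⁻¹ := by rw [hkr, hkr', hrr]
    calc k'⁻¹ * k * g * (k'⁻¹ * k)⁻¹ = k'⁻¹ * (k * g * k⁻¹) * k' := by group
      _ = k'⁻¹ * (k' * h * k'⁻¹) * k' := by rw [h1]
      _ = h := by group

end Cfsg.Agent.Helper9.Golay
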