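import Mathlib
import Cfsg.Prelude.Def_Sporadic_a
import Cfsg.Agent.Helper9.Golay.ListTrans

set_option autoImplicit false

/-!
Transitivity of the group of the length-24 code on pairs of small sets with given
intersection size, and a count of the subsets meeting a fixed set in a given number of points.
-/

namespace Cfsg.Agent.Helper9.Golay

open Cfsg
open scoped Pointwise

theorem smul_eq_of_map_toList (g : Equiv.Perm GolayPt) (t t' : Finset GolayPt)
    (h : t.toList.map g = t'.toList) : g • t = t' := by
  ext p
  rw [Finset.mem_smul_finset, ← Finset.mem_toList (s := t'), ← h, List.mem_map]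
  constructor
  · rintro ⟨q, hq, rfl⟩
    exact ⟨q, Finset.mem_toList.mpr hq, rfl⟩
  · rintro ⟨q, hq, rfl⟩
    exact ⟨q, Finset.mem_toList.mp hq, rfl⟩

theorem m24_map_pair (s y z : Finset GolayPt) (h5 : (s ∪ y).card ≤ 5) (hyz : y.card = z.card)
    (hc : (s ∩ y).card = (s ∩ z).card) : ∃ g ∈ M24, g • s = s ∧ g • y = z := by
  classical
  have e1 : (s \ y).card = (s \ z).card := by
    have h1 := Finset.card_sdiff_add_card_inter s y
    have h2 := Finset.card_sdiff_add_card_inter s z
    omega
  have e2 : (y \ s).card = (z \ s).card := by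
    have h1 := Finset.card_sdiff_add_card_inter y s
    have h2 := Finset.card_sdiff_add_card_inter z s
    rw [Finset.inter_comm] at h1 h2
    omega
  have hd1 : Disjoint (s ∩ y) (s \ y) := by
    rw [Finset.disjoint_left]
    intro p hp hp'
    exact (Finset.mem_sdiff.mp hp').2 (Finset.mem_inter.mp hp).2
  have hd2 : ∀ w : Finset GolayPt, Disjoint (s ∩ w ∪ s \ w) (w \ s) := by
    intro w
    rw [Finset.disjoint_left]
    intro p hp hp'
    have : p ∈ s := by
      rcases Finset.mem_union.mp hp with h | h
      · exact (Finset.mem_inter.mp h).1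
      · exact (Finset.mem_sdiff.mp h).1
    exact (Finset.mem_sdiff.mp hp').2 this
  have hd1' : Disjoint (s ∩ z) (s \ z) := by
    rw [Finset.disjoint_left]
    intro p hp hp'
    exact (Finset.mem_sdiff.mp hp').2 (Finset.mem_inter.mp hp).2
  have hnd : ∀ w : Finset GolayPt, Disjoint (s ∩ w) (s \ w) →
      ((s ∩ w).toList ++ (s \ w).toList ++ (w \ s).toList).Nodup := by
    intro w hw
    rw [List.nodup_append]
    refine ⟨?_, Finset.nodup_toList _, ?_⟩
    · rw [List.nodup_append]
      refine ⟨Finset.nodup_toList _, Finset.nodup_toList _, ?_⟩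
      intro a ha b hb hab
      rw [Finset.mem_toList] at ha hb
      rw [hab] at ha
      exact Finset.disjoint_left.mp hw ha hb
    · intro a ha b hb hab
      rw [List.mem_append, Finset.mem_toList, Finset.mem_toList] at ha
      rw [Finset.mem_toList] at hb
      rw [hab] at ha
      exact Finset.disjoint_left.mp (hd2 w) (Finset.mem_union.mpr ha) hb
  have hlen : ((s ∩ y).toList ++ (s \ y).toList ++ (y \ s).toList).length =
      ((s ∩ z).toList ++ (s \ z).toList ++ (z \ s).toList).length := by
    simp only [List.length_append, Finset.length_toList]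
    omega
  have hlen5 : ((s ∩ y).toList ++ (s \ y).toList ++ (y \ s).toList).length ≤ 5 := by
    simp only [List.length_append, Finset.length_toList]
    have h1 := Finset.card_sdiff_add_card_inter s y
    have h2 : (s ∪ y).card = s.card + (y \ s).card := by
      rw [← Finset.card_union_of_disjoint]
      · congr 1
        ext p
        simp only [Finset.mem_union, Finset.mem_sdiff]
        tauto
      · rw [Finset.disjoint_left]
        intro p hp hp'
        exact (Finset.mem_sdiff.mp hp').2 hp
    omega
  obtain ⟨g, hg, hmap⟩ := m24_map_list _ _ (hnd y hd1) (hnd z hd1') hlen hlen5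
  rw [List.map_append, List.map_append] at hmap
  have hA := List.append_inj hmap (by
    simp only [List.length_append, List.length_map, Finset.length_toList]; omega)
  have hB := List.append_inj hA.1 (by
    simp only [List.length_map, Finset.length_toList]; omega)
  have g1 := smul_eq_of_map_toList g _ _ hB.1
  have g2 := smul_eq_of_map_toList g _ _ hB.2
  have g3 := smul_eq_of_map_toList g _ _ hA.2
  refine ⟨g, hg, ?_, ?_⟩
  · have hs : s = s ∩ y ∪ s \ y := by
      ext p
      simp only [Finset.mem_union, Finset.mem_inter, Finset.mem_sdiff]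
      tauto
    have hs' : s = s ∩ z ∪ s \ z := by
      ext p
      simp only [Finset.mem_union, Finset.mem_inter, Finset.mem_sdiff]
      tauto
    conv_lhs => rw [hs]
    rw [Finset.smul_finset_union, g1, g2, ← hs']
  · have hy : y = s ∩ y ∪ y \ s := by
      ext p
      simp only [Finset.mem_union, Finset.mem_inter, Finset.mem_sdiff]
      tauto
    have hz : z = s ∩ z ∪ z \ s := by
      ext p
      simp only [Finset.mem_union, Finset.mem_inter, Finset.mem_sdiff]
      tauto
    conv_lhs => rw [hy]
    rw [Finset.smul_finset_union, g1, g3, ← hz]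

theorem orbit_M24_eq (s : Finset GolayPt) (hs : s.card ≤ 5) :
    MulAction.orbit M24 s = {t | t.card = s.card} := by
  classical
  ext t
  constructor
  · rintro ⟨g, rfl⟩
    exact card_smul_finset g.1 s
  · intro ht
    have ht' : t.card = s.card := ht
    obtain ⟨g, hg, -, hgt⟩ := m24_map_pair ∅ s t (by rw [Finset.empty_union]; exact hs)
      ht'.symm (by rw [Finset.empty_inter, Finset.empty_inter])
    exact ⟨⟨g, hg⟩, hgt⟩

theorem card_filter_inter {α : Type*} [Fintype α] [DecidableEq α] (s : Finset α) (k j : ℕ)
    (hj : j ≤ k) :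
    ((Finset.univ.powersetCard k).filter (fun y => (s ∩ y).card = j)).card =
      s.card.choose j * (Fintype.card α - s.card).choose (k - j) := by
  rw [← Finset.card_compl, ← Finset.card_powersetCard, ← Finset.card_powersetCard,
    ← Finset.card_product]
  apply Finset.card_nbij' (fun y => (s ∩ y, sᶜ ∩ y)) (fun uv => uv.1 ∪ uv.2)
  · intro y hy
    rw [Finset.mem_coe, Finset.mem_filter, Finset.mem_powersetCard] at hy
    rw [Finset.mem_coe, Finset.mem_product, Finset.mem_powersetCard, Finset.mem_powersetCard]
    refine ⟨⟨Finset.inter_subset_left, hy.2⟩, Finset.inter_subset_left, ?_⟩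
    show (sᶜ ∩ y).card = k - j
    have h1 : (s ∩ y).card + (sᶜ ∩ y).card = y.card := by
      rw [← Finset.card_union_of_disjoint]
      · congr 1
        ext p
        simp only [Finset.mem_union, Finset.mem_inter, Finset.mem_compl]
        tauto
      · rw [Finset.disjoint_left]
        intro p hp hp'
        exact (Finset.mem_compl.mp (Finset.mem_inter.mp hp').1) (Finset.mem_inter.mp hp).1
    rw [hy.1.2, hy.2] at h1
    omega
  · intro uv huv
    rw [Finset.mem_coe, Finset.mem_product, Finset.mem_powersetCard,
      Finset.mem_powersetCard] at huv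
    obtain ⟨⟨hu, hu'⟩, hv, hv'⟩ := huv
    have hdisj : Disjoint uv.1 uv.2 := by
      rw [Finset.disjoint_left]
      intro p hp hp'
      exact (Finset.mem_compl.mp (hv hp')) (hu hp)
    have hsu : s ∩ (uv.1 ∪ uv.2) = uv.1 := by
      ext p
      simp only [Finset.mem_inter, Finset.mem_union]
      constructor
      · rintro ⟨hp, hp' | hp'⟩
        · exact hp'
        · exact absurd hp (Finset.mem_compl.mp (hv hp'))
      · intro hp
        exact ⟨hu hp, Or.inl hp⟩
    rw [Finset.mem_coe, Finset.mem_filter, Finset.mem_powersetCard]
    refine ⟨⟨Finset.subset_univ _, ?_⟩, ?_⟩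
    · rw [Finset.card_union_of_disjoint hdisj, hu', hv']
      omega
    · rw [hsu, hu']
  · intro y _
    ext p
    simp only [Finset.mem_union, Finset.mem_inter, Finset.mem_compl]
    tauto
  · intro uv huv
    rw [Finset.mem_coe, Finset.mem_product, Finset.mem_powersetCard,
      Finset.mem_powersetCard] at huv
    obtain ⟨⟨hu, hu'⟩, hv, hv'⟩ := huv
    apply Prod.ext
    · ext p
      simp only [Finset.mem_inter, Finset.mem_union]
      constructor
      · rintro ⟨hp, hp' | hp'⟩
        · exact hp'
        · exact absurd hp (Finset.mem_compl.mp (hv hp'))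
      · intro hp
        exact ⟨hu hp, Or.inl hp⟩
    · ext p
      simp only [Finset.mem_inter, Finset.mem_union, Finset.mem_compl]
      constructor
      · rintro ⟨hp, hp' | hp'⟩
        · exact absurd (hu hp') hp
        · exact hp'
      · intro hp
        exact ⟨Finset.mem_compl.mp (hv hp), Or.inr hp⟩

theorem ncard_inter_eq (s : Finset GolayPt) (k j : ℕ) (hj : j ≤ k) :
    {y : Finset GolayPt | y.card = k ∧ (s ∩ y).card = j}.ncard =
      s.card.choose j * (24 - s.card).choose (k - j) := by
  classical
  rw [← card_golayPt, ← card_filter_inter s k j hj, ← Set.ncard_coe_finset]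
  congr 1
  ext y
  simp only [Set.mem_ofPred_eq, Finset.coe_filter, Finset.mem_powersetCard, Finset.subset_univ,
    true_and]

end Cfsg.Agent.Helper9.Golay
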