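import Mathlib
import Cfsg.Prelude.Def_Sporadic_a
import Cfsg.Agent.Helper9.Golay.SixPts

set_option autoImplicit false

/-!
Six points: transitivity and pointwise stabilizers.
-/

namespace Cfsg.Agent.Helper9.Golay

open Cfsg
open scoped Pointwise

/-- the standard six points: the first five base points and the point of index `j`. -/
def stdPt (j : ℕ) (i : Fin 6) : GolayPt := if i.val < 5 then idxPtN i.val else idxPtN j

theorem stdPt_castSucc (j : ℕ) (i : Fin 5) : stdPt j i.castSucc = idxPtN i.val := by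
  unfold stdPt
  rw [if_pos (by simp)]
  rfl

theorem stdPt_last (j : ℕ) : stdPt j (Fin.last 5) = idxPtN j := by
  unfold stdPt
  rw [if_neg (by simp)]

theorem six_std' (e : Fin 6 ↪ GolayPt) :
    ∃ k ∈ M24, ((∃ o ∈ octads, ∀ i, e i ∈ o) ∧ ∀ i, k (stdPt 7 i) = e i) ∨
      ((¬ ∃ o ∈ octads, ∀ i, e i ∈ o) ∧ ∀ i, k (stdPt 5 i) = e i) := by
  obtain ⟨k, hk, hkx, h⟩ := six_std e
  refine ⟨k, hk, ?_⟩
  rcases h with ⟨h1, h2⟩ | ⟨h1, h2⟩
  · refine Or.inl ⟨h1, ?_⟩
    intro i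
    rcases i.eq_castSucc_or_eq_last with ⟨j, rfl⟩ | rfl
    · rw [stdPt_castSucc, hkx]
    · rw [stdPt_last, h2]
  · refine Or.inr ⟨h1, ?_⟩
    intro i
    rcases i.eq_castSucc_or_eq_last with ⟨j, rfl⟩ | rfl
    · rw [stdPt_castSucc, hkx]
    · rw [stdPt_last, h2]

/-- six points are mapped to six points by an element of the group of the code as soon as both
or none lie in an octad. -/
theorem six_perm (e e' : Fin 6 ↪ GolayPt)
    (h : (∃ o ∈ octads, ∀ i, e i ∈ o) ↔ (∃ o ∈ octads, ∀ i, e' i ∈ o)) :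
    ∃ g ∈ M24, ∀ i, g (e i) = e' i := by
  obtain ⟨k, hk, hke⟩ := six_std' e
  obtain ⟨k', hk', hke'⟩ := six_std' e'
  refine ⟨k' * k⁻¹, M24.mul_mem hk' (M24.inv_mem hk), ?_⟩
  intro i
  rw [Equiv.Perm.mul_apply]
  rcases hke with ⟨h1, h2⟩ | ⟨h1, h2⟩
  · rcases hke' with ⟨h1', h2'⟩ | ⟨h1', h2'⟩
    · rw [← h2 i, ← h2' i]
      simp only [Equiv.Perm.coe_inv, Equiv.symm_apply_apply]
    · exact absurd (h.mp h1) h1'
  · rcases hke' with ⟨h1', h2'⟩ | ⟨h1', h2'⟩
    · exact absurd (h.mpr h1') h1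
    · rw [← h2 i, ← h2' i]
      simp only [Equiv.Perm.coe_inv, Equiv.symm_apply_apply]

/-- conjugation carries pointwise stabilizers to pointwise stabilizers. -/
theorem card_fix_conj {k : Equiv.Perm GolayPt} (hk : k ∈ M24) (s e : Fin 6 → GolayPt)
    (hks : ∀ i, k (s i) = e i) :
    Nat.card {g : Equiv.Perm GolayPt // g ∈ M24 ∧ ∀ i, g (e i) = e i} =
      Nat.card {g : Equiv.Perm GolayPt // g ∈ M24 ∧ ∀ i, g (s i) = s i} := by
  apply Nat.card_congr
  refine ⟨fun g => ⟨k⁻¹ * g.1 * k, M24.mul_mem (M24.mul_mem (M24.inv_mem hk) g.2.1) hk, ?_⟩,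
    fun g => ⟨k * g.1 * k⁻¹, M24.mul_mem (M24.mul_mem hk g.2.1) (M24.inv_mem hk), ?_⟩, ?_, ?_⟩
  · intro i
    rw [Equiv.Perm.mul_apply, Equiv.Perm.mul_apply, hks i, g.2.2 i, ← hks i]
    simp only [Equiv.Perm.coe_inv, Equiv.symm_apply_apply]
  · intro i
    rw [Equiv.Perm.mul_apply, Equiv.Perm.mul_apply, ← hks i]
    simp only [Equiv.Perm.coe_inv, Equiv.symm_apply_apply]
    rw [g.2.2 i]
  · intro g
    apply Subtype.ext
    simp only
    group
  · intro g
    apply Subtype.ext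
    simp only
    group

theorem mem_K6_iff (g : Equiv.Perm GolayPt) :
    g ∈ K6 ↔ g ∈ M24 ∧ ∀ i, g (stdPt 7 i) = stdPt 7 i := by
  unfold K6
  rw [Subgroup.mem_inf, mem_fixL]
  apply and_congr Iff.rfl
  constructor
  · intro h i
    apply h
    fin_cases i <;> simp [stdPt]
  · intro h b hb
    simp only [List.map_cons, List.map_nil, List.mem_cons, List.not_mem_nil, or_false] at hb
    rcases hb with rfl | rfl | rfl | rfl | rfl | rfl
    · exact h 5
    · exact h 4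
    · exact h 3
    · exact h 2
    · exact h 1
    · exact h 0

theorem mem_K5'_iff (g : Equiv.Perm GolayPt) :
    g ∈ K5' ↔ g ∈ M24 ∧ ∀ i, g (stdPt 5 i) = stdPt 5 i := by
  unfold K5'
  rw [Subgroup.mem_inf, mem_fixL]
  apply and_congr Iff.rfl
  constructor
  · intro h i
    apply h
    fin_cases i <;> simp [stdPt]
  · intro h b hb
    simp only [List.map_cons, List.map_nil, List.mem_cons, List.not_mem_nil, or_false] at hb
    rcases hb with rfl | rfl | rfl | rfl | rfl | rfl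
    · exact h 5
    · exact h 4
    · exact h 3
    · exact h 2
    · exact h 1
    · exact h 0

theorem card_fix_six_in (e : Fin 6 ↪ GolayPt) (h : ∃ o ∈ octads, ∀ i, e i ∈ o) :
    Nat.card {g : Equiv.Perm GolayPt // g ∈ M24 ∧ ∀ i, g (e i) = e i} = 16 := by
  obtain ⟨k, hk, hke⟩ := six_std' e
  rcases hke with ⟨-, h2⟩ | ⟨h1, -⟩
  · rw [card_fix_conj hk (stdPt 7) e h2, ← card_K6]
    exact Nat.card_congr (Equiv.subtypeEquivRight (fun g => (mem_K6_iff g).symm))
  · exact absurd h h1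

theorem card_fix_six_out (e : Fin 6 ↪ GolayPt) (h : ¬ ∃ o ∈ octads, ∀ i, e i ∈ o) :
    Nat.card {g : Equiv.Perm GolayPt // g ∈ M24 ∧ ∀ i, g (e i) = e i} = 3 := by
  obtain ⟨k, hk, hke⟩ := six_std' e
  rcases hke with ⟨h1, -⟩ | ⟨-, h2⟩
  · exact absurd h1 h
  · rw [card_fix_conj hk (stdPt 5) e h2, ← card_K5']
    exact Nat.card_congr (Equiv.subtypeEquivRight (fun g => (mem_K5'_iff g).symm))

end Cfsg.Agent.Helper9.Golay
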