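import Mathlib
import Cfsg.Prelude.Def_Sporadic_a
import Cfsg.Agent.Helper9.Golay.SetTrans
import Cfsg.Agent.Helper9.Golay.SixSets
import Cfsg.Agent.Helper9.Golay.Inter

set_option autoImplicit false

/-!
Octads through a small set of points; the triads disjoint from a triad.
-/

namespace Cfsg.Agent.Helper9.Golay

open Cfsg
open scoped Pointwise

theorem popc_low (i : ℕ) (hi : i ≤ 5) : popc (2 ^ i - 1) = i := by
  interval_cases i <;> decide

/-- the number of octads through a set of at most five points. -/
theorem ncard_octads_sup (s : Finset GolayPt) (i : ℕ) (hs : s.card = i) (hi : i ≤ 5) :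
    {o : Finset GolayPt | o ∈ octads ∧ s ⊆ o}.ncard =
      ((codeList.filter (fun m => popc m == 8)).filter
        (fun a => popc (a &&& (2 ^ i - 1)) == i)).length := by
  classical
  have hc0 : (suppM (2 ^ i - 1)).card = i := by rw [card_suppM, popc_low i hi]
  have hmem : s ∈ MulAction.orbit M24 (suppM (2 ^ i - 1)) := by
    rw [orbit_M24_eq _ (by omega)]
    show s.card = _
    rw [hs, hc0]
  obtain ⟨g, hg⟩ := hmem
  have hg' : (g.1 • suppM (2 ^ i - 1) : Finset GolayPt) = s := hg
  have : {o : Finset GolayPt | o ∈ octads ∧ s ⊆ o}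
      = {o : Finset GolayPt | o ∈ wordsOfWeight (golayCode : Set (GolayPt → ZMod 2)) 8 ∧
        (o ∩ g.1 • suppM (2 ^ i - 1)).card = i} := by
    ext o
    simp only [Set.mem_ofPred_eq]
    rw [hg']
    apply and_congr Iff.rfl
    constructor
    · intro h
      rw [Finset.inter_eq_right.mpr h, hs]
    · intro h
      have : o ∩ s = s := Finset.eq_of_subset_of_card_le Finset.inter_subset_right (by omega)
      rw [← this]
      exact Finset.inter_subset_left
  rw [this, ncard_inter_smul 8 i g.1 g.2, ncard_inter_mask]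

theorem oct_sup_1 : ((codeList.filter (fun m => popc m == 8)).filter
    (fun a => popc (a &&& (2 ^ 1 - 1)) == 1)).length = 253 := by decide +kernel

theorem oct_sup_2 : ((codeList.filter (fun m => popc m == 8)).filter
    (fun a => popc (a &&& (2 ^ 2 - 1)) == 2)).length = 77 := by decide +kernel

theorem oct_sup_3 : ((codeList.filter (fun m => popc m == 8)).filter
    (fun a => popc (a &&& (2 ^ 3 - 1)) == 3)).length = 21 := by decide +kernel

theorem oct_sup_4 : ((codeList.filter (fun m => popc m == 8)).filter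
    (fun a => popc (a &&& (2 ^ 4 - 1)) == 4)).length = 5 := by decide +kernel

theorem ncard_octads_sup_one (s : Finset GolayPt) (hs : s.card = 1) :
    {o : Finset GolayPt | o ∈ octads ∧ s ⊆ o}.ncard = 253 := by
  rw [ncard_octads_sup s 1 hs (by norm_num), oct_sup_1]

theorem ncard_octads_sup_two (s : Finset GolayPt) (hs : s.card = 2) :
    {o : Finset GolayPt | o ∈ octads ∧ s ⊆ o}.ncard = 77 := by
  rw [ncard_octads_sup s 2 hs (by norm_num), oct_sup_2]

theorem ncard_octads_sup_three (s : Finset GolayPt) (hs : s.card = 3) :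
    {o : Finset GolayPt | o ∈ octads ∧ s ⊆ o}.ncard = 21 := by
  rw [ncard_octads_sup s 3 hs (by norm_num), oct_sup_3]

theorem ncard_octads_sup_four (s : Finset GolayPt) (hs : s.card = 4) :
    {o : Finset GolayPt | o ∈ octads ∧ s ⊆ o}.ncard = 5 := by
  rw [ncard_octads_sup s 4 hs (by norm_num), oct_sup_4]

/-- the triads lying with a given triad in an octad. -/
theorem ncard_triads_in (T : Finset GolayPt) (hT : T.card = 3) :
    {U : Finset GolayPt | U.card = 3 ∧ Disjoint T U ∧ (∃ o ∈ octads, T ∪ U ⊆ o)}.ncard = 210 := by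
  classical
  set OT : Finset (Finset GolayPt) := octadFinset.filter (fun o => T ⊆ o) with hOT
  have hOTcard : OT.card = 21 := by
    rw [← ncard_octads_sup_three T hT, ← Set.ncard_coe_finset]
    congr 1
    ext o
    simp only [hOT, Finset.coe_filter, Set.mem_ofPred_eq, mem_octadFinset]
  have hset : {U : Finset GolayPt | U.card = 3 ∧ Disjoint T U ∧ (∃ o ∈ octads, T ∪ U ⊆ o)}
      = ↑(OT.biUnion (fun o => (o \ T).powersetCard 3)) := by
    ext U
    simp only [Set.mem_ofPred_eq, Finset.coe_biUnion, Set.mem_iUnion, Finset.mem_coe,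
      Finset.mem_powersetCard, hOT, Finset.mem_filter, mem_octadFinset, exists_prop]
    constructor
    · rintro ⟨hU, hd, o, ho, hTU⟩
      refine ⟨o, ⟨ho, Finset.union_subset_left hTU⟩, ?_, hU⟩
      intro p hp
      rw [Finset.mem_sdiff]
      exact ⟨hTU (Finset.mem_union_right _ hp), fun hpT => Finset.disjoint_left.mp hd hpT hp⟩
    · rintro ⟨o, ⟨ho, hTo⟩, hUo, hU⟩
      refine ⟨hU, ?_, o, ho, Finset.union_subset hTo (fun p hp => (Finset.mem_sdiff.mp (hUo hp)).1)⟩
      rw [Finset.disjoint_left]
      intro p hpT hpU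
      exact (Finset.mem_sdiff.mp (hUo hpU)).2 hpT
  rw [hset, Set.ncard_coe_finset, Finset.card_biUnion]
  · have : ∀ o ∈ OT, ((o \ T).powersetCard 3).card = 10 := by
      intro o ho
      rw [hOT, Finset.mem_filter, mem_octadFinset] at ho
      rw [Finset.card_powersetCard, Finset.card_sdiff_of_subset ho.2, card_of_mem_octads ho.1, hT]
      decide
    rw [Finset.sum_congr rfl this, Finset.sum_const, hOTcard]
    rfl
  · intro o ho o' ho' hne
    show Disjoint ((o \ T).powersetCard 3) ((o' \ T).powersetCard 3)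
    rw [Finset.disjoint_left]
    intro U hU hU'
    rw [Finset.mem_powersetCard] at hU hU'
    rw [hOT, Finset.mem_coe, Finset.mem_filter, mem_octadFinset] at ho ho'
    apply hne
    have hd : Disjoint T U := by
      rw [Finset.disjoint_left]
      intro p hpT hpU
      exact (Finset.mem_sdiff.mp (hU.1 hpU)).2 hpT
    have h6 : 5 ≤ (T ∪ U).card := by
      rw [Finset.card_union_of_disjoint hd, hT, hU.2]
      norm_num
    obtain ⟨s5, hs5, hs5c⟩ := Finset.exists_subset_card_eq h6
    apply octads_unique ho.1 ho'.1 s5 hs5c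
    · exact hs5.trans (Finset.union_subset ho.2 (fun p hp => (Finset.mem_sdiff.mp (hU.1 hp)).1))
    · exact hs5.trans (Finset.union_subset ho'.2 (fun p hp => (Finset.mem_sdiff.mp (hU'.1 hp)).1))

/-- the triads not lying with a given triad in an octad. -/
theorem ncard_triads_out (T : Finset GolayPt) (hT : T.card = 3) :
    {U : Finset GolayPt | U.card = 3 ∧ Disjoint T U ∧ ¬ (∃ o ∈ octads, T ∪ U ⊆ o)}.ncard
      = 1120 := by
  classical
  have hall := ncard_inter_eq T 3 0 (by norm_num)
  rw [hT] at hall
  have hsplit : {y : Finset GolayPt | y.card = 3 ∧ (T ∩ y).card = 0}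
      = {U : Finset GolayPt | U.card = 3 ∧ Disjoint T U ∧ (∃ o ∈ octads, T ∪ U ⊆ o)} ∪
        {U : Finset GolayPt | U.card = 3 ∧ Disjoint T U ∧ ¬ (∃ o ∈ octads, T ∪ U ⊆ o)} := by
    ext U
    simp only [Set.mem_ofPred_eq, Set.mem_union, Finset.card_eq_zero,
      ← Finset.disjoint_iff_inter_eq_empty]
    constructor
    · rintro ⟨h1, h2⟩
      by_cases h : ∃ o ∈ octads, T ∪ U ⊆ o
      · exact Or.inl ⟨h1, h2, h⟩
      · exact Or.inr ⟨h1, h2, h⟩
    · rintro (⟨h1, h2, -⟩ | ⟨h1, h2, -⟩)
      · exact ⟨h1, h2⟩
      · exact ⟨h1, h2⟩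
  have hdisj : Disjoint
      {U : Finset GolayPt | U.card = 3 ∧ Disjoint T U ∧ (∃ o ∈ octads, T ∪ U ⊆ o)}
      {U : Finset GolayPt | U.card = 3 ∧ Disjoint T U ∧ ¬ (∃ o ∈ octads, T ∪ U ⊆ o)} := by
    rw [Set.disjoint_left]
    rintro U ⟨-, -, h1⟩ ⟨-, -, h2⟩
    exact h2 h1
  rw [hsplit, Set.ncard_union_eq hdisj (Set.toFinite _) (Set.toFinite _),
    ncard_triads_in T hT] at hall
  have : (3 : ℕ).choose 0 * (24 - 3).choose (3 - 0) = 1330 := by decide
  omega

/-- an enumeration of two disjoint triads. -/
theorem exists_emb6 (T U : Finset GolayPt) (hT : T.card = 3) (hU : U.card = 3)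
    (hd : Disjoint T U) :
    ∃ e : Fin 6 ↪ GolayPt, (∀ i : Fin 6, e i = (T.toList ++ U.toList).getD i.val none) ∧
      (∀ o : Finset GolayPt, (∀ i, e i ∈ o) ↔ T ∪ U ⊆ o) := by
  classical
  have hlen : (T.toList ++ U.toList).length = 6 := by
    rw [List.length_append, Finset.length_toList, Finset.length_toList, hT, hU]
  have hnd : (T.toList ++ U.toList).Nodup := by
    rw [List.nodup_append]
    refine ⟨Finset.nodup_toList _, Finset.nodup_toList _, ?_⟩
    intro a ha b hb hab
    rw [Finset.mem_toList] at ha hb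
    rw [hab] at ha
    exact Finset.disjoint_left.mp hd ha hb
  have hget : ∀ i : Fin 6, (T.toList ++ U.toList).getD i.val none
      = (T.toList ++ U.toList).get (i.cast hlen.symm) := by
    intro i
    rw [List.getD_eq_getElem _ _ (by rw [hlen]; exact i.2)]
    rfl
  refine ⟨⟨fun i => (T.toList ++ U.toList).getD i.val none, ?_⟩, fun i => rfl, ?_⟩
  · intro i j hij
    have hij' : (T.toList ++ U.toList).getD i.val none
        = (T.toList ++ U.toList).getD j.val none := hij
    rw [hget, hget] at hij'
    have := List.nodup_iff_injective_get.mp hnd hij'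
    exact Fin.ext (by simpa using congrArg Fin.val this)
  · intro o
    show (∀ i : Fin 6, (T.toList ++ U.toList).getD i.val none ∈ o) ↔ T ∪ U ⊆ o
    constructor
    · intro h p hp
      have hp' : p ∈ T.toList ++ U.toList := by
        rw [List.mem_append, Finset.mem_toList, Finset.mem_toList]
        exact Finset.mem_union.mp hp
      obtain ⟨n, hn⟩ := List.get_of_mem hp'
      have := h (n.cast hlen)
      rw [hget] at this
      rw [← hn]
      exact this
    · intro h i
      rw [hget]
      have : (T.toList ++ U.toList).get (i.cast hlen.symm) ∈ T.toList ++ U.toList :=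
        List.get_mem _ _
      rw [List.mem_append, Finset.mem_toList, Finset.mem_toList] at this
      exact h (Finset.mem_union.mpr this)

/-- the stabiliser of a triad has two orbits on the triads disjoint from it. -/
theorem triads_trans (T U U' : Finset GolayPt) (hT : T.card = 3) (hU : U.card = 3)
    (hU' : U'.card = 3) (hd : Disjoint T U) (hd' : Disjoint T U')
    (h : (∃ o ∈ octads, T ∪ U ⊆ o) ↔ (∃ o ∈ octads, T ∪ U' ⊆ o)) :
    ∃ g : Equiv.Perm GolayPt, g ∈ M24 ∧ g • T = T ∧ g • U = U' := by
  classical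
  obtain ⟨e, he, heo⟩ := exists_emb6 T U hT hU hd
  obtain ⟨e', he', heo'⟩ := exists_emb6 T U' hT hU' hd'
  have h' : (∃ o ∈ octads, ∀ i, e i ∈ o) ↔ (∃ o ∈ octads, ∀ i, e' i ∈ o) := by
    simp only [heo, heo']
    exact h
  obtain ⟨g, hg, hge⟩ := six_perm e e' h'
  have hmap : (T.toList ++ U.toList).map g = T.toList ++ U'.toList := by
    apply List.ext_getElem
    · simp only [List.length_map, List.length_append, Finset.length_toList, hU, hU']
    · intro n h1 h2
      have hn : n < 6 := by
        simp only [List.length_append, Finset.length_toList, hT, hU'] at h2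
        omega
      have := hge ⟨n, hn⟩
      rw [he, he', List.getD_eq_getElem _ _ (by simpa using h1),
        List.getD_eq_getElem _ _ h2] at this
      rw [List.getElem_map]
      exact this
  rw [List.map_append] at hmap
  have hA := List.append_inj hmap (by rw [List.length_map])
  exact ⟨g, hg, smul_eq_of_map_toList g _ _ hA.1, smul_eq_of_map_toList g _ _ hA.2⟩

end Cfsg.Agent.Helper9.Golay
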