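import Mathlib
import Cfsg.Prelude.Def_Sporadic_a
import Cfsg.Agent.Helper9.Golay.Triads

set_option autoImplicit false

/-!
Generalisations of the lemmas on triads: sets lying with a given set in an octad, and
transitivity on pairs of sets with some points fixed.
-/

namespace Cfsg.Agent.Helper9.Golay

open Cfsg
open scoped Pointwise

theorem forall_fix_of_map_eq (g : Equiv.Perm GolayPt) :
    ∀ l : List GolayPt, l.map g = l → ∀ x ∈ l, g x = x := by
  intro l
  induction l with
  | nil => intro _ x hx; simp at hx
  | cons a l ih =>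
    intro h x hx
    rw [List.map_cons, List.cons.injEq] at h
    rcases List.mem_cons.mp hx with rfl | hx
    · exact h.1
    · exact ih h.2 x hx

/-- the sets of `b` points lying with a given set of `a` points in an octad (`5 ≤ a + b`). -/
theorem ncard_joint_in (T : Finset GolayPt) (a b N : ℕ) (hT : T.card = a) (hab : 5 ≤ a + b)
    (hN : {o : Finset GolayPt | o ∈ octads ∧ T ⊆ o}.ncard = N) :
    {U : Finset GolayPt | U.card = b ∧ Disjoint T U ∧ (∃ o ∈ octads, T ∪ U ⊆ o)}.ncard
      = N * (8 - a).choose b := by
  classical
  set OT : Finset (Finset GolayPt) := octadFinset.filter (fun o => T ⊆ o) with hOT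
  have hOTcard : OT.card = N := by
    rw [← hN, ← Set.ncard_coe_finset]
    congr 1
    ext o
    simp only [hOT, Finset.coe_filter, Set.mem_ofPred_eq, mem_octadFinset]
  have hset : {U : Finset GolayPt | U.card = b ∧ Disjoint T U ∧ (∃ o ∈ octads, T ∪ U ⊆ o)}
      = ↑(OT.biUnion (fun o => (o \ T).powersetCard b)) := by
    ext U
    simp only [Set.mem_ofPred_eq, Finset.coe_biUnion, Set.mem_iUnion, Finset.mem_coe,
      Finset.mem_powersetCard, hOT, Finset.mem_filter, mem_octadFinset, exists_prop]
    constructor
    · rintro ⟨hU, hd, o, ho, hTU⟩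
      refine ⟨o, ⟨ho, Finset.union_subset_left hTU⟩, ?_, hU⟩
      intro p hp
      rw [Finset.mem_sdiff]
      exact ⟨hTU (Finset.mem_union_right _ hp), fun hpT => Finset.disjoint_left.mp hd hpT hp⟩
    · rintro ⟨o, ⟨ho, hTo⟩, hUo, hU⟩
      refine ⟨hU, ?_, o, ho, Finset.union_subset hTo (fun p hp => (Finset.mem_sdiff.mp (hUo hp)).1)⟩
      rw [Finset.disjoint_left]
      intro p hpT hpU
      exact (Finset.mem_sdiff.mp (hUo hpU)).2 hpT
  rw [hset, Set.ncard_coe_finset, Finset.card_biUnion]
  · have : ∀ o ∈ OT, ((o \ T).powersetCard b).card = (8 - a).choose b := by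
      intro o ho
      rw [hOT, Finset.mem_filter, mem_octadFinset] at ho
      rw [Finset.card_powersetCard, Finset.card_sdiff_of_subset ho.2, card_of_mem_octads ho.1, hT]
    rw [Finset.sum_congr rfl this, Finset.sum_const, hOTcard]
    rfl
  · intro o ho o' ho' hne
    show Disjoint ((o \ T).powersetCard b) ((o' \ T).powersetCard b)
    rw [Finset.disjoint_left]
    intro U hU hU'
    rw [Finset.mem_powersetCard] at hU hU'
    rw [hOT, Finset.mem_coe, Finset.mem_filter, mem_octadFinset] at ho ho'
    apply hne
    have hd : Disjoint T U := by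
      rw [Finset.disjoint_left]
      intro p hpT hpU
      exact (Finset.mem_sdiff.mp (hU.1 hpU)).2 hpT
    have h6 : 5 ≤ (T ∪ U).card := by
      rw [Finset.card_union_of_disjoint hd, hT, hU.2]
      exact hab
    obtain ⟨s5, hs5, hs5c⟩ := Finset.exists_subset_card_eq h6
    apply octads_unique ho.1 ho'.1 s5 hs5c
    · exact hs5.trans (Finset.union_subset ho.2 (fun p hp => (Finset.mem_sdiff.mp (hU.1 hp)).1))
    · exact hs5.trans (Finset.union_subset ho'.2 (fun p hp => (Finset.mem_sdiff.mp (hU'.1 hp)).1))

/-- an enumeration of two disjoint sets with six points in all. -/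
theorem exists_emb6' (T U : Finset GolayPt) (a b : ℕ) (hT : T.card = a) (hU : U.card = b)
    (hab : a + b = 6) (hd : Disjoint T U) :
    ∃ e : Fin 6 ↪ GolayPt, (∀ i : Fin 6, e i = (T.toList ++ U.toList).getD i.val none) ∧
      (∀ o : Finset GolayPt, (∀ i, e i ∈ o) ↔ T ∪ U ⊆ o) := by
  classical
  have hlen : (T.toList ++ U.toList).length = 6 := by
    rw [List.length_append, Finset.length_toList, Finset.length_toList, hT, hU, hab]
  have hnd : (T.toList ++ U.toList).Nodup := by
    rw [List.nodup_append]
    refine ⟨Finset.nodup_toList _, Finset.nodup_toList _, ?_⟩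
    intro a ha b hb hab
    rw [Finset.mem_toList] at ha hb
    rw [hab] at ha
    exact Finset.disjoint_left.mp hd ha hb
  have hget : ∀ i : Fin 6, (T.toList ++ U.toList).getD i.val none
      = (T.toList ++ U.toList).get (i.cast hlen.symm) := by
    intro i
    rw [List.getD_eq_getElem _ _ (by rw [hlen]; exact i.2)]
    rfl
  refine ⟨⟨fun i => (T.toList ++ U.toList).getD i.val none, ?_⟩, fun i => rfl, ?_⟩
  · intro i j hij
    have hij' : (T.toList ++ U.toList).getD i.val none
        = (T.toList ++ U.toList).getD j.val none := hij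
    rw [hget, hget] at hij'
    have := List.nodup_iff_injective_get.mp hnd hij'
    exact Fin.ext (by simpa using congrArg Fin.val this)
  · intro o
    show (∀ i : Fin 6, (T.toList ++ U.toList).getD i.val none ∈ o) ↔ T ∪ U ⊆ o
    constructor
    · intro h p hp
      have hp' : p ∈ T.toList ++ U.toList := by
        rw [List.mem_append, Finset.mem_toList, Finset.mem_toList]
        exact Finset.mem_union.mp hp
      obtain ⟨n, hn⟩ := List.get_of_mem hp'
      have := h (n.cast hlen)
      rw [hget] at this
      rw [← hn]
      exact this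
    · intro h i
      rw [hget]
      have : (T.toList ++ U.toList).get (i.cast hlen.symm) ∈ T.toList ++ U.toList :=
        List.get_mem _ _
      rw [List.mem_append, Finset.mem_toList, Finset.mem_toList] at this
      exact h (Finset.mem_union.mpr this)

/-- the pointwise stabiliser of a set has at most two orbits on the sets completing it to six
points. -/
theorem sets6_trans (T U U' : Finset GolayPt) (a b : ℕ) (hT : T.card = a) (hU : U.card = b)
    (hU' : U'.card = b) (hab : a + b = 6) (hd : Disjoint T U) (hd' : Disjoint T U')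
    (h : (∃ o ∈ octads, T ∪ U ⊆ o) ↔ (∃ o ∈ octads, T ∪ U' ⊆ o)) :
    ∃ g : Equiv.Perm GolayPt, g ∈ M24 ∧ (∀ x ∈ T, g x = x) ∧ g • U = U' := by
  classical
  obtain ⟨e, he, heo⟩ := exists_emb6' T U a b hT hU hab hd
  obtain ⟨e', he', heo'⟩ := exists_emb6' T U' a b hT hU' hab hd'
  have h' : (∃ o ∈ octads, ∀ i, e i ∈ o) ↔ (∃ o ∈ octads, ∀ i, e' i ∈ o) := by
    simp only [heo, heo']
    exact h
  obtain ⟨g, hg, hge⟩ := six_perm e e' h'
  have hmap : (T.toList ++ U.toList).map g = T.toList ++ U'.toList := by
    apply List.ext_getElem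
    · simp only [List.length_map, List.length_append, Finset.length_toList, hU, hU']
    · intro n h1 h2
      have hn : n < 6 := by
        simp only [List.length_append, Finset.length_toList, hT, hU'] at h2
        omega
      have := hge ⟨n, hn⟩
      rw [he, he', List.getD_eq_getElem _ _ (by simpa using h1),
        List.getD_eq_getElem _ _ h2] at this
      rw [List.getElem_map]
      exact this
  rw [List.map_append] at hmap
  have hA := List.append_inj hmap (by rw [List.length_map])
  refine ⟨g, hg, ?_, smul_eq_of_map_toList g _ _ hA.2⟩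
  intro x hx
  exact forall_fix_of_map_eq g _ hA.1 x (Finset.mem_toList.mpr hx)

/-- transitivity on pairs of small sets with given intersection size, some points being
fixed. -/
theorem m24_map_pair_fix (F : List GolayPt) (hF : F.Nodup) (s y z : Finset GolayPt)
    (hFy : ∀ x ∈ F, x ∉ s ∪ y) (hFz : ∀ x ∈ F, x ∉ s ∪ z)
    (h5 : F.length + (s ∪ y).card ≤ 5) (hyz : y.card = z.card)
    (hc : (s ∩ y).card = (s ∩ z).card) :
    ∃ g ∈ M24, (∀ x ∈ F, g x = x) ∧ g • s = s ∧ g • y = z := by
  classical
  have e1 : (s \ y).card = (s \ z).card := by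
    have h1 := Finset.card_sdiff_add_card_inter s y
    have h2 := Finset.card_sdiff_add_card_inter s z
    omega
  have e2 : (y \ s).card = (z \ s).card := by
    have h1 := Finset.card_sdiff_add_card_inter y s
    have h2 := Finset.card_sdiff_add_card_inter z s
    rw [Finset.inter_comm] at h1 h2
    omega
  have hsub : ∀ w : Finset GolayPt, ∀ x ∈ (s ∩ w).toList ++ (s \ w).toList ++ (w \ s).toList,
      x ∈ s ∪ w := by
    intro w x hx
    rw [List.mem_append, List.mem_append, Finset.mem_toList, Finset.mem_toList,
      Finset.mem_toList] at hx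
    rw [Finset.mem_union]
    rcases hx with (hx | hx) | hx
    · exact Or.inl (Finset.mem_inter.mp hx).1
    · exact Or.inl (Finset.mem_sdiff.mp hx).1
    · exact Or.inr (Finset.mem_sdiff.mp hx).1
  have hnd : ∀ w : Finset GolayPt,
      ((s ∩ w).toList ++ (s \ w).toList ++ (w \ s).toList).Nodup := by
    intro w
    rw [List.nodup_append]
    refine ⟨?_, Finset.nodup_toList _, ?_⟩
    · rw [List.nodup_append]
      refine ⟨Finset.nodup_toList _, Finset.nodup_toList _, ?_⟩
      intro a ha b hb hab
      rw [Finset.mem_toList] at ha hb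
      rw [hab] at ha
      exact (Finset.mem_sdiff.mp hb).2 (Finset.mem_inter.mp ha).2
    · intro a ha b hb hab
      rw [List.mem_append, Finset.mem_toList, Finset.mem_toList] at ha
      rw [Finset.mem_toList] at hb
      rw [hab] at ha
      have hbs : b ∈ s := by
        rcases ha with h | h
        · exact (Finset.mem_inter.mp h).1
        · exact (Finset.mem_sdiff.mp h).1
      exact (Finset.mem_sdiff.mp hb).2 hbs
  have hndF : ∀ w : Finset GolayPt, (∀ x ∈ F, x ∉ s ∪ w) →
      (F ++ ((s ∩ w).toList ++ (s \ w).toList ++ (w \ s).toList)).Nodup := by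
    intro w hw
    rw [List.nodup_append]
    refine ⟨hF, hnd w, ?_⟩
    intro a ha b hb hab
    rw [hab] at ha
    exact hw b ha (hsub w b hb)
  have hlen0 : ((s ∩ y).toList ++ (s \ y).toList ++ (y \ s).toList).length =
      ((s ∩ z).toList ++ (s \ z).toList ++ (z \ s).toList).length := by
    simp only [List.length_append, Finset.length_toList]
    omega
  have hlen : (F ++ ((s ∩ y).toList ++ (s \ y).toList ++ (y \ s).toList)).length =
      (F ++ ((s ∩ z).toList ++ (s \ z).toList ++ (z \ s).toList)).length := by
    simp only [List.length_append, Finset.length_toList]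
    omega
  have hlen5 : (F ++ ((s ∩ y).toList ++ (s \ y).toList ++ (y \ s).toList)).length ≤ 5 := by
    simp only [List.length_append, Finset.length_toList]
    have h1 := Finset.card_sdiff_add_card_inter s y
    have h2 : (s ∪ y).card = s.card + (y \ s).card := by
      rw [← Finset.card_union_of_disjoint]
      · congr 1
        ext p
        simp only [Finset.mem_union, Finset.mem_sdiff]
        tauto
      · rw [Finset.disjoint_left]
        intro p hp hp'
        exact (Finset.mem_sdiff.mp hp').2 hp
    omega
  obtain ⟨g, hg, hmap⟩ := m24_map_list _ _ (hndF y hFy) (hndF z hFz) hlen hlen5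
  rw [List.map_append] at hmap
  have hF' := List.append_inj hmap (by rw [List.length_map])
  have hmap' := hF'.2
  rw [List.map_append, List.map_append] at hmap'
  have hA := List.append_inj hmap' (by
    simp only [List.length_append, List.length_map, Finset.length_toList]; omega)
  have hB := List.append_inj hA.1 (by
    simp only [List.length_map, Finset.length_toList]; omega)
  have g1 := smul_eq_of_map_toList g _ _ hB.1
  have g2 := smul_eq_of_map_toList g _ _ hB.2
  have g3 := smul_eq_of_map_toList g _ _ hA.2
  refine ⟨g, hg, forall_fix_of_map_eq g F hF'.1, ?_, ?_⟩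
  · have hs : s = s ∩ y ∪ s \ y := by
      ext p
      simp only [Finset.mem_union, Finset.mem_inter, Finset.mem_sdiff]
      tauto
    have hs' : s = s ∩ z ∪ s \ z := by
      ext p
      simp only [Finset.mem_union, Finset.mem_inter, Finset.mem_sdiff]
      tauto
    conv_lhs => rw [hs]
    rw [Finset.smul_finset_union, g1, g2, ← hs']
  · have hy : y = s ∩ y ∪ y \ s := by
      ext p
      simp only [Finset.mem_union, Finset.mem_inter, Finset.mem_sdiff]
      tauto
    have hz : z = s ∩ z ∪ z \ s := by
      ext p
      simp only [Finset.mem_union, Finset.mem_inter, Finset.mem_sdiff]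
      tauto
    conv_lhs => rw [hy]
    rw [Finset.smul_finset_union, g1, g3, ← hz]

end Cfsg.Agent.Helper9.Golay
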