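import Mathlib
import Cfsg.Prelude
import Cfsg.Agent.Lead.Sextets
import Cfsg.Agent.Helper9.Golay.SetTrans
import Cfsg.Agent.Helper9.Golay.PairsPQ

set_option autoImplicit false

/-! Basic facts on sextets. -/

namespace Cfsg.Agent.Helper9.Golay

open Cfsg
open scoped Pointwise

theorem sextet_disjoint {S : Finset (Finset GolayPt)} (hS : S ∈ sextets) {t u : Finset GolayPt}
    (ht : t ∈ S) (hu : u ∈ S) (h : t ≠ u) : Disjoint t u := by
  have h8 : (t ∪ u).card = 8 := (hS.2.2 t ht u hu h).2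
  have h4 := hS.2.1 t ht
  have h4' := hS.2.1 u hu
  rw [← Finset.card_union_eq_card_add_card]
  omega

theorem sextet_biUnion {S : Finset (Finset GolayPt)} (hS : S ∈ sextets) :
    S.biUnion id = Finset.univ := by
  apply Finset.eq_univ_of_card
  rw [Finset.card_biUnion]
  · have : ∀ t ∈ S, (id t).card = 4 := fun t ht => hS.2.1 t ht
    rw [Finset.sum_congr rfl this, Finset.sum_const, hS.1, card_golayPt]
    rfl
  · intro t ht u hu h
    exact sextet_disjoint hS ht hu h

theorem sextet_cover {S : Finset (Finset GolayPt)} (hS : S ∈ sextets) (p : GolayPt) :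
    ∃ t ∈ S, p ∈ t := by
  have : p ∈ S.biUnion id := by rw [sextet_biUnion hS]; exact Finset.mem_univ p
  rw [Finset.mem_biUnion] at this
  exact this

theorem sextet_eq_of_mem {S : Finset (Finset GolayPt)} (hS : S ∈ sextets) {t u : Finset GolayPt}
    (ht : t ∈ S) (hu : u ∈ S) {p : GolayPt} (hpt : p ∈ t) (hpu : p ∈ u) : t = u := by
  by_contra h
  exact (Finset.disjoint_left.mp (sextet_disjoint hS ht hu h)) hpt hpu

theorem smul_mem_sextets {g : Equiv.Perm GolayPt} (hg : g ∈ M24) {S : Finset (Finset GolayPt)}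
    (hS : S ∈ sextets) : g • S ∈ sextets := by
  refine ⟨by rw [Finset.card_smul_finset]; exact hS.1, ?_, ?_⟩
  · intro t ht
    obtain ⟨t0, ht0, rfl⟩ := Finset.mem_smul_finset.mp ht
    rw [Finset.card_smul_finset]
    exact hS.2.1 t0 ht0
  · intro t ht u hu h
    obtain ⟨t0, ht0, rfl⟩ := Finset.mem_smul_finset.mp ht
    obtain ⟨u0, hu0, rfl⟩ := Finset.mem_smul_finset.mp hu
    have h0 : t0 ≠ u0 := fun h' => h (by rw [h'])
    rw [← Finset.smul_finset_union]
    exact smul_mem_wordsOfWeight hg (hS.2.2 t0 ht0 u0 hu0 h0)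

theorem sextet_unique {S S' : Finset (Finset GolayPt)} (hS : S ∈ sextets) (hS' : S' ∈ sextets)
    {t : Finset GolayPt} (ht : t ∈ S) (ht' : t ∈ S') : S = S' := by
  have h4 := hS.2.1 t ht
  obtain ⟨S₀, -, huniq⟩ := Cfsg.Agent.Lead.Steiner.sextets_main.1 t h4
  rw [huniq S ⟨hS, ht⟩, huniq S' ⟨hS', ht'⟩]

theorem exists_sextet (t : Finset GolayPt) (ht : t.card = 4) : ∃ S ∈ sextets, t ∈ S := by
  obtain ⟨S₀, h, -⟩ := Cfsg.Agent.Lead.Steiner.sextets_main.1 t ht
  exact ⟨S₀, h.1, h.2⟩

/-- the sextet of a tetrad. -/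
noncomputable def sextetOf (t : Finset GolayPt) : Finset (Finset GolayPt) :=
  if ht : t.card = 4 then Classical.choose (exists_sextet t ht) else ∅

theorem sextetOf_spec {t : Finset GolayPt} (ht : t.card = 4) :
    sextetOf t ∈ sextets ∧ t ∈ sextetOf t := by
  unfold sextetOf
  rw [dif_pos ht]
  exact Classical.choose_spec (exists_sextet t ht)

theorem sextetOf_eq {S : Finset (Finset GolayPt)} (hS : S ∈ sextets) {t : Finset GolayPt}
    (ht : t ∈ S) : sextetOf t = S :=
  sextet_unique (sextetOf_spec (hS.2.1 t ht)).1 hS (sextetOf_spec (hS.2.1 t ht)).2 ht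

/-- moving a tetrad moves its sextet. -/
theorem smul_sextet_eq {g : Equiv.Perm GolayPt} (hg : g ∈ M24) {S S' : Finset (Finset GolayPt)}
    (hS : S ∈ sextets) (hS' : S' ∈ sextets) {t t' : Finset GolayPt} (ht : t ∈ S) (ht' : t' ∈ S')
    (h : g • t = t') : g • S = S' := by
  apply sextet_unique (smul_mem_sextets hg hS) hS' (t := t') _ ht'
  rw [← h]
  exact Finset.smul_mem_smul_finset ht

/-! ### a three-set against a sextet -/

variable {Y : Finset GolayPt}

theorem sextets_finite : (sextets : Set (Finset (Finset GolayPt))).Finite := Set.toFinite _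

/-- the sum of the meets. -/
theorem sum_card_inter {S : Finset (Finset GolayPt)} (hS : S ∈ sextets) (Y : Finset GolayPt) :
    ∑ t ∈ S, (t ∩ Y).card = Y.card := by
  rw [← Finset.card_biUnion]
  · congr 1
    ext p
    simp only [Finset.mem_biUnion, Finset.mem_inter]
    constructor
    · rintro ⟨t, -, -, hp⟩
      exact hp
    · intro hp
      obtain ⟨t, ht, hpt⟩ := sextet_cover hS p
      exact ⟨t, ht, hpt, hp⟩
  · intro t ht u hu h
    exact (sextet_disjoint hS ht hu h).mono Finset.inter_subset_left Finset.inter_subset_left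

theorem type_one {S : Finset (Finset GolayPt)} (hS : S ∈ sextets) (hY : Y.card = 3)
    {t : Finset GolayPt} (ht : t ∈ S) (h3 : (t ∩ Y).card = 3) :
    (S.filter fun t => (t ∩ Y).Nonempty).card = 1 := by
  have hYt : Y ⊆ t := by
    have : t ∩ Y = Y := Finset.eq_of_subset_of_card_le Finset.inter_subset_right (by omega)
    rw [← this]
    exact Finset.inter_subset_left
  rw [Finset.card_eq_one]
  refine ⟨t, ?_⟩
  ext u
  rw [Finset.mem_filter, Finset.mem_singleton]
  constructor
  · rintro ⟨hu, ⟨p, hp⟩⟩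
    rw [Finset.mem_inter] at hp
    exact sextet_eq_of_mem hS hu ht hp.1 (hYt hp.2)
  · rintro rfl
    refine ⟨ht, ?_⟩
    rw [← Finset.card_pos]
    omega

theorem type_two {S : Finset (Finset GolayPt)} (hS : S ∈ sextets) (hY : Y.card = 3)
    {t : Finset GolayPt} (ht : t ∈ S) (h2 : (t ∩ Y).card = 2) :
    (S.filter fun t => (t ∩ Y).Nonempty).card = 2 := by
  have h1 : (Y \ t).card = 1 := by
    have := Finset.card_sdiff_add_card_inter Y t
    rw [Finset.inter_comm] at this
    omega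
  obtain ⟨y, hy⟩ := Finset.card_eq_one.mp h1
  have hyY : y ∈ Y ∧ y ∉ t := by
    have : y ∈ Y \ t := by rw [hy]; exact Finset.mem_singleton_self y
    exact Finset.mem_sdiff.mp this
  obtain ⟨t', ht', hyt'⟩ := sextet_cover hS y
  have hne : t ≠ t' := by
    rintro rfl
    exact hyY.2 hyt'
  have : (S.filter fun t => (t ∩ Y).Nonempty) = {t, t'} := by
    ext u
    rw [Finset.mem_filter, Finset.mem_insert, Finset.mem_singleton]
    constructor
    · rintro ⟨hu, ⟨p, hp⟩⟩
      rw [Finset.mem_inter] at hp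
      by_cases hpt : p ∈ t
      · exact Or.inl (sextet_eq_of_mem hS hu ht hp.1 hpt)
      · right
        have : p ∈ Y \ t := Finset.mem_sdiff.mpr ⟨hp.2, hpt⟩
        rw [hy, Finset.mem_singleton] at this
        subst this
        exact sextet_eq_of_mem hS hu ht' hp.1 hyt'
    · rintro (rfl | rfl)
      · refine ⟨ht, ?_⟩
        rw [← Finset.card_pos]
        omega
      · exact ⟨ht', ⟨y, Finset.mem_inter.mpr ⟨hyt', hyY.1⟩⟩⟩
  rw [this, Finset.card_pair hne]

theorem type_three {S : Finset (Finset GolayPt)} (hS : S ∈ sextets) (hY : Y.card = 3)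
    (h : ∀ t ∈ S, (t ∩ Y).card ≤ 1) :
    (S.filter fun t => (t ∩ Y).Nonempty).card = 3 := by
  rw [← hY, ← sum_card_inter hS Y, Finset.card_filter]
  apply Finset.sum_congr rfl
  intro t ht
  have := h t ht
  by_cases hne : (t ∩ Y).Nonempty
  · rw [if_pos hne]
    have := Finset.card_pos.mpr hne
    omega
  · rw [if_neg hne]
    rw [Finset.not_nonempty_iff_eq_empty] at hne
    rw [hne, Finset.card_empty]

theorem inter_le_three (hY : Y.card = 3)
    (t : Finset GolayPt) : (t ∩ Y).card ≤ 3 := by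
  rw [← hY]
  exact Finset.card_le_card Finset.inter_subset_right

/-- the three cases. -/
theorem type_cases {S : Finset (Finset GolayPt)} (hS : S ∈ sextets) (hY : Y.card = 3) :
    (∃ t ∈ S, (t ∩ Y).card = 3) ∨ (∃ t ∈ S, (t ∩ Y).card = 2) ∨ ∀ t ∈ S, (t ∩ Y).card ≤ 1 := by
  by_cases h3 : ∃ t ∈ S, (t ∩ Y).card = 3
  · exact Or.inl h3
  by_cases h2 : ∃ t ∈ S, (t ∩ Y).card = 2
  · exact Or.inr (Or.inl h2)
  right; right
  intro t ht
  have h := inter_le_three hY t
  by_contra hcon
  have : (t ∩ Y).card = 2 ∨ (t ∩ Y).card = 3 := by omega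
  rcases this with h' | h'
  · exact h2 ⟨t, ht, h'⟩
  · exact h3 ⟨t, ht, h'⟩

theorem type_one_iff {S : Finset (Finset GolayPt)} (hS : S ∈ sextets) (hY : Y.card = 3) :
    (S.filter fun t => (t ∩ Y).Nonempty).card = 1 ↔ ∃ t ∈ S, (t ∩ Y).card = 3 := by
  constructor
  · intro h
    rcases type_cases hS hY with ⟨t, ht, h3⟩ | ⟨t, ht, h2⟩ | h1
    · exact ⟨t, ht, h3⟩
    · rw [type_two hS hY ht h2] at h; omega
    · rw [type_three hS hY h1] at h; omega
  · rintro ⟨t, ht, h3⟩
    exact type_one hS hY ht h3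

theorem type_two_iff {S : Finset (Finset GolayPt)} (hS : S ∈ sextets) (hY : Y.card = 3) :
    (S.filter fun t => (t ∩ Y).Nonempty).card = 2 ↔ ∃ t ∈ S, (t ∩ Y).card = 2 := by
  constructor
  · intro h
    rcases type_cases hS hY with ⟨t, ht, h3⟩ | ⟨t, ht, h2⟩ | h1
    · rw [type_one hS hY ht h3] at h; omega
    · exact ⟨t, ht, h2⟩
    · rw [type_three hS hY h1] at h; omega
  · rintro ⟨t, ht, h2⟩
    exact type_two hS hY ht h2

theorem type_three_iff {S : Finset (Finset GolayPt)} (hS : S ∈ sextets) (hY : Y.card = 3) :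
    (S.filter fun t => (t ∩ Y).Nonempty).card = 3 ↔ ∀ t ∈ S, (t ∩ Y).card ≤ 1 := by
  constructor
  · intro h
    rcases type_cases hS hY with ⟨t, ht, h3⟩ | ⟨t, ht, h2⟩ | h1
    · rw [type_one hS hY ht h3] at h; omega
    · rw [type_two hS hY ht h2] at h; omega
    · exact h1
  · exact type_three hS hY

theorem type_range {S : Finset (Finset GolayPt)} (hS : S ∈ sextets) (hY : Y.card = 3) :
    (S.filter fun t => (t ∩ Y).Nonempty).card = 1 ∨ (S.filter fun t => (t ∩ Y).Nonempty).card = 2 ∨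
      (S.filter fun t => (t ∩ Y).Nonempty).card = 3 := by
  rcases type_cases hS hY with ⟨t, ht, h3⟩ | ⟨t, ht, h2⟩ | h1
  · exact Or.inl (type_one hS hY ht h3)
  · exact Or.inr (Or.inl (type_two hS hY ht h2))
  · exact Or.inr (Or.inr (type_three hS hY h1))

/-- counting the sextets with a tetrad meeting `Y` in `j ≥ 2` points. -/
theorem ncard_sextets_with (hY : Y.card = 3) (j : ℕ) (hj : 2 ≤ j) (hj4 : j ≤ 4) :
    {S : Finset (Finset GolayPt) | S ∈ sextets ∧ ∃ t ∈ S, (t ∩ Y).card = j}.ncard =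
      Nat.choose 3 j * Nat.choose 21 (4 - j) := by
  have h1 := ncard_inter_eq Y 4 j hj4
  rw [hY] at h1
  rw [← h1]
  have hset : {S : Finset (Finset GolayPt) | S ∈ sextets ∧ ∃ t ∈ S, (t ∩ Y).card = j} =
      sextetOf '' {y : Finset GolayPt | y.card = 4 ∧ (Y ∩ y).card = j} := by
    ext S
    simp only [Set.mem_ofPred_eq, Set.mem_image]
    constructor
    · rintro ⟨hS, t, ht, htj⟩
      exact ⟨t, ⟨hS.2.1 t ht, by rw [Finset.inter_comm]; exact htj⟩, sextetOf_eq hS ht⟩
    · rintro ⟨t, ⟨ht4, htj⟩, rfl⟩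
      exact ⟨(sextetOf_spec ht4).1, t, (sextetOf_spec ht4).2, by rw [Finset.inter_comm]; exact htj⟩
  rw [hset]
  apply Set.InjOn.ncard_image
  rintro t ⟨ht4, htj⟩ t' ⟨ht4', htj'⟩ h
  by_contra hne
  have hS := (sextetOf_spec ht4).1
  have hd := sextet_disjoint hS (sextetOf_spec ht4).2 (h ▸ (sextetOf_spec ht4').2) hne
  have hd' : Disjoint (Y ∩ t) (Y ∩ t') := hd.mono Finset.inter_subset_right Finset.inter_subset_right
  have := Finset.card_union_of_disjoint hd'
  have hle : ((Y ∩ t) ∪ (Y ∩ t')).card ≤ Y.card :=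
    Finset.card_le_card (Finset.union_subset Finset.inter_subset_left Finset.inter_subset_left)
  omega

end Cfsg.Agent.Helper9.Golay
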