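import Mathlib
import Cfsg.Prelude.Def_Sporadic_a
import Cfsg.Agent.Helper9.Golay.OctFlag2

set_option autoImplicit false

/-!
Orbits of the stabilizer of two points on the octads containing the first and not the second.
-/

namespace Cfsg.Agent.Helper9.Golay

open Cfsg
open scoped Pointwise

def pqProg : List (ℕ × ℕ) := [(1, 0), (0, 3), (0, 0), (1, 5), (0, 6), (2, 7), (7, 7), (7, 9), (9, 9), (11, 11), (10, 12), (2, 6), (2, 0), (0, 15), (16, 16), (17, 17), (17, 18), (19, 14), (2, 15), (0, 21), (1, 22), (2, 23), (13, 24), (0, 16), (2, 26), (1, 27), (0, 5), (1, 29), (0, 30), (31, 31), (32, 32), (33, 33), (32, 34), (35, 28), (2, 8), (35, 37), (1, 31), (27, 27), (40, 40), (40, 41), (42, 39), (2, 3), (2, 44), (2, 45), (6, 6), (47, 47), (47, 48), (48, 48), (50, 50), (49, 51), (52, 46), (2, 27), (2, 5), (0, 55), (56, 56), (57, 57), (57, 58), (59, 54), (60, 4), (36, 61), (20, 20), (63, 63), (64, 64), (65, 62), (36, 36), (67, 67), (67, 68), (38, 36), (36, 70), (38, 38), (72, 72), (72, 73), (73, 73), (75, 75), (74, 76), (77, 71), (38, 25), (60,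 79), (70, 70), (81, 81), (81, 82), (82, 82), (83, 84), (85, 80), (36, 25), (36, 87), (60, 20), (89, 89), (90, 90), (90, 91), (91, 91), (93, 93), (92, 94), (95, 88), (43, 25), (77, 97), (4, 20), (20, 99), (69, 100), (25, 79), (69, 102), (53, 36), (25, 104), (87, 87), (106, 106), (106, 107), (107, 107), (109, 109), (108, 110), (111, 105), (86, 66), (98, 113), (103, 114), (112, 96), (101, 116), (117, 117), (118, 118), (119, 115), (98, 86), (66, 66), (101, 122), (86, 123), (96, 124), (86, 121), (126, 126), (127, 127), (127, 128), (129, 125), (78, 78), (96, 131), (86, 132), (96, 86), (134, 134), (135, 135), (135, 136), (137, 133), (78, 98), (103, 139), (86, 78), (98, 141), (142, 142), (143, 143), (144, 144), (143, 145), (146, 140), (112, 101), (66, 148), (96, 98), (150, 150), (151, 149), (96, 66), (96, 153), (98, 154), (98, 98), (112, 156), (157, 157), (158, 158), (158, 159), (160, 155), (98, 122), (103, 162), (112, 78), (164, 164), (165, 165), (166, 166), (165, 167), (168, 163), (103, 66), (86, 170), (86, 171), (101, 134), (173, 173), (174,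 174), (175, 172)]

def pqK4Gens : List ℕ := [66, 78, 86, 96, 98, 101, 103, 112]

def pqK5Gens : List ℕ := [120, 130, 138, 147, 152, 161, 169, 176]

def pqC4Ks : List ℕ := [0]

set_option maxRecDepth 1000000 in
def pqC4Cert : ℕ → List (ℕ × ℕ)
  | 0 => [(1, 0), (1, 1), (1, 2), (1, 3), (1, 4), (1, 5), (1, 6), (1, 7), (2311, 0), (2311, 1), (2311, 2), (2311, 3), (2311, 4), (2311, 5), (2311, 6), (2311, 7), (3264, 0), (3264, 1), (3264, 2), (3264, 3), (3264, 4), (3264, 5), (3264, 6), (3264, 7), (268, 0), (268, 1), (268, 2), (268, 3), (268, 4), (268, 5), (268, 6), (268, 7), (584, 0), (584, 1), (584, 2), (584, 3), (584, 4), (584, 6), (584, 7), (456, 0), (456, 1), (456, 2), (456, 3), (456, 4), (456, 5), (456, 6), (456, 7), (2189, 0), (2189, 1), (2189, 2), (2189, 4), (2189, 5), (2189, 6), (2189, 7), (576, 1), (576, 2), (576, 3), (576, 4), (84, 0), (84, 3), (84, 4), (84, 6), (84, 7), (1290, 0), (1290, 1), (1290, 3), (3362, 1), (3362, 2), (3362, 4), (3362, 5), (3362, 7), (180, 0), (180, 1), (180, 3), (180, 6), (180, 7), (774, 3), (774, 4), (774, 5),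 (774, 6), (1092, 0), (1092, 2), (1092, 5), (1092, 7), (533, 0), (533, 1), (533, 2), (533, 4), (533, 5), (533, 6), (533, 7), (102, 0), (102, 1), (102, 2), (102, 3), (102, 6), (102, 7), (1601, 2), (1601, 3), (2604, 0), (2604, 1), (2604, 6), (225, 0), (225, 2), (225, 4), (225, 5), (225, 7), (1896, 2), (1896, 5), (1896, 6), (1896, 7), (1114, 1), (1114, 2), (1114, 6), (1114, 7), (424, 0), (424, 5), (712, 2), (712, 4), (712, 5), (1024, 0), (1024, 3), (144, 2), (144, 5), (144, 7), (1041, 1), (1041, 3), (1041, 5), (1041, 6), (1041, 7), (2312, 2), (2312, 3), (2312, 5), (2312, 6), (2432, 0), (769, 1), (769, 6), (1282, 3), (2081, 3), (2081, 7), (805, 1), (162, 3), (162, 7), (516, 1), (515, 1), (515, 2), (515, 3), (515, 4), (515, 6), (2224, 2), (2224, 4), (2224, 6), (2128, 7), (3480, 6), (2282, 1), (3593, 3), (1049, 7), (2178, 2), (2178, 3), (2178, 4), (2178, 5), (1248, 5), (3203, 4), (3203, 6), (930, 3), (1152, 2), (1152, 5), (37, 3), (2826, 4), (402, 4), (345, 0), (1569, 1), (14, 3), (2053, 5), (792, 4)]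
  | _ => []

def pqC4Root : ℕ → ℕ
  | 0 => 1
  | _ => 0

def pqC4Final : ℕ → ℕ
  | 0 => 144312294671208456933975649384179722543223597480408326423943586419201809855658433827009572345467740869768694772783981365747566528924477065127805079005544584814600020518278568034147002300487060983290026635910306575425547532088978935359360549463331189241143937603256855373632647950603513383235997669193495158435032696105178546056946521165600812079269402224984180304508751584775542870186807312936467223551616160973209302743158917099265256616147121753601561225851827047418664363965556253125514431571270128995767542947357790892357054315204040256890220130471930713806017669231178791214534567989121122413586991496907735233745430931917915365405787098337071213173269661860084240261227281540789834723097292326698817749208842659641282297783266651760456456684593038470344983474883049889116670866179818457058585896315291301182228203287071972556959000926360925090425062801609660780089647377331513023834465991618208757058807527354956989855273934444956026097462398450248071376346919408053728363382981538483311595069319842031894549304112302839637348754835239196689648190792567577417422735934499725159548175728207179761730641392518061530454333090030315359785350356630245556738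
  | _ => 0

def pqC5Ks : List ℕ := [2, 4, 8]

set_option maxRecDepth 1000000 in
def pqC5Cert : ℕ → List (ℕ × ℕ)
  | 2 => [(42, 0), (42, 1), (42, 2), (42, 3), (42, 4), (42, 5), (42, 6), (42, 7), (2075, 0), (2075, 1), (2075, 2), (2075, 3), (2075, 4), (2075, 7), (930, 0), (930, 1), (930, 2), (930, 4), (930, 5), (852, 0), (852, 1), (852, 3), (852, 4), (852, 5), (852, 6), (852, 7), (1574, 0), (1574, 1), (1574, 2), (1574, 4), (1574, 6), (1564, 0), (1564, 3), (1564, 4), (626, 0), (626, 1), (626, 2), (626, 3), (626, 5), (626, 7), (2386, 0), (2386, 1), (2386, 2), (2386, 5), (2386, 6), (2386, 7), (774, 3), (774, 4), (3362, 0), (3362, 1), (3362, 4), (3362, 5), (3362, 6), (2086, 1), (2086, 2), (2086, 4), (2086, 6), (1896, 0), (1896, 1), (1896, 4), (1092, 0), (3189, 5), (3189, 6), (3844, 0), (3844, 6), (1674, 3), (2224, 2), (220, 3), (1290, 3)]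
  | 4 => [(9, 0), (9, 1), (9, 2), (9, 3), (9, 4), (9, 5), (9, 6), (9, 7), (274, 0), (274, 2), (274, 3), (274, 4), (274, 5), (274, 7), (805, 0), (805, 1), (805, 2), (805, 3), (805, 4), (805, 5), (805, 6), (805, 7), (1300, 0), (1300, 1), (1300, 2), (1300, 3), (1300, 4), (1300, 5), (1300, 7), (544, 0), (544, 1), (544, 2), (544, 4), (544, 5), (544, 6), (544, 7), (45, 0), (45, 1), (45, 2), (45, 6), (45, 7), (576, 0), (576, 3), (576, 5), (576, 6), (576, 7), (2577, 1), (1031, 1), (1031, 4), (1031, 5), (1031, 6), (1031, 7), (1792, 0), (1792, 1), (1120, 0), (1120, 1), (1120, 4), (1120, 5), (1120, 6), (1152, 0), (1152, 1), (112, 2), (112, 3), (112, 6), (288, 5), (288, 6), (288, 7), (3593, 0), (3593, 1), (3593, 2), (3593, 4), (712, 0), (712, 3), (1169, 6), (1169, 7), (2050, 1), (2050, 2), (2050, 5), (2178, 1), (2178, 4), (2178, 5), (769, 0), (769, 7), (2068, 0), (2068, 4), (105, 6), (1669, 4), (1041, 5), (1041, 6), (34, 2), (34, 6), (2432, 2), (2432, 5), (320, 4), (2104, 1), (2104, 2), (2104, 5), (345, 3), (345, 7), (388, 0), (552, 3), (1538, 2),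 (2113, 5), (3264, 1)]
  | 8 => []
  | _ => []

def pqC5Root : ℕ → ℕ
  | 2 => 42
  | 4 => 9
  | 8 => 1
  | _ => 0

def pqC5Final : ℕ → ℕ
  | 2 => 144312294671208456933975649384179722543223597480408326423943586419201809855618552057366275895540312411553317570283187061341782922539329529270117992867614980270543564855746484993061160299527753683760937776662896697128271605837654240205011011354212068387836447259991848514416632924383192674036999720952504851811015536417486563721334069442870770444594256110392978166352953663479354229358818716553636845493544275094458974363233062033098235548280841560709830819769833331212319101463465508977909512648824222521167870117388618487837640474317843667132331205541416384886468942292436933468213653715425534933101050792549511339155214831096044383647295645423483113217430995848787409443081382943939860017855582892523946277105375696513582379982948511228211678851350028904205501521645597230024560409439532227813066169024153399167195310451151381625418432381021342433934017928505004230626674184045372368689784714217340393539533696208540537300300228041687137252564319316739848604874975163104627248807592975564944705045111373327379184355033337855941763732322906575679305300502126911215982449678344752679694887071975117650241459269589993679847252561659241607088957562441355493376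
  | 4 => 39881769643296449927428458215377202500794304405783606385147535857687086137929604544056455662532083041085842000959307299529088859247409878297275926251324695154349538109119120853307490343265006859216015026220320709198997948240990306624017159687691982335612451722730041634675146114591202138155797921296188640827988596382830378058071885878750328379925855066167021067866280192891730406081993716206345262502090744147604918922445906474599672829969172404519413840886196589757888924930514328919548726938741857746320914273695587480485940704358223894590216100821870981758491452913588099955838666011296830818145898596849974705241709434174871472103466963127699917800318140532244777833243009566139481953237452659092110456740286229245519727291137902015032892835920590931540568545339582656491044873104656549462973193286140655144681277400868363519273831146416452554973706403268888844898079133508222771471944244949101114575388562918366890024208468704515364949078964983695585022512332621010342890290440666201440286256154972479853288656232062111489182122928067850607080528371073752696392794188890063360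
  | 8 => 2
  | _ => 0

def pqK4Tabs : List (List ℕ) := pqK4Gens.map (fun j => (runSLP pqProg stdTabs).getD j idT)
def pqK5Tabs : List (List ℕ) := pqK5Gens.map (fun j => (runSLP pqProg stdTabs).getD j idT)

theorem pqK4_tabs : ∀ t ∈ pqK4Tabs, ∃ σ ∈ KOf [0, 5] [], IsTbl σ t :=
  tabs_of_genOK (goodT_std pqProg M24 stepPerm_mem) pqK4Gens (by decide +kernel)
theorem pqK5_tabs : ∀ t ∈ pqK5Tabs, ∃ σ ∈ KOf [0, 5] [5279], IsTbl σ t :=
  tabs_of_genOK (goodT_std pqProg M24 stepPerm_mem) pqK5Gens (by decide +kernel)

theorem pqC4_runs : runsOK pqK4Tabs pqC4Ks pqC4Cert pqC4Root pqC4Final = true := by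
  decide +kernel
theorem pqC4_pass : passOK pqC4Ks pqC4Final (fun m => popc m == 8 && m.testBit 0 && !m.testBit 5)
    (fun _ => 0) = true := by decide +kernel
theorem pqC5_runs : runsOK pqK5Tabs pqC5Ks pqC5Cert pqC5Root pqC5Final = true := by
  decide +kernel
theorem pqC5_pass : passOK pqC5Ks pqC5Final (fun m => popc m == 8 && m.testBit 0 && !m.testBit 5)
    (fun m => popc (m &&& 5279)) = true := by decide +kernel

theorem count_pq : ((codeList.filter (fun m => popc m == 8)).filter
    (fun m => m.testBit 0 && !m.testBit 5)).length = 176 := by decide +kernel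
theorem count_pq_2 : ((codeList.filter (fun m => popc m == 8)).filter
    (fun m => m.testBit 0 && !m.testBit 5 && popc (m &&& 5279) == 2)).length = 70 := by
  decide +kernel
theorem count_pq_4 : ((codeList.filter (fun m => popc m == 8)).filter
    (fun m => m.testBit 0 && !m.testBit 5 && popc (m &&& 5279) == 4)).length = 105 := by
  decide +kernel

theorem ncard_pq {p q : GolayPt} {h : Equiv.Perm GolayPt} (hh : h ∈ M24)
    (hp : h (idxPtN 0) = p) (hq : h (idxPtN 5) = q) :
    {x : Finset GolayPt | x ∈ octads ∧ p ∈ x ∧ q ∉ x}.ncard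
      = ((codeList.filter (fun m => popc m == 8)).filter
        (fun m => m.testBit 0 && !m.testBit 5)).length := by
  rw [ncard_octads_smul hh (fun x => p ∈ x ∧ q ∉ x)]
  have : {o'' : Finset GolayPt | o'' ∈ octads ∧ (p ∈ h • o'' ∧ q ∉ h • o'')}
      = {b : Finset GolayPt | b ∈ wordsOfWeight (golayCode : Set (GolayPt → ZMod 2)) 8 ∧
        (idxPtN 0 ∈ b ∧ idxPtN 5 ∉ b)} := by
    ext b
    simp only [Set.mem_setOf_eq]
    rw [← hp, ← hq, apply_mem_smul_iff, apply_mem_smul_iff]
    rfl
  rw [this]
  apply ncard_wordsOfWeight_filter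
  intro m _
  rw [mem_suppM_idx (by norm_num), mem_suppM_idx (by norm_num)]
  simp

theorem ncard_pq_k (k : ℕ) {p q : GolayPt} {o : Finset GolayPt} {h : Equiv.Perm GolayPt}
    (hh : h ∈ M24) (hp : h (idxPtN 0) = p) (hq : h (idxPtN 5) = q) (ho : h • suppM 5279 = o) :
    {x : Finset GolayPt | (x ∈ octads ∧ p ∈ x ∧ q ∉ x) ∧ (o ∩ x).card = k}.ncard
      = ((codeList.filter (fun m => popc m == 8)).filter
        (fun m => m.testBit 0 && !m.testBit 5 && popc (m &&& 5279) == k)).length := by
  have h0 : {x : Finset GolayPt | (x ∈ octads ∧ p ∈ x ∧ q ∉ x) ∧ (o ∩ x).card = k}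
      = {x : Finset GolayPt | x ∈ octads ∧ (p ∈ x ∧ q ∉ x ∧ (o ∩ x).card = k)} := by
    ext x
    simp only [Set.mem_setOf_eq]
    tauto
  rw [h0, ncard_octads_smul hh (fun x => p ∈ x ∧ q ∉ x ∧ (o ∩ x).card = k)]
  have : {o'' : Finset GolayPt | o'' ∈ octads ∧ (p ∈ h • o'' ∧ q ∉ h • o'' ∧
        (o ∩ h • o'').card = k)}
      = {b : Finset GolayPt | b ∈ wordsOfWeight (golayCode : Set (GolayPt → ZMod 2)) 8 ∧
        (idxPtN 0 ∈ b ∧ idxPtN 5 ∉ b ∧ (suppM 5279 ∩ b).card = k)} := by
    ext b
    simp only [Set.mem_setOf_eq]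
    rw [← hp, ← hq, ← ho, ← Finset.smul_finset_inter, card_smul_finset, apply_mem_smul_iff,
      apply_mem_smul_iff]
    rfl
  rw [this]
  apply ncard_wordsOfWeight_filter
  intro m _
  rw [mem_suppM_idx (by norm_num), mem_suppM_idx (by norm_num), suppM_inter, card_suppM,
    Nat.land_comm]
  simp [and_assoc]

/-- the mask of an octad in the family, after moving to standard position. -/
theorem pq_mask {p q : GolayPt} {h : Equiv.Perm GolayPt} (hh : h ∈ M24)
    (hp : h (idxPtN 0) = p) (hq : h (idxPtN 5) = q) {o : Finset GolayPt}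
    (ho : o ∈ octads ∧ p ∈ o ∧ q ∉ o) :
    ∃ m ∈ codeList, (popc m == 8 && m.testBit 0 && !m.testBit 5) = true ∧ suppM m = h⁻¹ • o := by
  have he : h⁻¹ • o ∈ octads := smul_mem_wordsOfWeight (M24.inv_mem hh) ho.1
  obtain ⟨m, hm, hp8, hs⟩ := (mem_octads_iff _).mp he
  have hb0 : m.testBit 0 = true := by
    rw [← mem_suppM_idx (by norm_num), hs, mem_smul_finset_iff', inv_inv, hp]
    exact ho.2.1
  have hb5 : m.testBit 5 = false := by
    rw [← Bool.not_eq_true, ← mem_suppM_idx (by norm_num), hs, mem_smul_finset_iff', inv_inv, hq]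
    exact ho.2.2
  exact ⟨m, hm, by simp [hp8, hb0, hb5], hs⟩

theorem oct0_pq : (popc 5279 == 8 && (5279 : ℕ).testBit 0 && !(5279 : ℕ).testBit 5) = true := by
  decide

theorem pq_orbits (p q : GolayPt) (hpq : p ≠ q) :
    {x : Finset GolayPt | (x ∈ octads ∧ p ∈ x ∧ q ∉ x)}.ncard = 176 ∧
    (∀ o o' : Finset GolayPt, (o ∈ octads ∧ p ∈ o ∧ q ∉ o) → (o' ∈ octads ∧ p ∈ o' ∧ q ∉ o') →
      ∃ g : Equiv.Perm GolayPt, g ∈ M24 ∧ g p = p ∧ g q = q ∧ g • o = o') ∧
    ∀ o : Finset GolayPt, (o ∈ octads ∧ p ∈ o ∧ q ∉ o) →
      {x : Finset GolayPt | (x ∈ octads ∧ p ∈ x ∧ q ∉ x) ∧ (o ∩ x).card = 2}.ncard = 70 ∧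
      {x : Finset GolayPt | (x ∈ octads ∧ p ∈ x ∧ q ∉ x) ∧ (o ∩ x).card = 4}.ncard = 105 ∧
      ∀ o' o'' : Finset GolayPt, (o' ∈ octads ∧ p ∈ o' ∧ q ∉ o') →
        (o'' ∈ octads ∧ p ∈ o'' ∧ q ∉ o'') → (o ∩ o').card = (o ∩ o'').card →
        ∃ g : Equiv.Perm GolayPt, g ∈ M24 ∧ g p = p ∧ g q = q ∧ g • o = o ∧ g • o' = o'' := by
  have h05 : idxPtN 0 ≠ idxPtN 5 := by decide
  obtain ⟨h1, hh1, hp1, hq1⟩ := m24_two_trans h05 hpq
  refine ⟨?_, ?_, ?_⟩
  · rw [ncard_pq hh1 hp1 hq1]; exact count_pq
  · intro o o' ho ho'
    obtain ⟨m, hm, hP, hs⟩ := pq_mask hh1 hp1 hq1 ho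
    obtain ⟨m', hm', hP', hs'⟩ := pq_mask hh1 hp1 hq1 ho'
    have hconj := classes_conj (KOf [0, 5] []) (KOf_le _ _) pqK4Tabs pqK4_tabs pqC4Ks pqC4Cert
      pqC4Root pqC4Final _ _ pqC4_runs pqC4_pass hm hm' hP hP' rfl
    rw [hs, hs'] at hconj
    obtain ⟨g, hg, hfix, -, hgab⟩ := conj_glue [0, 5] [] hh1 hconj
    refine ⟨g, hg, ?_, ?_, hgab⟩
    · have := hfix 0 (by simp)
      rwa [hp1] at this
    · have := hfix 5 (by simp)
      rwa [hq1] at this
  · intro o ho
    -- move `o` to the standard octad as well
    obtain ⟨m, hm, hP, hs⟩ := pq_mask hh1 hp1 hq1 ho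
    have hconj0 := classes_conj (KOf [0, 5] []) (KOf_le _ _) pqK4Tabs pqK4_tabs pqC4Ks pqC4Cert
      pqC4Root pqC4Final _ _ pqC4_runs pqC4_pass oct0_mem hm oct0_pq hP rfl
    obtain ⟨t, ht, hto⟩ := hconj0
    obtain ⟨htM, htfix, -⟩ := mem_KOf.mp ht
    have hh : h1 * t ∈ M24 := M24.mul_mem hh1 htM
    have hp : (h1 * t) (idxPtN 0) = p := by
      rw [Equiv.Perm.mul_apply, htfix 0 (by simp), hp1]
    have hq : (h1 * t) (idxPtN 5) = q := by
      rw [Equiv.Perm.mul_apply, htfix 5 (by simp), hq1]
    have hho : (h1 * t) • suppM 5279 = o := by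
      rw [mul_smul, hto, hs, smul_inv_smul]
    generalize h1 * t = h at hh hp hq hho
    refine ⟨?_, ?_, ?_⟩
    · rw [ncard_pq_k 2 hh hp hq hho]; exact count_pq_2
    · rw [ncard_pq_k 4 hh hp hq hho]; exact count_pq_4
    · intro o' o'' ho' ho'' hcard
      obtain ⟨m', hm', hP', hs'⟩ := pq_mask hh hp hq ho'
      obtain ⟨m'', hm'', hP'', hs''⟩ := pq_mask hh hp hq ho''
      have hcls : popc (m' &&& 5279) = popc (m'' &&& 5279) := by
        have e1 : (suppM m' ∩ suppM 5279).card = (h • suppM 5279 ∩ o').card := by
          rw [hs', Finset.inter_comm, card_inter_inv_smul]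
        have e2 : (suppM m'' ∩ suppM 5279).card = (h • suppM 5279 ∩ o'').card := by
          rw [hs'', Finset.inter_comm, card_inter_inv_smul]
        rw [← card_suppM, ← card_suppM, ← suppM_inter, ← suppM_inter, e1, e2, hho]
        exact hcard
      have hconj := classes_conj (KOf [0, 5] [5279]) (KOf_le _ _) pqK5Tabs pqK5_tabs pqC5Ks
        pqC5Cert pqC5Root pqC5Final _ _ pqC5_runs pqC5_pass hm' hm'' hP' hP'' hcls
      rw [hs', hs''] at hconj
      obtain ⟨g, hg, hfix, hmask, hgab⟩ := conj_glue [0, 5] [5279] hh hconj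
      refine ⟨g, hg, ?_, ?_, ?_, hgab⟩
      · have := hfix 0 (by simp)
        rwa [hp] at this
      · have := hfix 5 (by simp)
        rwa [hq] at this
      · have := hmask 5279 (by simp)
        rwa [hho] at this

end Cfsg.Agent.Helper9.Golay
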