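import Mathlib
import Cfsg.Prelude
import Cfsg.Agent.Lead.Trios
import Cfsg.Agent.Helper9.Golay.OctFlag2
import Cfsg.Agent.Helper9.Golay.OctA8
import Cfsg.Agent.Helper9.Golay.DodThree
import Cfsg.Agent.Helper9.Golay.PQOct

set_option autoImplicit false

/-! The trios through an octad. -/

namespace Cfsg.Agent.Helper9.Golay

open Cfsg
open scoped Pointwise

def trProg : List (ℕ × ℕ) := [(2, 0), (0, 3), (0, 4), (5, 5), (6, 6), (6, 7), (0, 0), (0, 9), (2, 10), (0, 1), (1, 12), (13, 13), (14, 14), (14, 15), (15, 15), (17, 17), (16, 18), (19, 11), (2, 9), (0, 2), (2, 22), (0, 23), (1, 24), (8, 25), (2, 3), (1, 27), (23, 23), (29, 29), (30, 28), (2, 2), (0, 32), (32, 32), (34, 33), (1, 9), (0, 22), (1, 37), (2, 38), (38, 38), (38, 40), (40, 40), (42, 42), (41, 43), (44, 39), (1, 23), (27, 27), (47, 47), (48, 46), (2, 13), (36, 36), (51, 51), (51, 52), (52, 52), (54, 54), (53, 55), (56, 50), (49, 20), (20, 58), (35, 59), (21, 20), (20, 61), (20, 62), (63, 63), (64, 64), (64, 65), (66, 60), (31, 21), (20, 68), (26, 69), (35, 26), (49, 71), (72,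 72), (73, 73), (72, 74), (74, 74), (75, 76), (77, 70), (20, 26), (35, 79), (35, 80), (57, 21), (45, 82), (83, 83), (84, 84), (85, 81), (31, 20), (57, 87), (20, 88), (26, 49), (31, 90), (91, 91), (91, 92), (92, 92), (93, 94), (95, 89), (21, 21), (57, 97), (20, 98), (31, 99), (31, 26), (21, 101), (102, 102), (103, 103), (104, 104), (103, 105), (106, 100), (21, 26), (45, 108), (57, 109), (35, 110), (31, 83), (112, 112), (113, 113), (113, 114), (115, 111), (26, 87), (26, 117), (20, 118), (57, 68), (57, 120), (121, 121), (122, 122), (122, 123), (124, 119), (78, 78), (126, 126), (126, 127), (128, 116), (96, 78), (86, 130), (125, 86), (127, 127), (127, 133), (134, 132), (107, 67), (86, 136), (107, 137), (86, 86), (139, 139), (86, 140), (141, 138), (116, 130), (136, 136), (136, 144), (145, 143), (116, 86), (96, 147), (145, 148), (78, 107), (78, 150), (86, 78), (152, 152), (153, 153), (153, 154), (154, 154), (155, 156), (157, 151), (116, 125), (134, 159), (116, 67), (107, 107), (162, 162), (107, 163), (164, 161), (67, 78), (164, 166)]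

def trK3Gens : List ℕ := [129, 131, 135, 142, 146, 149, 158, 160, 165, 167]

def trCKs : List ℕ := [0]

set_option maxRecDepth 1000000 in
def trCCert : ℕ → List (ℕ × ℕ)
  | 0 => [(812, 0), (812, 1), (812, 3), (812, 4), (812, 6), (812, 8), (812, 9), (3642, 0), (3642, 6), (1134, 2), (1134, 9), (986, 1), (986, 6)]
  | _ => []

def trCRoot : ℕ → ℕ
  | 0 => 812
  | _ => 0

def trCFinal : ℕ → ℕ
  | 0 => 2002735403505823920860757355935362657762038850170553695323141511495425664821798829904216233104070876950232050888669159272527567142168652997078829169707723598535266025896513300612512174824206434992907569523956174945975165415969775600828938422332509212248654378893120530751405465172050992008448266685067045947207295122271520885765824696255543241095932930517239260909682639929649029536232265983065676959713211906122753123995431595459082614609137624822262311624165793459915672663551528977678131701116258094420520301871565298598942911900910229615818897296955395995494066981895252305628223506348395101247532785673871988540820809094122550087015197871221223097327638172002569172457865173199749528477779555900045965279265734333569702951163120561815097574735401769002518688842546143578035140426932965001715503359504219261311826007679015360397356036815382199512045684329754000448579286133919539157768143210069057928642341171902482678847781887268106262955887086904473041891396366543154064262024191308702589923696894928633749708001219763313566197270412879328753603749329736312292531995175864605053094942515793801974902599630612204017935755540948844544000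
  | _ => 0

def trTabs : List (List ℕ) := trK3Gens.map (fun j => (runSLP trProg stdTabs).getD j idT)

theorem tr_tabs : ∀ t ∈ trTabs, ∃ σ ∈ KOf [5] [5279, 1009728], IsTbl σ t :=
  tabs_of_genOK (goodT_std trProg M24 stepPerm_mem) trK3Gens (by decide +kernel)

/-- the family of the fourteen other octads. -/
def trP (m : ℕ) : Bool :=
  popc m == 8 && popc (m &&& 5279) == 0 && !m.testBit 5 && m != 1009728

theorem tr_runs : runsOK trTabs trCKs trCCert trCRoot trCFinal = true := by decide +kernel

theorem tr_pass : passOK trCKs trCFinal trP (fun _ => 0) = true := by decide +kernel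

/-! ### trios -/

theorem octad_ne_of_disjoint {o a : Finset GolayPt} (ho : o ∈ octads) (hd : Disjoint o a) :
    o ≠ a := by
  rintro rfl
  rw [Finset.disjoint_self_iff_empty] at hd
  have := ho.2
  rw [hd] at this
  simp at this

/-- the trio of two disjoint octads. -/
def trioOf (o a : Finset GolayPt) : Finset (Finset GolayPt) := {o, a, (o ∪ a)ᶜ}

theorem disjoint_compl_union_left (o a : Finset GolayPt) : Disjoint o (o ∪ a)ᶜ := by
  rw [Finset.disjoint_left]
  intro x hx hx'
  exact (Finset.mem_compl.1 hx') (Finset.mem_union_left _ hx)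

theorem disjoint_compl_union_right (o a : Finset GolayPt) : Disjoint a (o ∪ a)ᶜ := by
  rw [Finset.disjoint_left]
  intro x hx hx'
  exact (Finset.mem_compl.1 hx') (Finset.mem_union_right _ hx)

theorem trioOf_mem {o a : Finset GolayPt} (ho : o ∈ octads) (ha : a ∈ octads) (hd : Disjoint o a) :
    trioOf o a ∈ trios := by
  have hc : (o ∪ a)ᶜ ∈ octads := Cfsg.Agent.Lead.Steiner.compl_union_mem_octads ho ha hd
  have h1 := disjoint_compl_union_left o a
  have h2 := disjoint_compl_union_right o a
  have hoa := octad_ne_of_disjoint ho hd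
  have hoc := octad_ne_of_disjoint ho h1
  have hac := octad_ne_of_disjoint ha h2
  refine ⟨?_, ?_, ?_⟩
  · unfold trioOf
    rw [Finset.card_insert_of_notMem, Finset.card_pair hac]
    simp only [Finset.mem_insert, Finset.mem_singleton, not_or]
    exact ⟨hoa, hoc⟩
  · intro x hx
    simp only [trioOf, Finset.mem_insert, Finset.mem_singleton] at hx
    rcases hx with rfl | rfl | rfl
    · exact ho
    · exact ha
    · exact hc
  · intro x hx z hz hxz
    simp only [trioOf, Finset.mem_insert, Finset.mem_singleton] at hx hz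
    rcases hx with rfl | rfl | rfl <;> rcases hz with rfl | rfl | rfl
    · exact absurd rfl hxz
    · exact hd
    · exact h1
    · exact hd.symm
    · exact absurd rfl hxz
    · exact h2
    · exact h1.symm
    · exact h2.symm
    · exact absurd rfl hxz

theorem left_mem_trioOf (o a : Finset GolayPt) : o ∈ trioOf o a := by simp [trioOf]
theorem right_mem_trioOf (o a : Finset GolayPt) : a ∈ trioOf o a := by simp [trioOf]
theorem compl_mem_trioOf (o a : Finset GolayPt) : (o ∪ a)ᶜ ∈ trioOf o a := by simp [trioOf]

theorem trio_eq_trioOf {T : Finset (Finset GolayPt)} (hT : T ∈ trios) {o a : Finset GolayPt}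
    (ho : o ∈ T) (ha : a ∈ T) (hne : o ≠ a) : T = trioOf o a := by
  obtain ⟨hT3, hTB, hTd⟩ := hT
  have hd := hTd o ho a ha hne
  have hlt : ({o, a} : Finset (Finset GolayPt)).card < T.card := by
    rw [Finset.card_pair hne, hT3]; omega
  obtain ⟨c, hcT, hcn⟩ := Finset.exists_mem_notMem_of_card_lt_card hlt
  simp only [Finset.mem_insert, Finset.mem_singleton, not_or] at hcn
  have hco : Disjoint c o := hTd c hcT o ho hcn.1
  have hca : Disjoint c a := hTd c hcT a ha hcn.2
  have hsub : c ⊆ (o ∪ a)ᶜ := by
    intro x hx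
    rw [Finset.mem_compl, Finset.mem_union, not_or]
    exact ⟨fun h => Finset.disjoint_left.1 hco hx h, fun h => Finset.disjoint_left.1 hca hx h⟩
  have hcc : ((o ∪ a)ᶜ).card = 8 :=
    (Cfsg.Agent.Lead.Steiner.compl_union_mem_octads (hTB o ho) (hTB a ha) hd).2
  have hceq : c = (o ∪ a)ᶜ :=
    Finset.eq_of_subset_of_card_le hsub (by rw [hcc, (hTB c hcT).2])
  have h3 : (trioOf o a).card = 3 := (trioOf_mem (hTB o ho) (hTB a ha) hd).1
  symm
  apply Finset.eq_of_subset_of_card_le
  · intro x hx
    simp only [trioOf, Finset.mem_insert, Finset.mem_singleton] at hx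
    rcases hx with rfl | rfl | rfl
    · exact ho
    · exact ha
    · rw [← hceq]; exact hcT
  · rw [hT3, h3]

theorem smul_trioOf (g : Equiv.Perm GolayPt) (o a : Finset GolayPt) :
    g • trioOf o a = trioOf (g • o) (g • a) := by
  unfold trioOf
  rw [Finset.smul_finset_insert, Finset.smul_finset_insert, Finset.smul_finset_singleton,
    smul_finset_compl', Finset.smul_finset_union]

theorem smul_mem_trios {g : Equiv.Perm GolayPt} (hg : g ∈ M24) {T : Finset (Finset GolayPt)}
    (hT : T ∈ trios) : g • T ∈ trios := by
  refine ⟨by rw [Finset.card_smul_finset]; exact hT.1, ?_, ?_⟩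
  · intro t ht
    obtain ⟨t0, ht0, rfl⟩ := Finset.mem_smul_finset.mp ht
    exact smul_mem_wordsOfWeight hg (hT.2.1 t0 ht0)
  · intro t ht u hu h
    obtain ⟨t0, ht0, rfl⟩ := Finset.mem_smul_finset.mp ht
    obtain ⟨u0, hu0, rfl⟩ := Finset.mem_smul_finset.mp hu
    have h0 : t0 ≠ u0 := fun h' => h (by rw [h'])
    have hd0 := hT.2.2 t0 ht0 u0 hu0 h0
    rw [Finset.disjoint_iff_inter_eq_empty] at hd0 ⊢
    rw [← Finset.smul_finset_inter, hd0, Finset.smul_finset_empty]

/-- the octads away from `o` and `x`. -/
def Dx (o : Finset GolayPt) (x : GolayPt) : Set (Finset GolayPt) :=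
  {a | a ∈ octads ∧ x ∉ a ∧ (o ∩ a).card = 0}

theorem disjoint_of_mem_Dx {o a : Finset GolayPt} {x : GolayPt} (ha : a ∈ Dx o x) :
    Disjoint o a := by
  rw [Finset.disjoint_iff_inter_eq_empty, ← Finset.card_eq_zero]
  exact ha.2.2

theorem exists_Dx_of_trio {o : Finset GolayPt} {x : GolayPt} (hx : x ∉ o)
    {T : Finset (Finset GolayPt)} (hT : T ∈ trios) (hoT : o ∈ T) :
    ∃ a ∈ Dx o x, T = trioOf o a := by
  have hlt : ({o} : Finset (Finset GolayPt)).card < T.card := by
    rw [Finset.card_singleton, hT.1]; omega
  obtain ⟨a, haT, han⟩ := Finset.exists_mem_notMem_of_card_lt_card hlt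
  rw [Finset.mem_singleton] at han
  have hne : o ≠ a := Ne.symm han
  have hTe := trio_eq_trioOf hT hoT haT hne
  have hd := hT.2.2 o hoT a haT hne
  by_cases hxa : x ∈ a
  · refine ⟨(o ∪ a)ᶜ, ⟨?_, ?_, ?_⟩, ?_⟩
    · exact Cfsg.Agent.Lead.Steiner.compl_union_mem_octads (hT.2.1 o hoT) (hT.2.1 a haT) hd
    · rw [Finset.mem_compl, not_not]
      exact Finset.mem_union_right _ hxa
    · rw [Finset.card_eq_zero, ← Finset.disjoint_iff_inter_eq_empty]
      exact disjoint_compl_union_left o a
    · have hc : (o ∪ a)ᶜ ∈ T := by rw [hTe]; exact compl_mem_trioOf o a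
      exact trio_eq_trioOf hT hoT hc
        (octad_ne_of_disjoint (hT.2.1 o hoT) (disjoint_compl_union_left o a))
  · refine ⟨a, ⟨hT.2.1 a haT, hxa, ?_⟩, hTe⟩
    rw [Finset.card_eq_zero, ← Finset.disjoint_iff_inter_eq_empty]
    exact hd

theorem trioOf_inj {o a b : Finset GolayPt} {x : GolayPt} (ho : o ∈ octads) (hx : x ∉ o)
    (ha : a ∈ Dx o x) (hb : b ∈ Dx o x) (h : trioOf o a = trioOf o b) : a = b := by
  have hbm : b ∈ trioOf o a := by rw [h]; exact right_mem_trioOf o b
  simp only [trioOf, Finset.mem_insert, Finset.mem_singleton] at hbm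
  rcases hbm with rfl | rfl | rfl
  · exact absurd rfl (octad_ne_of_disjoint ho (disjoint_of_mem_Dx hb))
  · rfl
  · exfalso
    apply hb.2.1
    rw [Finset.mem_compl, Finset.mem_union, not_or]
    exact ⟨hx, ha.2.1⟩

theorem trios_through_eq {o : Finset GolayPt} {x : GolayPt} (ho : o ∈ octads) (hx : x ∉ o) :
    {T : Finset (Finset GolayPt) | T ∈ trios ∧ o ∈ T} = trioOf o '' Dx o x := by
  ext T
  simp only [Set.mem_ofPred_eq, Set.mem_image]
  constructor
  · rintro ⟨hT, hoT⟩
    obtain ⟨a, ha, rfl⟩ := exists_Dx_of_trio hx hT hoT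
    exact ⟨a, ha, rfl⟩
  · rintro ⟨a, ha, rfl⟩
    exact ⟨trioOf_mem ho ha.1 (disjoint_of_mem_Dx ha), left_mem_trioOf o a⟩

theorem exists_not_mem_octad {o : Finset GolayPt} (ho : o ∈ octads) : ∃ x, x ∉ o := by
  by_contra hcon
  push Not at hcon
  have : o = Finset.univ := Finset.eq_univ_iff_forall.mpr hcon
  have h8 := ho.2
  rw [this, Finset.card_univ, card_golayPt] at h8
  omega

theorem ncard_trios_through {o : Finset GolayPt} (ho : o ∈ octads) :
    {T : Finset (Finset GolayPt) | T ∈ trios ∧ o ∈ T}.ncard = 15 := by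
  obtain ⟨x, hx⟩ := exists_not_mem_octad ho
  rw [trios_through_eq ho hx, Set.InjOn.ncard_image]
  · exact (flag_out_orbits x o ho hx).1
  · intro a ha b hb h
    exact trioOf_inj ho hx ha hb h

end Cfsg.Agent.Helper9.Golay
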