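import Mathlib
import Cfsg.Prelude.Def_Sporadic_a
import Cfsg.Prelude.Def_SporadicCombinatorics
import Cfsg.Agent.Helper9.Golay.OrbData_mm
import Cfsg.Agent.Helper9.Golay.SextetBasic
import Cfsg.Agent.Helper9.Golay.TrioOct

set_option autoImplicit false

/-!
The group of the code is transitive on the sextets and on the trios; the data of the pairs
(family, family) and (family, octad) from certificates.
-/

namespace Cfsg.Agent.Helper9.Golay

open Cfsg
open scoped Pointwise

theorem trios_inv₂ : ∀ k ∈ M24, ∀ a ∈ trios, k • a ∈ trios :=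
  fun _ hk _ ha => smul_mem_trios hk ha

theorem sextets_inv₂ : ∀ k ∈ M24, ∀ a ∈ sextets, k • a ∈ sextets :=
  fun _ hk _ ha => smul_mem_sextets hk ha

theorem octads_inv₂ : ∀ k ∈ M24, ∀ a ∈ octads, k • a ∈ octads :=
  fun _ hk _ ha => smul_mem_wordsOfWeight hk ha

theorem mmG_e0 : mmG.e0 = [] := rfl

theorem sextets_transitive {S S' : Finset (Finset GolayPt)} (hS : S ∈ sextets)
    (hS' : S' ∈ sextets) : ∃ h ∈ M24, h • S = S' := by
  have key := mmS.sep mmG_ok sextets_listing mmS_ok S hS S' hS'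
    (by rw [mmG_e0]; simp [famOf, cfam])
  obtain ⟨h, hh, -, hS⟩ := key
  exact ⟨h, hh, hS⟩

theorem trios_transitive {T T' : Finset (Finset GolayPt)} (hT : T ∈ trios)
    (hT' : T' ∈ trios) : ∃ h ∈ M24, h • T = T' := by
  have key := mmT.sep mmG_ok trios_listing mmT_ok T hT T' hT'
    (by rw [mmG_e0]; simp [famOf, cfam])
  obtain ⟨h, hh, -, hT⟩ := key
  exact ⟨h, hh, hT⟩

/-- the data of the pairs (family, family) from a certificate. -/
theorem pairData_fam {𝒜 ℬ : Set (Finset (Finset GolayPt))}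
    (hℬ : ∀ g ∈ M24, ∀ B ∈ ℬ, g • B ∈ ℬ) {G : GenData}
    (htrans : ∀ A ∈ 𝒜, ∃ g ∈ M24, g • famOf G.e0 = A)
    (sep : ∀ B ∈ ℬ, ∀ B' ∈ ℬ, cfam (famOf G.e0) B = cfam (famOf G.e0) B' →
      ∃ h ∈ M24, h • famOf G.e0 = famOf G.e0 ∧ h • B = B') :
    PairData 𝒜 ℬ cfam (famOf G.e0) where
  invB := hℬ
  invc := fun g _ A B => cfam_smul g A B
  trans := htrans
  sep := sep

/-- the data of the pairs (family, octad) from a certificate. -/
theorem pairData_fam_oct {𝒜 : Set (Finset (Finset GolayPt))} {G : GenData}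
    (htrans : ∀ A ∈ 𝒜, ∃ g ∈ M24, g • famOf G.e0 = A)
    (sep : ∀ B ∈ octFams, ∀ B' ∈ octFams, cfam (famOf G.e0) B = cfam (famOf G.e0) B' →
      ∃ h ∈ M24, h • famOf G.e0 = famOf G.e0 ∧ h • B = B') :
    PairData 𝒜 octads (fun A o => cfam A {o}) (famOf G.e0) where
  invB := octads_inv₂
  invc := by
    intro g _ A o
    change cfam (g • A) {g • o} = cfam A {o}
    rw [← smul_singleton_fam, cfam_smul]
  trans := htrans
  sep := by
    intro o ho o' ho' hc
    obtain ⟨h, hh, hfix, ho⟩ := sep {o} ⟨o, ho, rfl⟩ {o'} ⟨o', ho', rfl⟩ hc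
    rw [smul_singleton_fam] at ho
    exact ⟨h, hh, hfix, Finset.singleton_injective ho⟩

/-- counting octads of a class through the listing. -/
theorem octads_count {e0 : List ℕ} (he0 : okMasks e0 = true) {vals : List ℕ}
    (hvals : ((unpackL 24 759 octBig).map (blocksOf 1)).map (cfamB e0) = vals) (v : ℕ) :
    {o | o ∈ octads ∧ cfam (famOf e0) {o} = v}.ncard =
      (vals.filter (fun x => x == v)).length := by
  rw [ncard_octads_class]
  exact octFams_listing.count he0 hvals v

theorem octads_cover {e0 : List ℕ} (he0 : okMasks e0 = true) {vals : List ℕ}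
    (hvals : ((unpackL 24 759 octBig).map (blocksOf 1)).map (cfamB e0) = vals)
    (V : Finset ℕ) (hV : vals.all (fun x => decide (x ∈ V)) = true) :
    ∀ o ∈ octads, cfam (famOf e0) {o} ∈ V :=
  fun o ho => octFams_listing.cover he0 hvals V hV {o} ⟨o, ho, rfl⟩

end Cfsg.Agent.Helper9.Golay
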