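import Mathlib
import Cfsg.Prelude.Def_Sporadic_a
import Cfsg.Agent.Helper9.Golay.Chain

set_option autoImplicit false

/-!
Enumeration of the elements of a small subgroup of the symmetric group on the 24 points from a
stabilizer chain: every element is a product of coset representatives.
-/

namespace Cfsg.Agent.Helper9.Golay

open Cfsg

theorem levelOK_sound' {H : Subgroup (Equiv.Perm GolayPt)} {st : List (List ℕ)} (hst : GoodT H st)
    {base : List ℕ} {b : ℕ} {cert : List (ℕ × ℕ)} (h : levelOK st base b cert = true) :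
    ∀ e ∈ cert, e.1 < 24 ∧ ∃ σ ∈ H ⊓ fixL (base.map idxPtN), σ (idxPtN b) = idxPtN e.1 ∧
      IsTbl σ (st.getD e.2 idT) := by
  unfold levelOK at h
  simp only [Bool.and_eq_true, List.all_eq_true, decide_eq_true_eq, beq_iff_eq] at h
  obtain ⟨⟨hbase, hb⟩, hcert⟩ := h
  intro e he
  obtain ⟨⟨he1, hfix⟩, hmap⟩ := hcert e he
  refine ⟨he1, ?_⟩
  obtain ⟨σ, hσ, hσt⟩ := hst.getD e.2
  refine ⟨σ, Subgroup.mem_inf.mpr ⟨hσ, ?_⟩, ?_, hσt⟩
  · rw [mem_fixL]
    intro p hp
    rw [List.mem_map] at hp
    obtain ⟨c, hc, rfl⟩ := hp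
    rw [hσt.apply_idx (hbase c hc)]
    unfold fixesAll at hfix
    simp only [List.all_eq_true, beq_iff_eq] at hfix
    rw [hfix c hc]
  · rw [hσt.apply_idx hb, hmap]

/-- all the products of coset representatives along a chain. -/
def allProds (st : List (List ℕ)) : List (ℕ × List (ℕ × ℕ)) → List (List ℕ)
  | [] => [idT]
  | lv :: rest =>
    lv.2.flatMap (fun e => (allProds st rest).map (fun t => mulT (st.getD e.2 idT) t))

/-- the base at the end of a chain. -/
def finalBase : List (ℕ × List (ℕ × ℕ)) → List ℕ → List ℕ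
  | [], base => base
  | lv :: rest, base => finalBase rest (lv.1 :: base)

/-- the coset representatives of each level reach all the points of `Dl` outside the base. -/
def coverOK (Dl : List ℕ) : List ℕ → List (ℕ × List (ℕ × ℕ)) → Bool
  | _, [] => true
  | base, lv :: rest =>
    decide (lv.1 ∈ Dl) && decide (lv.1 ∉ base) &&
      Dl.all (fun i => decide (i ∈ base) || decide (i ∈ lv.2.map Prod.fst)) &&
      coverOK Dl (lv.1 :: base) rest

theorem exists_tbl_of_sift {H : Subgroup (Equiv.Perm GolayPt)} {st : List (List ℕ)}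
    (hst : GoodT H st) (Dl : List ℕ) (hD : ∀ i ∈ Dl, i < 24)
    (hHD : ∀ g ∈ H, ∀ i ∈ Dl, ∃ j ∈ Dl, g (idxPtN i) = idxPtN j) :
    ∀ (levels : List (ℕ × List (ℕ × ℕ))) (base : List ℕ), (∀ c ∈ base, c < 24) →
      chainOK st base levels = true → coverOK Dl base levels = true →
      (∀ g ∈ H ⊓ fixL ((finalBase levels base).map idxPtN), g = 1) →
      ∀ g ∈ H ⊓ fixL (base.map idxPtN), ∃ t ∈ allProds st levels, IsTbl g t := by
  intro levels
  induction levels with
  | nil =>
    intro base _ _ _ hterm g hg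
    have : g = 1 := hterm g hg
    rw [this]
    exact ⟨idT, by simp [allProds], isTbl_one⟩
  | cons lv rest ih =>
    intro base hbase hchain hcover hterm g hg
    simp only [chainOK, Bool.and_eq_true, decide_eq_true_eq] at hchain
    obtain ⟨⟨hlv, -⟩, hrest⟩ := hchain
    simp only [coverOK, Bool.and_eq_true, decide_eq_true_eq, List.all_eq_true, Bool.or_eq_true]
      at hcover
    obtain ⟨⟨⟨hbD, hbb⟩, hcov⟩, hcrest⟩ := hcover
    obtain ⟨hgH, hgfix⟩ := Subgroup.mem_inf.mp hg
    rw [mem_fixL] at hgfix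
    have hb24 : lv.1 < 24 := hD _ hbD
    obtain ⟨j, hjD, hgj⟩ := hHD g hgH lv.1 hbD
    have hjb : j ∉ base := by
      intro hjb
      have h1 : g (idxPtN j) = idxPtN j := hgfix _ (List.mem_map.mpr ⟨j, hjb, rfl⟩)
      have h2 : idxPtN lv.1 = idxPtN j := g.injective (by rw [hgj, h1])
      have h3 : lv.1 = j := idxPtN_injOn hb24 (hD _ hjD) h2
      exact hbb (by rw [h3]; exact hjb)
    have hjc : j ∈ lv.2.map Prod.fst := by
      rcases hcov j hjD with h | h
      · exact absurd h hjb
      · exact h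
    rw [List.mem_map] at hjc
    obtain ⟨e, he, hej⟩ := hjc
    obtain ⟨-, σ, hσ, hσb, hσt⟩ := levelOK_sound' hst hlv e he
    obtain ⟨hσH, hσfix⟩ := Subgroup.mem_inf.mp hσ
    rw [mem_fixL] at hσfix
    have hg' : σ⁻¹ * g ∈ H ⊓ fixL ((lv.1 :: base).map idxPtN) := by
      refine Subgroup.mem_inf.mpr ⟨H.mul_mem (H.inv_mem hσH) hgH, ?_⟩
      rw [mem_fixL]
      intro p hp
      rw [List.map_cons, List.mem_cons] at hp
      rw [Equiv.Perm.mul_apply]
      rcases hp with rfl | hp
      · rw [hgj, ← hej, ← hσb]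
        simp
      · rw [hgfix p hp]
        nth_rewrite 1 [← hσfix p hp]
        simp
    obtain ⟨t', ht', hgt'⟩ := ih (lv.1 :: base)
      (by
        intro c hc
        rcases List.mem_cons.mp hc with rfl | hc
        · exact hb24
        · exact hbase c hc)
      hrest hcrest hterm (σ⁻¹ * g) hg'
    refine ⟨mulT (st.getD e.2 idT) t', ?_, ?_⟩
    · unfold allProds
      rw [List.mem_flatMap]
      exact ⟨e, he, List.mem_map.mpr ⟨t', ht', rfl⟩⟩
    · have : g = σ * (σ⁻¹ * g) := by group
      rw [this]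
      exact hσt.mul hgt'

end Cfsg.Agent.Helper9.Golay
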