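import Mathlib
import Cfsg.Prelude.Def_Sporadic_a
import Cfsg.Agent.Helper9.Golay.SiftT
import Cfsg.Agent.Helper9.Golay.SimpleCert
import Cfsg.Agent.Helper9.Golay.SixSets
import Cfsg.Agent.Helper9.Golay.Syl3Thm

set_option autoImplicit false

/-!
The list of the 2160 elements of the group of the code that map the six-point set
`{0, ..., 5}` to itself.
-/

namespace Cfsg.Agent.Helper9.Golay

open Cfsg

def f6Prog1 : List (ℕ × ℕ) := [(2, 0), (0, 0), (1, 4), (2, 5), (0, 6), (0, 7), (1, 8), (2, 9), (2, 10), (2, 11), (2, 12), (0, 13), (0, 14), (0, 15), (1, 16), (0, 17), (2, 2), (2, 19), (0, 20), (2, 21), (2, 22), (0, 23), (2, 24), (0, 25), (1, 26), (0, 27), (2, 28), (0, 29), (1, 30), (31, 31), (32, 32), (32, 33), (33, 33), (34, 35), (36, 18), (1, 0), (2, 38), (2, 39), (2, 40), (0, 41), (0, 42), (2, 43), (0, 44), (2, 45),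 (0, 46), (0, 47), (2, 48), (1, 49), (2, 1), (0, 51), (2, 52), (0, 53), (0, 54), (1, 55), (0, 56), (0, 57), (1, 58), (2, 59), (0, 60), (0, 61), (62, 62), (63, 63), (63, 64), (64, 64), (65, 66), (67, 50), (0, 38), (1, 69), (2, 70), (0, 71), (2, 72), (0, 73), (0, 74), (0, 75), (1, 76), (2, 77), (0, 78), (2, 79), (0, 52), (1, 81), (2, 82), (2, 83), (2, 84), (0, 85), (1, 86), (0, 87), (1, 88), (89, 89), (90, 90), (91, 91), (92, 92), (91, 93), (94, 80), (0, 19), (0, 96), (1, 97), (2, 98), (2, 99), (2, 100), (2, 101), (0, 102), (1, 103), (0, 104), (0, 105), (0, 69), (2, 107), (0, 108), (0, 109), (2, 110), (2, 111), (0, 112), (1, 113), (0, 114), (1, 115), (116, 116), (117, 117), (116, 118), (119, 106), (0, 5), (2, 121), (0, 122), (0, 3), (2, 124), (0, 125), (1, 126), (0, 127), (0, 128), (0, 129), (2, 130), (0, 131), (2, 132),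 (0, 133), (1, 134), (0, 135), (0, 82), (2, 137), (2, 138), (0, 139), (0, 140), (2, 141), (0, 142), (2, 143), (2, 144), (145, 145), (146, 146), (146, 147), (147, 147), (149, 149), (148, 150), (151, 136), (0, 123), (0, 153), (2, 154), (0, 155), (2, 156), (0, 157), (1, 158), (0, 159), (1, 160), (160, 160), (162, 162), (160, 163), (164, 161)]

def f6V : List ℕ := [37, 68, 95, 120, 152, 165]

def f6Prog2 : List (ℕ × ℕ) := [(0, 0), (3, 3), (5, 3), (6, 6), (6, 9), (9, 9), (10, 11), (12, 8), (4, 0), (7, 7), (3, 15), (16, 14), (12, 2), (0, 6), (16, 19), (13, 17), (18, 20), (17, 21), (22, 22), (22, 24), (25, 23), (13, 21), (20, 20), (28, 28), (20, 29), (30, 27), (17, 22), (30, 32), (20, 21), (25, 34), (26, 31), (33, 26), (31, 37), (26, 26), (26, 39), (33, 36), (36, 36), (42, 42), (36, 43), (44, 41), (40, 35), (45, 45), (46, 45),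 (47, 48)]

def f6Levels : List (ℕ × List (ℕ × ℕ)) := [(0, [(0, 100000), (1, 5), (2, 7), (3, 3), (4, 6), (5, 0)]),
  (1, [(1, 100000), (2, 17), (3, 21), (4, 22), (5, 20)]),
  (2, [(2, 100000), (3, 36), (4, 31), (5, 26)]),
  (3, [(3, 100000), (4, 45), (5, 38)]),
  (4, [(4, 100000), (5, 49)])]

def f6Tabs2 : List (List ℕ) := [[5, 0, 2, 1, 3, 4, 16, 14, 10, 20, 23, 7, 17, 12, 9, 8, 21, 18, 15, 22, 13, 6, 11, 19], [0, 1, 5, 3, 2, 4, 12, 23, 13, 9, 17, 8, 14, 11, 6, 22, 7, 21, 18, 19, 15, 10, 20, 16], [5, 0, 2, 4, 1, 3, 16, 19, 7, 17, 18, 12, 9, 10, 20, 13, 21, 15, 23, 14, 11, 6, 8, 22], [3, 1, 0, 2, 5, 4, 13, 17, 19, 21, 23, 18, 14, 9, 7, 15, 8, 10, 6, 16, 22, 11, 20, 12], [0, 5, 2, 4, 1, 3, 21, 9, 8, 14, 18, 13, 19, 11, 22, 12, 16, 15, 23, 17, 10, 6, 7, 20], [1, 0, 4, 5, 2, 3, 23, 9, 22, 7, 18, 15, 19, 20, 16, 11, 14, 21,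 10, 12, 13, 17, 8, 6], [4, 5, 2, 0, 1, 3, 21, 9, 23, 13, 19, 14, 18, 17, 20, 10, 6, 15, 8, 11, 12, 16, 7, 22], [2, 1, 3, 0, 4, 5, 9, 10, 16, 11, 12, 6, 7, 21, 17, 15, 19, 23, 13, 8, 20, 18, 22, 14], [5, 0, 1, 4, 3, 2, 20, 21, 12, 17, 6, 10, 16, 7, 9, 11, 22, 18, 23, 14, 8, 15, 13, 19], [1, 3, 2, 4, 5, 0, 16, 13, 22, 17, 11, 20, 8, 15, 12, 19, 21, 10, 23, 14, 18, 6, 9, 7], [5, 0, 2, 1, 3, 4, 6, 17, 7, 15, 14, 12, 23, 10, 18, 11, 16, 19, 22, 20, 8, 21, 13, 9], [3, 4, 2, 5, 0, 1, 21, 15, 9, 10, 20, 18, 22, 19, 8, 14, 6, 11, 7, 12, 23, 16, 17, 13], [1, 3, 2, 4, 5, 0, 21, 11, 15, 14, 8, 22, 13, 20, 7, 18, 6, 12, 17, 23, 9, 16, 19, 10], [0, 1, 3, 5, 4, 2, 9, 16, 13, 12, 21, 8, 6, 11, 14, 22, 19, 17, 10, 7, 15, 18, 20, 23], [3, 0, 2, 5, 4, 1, 16, 22, 18, 10, 20, 9, 15, 19, 14, 8, 6, 23, 12, 7, 11, 21, 13, 17], [3, 1, 0, 2,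 4, 5, 11, 12, 19, 6, 7, 9, 10, 18, 23, 15, 8, 14, 21, 16, 20, 13, 22, 17], [2, 1, 3, 0, 5, 4, 18, 14, 16, 13, 17, 21, 23, 6, 12, 15, 19, 7, 11, 8, 22, 9, 20, 10], [0, 2, 3, 4, 5, 1, 19, 20, 11, 17, 22, 13, 15, 8, 12, 16, 18, 10, 23, 14, 21, 9, 6, 7], [0, 1, 2, 5, 3, 4, 6, 23, 11, 12, 17, 13, 14, 8, 9, 20, 16, 18, 10, 7, 22, 21, 15, 19], [3, 4, 2, 5, 0, 1, 6, 20, 19, 12, 22, 9, 15, 18, 13, 23, 16, 8, 10, 7, 17, 21, 14, 11], [0, 5, 3, 4, 2, 1, 18, 22, 8, 23, 20, 13, 15, 11, 6, 10, 19, 16, 17, 14, 7, 9, 12, 21], [0, 3, 5, 4, 2, 1, 7, 15, 8, 17, 20, 11, 22, 13, 6, 19, 10, 21, 23, 14, 18, 12, 9, 16], [0, 4, 5, 3, 2, 1, 10, 15, 11, 19, 22, 8, 20, 13, 6, 17, 7, 16, 18, 9, 23, 12, 14, 21], [0, 4, 1, 5, 3, 2, 20, 16, 11, 10, 21, 13, 6, 8, 19, 14, 22, 9, 7, 12, 23, 15, 17, 18], [0, 2, 1, 3, 5, 4, 22, 17, 8, 9, 14, 11, 23, 13,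 10, 16, 15, 7, 18, 19, 21, 20, 6, 12], [0, 5, 4, 3, 1, 2, 14, 16, 11, 19, 6, 8, 21, 13, 22, 7, 17, 15, 18, 9, 12, 23, 10, 20], [0, 1, 5, 2, 3, 4, 12, 17, 8, 6, 23, 13, 14, 11, 9, 22, 10, 19, 16, 21, 20, 7, 15, 18], [0, 5, 2, 4, 3, 1, 16, 22, 13, 17, 15, 8, 20, 11, 9, 7, 21, 18, 23, 14, 10, 6, 12, 19], [0, 1, 4, 2, 3, 5, 17, 12, 8, 21, 7, 11, 10, 13, 18, 20, 14, 19, 16, 6, 22, 23, 15, 9], [0, 1, 3, 4, 2, 5, 19, 10, 8, 23, 12, 11, 7, 13, 16, 22, 18, 6, 14, 17, 15, 9, 20, 21], [0, 5, 4, 2, 3, 1, 14, 20, 8, 21, 15, 13, 22, 11, 19, 12, 17, 18, 6, 16, 10, 23, 7, 9], [0, 1, 4, 3, 2, 5, 17, 7, 11, 18, 12, 8, 10, 13, 21, 20, 23, 6, 9, 19, 15, 14, 22, 16], [0, 5, 1, 4, 3, 2, 22, 16, 13, 14, 6, 11, 21, 8, 19, 10, 20, 18, 23, 17, 7, 15, 12, 9], [0, 1, 5, 3, 2, 4, 7, 17, 11, 19, 14, 13, 23, 8, 16, 15, 10, 6, 9, 18, 20, 12, 22, 21],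 [0, 4, 1, 2, 3, 5, 22, 10, 8, 16, 7, 13, 12, 11, 18, 14, 20, 9, 21, 6, 17, 15, 23, 19], [0, 1, 5, 4, 3, 2, 10, 6, 11, 17, 16, 13, 21, 8, 18, 22, 12, 19, 23, 14, 15, 7, 20, 9], [0, 1, 3, 2, 5, 4, 19, 17, 13, 16, 14, 8, 23, 11, 7, 20, 18, 12, 6, 21, 22, 9, 15, 10], [0, 1, 4, 5, 3, 2, 23, 6, 11, 7, 21, 8, 16, 13, 19, 22, 14, 18, 10, 12, 20, 17, 15, 9], [0, 1, 2, 5, 3, 4, 16, 17, 8, 7, 14, 11, 23, 13, 19, 22, 21, 9, 12, 10, 15, 6, 20, 18], [0, 1, 4, 5, 2, 3, 14, 19, 8, 12, 18, 11, 9, 13, 6, 15, 23, 21, 10, 7, 20, 17, 22, 16], [0, 1, 3, 4, 5, 2, 9, 21, 8, 14, 16, 13, 6, 11, 12, 22, 18, 7, 23, 17, 20, 19, 15, 10], [0, 1, 3, 5, 4, 2, 18, 6, 8, 10, 16, 11, 21, 13, 17, 20, 9, 23, 7, 12, 22, 19, 15, 14], [0, 1, 2, 3, 4, 5, 21, 12, 11, 18, 7, 13, 10, 8, 17, 22, 6, 23, 19, 9, 15, 16, 20, 14], [0, 1, 2, 3, 4, 5, 16, 10, 13, 19,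 12, 8, 7, 11, 23, 20, 21, 14, 9, 18, 22, 6, 15, 17], [0, 1, 3, 2, 5, 4, 18, 14, 11, 21, 23, 13, 17, 8, 10, 22, 9, 7, 16, 6, 15, 19, 20, 12], [0, 1, 2, 4, 5, 3, 16, 18, 11, 23, 9, 13, 19, 8, 7, 15, 21, 12, 14, 17, 20, 6, 22, 10], [0, 1, 2, 5, 4, 3, 16, 9, 13, 7, 18, 11, 19, 8, 23, 15, 6, 17, 10, 12, 22, 21, 20, 14], [0, 1, 2, 5, 3, 4, 21, 14, 13, 10, 23, 8, 17, 11, 18, 15, 6, 19, 7, 12, 20, 16, 22, 9], [0, 1, 2, 4, 3, 5, 6, 10, 11, 14, 7, 8, 12, 13, 9, 15, 21, 19, 23, 17, 22, 16, 20, 18], [0, 1, 2, 3, 5, 4, 21, 23, 8, 18, 14, 13, 17, 11, 10, 15, 16, 12, 9, 19, 22, 6, 20, 7]]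

def f6Init : List (List ℕ) := f6V.map (fun j => (certTabs1 f6Prog1).getD j idT)

theorem f6_gens : f6V.all (fun j => genOK [] [63] ((certTabs1 f6Prog1).getD j idT)) = true := by
  decide +kernel

theorem f6Tabs2_eq : runSLP f6Prog2 f6Init = f6Tabs2 := by decide +kernel

theorem goodT_f6 : GoodT (KOf [] [63]) f6Tabs2 := by
  have hst1 : GoodT M24 (certTabs1 f6Prog1) := goodT_std f6Prog1 M24 stepPerm_mem
  have htabs := tabs_of_genOK hst1 f6V f6_gens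
  rw [← f6Tabs2_eq]
  exact goodT_runSLP _ f6Prog2 _ htabs

theorem f6_chain : chainOK f6Tabs2 [] f6Levels = true := by decide +kernel

theorem f6_cover : coverOK [0, 1, 2, 3, 4, 5] [] f6Levels = true := by decide +kernel

def f6Term : List (List ℕ) := [idT, p3Rep6, mulT p3Rep6 p3Rep6]

def allF6 : List (List ℕ) := allProdsT f6Tabs2 f6Term f6Levels

theorem allF6_length : allF6.length = 2160 := by decide +kernel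

end Cfsg.Agent.Helper9.Golay
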