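import Mathlib
import Cfsg.Prelude.Def_Sporadic_a
import Cfsg.Agent.Helper9.Golay.F6Data

set_option autoImplicit false

/-!
Every element of the group of the code that maps the six-point set `{0, ..., 5}` to itself
has its table in the list `allF6`.
-/

namespace Cfsg.Agent.Helper9.Golay

open Cfsg
open scoped Pointwise

theorem f6_finalBase : finalBase f6Levels [] = [4, 3, 2, 1, 0] := by decide +kernel

theorem bits63 : ∀ j < 24, (63 : ℕ).testBit j = true → j ∈ [0, 1, 2, 3, 4, 5] := by decide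

theorem bits63' : ∀ j ∈ [0, 1, 2, 3, 4, 5], j < 24 ∧ (63 : ℕ).testBit j = true := by decide

theorem map_mem_six {g : Equiv.Perm GolayPt} (hF : g • suppM 63 = suppM 63) :
    ∀ i ∈ [0, 1, 2, 3, 4, 5], ∃ j ∈ [0, 1, 2, 3, 4, 5], g (idxPtN i) = idxPtN j := by
  intro i hi
  obtain ⟨hi24, hbit⟩ := bits63' i hi
  have h1 : idxPtN i ∈ suppM 63 := (mem_suppM_idx' hi24).mpr hbit
  have h2 : g (idxPtN i) ∈ suppM 63 := by
    rw [← hF]
    exact Finset.smul_mem_smul_finset h1
  rw [mem_suppM] at h2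
  exact ⟨ptIdx (g (idxPtN i)), bits63 _ (ptIdx_lt _) h2, (idxPtN_ptIdx _).symm⟩

/-- the elements fixing the six points. -/
theorem mem_K5'_tbl (g : Equiv.Perm GolayPt) (hg : g ∈ K5') : ∃ t ∈ f6Term, IsTbl g t := by
  have : Fact (Nat.Prime 3) := ⟨by norm_num⟩
  obtain ⟨r, hr⟩ := exists_elt_of_tbl p3_real p3Rep6_mem
  have hrK : (r : Equiv.Perm GolayPt) ∈ K5' := by
    unfold K5'
    refine Subgroup.mem_inf.mpr ⟨r.2, ?_⟩
    rw [mem_fixL]
    intro p hp
    rw [List.mem_map] at hp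
    obtain ⟨c, hc, rfl⟩ := hp
    have hc24 : c < 24 := by
      simp only [List.mem_cons, List.not_mem_nil, or_false] at hc
      omega
    rw [hr.apply_idx hc24]
    congr 1
    revert c
    decide
  have hcard : Nat.card (Subgroup.zpowers (r : Equiv.Perm GolayPt)) = 3 := by
    rw [Nat.card_zpowers]
    have h3 := card_zpowers_of_tbl hr p3Rep6_props.2.1 p3Rep6_props.2.2
    rw [Nat.card_zpowers] at h3
    rw [← h3]
    exact (Subgroup.orderOf_coe r)
  have hle : Subgroup.zpowers (r : Equiv.Perm GolayPt) ≤ K5' := by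
    rw [Subgroup.zpowers_le]
    exact hrK
  have heq : Subgroup.zpowers (r : Equiv.Perm GolayPt) = K5' := by
    apply Subgroup.eq_of_le_of_card_ge hle
    rw [hcard, card_K5']
  rw [← heq] at hg
  have ho : orderOf (r : Equiv.Perm GolayPt) = 3 := by
    rw [← Nat.card_zpowers]
    exact hcard
  rw [Subgroup.mem_zpowers_iff] at hg
  obtain ⟨k, rfl⟩ := hg
  have hk : ((r : Equiv.Perm GolayPt)) ^ k = (r : Equiv.Perm GolayPt) ^ (k % 3) := by
    have := zpow_mod_orderOf (r : Equiv.Perm GolayPt) k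
    rw [ho] at this
    exact this.symm
  have hk3 : 0 ≤ k % 3 ∧ k % 3 < 3 := ⟨Int.emod_nonneg _ (by norm_num), Int.emod_lt_of_pos _ (by norm_num)⟩
  rw [hk]
  obtain ⟨n, hn⟩ : ∃ n : ℕ, k % 3 = n := ⟨(k % 3).toNat, by omega⟩
  rw [hn, zpow_natCast]
  have hn3 : n < 3 := by omega
  interval_cases n
  · exact ⟨idT, by simp [f6Term], by rw [pow_zero]; exact isTbl_one⟩
  · exact ⟨p3Rep6, by simp [f6Term], by rw [pow_one]; exact hr⟩
  · exact ⟨mulT p3Rep6 p3Rep6, by simp [f6Term], by rw [pow_two]; exact hr.mul hr⟩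

theorem f6_enum (g : Equiv.Perm GolayPt) (hg : g ∈ M24) (hF : g • suppM 63 = suppM 63) :
    ∃ t ∈ allF6, IsTbl g t := by
  have hgH : g ∈ KOf [] [63] := by
    rw [mem_KOf]
    refine ⟨hg, by simp, ?_⟩
    intro m hm
    simp only [List.mem_cons, List.not_mem_nil, or_false] at hm
    rw [hm]
    exact hF
  apply exists_tbl_of_siftT goodT_f6 [0, 1, 2, 3, 4, 5] (fun i hi => (bits63' i hi).1) ?_ f6Term
    f6Levels [] (by simp) f6_chain f6_cover ?_ g
  · refine Subgroup.mem_inf.mpr ⟨hgH, ?_⟩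
    rw [mem_fixL]
    simp
  · intro h hh i hi
    rw [mem_KOf] at hh
    exact map_mem_six (hh.2.2 63 (by simp)) i hi
  · intro h hh
    rw [f6_finalBase] at hh
    obtain ⟨hhH, hhfix⟩ := Subgroup.mem_inf.mp hh
    rw [mem_fixL] at hhfix
    rw [mem_KOf] at hhH
    apply mem_K5'_tbl
    unfold K5'
    refine Subgroup.mem_inf.mpr ⟨hhH.1, ?_⟩
    rw [mem_fixL]
    intro p hp
    rw [List.map_cons, List.mem_cons] at hp
    rcases hp with rfl | hp
    · obtain ⟨j, hj, hgj⟩ := map_mem_six (hhH.2.2 63 (by simp)) 5 (by simp)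
      have hj5 : j = 5 := by
        by_contra hne
        have hj' : j ∈ [4, 3, 2, 1, 0] := by
          simp only [List.mem_cons, List.not_mem_nil, or_false] at hj ⊢
          omega
        have h1 : h (idxPtN j) = idxPtN j := hhfix _ (List.mem_map.mpr ⟨j, hj', rfl⟩)
        have h2 : idxPtN 5 = idxPtN j := h.injective (by rw [hgj, h1])
        have h3 : 5 = j := idxPtN_injOn (by norm_num) (bits63' j hj).1 h2
        exact hne h3.symm
      rw [hgj, hj5]
    · exact hhfix p hp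

end Cfsg.Agent.Helper9.Golay
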