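import Mathlib
import Cfsg.Prelude.Def_Sporadic_a
import Cfsg.Agent.Helper9.Golay.CertT

set_option autoImplicit false

/-!
Families of sets of points given by lists of masks, and counting the members of a finite set
through a list.
-/

namespace Cfsg.Agent.Helper9.Golay

open Cfsg
open scoped Pointwise

/-- counting the members of a set with a property through a list in bijection with it. -/
theorem ncard_filter_of_list_inj {α β : Type*} (S : Set α) (L : List β) (f : β → α)
    (hnd : L.Nodup) (hinj : ∀ b ∈ L, ∀ b' ∈ L, f b = f b' → b = b') (hmem : ∀ b ∈ L, f b ∈ S)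
    (hcard : S.ncard = L.length) (hpos : 0 < L.length) (P : α → Prop) (Q : β → Bool)
    (hPQ : ∀ b ∈ L, (Q b = true ↔ P (f b))) :
    {a | a ∈ S ∧ P a}.ncard = (L.filter Q).length := by
  classical
  have hndm : (L.map f).Nodup := List.Nodup.map_on hinj hnd
  have hSfin : S.Finite := Set.finite_of_ncard_pos (by rw [hcard]; exact hpos)
  have hsub : (↑(L.map f).toFinset : Set α) ⊆ S := by
    intro a ha
    rw [Finset.mem_coe, List.mem_toFinset, List.mem_map] at ha
    obtain ⟨b, hb, rfl⟩ := ha
    exact hmem b hb
  have hS : (↑(L.map f).toFinset : Set α) = S := by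
    apply Set.eq_of_subset_of_ncard_le hsub _ hSfin
    rw [Set.ncard_coe_finset, List.toFinset_card_of_nodup hndm, List.length_map, hcard]
  have hndq : ((L.filter Q).map f).Nodup :=
    List.Nodup.map_on
      (fun b hb b' hb' h => hinj b (List.mem_filter.mp hb).1 b' (List.mem_filter.mp hb').1 h)
      (hnd.filter _)
  have hset : {a | a ∈ S ∧ P a} = (↑((L.filter Q).map f).toFinset : Set α) := by
    ext a
    rw [Finset.mem_coe, List.mem_toFinset, List.mem_map]
    simp only [Set.mem_ofPred_eq]
    constructor
    · rintro ⟨haS, haP⟩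
      rw [← hS, Finset.mem_coe, List.mem_toFinset, List.mem_map] at haS
      obtain ⟨b, hb, rfl⟩ := haS
      exact ⟨b, List.mem_filter.mpr ⟨hb, (hPQ b hb).mpr haP⟩, rfl⟩
    · rintro ⟨b, hb, rfl⟩
      obtain ⟨hbL, hbQ⟩ := List.mem_filter.mp hb
      exact ⟨hmem b hbL, (hPQ b hbL).mp hbQ⟩
  rw [hset, Set.ncard_coe_finset, List.toFinset_card_of_nodup hndq, List.length_map]

/-- a strictly increasing list of numbers. -/
def sortedB : List ℕ → Bool
  | [] => true
  | [_] => true
  | a :: b :: rest => decide (a < b) && sortedB (b :: rest)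

theorem pairwise_of_sortedB : ∀ l : List ℕ, sortedB l = true → l.Pairwise (· < ·)
  | [], _ => List.Pairwise.nil
  | [a], _ => List.pairwise_singleton _ _
  | a :: b :: rest, h => by
    simp only [sortedB, Bool.and_eq_true, decide_eq_true_eq] at h
    have ih := pairwise_of_sortedB (b :: rest) h.2
    rw [List.pairwise_cons] at ih ⊢
    refine ⟨?_, List.pairwise_cons.mpr ⟨ih.1, ih.2⟩⟩
    intro c hc
    rcases List.mem_cons.mp hc with rfl | hc
    · exact h.1
    · exact lt_trans h.1 (ih.1 c hc)

theorem nodup_of_sortedB {l : List ℕ} (h : sortedB l = true) : l.Nodup :=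
  (pairwise_of_sortedB l h).imp (fun hab => ne_of_lt hab)

/-- a list is without repetition when some function of its entries is strictly increasing. -/
theorem nodup_of_sorted_key {β : Type*} (L : List β) (key : β → ℕ)
    (h : sortedB (L.map key) = true) : L.Nodup :=
  List.Nodup.of_map key (nodup_of_sortedB h)

theorem suppM_inj {a b : ℕ} (ha : a < 2 ^ 24) (hb : b < 2 ^ 24) (h : suppM a = suppM b) : a = b :=
  support₂_decW_injOn ha hb h

theorem suppM_or (a b : ℕ) : suppM a ∪ suppM b = suppM (a ||| b) := by
  ext p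
  rw [Finset.mem_union, mem_suppM, mem_suppM, mem_suppM, Nat.testBit_or, Bool.or_eq_true]

/-- the family of sets of points of a list of masks. -/
def famOf (e : List ℕ) : Finset (Finset GolayPt) := (e.map suppM).toFinset

theorem mem_famOf {e : List ℕ} {b : Finset GolayPt} : b ∈ famOf e ↔ ∃ m ∈ e, suppM m = b := by
  unfold famOf
  rw [List.mem_toFinset, List.mem_map]

/-- a strictly increasing list of masks of 24 bits. -/
def okMasks (e : List ℕ) : Bool := sortedB e && e.all (fun m => decide (m < 2 ^ 24))

theorem okMasks_lt {e : List ℕ} (h : okMasks e = true) : ∀ m ∈ e, m < 2 ^ 24 := by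
  unfold okMasks at h
  simp only [Bool.and_eq_true, List.all_eq_true, decide_eq_true_eq] at h
  exact h.2

theorem okMasks_sorted {e : List ℕ} (h : okMasks e = true) : sortedB e = true := by
  unfold okMasks at h
  simp only [Bool.and_eq_true] at h
  exact h.1

theorem mem_of_suppM_mem_famOf {e : List ℕ} (he : okMasks e = true) {m : ℕ} (hm : m < 2 ^ 24)
    (h : suppM m ∈ famOf e) : m ∈ e := by
  obtain ⟨m', hm', h'⟩ := mem_famOf.mp h
  have := suppM_inj (okMasks_lt he m' hm') hm h'
  rw [← this]
  exact hm'

theorem famOf_inj {e e' : List ℕ} (he : okMasks e = true) (he' : okMasks e' = true)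
    (h : famOf e = famOf e') : e = e' := by
  have h1 := pairwise_of_sortedB e (okMasks_sorted he)
  have h2 := pairwise_of_sortedB e' (okMasks_sorted he')
  have hmem : ∀ m, m ∈ e ↔ m ∈ e' := by
    intro m
    constructor
    · intro hm
      apply mem_of_suppM_mem_famOf he' (okMasks_lt he m hm)
      rw [← h]
      exact mem_famOf.mpr ⟨m, hm, rfl⟩
    · intro hm
      apply mem_of_suppM_mem_famOf he (okMasks_lt he' m hm)
      rw [h]
      exact mem_famOf.mpr ⟨m, hm, rfl⟩
  have hperm : e.Perm e' :=
    List.perm_of_nodup_nodup_toFinset_eq (nodup_of_sortedB (okMasks_sorted he))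
      (nodup_of_sortedB (okMasks_sorted he')) (List.toFinset.ext hmem)
  exact List.Perm.eq_of_pairwise (fun a b _ _ hab hba => absurd hab (lt_asymm hba)) h1 h2 hperm

theorem card_famOf {e : List ℕ} (he : okMasks e = true) : (famOf e).card = e.length := by
  unfold famOf
  rw [List.toFinset_card_of_nodup, List.length_map]
  apply List.Nodup.map_on _ (nodup_of_sortedB (okMasks_sorted he))
  intro a ha b hb hab
  exact suppM_inj (okMasks_lt he a ha) (okMasks_lt he b hb) hab

/-- the table maps the list of masks to itself. -/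
def invB (t : List ℕ) (e : List ℕ) : Bool := e.all (fun m => e.contains (pullT t m))

theorem inv_smul_eq_of_smul_eq {α : Type*} [MulAction (Equiv.Perm GolayPt) α]
    {σ : Equiv.Perm GolayPt} {a : α} (h : σ • a = a) : σ⁻¹ • a = a := by
  rw [inv_smul_eq_iff, h]

theorem invB_iff {σ : Equiv.Perm GolayPt} {t : List ℕ} (ht : IsTbl σ t) {e : List ℕ}
    (he : okMasks e = true) : invB t e = true ↔ σ • famOf e = famOf e := by
  unfold invB
  simp only [List.all_eq_true, List.contains_iff_mem]
  constructor
  · intro h
    have hsub : σ⁻¹ • famOf e ⊆ famOf e := by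
      intro b hb
      obtain ⟨b0, hb0, rfl⟩ := Finset.mem_smul_finset.mp hb
      obtain ⟨m, hm, rfl⟩ := mem_famOf.mp hb0
      rw [← suppM_pullT ht]
      exact mem_famOf.mpr ⟨_, h m hm, rfl⟩
    have heq : σ⁻¹ • famOf e = famOf e :=
      Finset.eq_of_subset_of_card_le hsub (by rw [Finset.card_smul_finset])
    have := inv_smul_eq_of_smul_eq heq
    rwa [inv_inv] at this
  · intro h m hm
    have h' := inv_smul_eq_of_smul_eq h
    apply mem_of_suppM_mem_famOf he (pullT_lt t m)
    rw [suppM_pullT ht, ← h']
    exact Finset.smul_mem_smul_finset (mem_famOf.mpr ⟨m, hm, rfl⟩)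

theorem smul_suppM_eq_iff {σ : Equiv.Perm GolayPt} {t : List ℕ} (ht : IsTbl σ t) {m : ℕ}
    (hm : m < 2 ^ 24) : σ • suppM m = suppM m ↔ pullT t m = m := by
  constructor
  · intro h
    apply suppM_inj (pullT_lt t m) hm
    rw [suppM_pullT ht]
    exact inv_smul_eq_of_smul_eq h
  · intro h
    have : σ⁻¹ • suppM m = suppM m := by rw [← suppM_pullT ht, h]
    have h' := inv_smul_eq_of_smul_eq this
    rwa [inv_inv] at h'

/-- the number of members of an invariant set fixed by an element is a class function. -/
theorem ncard_fixed_conj {G α : Type*} [Group G] [MulAction G α] (S : Set α) (k g : G)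
    (hk : ∀ a ∈ S, k • a ∈ S) (hk' : ∀ a ∈ S, k⁻¹ • a ∈ S) :
    {a | a ∈ S ∧ (k * g * k⁻¹) • a = a}.ncard = {a | a ∈ S ∧ g • a = a}.ncard := by
  have himg : {a | a ∈ S ∧ (k * g * k⁻¹) • a = a} = (fun a => k • a) '' {a | a ∈ S ∧ g • a = a} := by
    ext a
    simp only [Set.mem_ofPred_eq, Set.mem_image]
    constructor
    · rintro ⟨haS, ha⟩
      refine ⟨k⁻¹ • a, ⟨hk' a haS, ?_⟩, smul_inv_smul k a⟩
      rw [mul_smul, mul_smul] at ha
      exact (smul_eq_iff_eq_inv_smul k).mp ha
    · rintro ⟨b, ⟨hbS, hb⟩, rfl⟩
      refine ⟨hk b hbS, ?_⟩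
      rw [mul_smul, mul_smul, inv_smul_smul, hb]
  rw [himg, Set.ncard_image_of_injective _ (MulAction.injective k)]

/-- an element of order three and its square fix the same things. -/
theorem fixed_sq_iff {G α : Type*} [Group G] [MulAction G α] {r : G} (h3 : r * r * r = 1) (a : α) :
    (r * r) • a = a ↔ r • a = a := by
  constructor
  · intro h
    have : r • a = (r * r) • (r * r) • a := by
      rw [← mul_smul]
      have : r * r * (r * r) = r * (r * r * r) := by group
      rw [this, h3, mul_one]
    rw [this, h, h]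
  · intro h
    rw [mul_smul, h, h]

end Cfsg.Agent.Helper9.Golay
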