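import Mathlib
import Cfsg.Prelude.Def_Sporadic_a
import Cfsg.Agent.Helper9.Golay.SiftT
import Cfsg.Agent.Helper9.Golay.CertT

set_option autoImplicit false

/-!
Enumeration of the elements of a subgroup from a stabilizer chain in which every level has its
own invariant set of points.
-/

namespace Cfsg.Agent.Helper9.Golay

open Cfsg
open scoped Pointwise

/-- the coset representatives of each level reach all the points of the set of the level that
are outside the base. -/
def coverOKD : List ℕ → List (List ℕ × ℕ × List (ℕ × ℕ)) → Bool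
  | _, [] => true
  | base, lv :: rest =>
    decide (lv.2.1 ∈ lv.1) && decide (lv.2.1 ∉ base) &&
      lv.1.all (fun i => decide (i ∈ base) || decide (i ∈ lv.2.2.map Prod.fst)) &&
      coverOKD (lv.2.1 :: base) rest

theorem exists_tbl_of_siftD {H : Subgroup (Equiv.Perm GolayPt)} {st : List (List ℕ)}
    (hst : GoodT H st) (term : List (List ℕ)) :
    ∀ (levels : List (List ℕ × ℕ × List (ℕ × ℕ))) (base : List ℕ), (∀ c ∈ base, c < 24) →
      (∀ lv ∈ levels, (∀ i ∈ lv.1, i < 24) ∧
        ∀ g ∈ H, ∀ i ∈ lv.1, ∃ j ∈ lv.1, g (idxPtN i) = idxPtN j) →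
      chainOK st base (levels.map Prod.snd) = true → coverOKD base levels = true →
      (∀ g ∈ H ⊓ fixL ((finalBase (levels.map Prod.snd) base).map idxPtN),
        ∃ t ∈ term, IsTbl g t) →
      ∀ g ∈ H ⊓ fixL (base.map idxPtN),
        ∃ t ∈ allProdsT st term (levels.map Prod.snd), IsTbl g t := by
  intro levels
  induction levels with
  | nil =>
    intro base _ _ _ _ hterm g hg
    exact hterm g hg
  | cons lv rest ih =>
    intro base hbase hdom hchain hcover hterm g hg
    rw [List.map_cons] at hchain hterm ⊢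
    simp only [chainOK, Bool.and_eq_true, decide_eq_true_eq] at hchain
    obtain ⟨⟨hlv, -⟩, hrest⟩ := hchain
    simp only [coverOKD, Bool.and_eq_true, decide_eq_true_eq, List.all_eq_true, Bool.or_eq_true]
      at hcover
    obtain ⟨⟨⟨hbD, hbb⟩, hcov⟩, hcrest⟩ := hcover
    obtain ⟨hD, hHD⟩ := hdom lv (List.mem_cons_self)
    obtain ⟨hgH, hgfix⟩ := Subgroup.mem_inf.mp hg
    rw [mem_fixL] at hgfix
    have hb24 : lv.2.1 < 24 := hD _ hbD
    obtain ⟨j, hjD, hgj⟩ := hHD g hgH lv.2.1 hbD
    have hjb : j ∉ base := by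
      intro hjb
      have h1 : g (idxPtN j) = idxPtN j := hgfix _ (List.mem_map.mpr ⟨j, hjb, rfl⟩)
      have h2 : idxPtN lv.2.1 = idxPtN j := g.injective (by rw [hgj, h1])
      have h3 : lv.2.1 = j := idxPtN_injOn hb24 (hD _ hjD) h2
      exact hbb (by rw [h3]; exact hjb)
    have hjc : j ∈ lv.2.2.map Prod.fst := by
      rcases hcov j hjD with h | h
      · exact absurd h hjb
      · exact h
    rw [List.mem_map] at hjc
    obtain ⟨e, he, hej⟩ := hjc
    obtain ⟨-, σ, hσ, hσb, hσt⟩ := levelOK_sound' hst hlv e he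
    obtain ⟨hσH, hσfix⟩ := Subgroup.mem_inf.mp hσ
    rw [mem_fixL] at hσfix
    have hg' : σ⁻¹ * g ∈ H ⊓ fixL ((lv.2.1 :: base).map idxPtN) := by
      refine Subgroup.mem_inf.mpr ⟨H.mul_mem (H.inv_mem hσH) hgH, ?_⟩
      rw [mem_fixL]
      intro p hp
      rw [List.map_cons, List.mem_cons] at hp
      rw [Equiv.Perm.mul_apply]
      rcases hp with rfl | hp
      · rw [hgj, ← hej, ← hσb]
        simp
      · rw [hgfix p hp]
        nth_rewrite 1 [← hσfix p hp]
        simp
    obtain ⟨t', ht', hgt'⟩ := ih (lv.2.1 :: base)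
      (by
        intro c hc
        rcases List.mem_cons.mp hc with rfl | hc
        · exact hb24
        · exact hbase c hc)
      (fun lv' hlv' => hdom lv' (List.mem_cons_of_mem _ hlv'))
      hrest hcrest hterm (σ⁻¹ * g) hg'
    refine ⟨mulT (st.getD e.2 idT) t', ?_, ?_⟩
    · unfold allProdsT
      rw [List.mem_flatMap]
      exact ⟨e, he, List.mem_map.mpr ⟨t', ht', rfl⟩⟩
    · have : g = σ * (σ⁻¹ * g) := by group
      rw [this]
      exact hσt.mul hgt'

/-- an element stabilizing the set with mask `m` permutes the points of that set. -/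
theorem maps_mask_bits {g : Equiv.Perm GolayPt} {m : ℕ} (hg : g • suppM m = suppM m)
    (D : List ℕ) (hD : ∀ j < 24, m.testBit j = true → j ∈ D)
    (hD' : ∀ j ∈ D, j < 24 ∧ m.testBit j = true) :
    ∀ i ∈ D, ∃ j ∈ D, g (idxPtN i) = idxPtN j := by
  intro i hi
  obtain ⟨hi24, hbit⟩ := hD' i hi
  have h1 : idxPtN i ∈ suppM m := by
    rw [mem_suppM, ptIdx_idxPtN hi24]
    exact hbit
  have h2 : g (idxPtN i) ∈ suppM m := by
    rw [← hg]
    exact Finset.smul_mem_smul_finset h1
  rw [mem_suppM] at h2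
  exact ⟨ptIdx (g (idxPtN i)), hD _ (ptIdx_lt _) h2, (idxPtN_ptIdx _).symm⟩

end Cfsg.Agent.Helper9.Golay
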