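import Mathlib
import Cfsg.Prelude.Def_Sporadic_a
import Cfsg.Agent.Helper9.Golay.SiftD
import Cfsg.Agent.Helper9.Golay.F6Enum
import Cfsg.Agent.Helper9.Golay.Fam

set_option autoImplicit false

/-!
The 192 elements of the group of the code that map each of the six tetrads of a sextet to
itself.
-/

namespace Cfsg.Agent.Helper9.Golay

open Cfsg
open scoped Pointwise

def skTet : List ℕ := [15, 5264, 622848, 3416064, 4196928, 8536096]

def skProg1 : List (ℕ × ℕ) := [(2, 1), (0, 0), (2, 4), (0, 5), (1, 6), (0, 7), (2, 8), (2, 9), (0, 10), (0, 11), (0, 12), (0, 1), (2, 14), (2, 15), (0, 16), (0, 17), (1, 18), (2, 19), (2, 20), (21, 21), (22, 22), (22, 23), (23, 23), (25, 25), (24, 26), (27, 13), (0, 14), (0, 29), (2, 30), (2, 31), (2, 32), (0, 33), (1, 34), (2, 3), (0, 36), (2, 37), (2, 38), (0, 39), (40, 40), (41, 41), (42, 42), (43, 43), (42, 44), (45, 35), (2, 0), (2, 47), (0, 48), (0, 49), (0, 2), (0, 51), (1,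 0), (0, 53), (0, 54), (0, 55), (2, 56), (0, 57), (0, 58), (2, 59), (2, 54), (2, 61), (0, 62), (0, 63), (1, 64), (65, 65), (66, 66), (66, 67), (68, 60), (1, 14), (0, 70), (2, 71), (2, 72), (0, 73), (0, 74), (2, 75), (0, 76), (2, 49), (0, 78), (1, 79), (2, 80), (2, 81), (82, 82), (83, 83), (84, 84), (82, 85), (86, 77), (2, 29), (2, 88), (2, 89), (0, 90), (2, 91), (1, 4), (2, 93), (0, 94), (2, 95), (0, 96), (97, 97), (98, 98), (97, 99), (100, 92), (0, 52), (0, 102), (2, 103), (2, 104), (0, 105), (1, 106), (0, 107), (1, 50), (2, 109), (0, 110), (1, 111), (2, 112), (113, 113), (114, 114), (113, 115), (115, 115), (116, 117), (118, 108), (87, 28), (119, 120), (46, 121), (87, 122), (119, 123), (124, 124), (125, 125), (125, 126), (101, 87), (119, 128), (46, 129), (69, 130), (69, 131), (132, 132), (133, 133), (87, 128), (101, 135), (28, 136), (87, 137), (138, 138), (139, 139), (138, 140), (87, 119), (87, 142), (143, 143),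 (144, 144), (143, 145)]

def skV : List ℕ := [127, 134, 141, 146]

def skProg2 : List (ℕ × ℕ) := [(1, 0), (2, 0), (3, 0), (0, 1), (2, 3), (0, 4), (3, 4), (3, 5), (1, 6), (3, 7), (1, 8), (2, 9), (2, 10), (0, 11), (3, 15), (3, 16), (2, 17), (2, 18), (1, 19), (1, 20)]

def skLevels : List (List ℕ × ℕ × List (ℕ × ℕ)) := [([0, 1, 2, 3], 0, [(0, 100000), (1, 4), (2, 0), (3, 2)]),
  ([0, 1, 2, 3], 1, [(1, 100000), (2, 6), (3, 1)]),
  ([4, 7, 10, 12], 4, [(4, 100000), (7, 14), (10, 13), (12, 12)]),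
  ([5, 14, 17, 23], 5, [(5, 100000), (14, 23), (17, 22), (23, 21)])]

def skTabs2 : List (List ℕ) := [[2, 3, 0, 1, 7, 5, 9, 4, 19, 6, 12, 22, 10, 13, 14, 16, 15, 17, 18, 8, 20, 21, 11, 23], [0, 3, 1, 2, 4, 17, 6, 10, 16, 22, 12, 9, 7, 20, 5, 15, 19, 14, 18, 8, 21, 13, 11, 23], [3, 2, 1, 0, 10, 23, 22, 12, 15, 11, 4, 9, 7, 20, 17, 8, 19, 14, 21, 16, 13, 18, 6, 5], [3, 1, 0, 2, 7, 23, 22, 10, 19, 9, 4, 6, 12, 21, 5, 15, 8, 17, 18, 16, 13, 20, 11, 14], [1, 2, 0, 3, 10, 17, 22, 4, 8, 6, 7, 11, 12, 20, 5, 19, 15, 14, 18, 16, 21, 13, 9, 23], [1, 0, 3, 2, 12, 23, 11, 10, 16, 22, 7, 6, 4, 20, 17, 19, 8, 14, 21, 15, 13, 18, 9, 5], [0, 2, 3, 1, 10, 23, 9, 7, 16, 22, 12, 11, 4, 21, 5, 8, 15, 17, 18, 19, 13, 20, 6, 14], [2, 1, 3, 0, 7, 17, 9, 12, 15, 11, 10, 6, 4, 20, 5, 16, 8, 14, 18, 19, 21, 13, 22, 23], [0, 2, 3, 1, 12, 5, 6, 4, 16, 11, 10, 22, 7, 18, 23, 8, 15, 14, 21, 19, 20, 13, 9, 17], [3, 0, 2, 1, 12, 17, 11, 7, 19,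 9, 4, 22, 10, 20, 5, 8, 16, 14, 18, 15, 21, 13, 6, 23], [1, 0, 3, 2, 4, 17, 11, 7, 19, 22, 10, 6, 12, 13, 23, 16, 15, 5, 18, 8, 20, 21, 9, 14], [1, 3, 2, 0, 12, 14, 6, 4, 8, 11, 10, 22, 7, 13, 17, 16, 19, 5, 20, 15, 21, 18, 9, 23], [0, 1, 2, 3, 12, 23, 22, 10, 19, 11, 7, 9, 4, 13, 17, 16, 15, 14, 18, 8, 20, 21, 6, 5], [0, 1, 2, 3, 10, 17, 9, 12, 15, 6, 4, 22, 7, 13, 23, 8, 19, 5, 18, 16, 20, 21, 11, 14], [0, 1, 2, 3, 7, 17, 6, 4, 19, 9, 12, 11, 10, 18, 23, 16, 15, 5, 13, 8, 21, 20, 22, 14], [0, 3, 1, 2, 7, 14, 9, 12, 16, 11, 10, 6, 4, 13, 23, 15, 19, 17, 21, 8, 18, 20, 22, 5], [2, 3, 0, 1, 10, 14, 9, 12, 16, 6, 4, 22, 7, 20, 5, 19, 8, 23, 21, 15, 13, 18, 11, 17], [3, 1, 0, 2, 10, 14, 9, 7, 19, 22, 12, 11, 4, 13, 17, 15, 8, 5, 20, 16, 21, 18, 6, 23], [3, 2, 1, 0, 10, 5, 9, 12, 8, 6, 4, 22, 7, 21, 14, 15, 16, 17, 20, 19, 18, 13, 11, 23], [0, 2, 3, 1, 4, 5, 9, 12, 8, 22, 7, 11, 10, 13, 23, 16, 19, 14, 20, 15, 21,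 18, 6, 17], [0, 2, 3, 1, 4, 17, 11, 12, 16, 6, 7, 9, 10, 20, 14, 8, 15, 23, 13, 19, 18, 21, 22, 5], [0, 1, 2, 3, 4, 23, 11, 7, 15, 22, 10, 6, 12, 18, 17, 8, 19, 14, 13, 16, 21, 20, 9, 5], [0, 1, 2, 3, 4, 17, 22, 7, 16, 11, 10, 9, 12, 20, 23, 19, 8, 5, 21, 15, 13, 18, 6, 14], [0, 1, 2, 3, 4, 14, 9, 7, 19, 6, 10, 22, 12, 21, 5, 16, 15, 23, 20, 8, 18, 13, 11, 17]]

def skInit : List (List ℕ) := skV.map (fun j => (certTabs1 skProg1).getD j idT)

theorem sk_gens : skV.all (fun j => genOK [] skTet ((certTabs1 skProg1).getD j idT)) = true := by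
  decide +kernel

theorem skTabs2_eq : runSLP skProg2 skInit = skTabs2 := by decide +kernel

theorem goodT_sk : GoodT (KOf [] skTet) skTabs2 := by
  have hst1 : GoodT M24 (certTabs1 skProg1) := goodT_std skProg1 M24 stepPerm_mem
  have htabs := tabs_of_genOK hst1 skV sk_gens
  rw [← skTabs2_eq]
  exact goodT_runSLP _ skProg2 _ htabs

theorem sk_chain : chainOK skTabs2 [] (skLevels.map Prod.snd) = true := by decide +kernel

theorem sk_cover : coverOKD [] skLevels = true := by decide +kernel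

theorem sk_finalBase : finalBase (skLevels.map Prod.snd) [] = [5, 4, 1, 0] := by decide +kernel

theorem sk_doms : ∀ lv ∈ skLevels, ∃ m ∈ skTet, (∀ j < 24, m.testBit j = true → j ∈ lv.1) ∧
    ∀ j ∈ lv.1, j < 24 ∧ m.testBit j = true := by decide +kernel

theorem suppM_two_pow {i : ℕ} (hi : i < 24) : suppM (2 ^ i) = {idxPtN i} := by
  ext p
  rw [mem_suppM, Nat.testBit_two_pow, Finset.mem_singleton, decide_eq_true_eq]
  constructor
  · intro h
    rw [h, idxPtN_ptIdx]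
  · intro h
    rw [h, ptIdx_idxPtN hi]

theorem smul_suppM_two_pow {g : Equiv.Perm GolayPt} {i : ℕ} (hi : i < 24)
    (h : g (idxPtN i) = idxPtN i) : g • suppM (2 ^ i) = suppM (2 ^ i) := by
  rw [suppM_two_pow hi, Finset.smul_finset_singleton, Equiv.Perm.smul_def, h]

theorem smul_suppM_or {g : Equiv.Perm GolayPt} {a b : ℕ} (ha : g • suppM a = suppM a)
    (hb : g • suppM b = suppM b) : g • suppM (a ||| b) = suppM (a ||| b) := by
  rw [← suppM_or, Finset.smul_finset_union, ha, hb]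

/-- a table of an element of `KOf base masks` passes the check. -/
theorem genOK_of_mem {σ : Equiv.Perm GolayPt} {t : List ℕ} (ht : IsTbl σ t)
    {base masks : List ℕ} (hb : ∀ c ∈ base, c < 24) (h : σ ∈ KOf base masks) :
    genOK base masks t = true := by
  obtain ⟨-, hfix, hmask⟩ := mem_KOf.mp h
  unfold genOK
  simp only [Bool.and_eq_true, List.all_eq_true, decide_eq_true_eq]
  refine ⟨⟨hb, ?_⟩, ?_⟩
  · unfold fixesAll
    simp only [List.all_eq_true, beq_iff_eq]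
    intro c hc
    have h1 := ht.2 (idxPtN c)
    rw [ptIdx_idxPtN (hb c hc), hfix c hc, ptIdx_idxPtN (hb c hc)] at h1
    exact h1
  · intro m hm
    unfold preservesMask
    simp only [List.all_eq_true, List.mem_range, beq_iff_eq]
    intro i hi
    have h1 := ht.2 (idxPtN i)
    rw [ptIdx_idxPtN hi] at h1
    rw [h1]
    have h2 : idxPtN i ∈ suppM m ↔ σ (idxPtN i) ∈ suppM m := by
      constructor
      · intro hp
        rw [← hmask m hm]
        exact Finset.smul_mem_smul_finset hp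
      · intro hp
        rw [← hmask m hm] at hp
        obtain ⟨q, hq, hqp⟩ := Finset.mem_smul_finset.mp hp
        have : q = idxPtN i := σ.injective hqp
        rw [← this]
        exact hq
    rw [mem_suppM, mem_suppM, ptIdx_idxPtN hi] at h2
    exact Bool.eq_iff_iff.mpr h2

def skTerm : List (List ℕ) := allF6.filter (fun t => genOK [0, 1, 4, 5] skTet t)

theorem skTerm_eq : skTerm = [idT] := by decide +kernel

/-- the tables of the 192 elements. -/
def skAll : List (List ℕ) := allProdsT skTabs2 [idT] (skLevels.map Prod.snd)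

theorem skAll_length : skAll.length = 192 := by decide +kernel

theorem sk_enum (g : Equiv.Perm GolayPt) (hg : g ∈ KOf [] skTet) : ∃ t ∈ skAll, IsTbl g t := by
  apply exists_tbl_of_siftD goodT_sk [idT] skLevels [] (by simp) ?_ sk_chain sk_cover ?_ g
  · refine Subgroup.mem_inf.mpr ⟨hg, ?_⟩
    rw [mem_fixL]
    simp
  · intro lv hlv
    obtain ⟨m, hm, h1, h2⟩ := sk_doms lv hlv
    refine ⟨fun i hi => (h2 i hi).1, ?_⟩
    intro h hh
    exact maps_mask_bits ((mem_KOf.mp hh).2.2 m hm) lv.1 h1 h2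
  · intro h hh
    rw [sk_finalBase] at hh
    obtain ⟨hhH, hhfix⟩ := Subgroup.mem_inf.mp hh
    rw [mem_fixL] at hhfix
    obtain ⟨hhM, -, hhmask⟩ := mem_KOf.mp hhH
    have hfix : ∀ c ∈ [0, 1, 4, 5], h (idxPtN c) = idxPtN c := by
      intro c hc
      apply hhfix
      simp only [List.mem_cons, List.not_mem_nil, or_false] at hc
      simp only [List.map_cons, List.map_nil, List.mem_cons, List.not_mem_nil, or_false]
      rcases hc with rfl | rfl | rfl | rfl <;> simp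
    have h63 : h • suppM 63 = suppM 63 := by
      have e : (63 : ℕ) = 15 ||| (2 ^ 4 ||| 2 ^ 5) := by decide
      rw [e]
      apply smul_suppM_or (hhmask 15 (by decide))
      exact smul_suppM_or (smul_suppM_two_pow (by norm_num) (hfix 4 (by simp)))
        (smul_suppM_two_pow (by norm_num) (hfix 5 (by simp)))
    obtain ⟨t, ht, hht⟩ := f6_enum h hhM h63
    have hK : h ∈ KOf [0, 1, 4, 5] skTet := mem_KOf.mpr ⟨hhM, hfix, hhmask⟩
    have hok := genOK_of_mem hht (by decide) hK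
    have : t ∈ skTerm := List.mem_filter.mpr ⟨ht, hok⟩
    rw [skTerm_eq] at this
    exact ⟨t, this, hht⟩

end Cfsg.Agent.Helper9.Golay
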