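import Mathlib
import Cfsg.Prelude.Def_Sporadic_a
import Cfsg.Prelude.Def_SporadicCombinatorics
import Cfsg.Agent.Helper9.Golay.SextK
import Cfsg.Agent.Helper9.Golay.OrbFam
import Cfsg.Agent.Helper9.Golay.M24Trans

set_option autoImplicit false

/-!
The elements of the group of the code fixing all the tetrads of a sextet: there are 192 of them,
and the 64 of them with trivial square are closed under multiplication.
-/

namespace Cfsg.Agent.Helper9.Golay

open Cfsg
open scoped Pointwise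

/-- a set of permutations listed by their tables. -/
theorem ncard_eq_of_tables {A : Set (Equiv.Perm GolayPt)} {L : List (List ℕ)} (hnd : L.Nodup)
    (h1 : ∀ g ∈ A, ∃ t ∈ L, IsTbl g t) (h2 : ∀ t ∈ L, ∃ g ∈ A, IsTbl g t) :
    A.ncard = L.length := by
  classical
  rw [← List.toFinset_card_of_nodup hnd, ← Set.ncard_coe_finset]
  apply Set.ncard_congr (fun (g : Equiv.Perm GolayPt) _ => tblOf g)
  · intro g hg
    obtain ⟨t, ht, hgt⟩ := h1 g hg
    rw [Finset.mem_coe, List.mem_toFinset, ← tbl_eq_tblOf hgt]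
    exact ht
  · intro a b _ _ hab
    exact (isTbl_tblOf a).eq_of_eq (hab ▸ isTbl_tblOf b)
  · intro t ht
    rw [Finset.mem_coe, List.mem_toFinset] at ht
    obtain ⟨g, hg, hgt⟩ := h2 t ht
    exact ⟨g, hg, (tbl_eq_tblOf hgt).symm⟩

/-- the products along a chain are tables of elements of the subgroup. -/
theorem allProdsT_real {H : Subgroup (Equiv.Perm GolayPt)} {st : List (List ℕ)}
    (hst : GoodT H st) {term : List (List ℕ)} (hterm : ∀ t ∈ term, ∃ σ ∈ H, IsTbl σ t) :
    ∀ levels : List (ℕ × List (ℕ × ℕ)), ∀ t ∈ allProdsT st term levels, ∃ σ ∈ H, IsTbl σ t := by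
  intro levels
  induction levels with
  | nil => exact hterm
  | cons lv rest ih =>
    intro t ht
    unfold allProdsT at ht
    rw [List.mem_flatMap] at ht
    obtain ⟨e, _, ht⟩ := ht
    rw [List.mem_map] at ht
    obtain ⟨t', ht', rfl⟩ := ht
    obtain ⟨σ, hσ, hσt⟩ := hst.getD e.2
    obtain ⟨τ, hτ, hτt⟩ := ih t' ht'
    exact ⟨σ * τ, H.mul_mem hσ hτ, hσt.mul hτt⟩

theorem skAll_nodup : skAll.Nodup := by decide +kernel

theorem skAll_real : ∀ t ∈ skAll, ∃ σ ∈ KOf [] skTet, IsTbl σ t :=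
  allProdsT_real goodT_sk
    (by
      intro t ht
      rw [List.mem_singleton] at ht
      rw [ht]
      exact ⟨1, Subgroup.one_mem _, isTbl_one⟩) _

theorem card_sk : Nat.card (KOf [] skTet) = 192 := by
  rw [← skAll_length, ← ncard_eq_of_tables (A := (KOf [] skTet : Set (Equiv.Perm GolayPt)))
    skAll_nodup (fun g hg => sk_enum g hg) skAll_real]
  exact (Nat.card_coe_set_eq _)

/-- the tables of the elements with trivial square. -/
def sk2 : List (List ℕ) := skAll.filter (fun t => mulT t t == idT)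

theorem sk2_length : sk2.length = 64 := by decide +kernel

theorem sk2_closed : ∀ a ∈ sk2, ∀ b ∈ sk2, mulT (mulT a b) (mulT a b) = idT := by decide +kernel

theorem sq_eq_one_iff_tbl {g : Equiv.Perm GolayPt} {t : List ℕ} (ht : IsTbl g t) :
    g * g = 1 ↔ mulT t t = idT := by
  constructor
  · intro h
    have h1 := ht.mul ht
    rw [h] at h1
    rw [tbl_eq_tblOf h1, tbl_eq_tblOf isTbl_one]
  · intro h
    have h1 := ht.mul ht
    rw [h] at h1
    exact h1.eq_of_eq isTbl_one

theorem sk2_mem {g : Equiv.Perm GolayPt} (hg : g ∈ KOf [] skTet) (h : g * g = 1) :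
    ∃ t ∈ sk2, IsTbl g t := by
  obtain ⟨t, ht, hgt⟩ := sk_enum g hg
  refine ⟨t, List.mem_filter.mpr ⟨ht, ?_⟩, hgt⟩
  rw [beq_iff_eq]
  exact (sq_eq_one_iff_tbl hgt).mp h

theorem sk_sq_mul {x y : Equiv.Perm GolayPt} (hx : x ∈ KOf [] skTet) (hy : y ∈ KOf [] skTet)
    (hx2 : x * x = 1) (hy2 : y * y = 1) : (x * y) * (x * y) = 1 := by
  obtain ⟨a, ha, hxa⟩ := sk2_mem hx hx2
  obtain ⟨b, hb, hyb⟩ := sk2_mem hy hy2
  exact (sq_eq_one_iff_tbl (hxa.mul hyb)).mpr (sk2_closed a ha b hb)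

theorem ncard_sk2 : {x | x ∈ KOf [] skTet ∧ x * x = 1}.ncard = 64 := by
  rw [← sk2_length]
  apply ncard_eq_of_tables (skAll_nodup.filter _)
  · intro g hg
    exact sk2_mem hg.1 hg.2
  · intro t ht
    obtain ⟨ht1, ht2⟩ := List.mem_filter.mp ht
    rw [beq_iff_eq] at ht2
    obtain ⟨g, hg, hgt⟩ := skAll_real t ht1
    exact ⟨g, ⟨hg, (sq_eq_one_iff_tbl hgt).mpr ht2⟩, hgt⟩

/-- the elements of the group of the code fixing every member of a family. -/
def kerOf (S : Finset (Finset GolayPt)) : Subgroup (Equiv.Perm GolayPt) where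
  carrier := {g | g ∈ M24 ∧ ∀ t ∈ S, g • t = t}
  mul_mem' := by
    rintro a b ⟨ha1, ha2⟩ ⟨hb1, hb2⟩
    refine ⟨M24.mul_mem ha1 hb1, ?_⟩
    intro t ht
    rw [mul_smul, hb2 t ht, ha2 t ht]
  one_mem' := ⟨M24.one_mem, fun _ _ => one_smul _ _⟩
  inv_mem' := by
    rintro a ⟨ha1, ha2⟩
    refine ⟨M24.inv_mem ha1, ?_⟩
    intro t ht
    nth_rewrite 1 [← ha2 t ht]
    rw [inv_smul_smul]

theorem mem_kerOf {S : Finset (Finset GolayPt)} {g : Equiv.Perm GolayPt} :
    g ∈ kerOf S ↔ g ∈ M24 ∧ ∀ t ∈ S, g • t = t := Iff.rfl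

theorem kerOf_famOf (e : List ℕ) : kerOf (famOf e) = KOf [] e := by
  ext g
  rw [mem_kerOf, mem_KOf]
  constructor
  · rintro ⟨h1, h2⟩
    refine ⟨h1, by simp, ?_⟩
    intro m hm
    exact h2 _ (mem_famOf.mpr ⟨m, hm, rfl⟩)
  · rintro ⟨h1, -, h2⟩
    refine ⟨h1, ?_⟩
    intro t ht
    obtain ⟨m, hm, rfl⟩ := mem_famOf.mp ht
    exact h2 m hm

/-- the facts on the elements fixing all the members of a family. -/
def KerFacts (S : Finset (Finset GolayPt)) : Prop :=
  Nat.card (kerOf S) = 192 ∧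
    (∀ x ∈ kerOf S, ∀ y ∈ kerOf S, x * x = 1 → y * y = 1 → (x * y) * (x * y) = 1) ∧
    {x | x ∈ kerOf S ∧ x * x = 1}.ncard = 64

theorem kerFacts_sk : KerFacts (famOf skTet) := by
  unfold KerFacts
  rw [kerOf_famOf]
  exact ⟨card_sk, fun x hx y hy => sk_sq_mul hx hy, ncard_sk2⟩

theorem mem_kerOf_smul {S : Finset (Finset GolayPt)} {h : Equiv.Perm GolayPt} (hh : h ∈ M24)
    {g : Equiv.Perm GolayPt} : g ∈ kerOf (h • S) ↔ h⁻¹ * g * h ∈ kerOf S := by
  rw [mem_kerOf, mem_kerOf]
  constructor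
  · rintro ⟨h1, h2⟩
    refine ⟨M24.mul_mem (M24.mul_mem (M24.inv_mem hh) h1) hh, ?_⟩
    intro t ht
    rw [mul_smul, mul_smul, h2 _ (Finset.smul_mem_smul_finset ht), inv_smul_smul]
  · rintro ⟨h1, h2⟩
    constructor
    · have : g = h * (h⁻¹ * g * h) * h⁻¹ := by group
      rw [this]
      exact M24.mul_mem (M24.mul_mem hh h1) (M24.inv_mem hh)
    · intro t ht
      obtain ⟨t', ht', rfl⟩ := Finset.mem_smul_finset.mp ht
      have := h2 t' ht'
      rw [mul_smul, mul_smul] at this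
      have h3 := congrArg (fun s => h • s) this
      simp only [smul_inv_smul] at h3
      exact h3

theorem kerFacts_smul {S : Finset (Finset GolayPt)} {h : Equiv.Perm GolayPt} (hh : h ∈ M24)
    (hS : KerFacts S) : KerFacts (h • S) := by
  obtain ⟨h1, h2, h3⟩ := hS
  have hconj : ∀ x : Equiv.Perm GolayPt, (h⁻¹ * x * h) * (h⁻¹ * x * h) = 1 ↔ x * x = 1 := by
    intro x
    constructor
    · intro hx
      have : x * x = h * ((h⁻¹ * x * h) * (h⁻¹ * x * h)) * h⁻¹ := by group
      rw [this, hx]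
      group
    · intro hx
      have : (h⁻¹ * x * h) * (h⁻¹ * x * h) = h⁻¹ * (x * x) * h := by group
      rw [this, hx]
      group
  refine ⟨?_, ?_, ?_⟩
  · rw [← h1]
    apply Nat.card_congr
    exact
      { toFun := fun g => ⟨h⁻¹ * g.1 * h, (mem_kerOf_smul hh).mp g.2⟩
        invFun := fun g => ⟨h * g.1 * h⁻¹, (mem_kerOf_smul hh).mpr (by
          have : h⁻¹ * (h * g.1 * h⁻¹) * h = g.1 := by group
          rw [this]
          exact g.2)⟩
        left_inv := by
          intro g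
          apply Subtype.ext
          change h * (h⁻¹ * g.1 * h) * h⁻¹ = g.1
          group
        right_inv := by
          intro g
          apply Subtype.ext
          change h⁻¹ * (h * g.1 * h⁻¹) * h = g.1
          group }
  · intro x hx y hy hx2 hy2
    have := h2 _ ((mem_kerOf_smul hh).mp hx) _ ((mem_kerOf_smul hh).mp hy)
      ((hconj x).mpr hx2) ((hconj y).mpr hy2)
    have e : h⁻¹ * x * h * (h⁻¹ * y * h) = h⁻¹ * (x * y) * h := by group
    rw [e] at this
    exact (hconj (x * y)).mp this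
  · rw [← h3]
    apply Set.ncard_congr (fun g _ => h⁻¹ * g * h)
    · intro g hg
      exact ⟨(mem_kerOf_smul hh).mp hg.1, (hconj g).mpr hg.2⟩
    · intro a b _ _ hab
      have : a = h * (h⁻¹ * a * h) * h⁻¹ := by group
      rw [this, hab]
      group
    · intro g hg
      refine ⟨h * g * h⁻¹, ⟨(mem_kerOf_smul hh).mpr ?_, ?_⟩, by group⟩
      · have : h⁻¹ * (h * g * h⁻¹) * h = g := by group
        rw [this]
        exact hg.1
      · have : h * g * h⁻¹ * (h * g * h⁻¹) = h * (g * g) * h⁻¹ := by group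
        rw [this, hg.2]
        group

theorem skTet_entry : entryAt 144 6 sextBig 776 = skTet := by decide +kernel

theorem skTet_mem : famOf skTet ∈ sextets := by
  rw [← skTet_entry]
  exact sextets_listing.mem _ (entryAt_mem (by norm_num))

theorem kerFacts_sextet {S : Finset (Finset GolayPt)} (hS : S ∈ sextets) : KerFacts S := by
  obtain ⟨h, hh, rfl⟩ := sextets_transitive skTet_mem hS
  exact kerFacts_smul hh kerFacts_sk

end Cfsg.Agent.Helper9.Golay
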