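import Mathlib
import Cfsg.Prelude.Def_Sporadic_a
import Cfsg.Prelude.Def_SporadicCombinatorics
import Cfsg.Agent.Helper9.Golay.SextKThm

set_option autoImplicit false

/-!
The action of the stabilizer of a family of sets of points on the members of the family.
-/

namespace Cfsg.Agent.Helper9.Golay

open Cfsg
open scoped Pointwise

theorem mem_famStab_iff {S : Finset (Finset GolayPt)} (g : ↥M24) :
    g ∈ MulAction.stabilizer ↥M24 S ↔ (g : Equiv.Perm GolayPt) • S = S :=
  MulAction.mem_stabilizer_iff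

theorem famStab_mem_iff {S : Finset (Finset GolayPt)} {g : Equiv.Perm GolayPt}
    (hg : g • S = S) (t : Finset GolayPt) : t ∈ S ↔ g • t ∈ S := by
  constructor
  · intro ht
    rw [← hg]
    exact Finset.smul_mem_smul_finset ht
  · intro ht
    rw [← hg] at ht
    exact (Finset.smul_mem_smul_finset_iff g).mp ht

/-- the action of the stabilizer of a family on its members. -/
def famHom (S : Finset (Finset GolayPt)) :
    ↥(MulAction.stabilizer ↥M24 S) →* Equiv.Perm ↥S where
  toFun g := Equiv.subtypeEquiv (MulAction.toPerm ((g : ↥M24) : Equiv.Perm GolayPt))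
    (fun t => famStab_mem_iff ((mem_famStab_iff g.1).mp g.2) t)
  map_one' := by
    ext t
    simp
  map_mul' := by
    intro a b
    apply Equiv.ext
    intro t
    apply Subtype.ext
    exact mul_smul ((a : ↥M24) : Equiv.Perm GolayPt) ((b : ↥M24) : Equiv.Perm GolayPt)
      (t : Finset GolayPt)

theorem famHom_apply (S : Finset (Finset GolayPt)) (g : ↥(MulAction.stabilizer ↥M24 S))
    (t : ↥S) : ((famHom S g t : ↥S) : Finset GolayPt) =
      ((g : ↥M24) : Equiv.Perm GolayPt) • (t : Finset GolayPt) := rfl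

theorem mem_ker_famHom {S : Finset (Finset GolayPt)} (g : ↥(MulAction.stabilizer ↥M24 S)) :
    g ∈ (famHom S).ker ↔ ∀ t ∈ S, ((g : ↥M24) : Equiv.Perm GolayPt) • t = t := by
  rw [MonoidHom.mem_ker]
  constructor
  · intro h t ht
    have := congrArg (fun e : Equiv.Perm ↥S => ((e ⟨t, ht⟩ : ↥S) : Finset GolayPt)) h
    simpa [famHom_apply] using this
  · intro h
    ext t
    rw [famHom_apply, h t.1 t.2]
    rfl

theorem smul_fam_of_fix {S : Finset (Finset GolayPt)} {g : Equiv.Perm GolayPt}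
    (h : ∀ t ∈ S, g • t = t) : g • S = S := by
  ext u
  rw [Finset.mem_smul_finset]
  constructor
  · rintro ⟨t, ht, rfl⟩
    rw [h t ht]
    exact ht
  · intro hu
    exact ⟨u, hu, h u hu⟩

/-- the elements of the stabilizer fixing every member correspond to `kerOf S`. -/
def fixEquivKerOf (S : Finset (Finset GolayPt)) :
    {g : ↥(MulAction.stabilizer ↥M24 S) //
      ∀ t ∈ S, ((g : ↥M24) : Equiv.Perm GolayPt) • t = t} ≃ ↥(kerOf S) where
  toFun g := ⟨((g.1 : ↥M24) : Equiv.Perm GolayPt), ⟨g.1.1.2, g.2⟩⟩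
  invFun k := ⟨⟨⟨k.1, k.2.1⟩, (mem_famStab_iff _).mpr (smul_fam_of_fix k.2.2)⟩, k.2.2⟩
  left_inv _ := rfl
  right_inv _ := rfl

theorem card_ker_famHom (S : Finset (Finset GolayPt)) :
    Nat.card (famHom S).ker = Nat.card (kerOf S) := by
  rw [← Nat.card_congr (fixEquivKerOf S)]
  exact Nat.card_congr (Equiv.subtypeEquivRight (fun g => mem_ker_famHom g))

theorem orbit_sextet {S : Finset (Finset GolayPt)} (hS : S ∈ sextets) :
    MulAction.orbit ↥M24 S = sextets := by
  ext B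
  constructor
  · rintro ⟨g, rfl⟩
    exact sextets_inv₂ g.1 g.2 S hS
  · intro hB
    obtain ⟨h, hh, rfl⟩ := sextets_transitive hS hB
    exact ⟨⟨h, hh⟩, rfl⟩

theorem card_stab_sextet {S : Finset (Finset GolayPt)} (hS : S ∈ sextets) :
    Nat.card (MulAction.stabilizer ↥M24 S) = 138240 := by
  have h1 := Subgroup.card_mul_index (MulAction.stabilizer ↥M24 S)
  rw [MulAction.index_stabilizer, orbit_sextet hS, sextets_listing.card] at h1
  have h2 : Nat.card ↥M24 = 244823040 := card_M24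
  rw [h2] at h1
  omega

/-- a homomorphism from a finite group whose kernel has the complementary order is onto. -/
theorem surj_of_card {G H : Type*} [Group G] [Group H] [Finite G] [Finite H] (φ : G →* H)
    (h : Nat.card G = Nat.card φ.ker * Nat.card H) (hk : 0 < Nat.card φ.ker) :
    Function.Surjective φ := by
  have h1 := Subgroup.card_eq_card_quotient_mul_card_subgroup φ.ker
  rw [Nat.card_congr (QuotientGroup.quotientKerEquivRange φ).toEquiv] at h1
  have h2 : Nat.card φ.range = Nat.card H := by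
    rw [h1, mul_comm] at h
    exact Nat.eq_of_mul_eq_mul_left hk h
  rw [← MonoidHom.range_eq_top]
  exact Subgroup.eq_top_of_card_eq _ h2

/-- the elements with trivial square fixing every member, as a subgroup of the stabilizer. -/
def invSub (S : Finset (Finset GolayPt))
    (hmul : ∀ x ∈ kerOf S, ∀ y ∈ kerOf S, x * x = 1 → y * y = 1 → (x * y) * (x * y) = 1) :
    Subgroup ↥(MulAction.stabilizer ↥M24 S) where
  carrier := {x | ((x : ↥M24) : Equiv.Perm GolayPt) ∈ kerOf S ∧
    ((x : ↥M24) : Equiv.Perm GolayPt) * ((x : ↥M24) : Equiv.Perm GolayPt) = 1}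
  mul_mem' := by
    rintro a b ⟨ha1, ha2⟩ ⟨hb1, hb2⟩
    exact ⟨(kerOf S).mul_mem ha1 hb1, hmul _ ha1 _ hb1 ha2 hb2⟩
  one_mem' := ⟨(kerOf S).one_mem, by simp⟩
  inv_mem' := by
    rintro a ⟨ha1, ha2⟩
    refine ⟨(kerOf S).inv_mem ha1, ?_⟩
    change (((a : ↥M24) : Equiv.Perm GolayPt))⁻¹ * (((a : ↥M24) : Equiv.Perm GolayPt))⁻¹ = 1
    rw [← mul_inv_rev, ha2, inv_one]

theorem mem_invSub {S : Finset (Finset GolayPt)}
    {hmul : ∀ x ∈ kerOf S, ∀ y ∈ kerOf S, x * x = 1 → y * y = 1 → (x * y) * (x * y) = 1}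
    {x : ↥(MulAction.stabilizer ↥M24 S)} : x ∈ invSub S hmul ↔
      ((x : ↥M24) : Equiv.Perm GolayPt) ∈ kerOf S ∧
        ((x : ↥M24) : Equiv.Perm GolayPt) * ((x : ↥M24) : Equiv.Perm GolayPt) = 1 := Iff.rfl

theorem invSub_normal (S : Finset (Finset GolayPt))
    (hmul : ∀ x ∈ kerOf S, ∀ y ∈ kerOf S, x * x = 1 → y * y = 1 → (x * y) * (x * y) = 1) :
    (invSub S hmul).Normal := by
  constructor
  intro n hn g
  obtain ⟨hn1, hn2⟩ := mem_invSub.mp hn
  rw [mem_invSub]
  have hg : ((g : ↥M24) : Equiv.Perm GolayPt) • S = S := (mem_famStab_iff g.1).mp g.2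
  constructor
  · refine ⟨(g * n * g⁻¹).1.2, ?_⟩
    intro t ht
    change (((g : ↥M24) : Equiv.Perm GolayPt) * ((n : ↥M24) : Equiv.Perm GolayPt) *
      (((g : ↥M24) : Equiv.Perm GolayPt))⁻¹) • t = t
    have ht' : (((g : ↥M24) : Equiv.Perm GolayPt))⁻¹ • t ∈ S := by
      have := (famStab_mem_iff hg ((((g : ↥M24) : Equiv.Perm GolayPt))⁻¹ • t)).mpr
        (by rw [smul_inv_smul]; exact ht)
      exact this
    rw [mul_smul, mul_smul, hn1.2 _ ht', smul_inv_smul]
  · change (((g : ↥M24) : Equiv.Perm GolayPt) * ((n : ↥M24) : Equiv.Perm GolayPt) *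
      (((g : ↥M24) : Equiv.Perm GolayPt))⁻¹) * (((g : ↥M24) : Equiv.Perm GolayPt) *
      ((n : ↥M24) : Equiv.Perm GolayPt) * (((g : ↥M24) : Equiv.Perm GolayPt))⁻¹) = 1
    have : ∀ a b : Equiv.Perm GolayPt, a * b * a⁻¹ * (a * b * a⁻¹) = a * (b * b) * a⁻¹ := by
      intro a b
      group
    rw [this, hn2]
    group

theorem card_invSub (S : Finset (Finset GolayPt))
    (hmul : ∀ x ∈ kerOf S, ∀ y ∈ kerOf S, x * x = 1 → y * y = 1 → (x * y) * (x * y) = 1) :
    Nat.card (invSub S hmul) = {x | x ∈ kerOf S ∧ x * x = 1}.ncard := by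
  have h0 : Nat.card (invSub S hmul) =
      ((invSub S hmul : Set ↥(MulAction.stabilizer ↥M24 S))).ncard :=
    Nat.card_coe_set_eq _
  rw [h0]
  apply Set.ncard_congr
    (fun (x : ↥(MulAction.stabilizer ↥M24 S)) _ => ((x : ↥M24) : Equiv.Perm GolayPt))
  · intro x hx
    exact mem_invSub.mp hx
  · intro a b _ _ hab
    exact Subtype.ext (Subtype.ext hab)
  · intro k hk
    exact ⟨⟨⟨k, hk.1.1⟩, (mem_famStab_iff _).mpr (smul_fam_of_fix hk.1.2)⟩, hk, rfl⟩

theorem invSub_sq (S : Finset (Finset GolayPt))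
    (hmul : ∀ x ∈ kerOf S, ∀ y ∈ kerOf S, x * x = 1 → y * y = 1 → (x * y) * (x * y) = 1) :
    ∀ x ∈ invSub S hmul, x * x = 1 := by
  intro x hx
  apply Subtype.ext
  apply Subtype.ext
  exact (mem_invSub.mp hx).2

theorem sextet_structure (S : Finset (Finset GolayPt)) (hS : S ∈ sextets) :
    (∀ e : Equiv.Perm ↥S, ∃ g ∈ MulAction.stabilizer ↥M24 S, ∀ t : ↥S,
      (g : Equiv.Perm GolayPt) • (t : Finset GolayPt) = ((e t : ↥S) : Finset GolayPt)) ∧
    Nat.card {g : ↥(MulAction.stabilizer ↥M24 S) //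
      ∀ t ∈ S, ((g : ↥M24) : Equiv.Perm GolayPt) • t = t} = 192 ∧
    ∃ N : Subgroup ↥(MulAction.stabilizer ↥M24 S), N.Normal ∧ Nat.card N = 64 ∧
      ∀ x ∈ N, x * x = 1 := by
  classical
  obtain ⟨hK1, hK2, hK3⟩ := kerFacts_sextet hS
  refine ⟨?_, ?_, ?_⟩
  · have hsurj : Function.Surjective (famHom S) := by
      apply surj_of_card
      · rw [card_stab_sextet hS, card_ker_famHom, hK1, Nat.card_eq_fintype_card,
          Fintype.card_perm, Fintype.card_coe, hS.1]
        rfl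
      · rw [card_ker_famHom, hK1]
        norm_num
    intro e
    obtain ⟨g, hg⟩ := hsurj e
    refine ⟨g.1, g.2, ?_⟩
    intro t
    rw [← hg]
    rfl
  · rw [Nat.card_congr (fixEquivKerOf S), hK1]
  · exact ⟨invSub S hK2, invSub_normal S hK2, by rw [card_invSub, hK3], invSub_sq S hK2⟩

end Cfsg.Agent.Helper9.Golay
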