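import Mathlib
import Cfsg.Prelude.Def_Sporadic_a
import Cfsg.Prelude.Def_SporadicCombinatorics
import Cfsg.Agent.Helper9.Golay.FamStab
import Cfsg.Agent.Helper9.Golay.Syl2Thm

set_option autoImplicit false

/-!
The centralizer in the group of the code of an involution without fixed points.
-/

namespace Cfsg.Agent.Helper9.Golay

open Cfsg
open scoped Pointwise

def c2T0 : List ℕ := [1, 0, 3, 2, 7, 14, 22, 4, 19, 11, 12, 9, 10, 20, 5, 16, 15, 23, 21, 8, 13, 18, 6, 17]

def c2Prog : List (ℕ × ℕ) := [(2, 1), (0, 0), (2, 4), (0, 5), (1, 6), (0, 7), (2, 8), (2, 9), (0, 10), (0, 11), (0, 12), (0, 1), (2, 14), (2, 15), (0, 16), (0, 17), (1, 18), (2, 19), (2, 20), (21, 21), (22, 22), (22, 23), (23, 23), (25, 25), (24, 26), (27, 13), (0, 14), (0, 29), (2, 30), (2, 31), (2, 32), (0, 33), (1, 34), (2, 3), (0, 36), (2, 37), (2, 38), (0, 39), (40, 40), (41, 41), (42, 42), (43, 43), (42, 44), (45, 35), (2, 0), (2, 47), (0, 48), (0, 49), (0, 2), (0, 51), (1, 0), (0, 53), (0, 54), (0, 55), (2, 56), (0, 57), (0, 58), (2, 59), (2, 54),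 (2, 61), (0, 62), (0, 63), (1, 64), (65, 65), (66, 66), (66, 67), (68, 60), (1, 14), (0, 70), (2, 71), (2, 72), (0, 73), (0, 74), (2, 75), (0, 76), (2, 49), (0, 78), (1, 79), (2, 80), (2, 81), (82, 82), (83, 83), (84, 84), (82, 85), (86, 77), (2, 29), (2, 88), (2, 89), (0, 90), (2, 91), (1, 4), (2, 93), (0, 94), (2, 95), (0, 96), (97, 97), (98, 98), (97, 99), (100, 92), (0, 52), (0, 102), (2, 103), (2, 104), (0, 105), (1, 106), (0, 107), (1, 50), (2, 109), (0, 110), (1, 111), (2, 112), (113, 113), (114, 114), (113, 115), (115, 115), (116, 117), (118, 108), (69, 28), (101, 28), (119, 28), (28, 46), (87, 46), (28, 69), (46, 69), (119, 69), (28, 87), (46, 87), (69, 120), (69, 69), (101, 101), (101, 132), (132, 132), (134, 134), (133, 135), (136, 131), (28, 28), (28, 138), (119, 119), (140, 140), (119, 141), (28, 130), (126, 126), (144, 144), (126, 145), (146, 143), (119, 125), (139, 148), (87, 119), (120, 120), (151, 151), (151, 152), (152, 152), (153, 154), (155, 150), (87, 120), (127, 127), (158, 158), (127, 159), (160,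 157), (101, 128), (87, 87), (87, 163), (163, 163), (165, 165), (164, 166), (167, 162), (119, 120), (123, 123), (123, 170), (170, 170), (172, 172), (171, 173), (174, 169), (28, 122), (142, 176), (137, 137), (156, 137), (168, 137), (175, 137), (177, 137), (137, 147), (149, 147), (147, 149), (175, 149), (177, 149), (137, 156), (149, 156), (156, 156), (177, 156), (161, 161), (161, 175), (161, 178)]

def c2Class : List (List ℕ × ℕ) := [([1, 0, 3, 2, 7, 14, 22, 4, 19, 11, 12, 9, 10, 20, 5, 16, 15, 23, 21, 8, 13, 18, 6, 17], 100000), ([1, 0, 3, 2, 7, 17, 9, 4, 16, 6, 12, 22, 10, 21, 23, 19, 8, 5, 20, 15, 18, 13, 11, 14], 101), ([1, 0, 3, 2, 10, 14, 11, 12, 15, 22, 4, 6, 7, 21, 5, 8, 19, 23, 20, 16, 18, 13, 9, 17], 123), ([1, 0, 3, 2, 10, 23, 9, 12, 19, 6, 4, 22, 7, 18, 17, 16, 15, 14, 13, 8, 21, 20, 11, 5], 122), ([1, 0, 3, 2, 12, 17, 22, 10, 15, 11, 7, 9, 4, 18, 23, 8, 19, 5, 13, 16, 21, 20, 6, 14], 125), ([1, 0, 3, 2, 12, 23, 11, 10, 16, 22, 7, 6, 4, 20, 17, 19, 8, 14, 21, 15, 13, 18, 9, 5], 69), ([2, 3, 0, 1, 7, 17, 11,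 4, 15, 22, 12, 6, 10, 20, 23, 8, 19, 5, 21, 16, 13, 18, 9, 14], 119), ([2, 3, 0, 1, 7, 23, 22, 4, 16, 11, 12, 9, 10, 18, 17, 19, 8, 14, 13, 15, 21, 20, 6, 5], 128), ([2, 3, 0, 1, 10, 14, 9, 12, 16, 6, 4, 22, 7, 20, 5, 19, 8, 23, 21, 15, 13, 18, 11, 17], 87), ([2, 3, 0, 1, 10, 17, 22, 12, 19, 11, 4, 9, 7, 21, 23, 16, 15, 5, 20, 8, 18, 13, 6, 14], 120), ([2, 3, 0, 1, 12, 14, 11, 10, 19, 22, 7, 6, 4, 18, 5, 16, 15, 23, 13, 8, 21, 20, 9, 17], 121), ([2, 3, 0, 1, 12, 23, 9, 10, 15, 6, 7, 22, 4, 21, 17, 8, 19, 14, 20, 16, 18, 13, 11, 5], 124), ([3, 2, 1, 0, 7, 14, 9, 4, 15, 6, 12, 22, 10, 18, 5, 8, 19, 23, 13, 16, 21, 20, 11, 17], 126), ([3, 2, 1, 0, 7, 23, 11, 4, 19, 22, 12, 6, 10, 21, 17, 16, 15, 14, 20, 8, 18, 13, 9, 5], 46), ([3, 2, 1, 0, 10, 17, 11, 12, 16, 22, 4, 6, 7, 18, 23, 19, 8, 5, 13, 15, 21, 20, 9, 14], 28), ([3, 2, 1, 0, 10, 23, 22, 12, 15, 11, 4, 9, 7, 20, 17, 8, 19, 14, 21, 16, 13, 18, 6, 5], 130), ([3, 2, 1, 0, 12, 14, 22, 10, 16, 11, 7, 9, 4, 21, 5, 19, 8, 23, 20, 15, 18, 13, 6, 17], 129), ([3, 2, 1, 0,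 12, 17, 9, 10, 19, 6, 7, 22, 4, 20, 23, 16, 15, 5, 21, 8, 13, 18, 11, 14], 127)]

def c2Cent : List (ℕ × ℕ) := [(0, 100000), (1, 194), (2, 192), (3, 185), (4, 179), (5, 186), (6, 175), (7, 187), (8, 191), (9, 147), (10, 182), (11, 156), (12, 193), (13, 183), (14, 178), (15, 190), (16, 137), (17, 181), (18, 189), (19, 149), (20, 188), (21, 184), (22, 180), (23, 161)]

set_option maxRecDepth 1000000 in
def c2Pull : ℕ := 0xa6a140a6214026a14026214086a14086214006a140062140a6a040a6204026a04026204086a04086204006a040062040a68140a60140268140260140868140860140068140060140a68040a60040268040260040868040860040068040060040a2a140a2214022a14022214082a14082214002a140022140a2a040a2204022a04022204082a04082204002a040022040a28140a20140228140220140828140820140028140020140a28040a20040228040220040828040820040028040020040a6a100a6210026a10026210086a10086210006a100062100a6a000a6200026a00026200086a00086200006a000062000a68100a60100268100260100868100860100068100060100a68000a60000268000260000868000860000068000060000a2a100a2210022a10022210082a10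082210002a100022100a2a000a2200022a00022200082a00082200002a000022000a28100a20100228100220100828100820100028100020100a28000a20000228000220000828000820000028000020000a4a140a4214024a14024214084a14084214004a140042140a4a040a4204024a04024204084a04084204004a040042040a48140a40140248140240140848140840140048140040140a48040a40040248040240040848040840040048040040040a0a140a0214020a14020214080a14080214000a140002140a0a040a0204020a04020204080a04080204000a040002040a08140a00140208140200140808140800140008140000140a08040a00040208040200040808040800040008040000040a4a100a4210024a10024210084a10084210004a100042100a4a000a4200024a00024200084a00084200004a000042000a48100a40100248100240100848100840100048100040100a48000a40000248000240000848000840000048000040000a0a100a0210020a10020210080a10080210000a100002100a0a000a0200020a00020200080a00080200000a000002000a08100a00100208100200100808100800100008100000100a08000a00000208000200000808000800000008000000000191e20111e20191620111620190e20110e20190620110620191c20111c20191420111420190c20110c20190420110420191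a20111a20191220111220190a20110a20190220110220191820111820191020111020190820110820190020110020091e20011e20091620011620090e20010e20090620010620091c20011c20091420011420090c20010c20090420010420091a20011a20091220011220090a20010a20090220010220091820011820091020011020090820010820090020010020191e00111e00191600111600190e00110e00190600110600191c00111c00191400111400190c00110c00190400110400191a00111a00191200111200190a00110a00190200110200191800111800191000111000190800110800190000110000091e00011e00091600011600090e00010e00090600010600091c00011c00091400011400090c00010c00090400010400091a00011a00091200011200090a00010a00090200010200091800011800091000011000090800010800090000010000181e20101e20181620101620180e20100e20180620100620181c20101c20181420101420180c20100c20180420100420181a20101a20181220101220180a20100a20180220100220181820101820181020101020180820100820180020100020081e20001e20081620001620080e20000e20080620000620081c20001c20081420001420080c20000c20080420000420081a20001a20081220001220080a20000a200802200002200818200018200810200010200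80820000820080020000020181e00101e00181600101600180e00100e00180600100600181c00101c00181400101400180c00100c00180400100400181a00101a00181200101200180a00100a00180200100200181800101800181000101000180800100800180000100000081e00001e00081600001600080e00000e00080600000600081c00001c00081400001400080c00000c00080400000400081a00001a00081200001200080a00000a0008020000020008180000180008100000100008080000080008000000000040409f40409d40409e40409c40409740409540409640409440409b40409940409a40409840409340409140409240409040401f40401d40401e40401c40401740401540401640401440401b40401940401a40401840401340401140401240401040009f40009d40009e40009c40009740009540009640009440009b40009940009a40009840009340009140009240009040001f40001d40001e40001c40001740001540001640001440001b40001940001a40001840001340001140001240001000409f00409d00409e00409c00409700409500409600409400409b00409900409a00409800409300409100409200409000401f00401d00401e00401c00401700401500401600401400401b00401900401a00401800401300401100401200401000009f00009d00009e00009c00009700009500009600009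400009b00009900009a00009800009300009100009200009000001f00001d00001e00001c00001700001500001600001400001b00001900001a00001800001300001100001200001040408f40408d40408e40408c40408740408540408640408440408b40408940408a40408840408340408140408240408040400f40400d40400e40400c40400740400540400640400440400b40400940400a40400840400340400140400240400040008f40008d40008e40008c40008740008540008640008440008b40008940008a40008840008340008140008240008040000f40000d40000e40000c40000740000540000640000440000b40000940000a40000840000340000140000240000000408f00408d00408e00408c00408700408500408600408400408b00408900408a00408800408300408100408200408000400f00400d00400e00400c00400700400500400600400400400b00400900400a00400800400300400100400200400000008f00008d00008e00008c00008700008500008600008400008b00008900008a00008800008300008100008200008000000f00000d00000e00000c00000700000500000600000400000b00000900000a000008000003000001000002000000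

def c2Tabs : List (List ℕ) := certTabs1 c2Prog

theorem goodT_c2 : GoodT M24 c2Tabs := goodT_std c2Prog M24 stepPerm_mem

theorem c2T0_mem : c2T0 ∈ skAll := by decide +kernel

theorem c2T0_props : mulT c2T0 c2T0 = idT ∧ ∀ i < 24, c2T0.getD i 0 ≠ i := by decide +kernel

theorem c2Pull_ok : okPullTab c2T0 c2Pull = true := by decide +kernel

theorem c2_unique : (List.range 1771).all (fun i =>
    !((entryAt 144 6 sextBig i).all (fun m => Nat.beq (pullF c2Pull m) m)) || Nat.beq i 776)
      = true := by decide +kernel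

theorem c2Class_ok : c2Class.all (fun e => invB (c2Tabs.getD e.2 idT) skTet &&
    (mulT (c2Tabs.getD e.2 idT) c2T0 == mulT e.1 (c2Tabs.getD e.2 idT))) = true := by
  decide +kernel

theorem c2Class_sub : ∀ d ∈ c2Class.map Prod.fst, d ∈ skAll := by decide +kernel

theorem c2Class_sup : ∀ t ∈ skAll, ((mulT t t == idT) &&
    (List.range 24).all (fun i => t.getD i 0 != i)) = true → t ∈ c2Class.map Prod.fst := by
  decide +kernel

theorem c2Class_nodup : (c2Class.map Prod.fst).Nodup := by decide +kernel

theorem c2Class_length : (c2Class.map Prod.fst).length = 18 := by decide +kernel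

theorem c2Cent_ok : c2Cent.all (fun e =>
    (mulT (c2Tabs.getD e.2 idT) c2T0 == mulT c2T0 (c2Tabs.getD e.2 idT)) &&
      ((c2Tabs.getD e.2 idT).getD 0 0 == e.1)) = true := by decide +kernel

theorem c2Cent_fst : c2Cent.map Prod.fst = List.range 24 := by decide +kernel

theorem okMasks_skTet : okMasks skTet = true := by decide +kernel

/-- orbit-stabilizer for the conjugation action. -/
theorem card_centralizer_of_class {G : Type*} [Group G] [Finite G] (x : G) (n : ℕ)
    (h : {y | ∃ g : G, g * x * g⁻¹ = y}.ncard = n) :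
    Nat.card {c : G // c * x = x * c} * n = Nat.card G := by
  have h1 := Subgroup.card_mul_index (MulAction.stabilizer (ConjAct G) x)
  rw [MulAction.index_stabilizer] at h1
  have horb : MulAction.orbit (ConjAct G) x = {y | ∃ g : G, g * x * g⁻¹ = y} := by
    ext y
    constructor
    · rintro ⟨g, rfl⟩
      exact ⟨ConjAct.ofConjAct g, (ConjAct.smul_def g x).symm⟩
    · rintro ⟨g, rfl⟩
      exact ⟨ConjAct.toConjAct g, by
        show ConjAct.toConjAct g • x = _
        rw [ConjAct.smul_def]
        rfl⟩
  rw [horb, h] at h1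
  have hst : Nat.card (MulAction.stabilizer (ConjAct G) x) =
      Nat.card {c : G // c * x = x * c} := by
    apply Nat.card_congr
    exact
      { toFun := fun g => ⟨ConjAct.ofConjAct g.1, by
          have := g.2
          rw [MulAction.mem_stabilizer_iff, ConjAct.smul_def] at this
          exact mul_inv_eq_iff_eq_mul.mp this⟩
        invFun := fun c => ⟨ConjAct.toConjAct c.1, by
          rw [MulAction.mem_stabilizer_iff, ConjAct.smul_def]
          exact mul_inv_eq_iff_eq_mul.mpr c.2⟩
        left_inv := fun _ => rfl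
        right_inv := fun _ => rfl }
  rw [hst] at h1
  exact h1

/-- the facts on the chosen involution without fixed points. -/
structure IsC2 (t0 : Equiv.Perm GolayPt) : Prop where
  tbl : IsTbl t0 c2T0
  memK : t0 ∈ KOf [] skTet

theorem exists_isC2 : ∃ t0, IsC2 t0 := by
  obtain ⟨σ, hσ, hσt⟩ := skAll_real c2T0 c2T0_mem
  exact ⟨σ, hσt, hσ⟩

namespace IsC2

variable {t0 : Equiv.Perm GolayPt} (h0 : IsC2 t0)
include h0

theorem mem : t0 ∈ M24 := (mem_KOf.mp h0.memK).1

theorem sq : t0 * t0 = 1 := (sq_eq_one_iff_tbl h0.tbl).mpr c2T0_props.1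

theorem inv_eq : t0⁻¹ = t0 := inv_eq_of_mul_eq_one_left h0.sq

theorem fpf (p : GolayPt) : t0 p ≠ p := by
  intro h
  have h1 := h0.tbl.2 p
  rw [h] at h1
  exact c2T0_props.2 _ (ptIdx_lt p) h1

theorem order : orderOf t0 = 2 := by
  apply orderOf_eq_prime
  · rw [pow_two]
    exact h0.sq
  · intro h
    have := h0.fpf (idxPtN 0)
    rw [h] at this
    exact this rfl

theorem fix_tet : ∀ τ ∈ famOf skTet, t0 • τ = τ := by
  intro τ hτ
  obtain ⟨m, hm, rfl⟩ := mem_famOf.mp hτ
  exact (mem_KOf.mp h0.memK).2.2 m hm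

theorem smul_S0 : t0 • famOf skTet = famOf skTet := smul_fam_of_fix h0.fix_tet

/-- the centralizer stabilizes the sextet. -/
theorem cent_stab {c : Equiv.Perm GolayPt} (hc : c ∈ M24) (hct : c * t0 = t0 * c) :
    c • famOf skTet = famOf skTet := by
  have hmem : c • famOf skTet ∈ sextets := sextets_inv₂ c hc _ skTet_mem
  obtain ⟨i, hi, hie⟩ := sextets_listing.surj _ hmem
  have hok := (sextets_listing.ent i hi).1
  have hall : (entryAt 144 6 sextBig i).all (fun m => Nat.beq (pullF c2Pull m) m) = true := by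
    rw [List.all_eq_true]
    intro m hm
    have hlt := okMasks_lt hok m hm
    have hpm : pullF c2Pull m = m := by
      rw [pullF_eq c2Pull_ok hlt]
      apply (smul_suppM_eq_iff h0.tbl hlt).mp
      have h1 : suppM m ∈ c • famOf skTet := by
        rw [← hie]
        exact mem_famOf.mpr ⟨m, hm, rfl⟩
      obtain ⟨τ, hτ, hτm⟩ := Finset.mem_smul_finset.mp h1
      rw [← hτm]
      change t0 • c • τ = c • τ
      rw [← mul_smul, ← hct, mul_smul, h0.fix_tet τ hτ]
    rw [hpm]
    exact Nat.beq_refl m
  have h2 := List.all_eq_true.mp c2_unique i (List.mem_range.mpr hi)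
  rw [hall] at h2
  simp only [Bool.not_true, Bool.false_or] at h2
  rw [← hie, Nat.eq_of_beq_eq_true h2, skTet_entry]

theorem mem_stabIn : t0 ∈ stabIn (famOf skTet) :=
  Golay.mem_stabIn.mpr ⟨h0.mem, h0.smul_S0⟩

/-- conjugates of `t0` under the stabilizer of the sextet are in the kernel. -/
theorem conj_mem {g : Equiv.Perm GolayPt} (hg : g ∈ stabIn (famOf skTet)) :
    g * t0 * g⁻¹ ∈ KOf [] skTet := by
  obtain ⟨hgM, hgS⟩ := Golay.mem_stabIn.mp hg
  rw [← kerOf_famOf, mem_kerOf]
  refine ⟨M24.mul_mem (M24.mul_mem hgM h0.mem) (M24.inv_mem hgM), ?_⟩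
  intro τ hτ
  have hτ' : g⁻¹ • τ ∈ famOf skTet := by
    apply (famStab_mem_iff hgS _).mpr
    rw [smul_inv_smul]
    exact hτ
  rw [mul_smul, mul_smul, h0.fix_tet _ hτ', smul_inv_smul]

theorem ncard_class :
    {y | ∃ g : ↥(stabIn (famOf skTet)), g * ⟨t0, h0.mem_stabIn⟩ * g⁻¹ = y}.ncard = 18 := by
  have himg : Subtype.val '' {y | ∃ g : ↥(stabIn (famOf skTet)),
      g * ⟨t0, h0.mem_stabIn⟩ * g⁻¹ = y} =
      {x | ∃ g ∈ stabIn (famOf skTet), g * t0 * g⁻¹ = x} := by
    ext x
    constructor
    · rintro ⟨y, ⟨g, rfl⟩, rfl⟩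
      exact ⟨g.1, g.2, rfl⟩
    · rintro ⟨g, hg, rfl⟩
      exact ⟨⟨g, hg⟩ * ⟨t0, h0.mem_stabIn⟩ * (⟨g, hg⟩ : ↥(stabIn (famOf skTet)))⁻¹,
        ⟨⟨g, hg⟩, rfl⟩, rfl⟩
  rw [← Set.ncard_image_of_injective _ Subtype.val_injective, himg, ← c2Class_length]
  apply ncard_eq_of_tables
  · exact c2Class_nodup
  · rintro x ⟨g, hg, rfl⟩
    obtain ⟨d, hd, hxd⟩ := sk_enum _ (h0.conj_mem hg)
    refine ⟨d, ?_, hxd⟩
    apply c2Class_sup d hd
    rw [Bool.and_eq_true, beq_iff_eq, List.all_eq_true]
    constructor
    · apply (sq_eq_one_iff_tbl hxd).mp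
      have : g * t0 * g⁻¹ * (g * t0 * g⁻¹) = g * (t0 * t0) * g⁻¹ := by group
      rw [this, h0.sq]
      group
    · intro i hi
      rw [List.mem_range] at hi
      rw [bne_iff_ne]
      intro hfix
      have h1 := hxd.2 (idxPtN i)
      rw [ptIdx_idxPtN hi, hfix] at h1
      have h2 : (g * t0 * g⁻¹) (idxPtN i) = idxPtN i := by
        rw [← idxPtN_ptIdx ((g * t0 * g⁻¹) (idxPtN i)), ← h1]
      rw [Equiv.Perm.mul_apply, Equiv.Perm.mul_apply] at h2
      have h3 : t0 (g⁻¹ (idxPtN i)) = g⁻¹ (idxPtN i) := by
        apply g.injective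
        rw [h2]
        simp
      exact h0.fpf _ h3
  · intro d hd
    rw [List.mem_map] at hd
    obtain ⟨e, he, rfl⟩ := hd
    have hok := List.all_eq_true.mp c2Class_ok e he
    rw [Bool.and_eq_true, beq_iff_eq] at hok
    obtain ⟨g, hgM, hgt⟩ := goodT_c2.getD e.2
    have hgS : g ∈ stabIn (famOf skTet) :=
      Golay.mem_stabIn.mpr ⟨hgM, (invB_iff hgt okMasks_skTet).mp hok.1⟩
    have hdK : e.1 ∈ skAll := c2Class_sub _ (List.mem_map.mpr ⟨e, he, rfl⟩)
    obtain ⟨σ, -, hσt⟩ := skAll_real e.1 hdK
    have heq : g * t0 = σ * g := by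
      apply (hgt.mul h0.tbl).eq_of_eq
      rw [hok.2]
      exact hσt.mul hgt
    refine ⟨g * t0 * g⁻¹, ⟨g, hgS, rfl⟩, ?_⟩
    rw [heq]
    simpa using hσt

theorem card_stabIn : Nat.card (stabIn (famOf skTet)) = 138240 := by
  rw [← card_stab_sextet skTet_mem]
  apply Nat.card_congr
  exact
    { toFun := fun g => ⟨⟨g.1, (Golay.mem_stabIn.mp g.2).1⟩,
        (mem_famStab_iff _).mpr (Golay.mem_stabIn.mp g.2).2⟩
      invFun := fun g => ⟨g.1.1, Golay.mem_stabIn.mpr ⟨g.1.2, (mem_famStab_iff g.1).mp g.2⟩⟩
      left_inv := fun _ => rfl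
      right_inv := fun _ => rfl }

theorem card_cent : Nat.card {c : Equiv.Perm GolayPt // c ∈ M24 ∧ c * t0 = t0 * c} = 7680 := by
  have h1 := card_centralizer_of_class (⟨t0, h0.mem_stabIn⟩ : ↥(stabIn (famOf skTet))) 18
    h0.ncard_class
  rw [h0.card_stabIn] at h1
  have h2 : Nat.card {c : ↥(stabIn (famOf skTet)) //
      c * ⟨t0, h0.mem_stabIn⟩ = ⟨t0, h0.mem_stabIn⟩ * c} =
      Nat.card {c : Equiv.Perm GolayPt // c ∈ M24 ∧ c * t0 = t0 * c} := by
    apply Nat.card_congr
    exact
      { toFun := fun c => ⟨c.1.1, (Golay.mem_stabIn.mp c.1.2).1, congrArg Subtype.val c.2⟩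
        invFun := fun c => ⟨⟨c.1, Golay.mem_stabIn.mpr ⟨c.2.1, h0.cent_stab c.2.1 c.2.2⟩⟩,
          Subtype.ext c.2.2⟩
        left_inv := fun _ => rfl
        right_inv := fun _ => rfl }
  rw [h2] at h1
  omega

theorem cent_trans (p q : GolayPt) : ∃ c ∈ M24, c * t0 = t0 * c ∧ c p = q := by
  have key : ∀ j < 24, ∃ c ∈ M24, c * t0 = t0 * c ∧ c (idxPtN 0) = idxPtN j := by
    intro j hj
    have hj' : j ∈ c2Cent.map Prod.fst := by
      rw [c2Cent_fst]
      exact List.mem_range.mpr hj
    rw [List.mem_map] at hj'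
    obtain ⟨e, he, rfl⟩ := hj'
    have hok := List.all_eq_true.mp c2Cent_ok e he
    rw [Bool.and_eq_true, beq_iff_eq, beq_iff_eq] at hok
    obtain ⟨c, hcM, hct⟩ := goodT_c2.getD e.2
    refine ⟨c, hcM, ?_, ?_⟩
    · apply (hct.mul h0.tbl).eq_of_eq
      rw [hok.1]
      exact h0.tbl.mul hct
    · rw [hct.apply_idx (by norm_num), hok.2]
  obtain ⟨c1, hc1, hc1t, hc1p⟩ := key (ptIdx p) (ptIdx_lt p)
  obtain ⟨c2, hc2, hc2t, hc2q⟩ := key (ptIdx q) (ptIdx_lt q)
  rw [idxPtN_ptIdx] at hc1p hc2q
  refine ⟨c2 * c1⁻¹, M24.mul_mem hc2 (M24.inv_mem hc1), ?_, ?_⟩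
  · have h1 : c1⁻¹ * t0 = t0 * c1⁻¹ := by
      have : c1⁻¹ * t0 = c1⁻¹ * (t0 * c1) * c1⁻¹ := by group
      rw [this, ← hc1t]
      group
    rw [mul_assoc, h1, ← mul_assoc, hc2t, mul_assoc]
  · rw [Equiv.Perm.mul_apply, ← hc1p]
    simp [hc2q]

end IsC2

end Cfsg.Agent.Helper9.Golay
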