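import Mathlib
import Cfsg.Prelude.Def_Sporadic_a
import Cfsg.Prelude.Def_SporadicCombinatorics
import Cfsg.Agent.Helper9.Golay.Cent2B

set_option autoImplicit false

/-!
The centralizer of an involution without fixed points in the group of the code: order 7680,
transitive on the points, inside the stabilizer of a sextet.
-/

namespace Cfsg.Agent.Helper9.Golay

open Cfsg
open scoped Pointwise

theorem fpf_conj {t : Equiv.Perm GolayPt} (ht : t ∈ M24) (h₂ : orderOf t = 2)
    (h₀ : ∀ p, t p ≠ p) :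
    ∃ k ∈ M24, ∃ r : Equiv.Perm GolayPt, k * t * k⁻¹ = r ∧ IsTbl r (p2G.acc p2R0) := by
  obtain ⟨k, hk, r, hr, h | h⟩ := inv_classify t ht h₂
  · exfalso
    have h8 : (Finset.univ.filter fun p => t p = p).card = 8 := h.2.2
    have hne : (Finset.univ.filter fun p => t p = p).Nonempty := by
      rw [← Finset.card_pos, h8]
      norm_num
    obtain ⟨p, hp⟩ := hne
    exact h₀ p (Finset.mem_filter.mp hp).2
  · exact ⟨k, hk, r, hr, h.1⟩

/-- any two involutions without fixed points are conjugate. -/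
theorem fpf_conj_pair {t t' : Equiv.Perm GolayPt} (ht : t ∈ M24) (h₂ : orderOf t = 2)
    (h₀ : ∀ p, t p ≠ p) (ht' : t' ∈ M24) (h₂' : orderOf t' = 2) (h₀' : ∀ p, t' p ≠ p) :
    ∃ h ∈ M24, t = h * t' * h⁻¹ := by
  obtain ⟨k, hk, r, hr, hrt⟩ := fpf_conj ht h₂ h₀
  obtain ⟨k', hk', r', hr', hrt'⟩ := fpf_conj ht' h₂' h₀'
  have e : r = r' := hrt.eq_of_eq hrt'
  refine ⟨k⁻¹ * k', M24.mul_mem (M24.inv_mem hk) hk', ?_⟩
  have : t = k⁻¹ * r * k := by
    rw [← hr]
    group
  rw [this, e, ← hr']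
  group

theorem cent_fpf_main (t : Equiv.Perm GolayPt) (ht : t ∈ M24) (h₂ : orderOf t = 2)
    (h₀ : ∀ p, t p ≠ p) :
    Nat.card {c : Equiv.Perm GolayPt // c ∈ M24 ∧ c * t = t * c} = 7680 ∧
    (∀ p q : GolayPt, ∃ c ∈ M24, c * t = t * c ∧ c p = q) ∧
    ∃ S ∈ sextets, t • S = S ∧ ∀ c ∈ M24, c * t = t * c → c • S = S := by
  obtain ⟨t0, h0⟩ := exists_isC2
  obtain ⟨h, hh, rfl⟩ := fpf_conj_pair ht h₂ h₀ h0.mem h0.order h0.fpf
  have hcomm : ∀ c : Equiv.Perm GolayPt, c * (h * t0 * h⁻¹) = h * t0 * h⁻¹ * c ↔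
      (h⁻¹ * c * h) * t0 = t0 * (h⁻¹ * c * h) := by
    intro c
    constructor
    · intro hc
      have e1 : h⁻¹ * c * h * t0 = h⁻¹ * (c * (h * t0 * h⁻¹)) * h := by group
      rw [e1, hc]
      group
    · intro hc
      have e1 : c * (h * t0 * h⁻¹) = h * ((h⁻¹ * c * h) * t0) * h⁻¹ := by group
      rw [e1, hc]
      group
  have hM : ∀ c : Equiv.Perm GolayPt, c ∈ M24 ↔ h⁻¹ * c * h ∈ M24 := by
    intro c
    constructor
    · intro hc
      exact M24.mul_mem (M24.mul_mem (M24.inv_mem hh) hc) hh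
    · intro hc
      have : c = h * (h⁻¹ * c * h) * h⁻¹ := by group
      rw [this]
      exact M24.mul_mem (M24.mul_mem hh hc) (M24.inv_mem hh)
  refine ⟨?_, ?_, ?_⟩
  · rw [← h0.card_cent]
    apply Nat.card_congr
    exact
      { toFun := fun c => ⟨h⁻¹ * c.1 * h, (hM c.1).mp c.2.1, (hcomm c.1).mp c.2.2⟩
        invFun := fun c => ⟨h * c.1 * h⁻¹, by
          have e : h⁻¹ * (h * c.1 * h⁻¹) * h = c.1 := by group
          refine ⟨(hM _).mpr ?_, (hcomm _).mpr ?_⟩
          · rw [e]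
            exact c.2.1
          · rw [e]
            exact c.2.2⟩
        left_inv := by
          intro c
          apply Subtype.ext
          change h * (h⁻¹ * c.1 * h) * h⁻¹ = c.1
          group
        right_inv := by
          intro c
          apply Subtype.ext
          change h⁻¹ * (h * c.1 * h⁻¹) * h = c.1
          group }
  · intro p q
    obtain ⟨c, hc, hct, hcp⟩ := h0.cent_trans (h⁻¹ p) (h⁻¹ q)
    have e : h⁻¹ * (h * c * h⁻¹) * h = c := by group
    refine ⟨h * c * h⁻¹, M24.mul_mem (M24.mul_mem hh hc) (M24.inv_mem hh), ?_, ?_⟩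
    · rw [hcomm, e]
      exact hct
    · rw [Equiv.Perm.mul_apply, Equiv.Perm.mul_apply, hcp]
      simp
  · refine ⟨h • famOf skTet, sextets_inv₂ h hh _ skTet_mem, ?_, ?_⟩
    · rw [← mul_smul]
      have : h * t0 * h⁻¹ * h = h * t0 := by group
      rw [this, mul_smul, h0.smul_S0]
    · intro c hc hct
      have h1 := h0.cent_stab ((hM c).mp hc) ((hcomm c).mp hct)
      rw [mul_smul, mul_smul] at h1
      have h2 := congrArg (fun s => h • s) h1
      simp only [smul_inv_smul] at h2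
      exact h2

end Cfsg.Agent.Helper9.Golay
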