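import Mathlib
import Cfsg.Prelude.Def_Sporadic_a
import Cfsg.Prelude.Def_Spor_Mathieu
import Cfsg.Agent.Helper9.Golay.M24Trans

set_option autoImplicit false

/-!
The two-point stabilizer in the group of the length-24 code, inside the stabilizer of the pair.
-/

namespace Cfsg.Agent.Helper9.Golay

open Cfsg
open scoped Pointwise

theorem mem_M22_iff {x : Equiv.Perm GolayPt} :
    x ∈ Spor.M22 ↔ x ∈ M24 ∧ x none = none ∧ x (some 0) = some 0 := by
  unfold Spor.M22 Spor.M23
  rw [Subgroup.mem_inf, Subgroup.mem_inf]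
  constructor
  · rintro ⟨⟨h1, h2⟩, h3⟩
    exact ⟨h1, h2, h3⟩
  · rintro ⟨h1, h2, h3⟩
    exact ⟨⟨h1, h2⟩, h3⟩

/-- an embedding of `Fin 5` from five distinct points. -/
def emb5 (a b c d e : GolayPt) (h : [a, b, c, d, e].Nodup) : Fin 5 ↪ GolayPt :=
  ⟨fun i => [a, b, c, d, e].get (i.cast (by simp)), by
    intro i j hij
    have := (List.Nodup.get_inj_iff h).mp hij
    exact Fin.ext (by simpa using congrArg Fin.val this)⟩

/-- four-fold transitivity in a convenient form. -/
theorem exists_move (a b c d d' : GolayPt) (h : [a, b, c, d, d'].Nodup) :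
    ∃ x ∈ M24, x a = a ∧ x b = b ∧ x c = c ∧ x d = d' := by
  have h' : [a, b, c, d', d].Nodup := by
    simp only [List.nodup_cons, List.mem_cons, List.not_mem_nil, or_false, not_or,
      List.nodup_nil, and_true] at h ⊢
    obtain ⟨⟨h1, h2, h3, h4⟩, ⟨h5, h6, h7⟩, ⟨h8, h9⟩, h10, -⟩ := h
    exact ⟨⟨h1, h2, h4, h3⟩, ⟨h5, h7, h6⟩, ⟨h9, h8⟩, Ne.symm h10, not_false⟩
  obtain ⟨x, hx, hxy⟩ := m24_five_trans (emb5 a b c d d' h) (emb5 a b c d' d h')
  exact ⟨x, hx, hxy 0, hxy 1, hxy 2, hxy 3⟩

theorem oct_inf : (8394986 : ℕ) ∈ codeList ∧ popc 8394986 = 8 ∧ (8394986 : ℕ).testBit 23 = true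
    ∧ (8394986 : ℕ).testBit 0 = false := by decide +kernel

/-- an element of the group of the code commuting with the two-point stabilizer and swapping the
two points does not exist. -/
theorem no_central_swap (c : Equiv.Perm GolayPt) (hc : c ∈ M24) (h1 : c none = some 0)
    (h2 : c (some 0) = none) (hcomm : ∀ x ∈ Spor.M22, c * x = x * c) : False := by
  classical
  -- `c` fixes every other point
  have hfix : ∀ p : GolayPt, p ≠ none → p ≠ some 0 → c p = p := by
    intro p hp1 hp2
    by_contra hne
    have hq1 : c p ≠ none := by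
      intro h
      apply hp2
      apply c.injective
      rw [h, h2]
    have hq2 : c p ≠ some 0 := by
      intro h
      apply hp1
      apply c.injective
      rw [h, h1]
    -- a fifth point
    obtain ⟨r, hr⟩ : ∃ r : GolayPt, r ∉ ({none, some 0, p, c p} : Finset GolayPt) := by
      by_contra hcon
      push Not at hcon
      have : (Finset.univ : Finset GolayPt) ⊆ {none, some 0, p, c p} := fun r _ => hcon r
      have h3 := Finset.card_le_card this
      have h4 : ({none, some 0, p, c p} : Finset GolayPt).card ≤ 4 := Finset.card_le_four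
      rw [Finset.card_univ, card_golayPt] at h3
      omega
    simp only [Finset.mem_insert, Finset.mem_singleton, not_or] at hr
    obtain ⟨hr1, hr2, hr3, hr4⟩ := hr
    obtain ⟨x, hx, hxa, hxb, hxc, hxd⟩ := exists_move none (some 0) p (c p) r (by
      simp only [List.nodup_cons, List.mem_cons, List.not_mem_nil, or_false, not_or,
        List.nodup_nil, and_true]
      refine ⟨⟨by simp, Ne.symm hp1, Ne.symm hq1, Ne.symm hr1⟩,
        ⟨Ne.symm hp2, Ne.symm hq2, Ne.symm hr2⟩, ⟨fun h => hne h.symm, Ne.symm hr3⟩, Ne.symm hr4, not_false⟩)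
    have hxM : x ∈ Spor.M22 := mem_M22_iff.mpr ⟨hx, hxa, hxb⟩
    have := congrArg (fun f : Equiv.Perm GolayPt => f p) (hcomm x hxM)
    simp only [Equiv.Perm.mul_apply, hxc, hxd] at this
    exact hr4 this.symm
  -- an octad through the extra point and not through 0
  obtain ⟨hm, hm8, hb23, hb0⟩ := oct_inf
  have hF : ∀ p, (8394986 - 2 ^ 23 : ℕ).testBit (ptIdx p) = true → c p = p := by
    intro p hp
    apply hfix
    · intro h
      rw [h] at hp
      exact absurd hp (by decide)
    · intro h
      rw [h] at hp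
      exact absurd hp (by decide)
  have heq := smul_octad_eq hc hF hm hm8 (by decide)
  have hin : (none : GolayPt) ∈ suppM 8394986 := by
    rw [mem_suppM]; exact hb23
  have : c none ∈ c • suppM 8394986 := Finset.smul_mem_smul_finset hin
  rw [heq, h1, mem_suppM] at this
  have h0 : ptIdx (some 0 : GolayPt) = 0 := rfl
  rw [h0, hb0] at this
  exact absurd this (by simp)

end Cfsg.Agent.Helper9.Golay
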