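import Mathlib
import Cfsg.Prelude.Def_Sporadic_a
import Cfsg.Prelude.Def_Spor_Mathieu
import Cfsg.Agent.Helper9.Golay.DodThree

set_option autoImplicit false

/-!
The dodecad of squares and the two classes of point stabilizers in its stabilizer.
-/

namespace Cfsg.Agent.Helper9.Golay

open Cfsg
open scoped Pointwise

theorem genMask_zero : genMask (some 0) = 340831 := by decide +kernel

theorem sqDod_eq : Spor.squareDodecad = suppM 340831 := by
  unfold Spor.squareDodecad suppM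
  rw [← genMask_zero]
  unfold genMask
  rw [decW_encW]
  rfl

theorem sqDod_mem : Spor.squareDodecad ∈ dodecads := by
  rw [sqDod_eq]
  exact (mem_dodecads_iff _).mpr ⟨340831, by rw [← genMask_zero]; exact genMask_mem_codeList _,
    by decide, rfl⟩

theorem zero_mem_sqDod : (some 0 : GolayPt) ∈ Spor.squareDodecad := by
  rw [sqDod_eq, mem_suppM]
  decide

theorem none_not_mem_sqDod : (none : GolayPt) ∉ Spor.squareDodecad := by
  rw [sqDod_eq, mem_suppM]
  decide

/-- extension of an embedding into a finite set. -/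
theorem extend_emb {s : Finset GolayPt} {k n : ℕ} (hkn : k ≤ n) (hn : n ≤ s.card)
    (x : Fin k ↪ GolayPt) (hx : ∀ i, x i ∈ s) :
    ∃ X : Fin n ↪ GolayPt, (∀ i, X i ∈ s) ∧ ∀ i : Fin k, X (Fin.castLE hkn i) = x i := by
  classical
  have hcard : n ≤ Nat.card ↥s := by
    rw [Nat.card_eq_fintype_card, Fintype.card_coe]; exact hn
  let x' : Fin k ↪ ↥s := ⟨fun i => ⟨x i, hx i⟩, fun i j h => x.injective (Subtype.ext_iff.mp h)⟩
  obtain ⟨X, hX⟩ := Fin.Embedding.restrictSurjective_of_le_natCard hkn hcard x'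
  refine ⟨X.trans (Function.Embedding.subtype _), fun i => (X i).2, ?_⟩
  intro i
  have := congrArg (fun f : Fin k ↪ ↥s => ((f i : ↥s) : GolayPt)) hX
  exact this

/-- the stabilizer of a dodecad and a point of it is transitive on the complement. -/
theorem dodecad_pt_trans_compl {d : Finset GolayPt} (hd : d ∈ dodecads) {p : GolayPt}
    (hp : p ∈ d) {a b : GolayPt} (ha : a ∉ d) (hb : b ∉ d) :
    ∃ g ∈ M24, g • d = d ∧ g p = p ∧ g a = b := by
  classical
  have hc : 3 ≤ (dᶜ).card := by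
    rw [Finset.card_compl, card_golayPt, hd.2]
    norm_num
  let xa : Fin 1 ↪ GolayPt := ⟨fun _ => a, fun i j _ => Subsingleton.elim i j⟩
  let xb : Fin 1 ↪ GolayPt := ⟨fun _ => b, fun i j _ => Subsingleton.elim i j⟩
  obtain ⟨X, hX, hXa⟩ := extend_emb (by norm_num : 1 ≤ 3) hc xa
    (fun _ => Finset.mem_compl.mpr ha)
  obtain ⟨Y, hY, hYb⟩ := extend_emb (by norm_num : 1 ≤ 3) hc xb
    (fun _ => Finset.mem_compl.mpr hb)
  obtain ⟨g, hg, hgd, hgp, hgXY⟩ := dodecad_pt_three_trans hd hp X Y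
    (fun i => Finset.mem_compl.mp (hX i)) (fun i => Finset.mem_compl.mp (hY i))
  refine ⟨g, hg, hgd, hgp, ?_⟩
  have h1 := hgXY (Fin.castLE (by norm_num : 1 ≤ 3) 0)
  rw [hXa 0, hYb 0] at h1
  exact h1

/-- an element of the group of the code mapping the dodecad of squares to its complement and the
residue 0 to the extra point. -/
theorem exists_swap_sqDod :
    ∃ g ∈ M24, g • Spor.squareDodecad = Spor.squareDodecadᶜ ∧ g (some 0) = none := by
  have hd' := compl_mem_dodecads sqDod_mem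
  obtain ⟨g0, hg0⟩ := transitive_dodecads sqDod_mem hd'
  have hg0' : (g0 : Equiv.Perm GolayPt) • Spor.squareDodecad = Spor.squareDodecadᶜ := hg0
  have h1 : (g0 : Equiv.Perm GolayPt) (some 0) ∈ Spor.squareDodecadᶜ := by
    rw [← hg0']
    exact Finset.smul_mem_smul_finset zero_mem_sqDod
  obtain ⟨h, hh, hhd, hh0⟩ := dodecad_trans_pt hd' h1 (Finset.mem_compl.mpr none_not_mem_sqDod)
  refine ⟨h * g0, M24.mul_mem hh g0.2, ?_, ?_⟩
  · rw [mul_smul, hg0', hhd]
  · rw [Equiv.Perm.mul_apply, hh0]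

theorem mem_M11_iff {x : Equiv.Perm GolayPt} :
    x ∈ Spor.M11 ↔ x ∈ M24 ∧ x • Spor.squareDodecad = Spor.squareDodecad ∧ x (some 0) = some 0 := by
  unfold Spor.M11 Spor.M12
  rw [Subgroup.mem_inf, Subgroup.mem_inf]
  constructor
  · rintro ⟨⟨h1, h2⟩, h3⟩
    exact ⟨h1, h2, h3⟩
  · rintro ⟨h1, h2, h3⟩
    exact ⟨⟨h1, h2⟩, h3⟩

theorem mem_M12_none_iff {x : Equiv.Perm GolayPt} :
    x ∈ Spor.M12 ⊓ MulAction.stabilizer (Equiv.Perm GolayPt) (none : GolayPt) ↔
      x ∈ M24 ∧ x • Spor.squareDodecad = Spor.squareDodecad ∧ x none = none := by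
  unfold Spor.M12
  rw [Subgroup.mem_inf, Subgroup.mem_inf]
  constructor
  · rintro ⟨⟨h1, h2⟩, h3⟩
    exact ⟨h1, h2, h3⟩
  · rintro ⟨h1, h2, h3⟩
    exact ⟨⟨h1, h2⟩, h3⟩

theorem mem_conj_smul_iff (g x : Equiv.Perm GolayPt) (H : Subgroup (Equiv.Perm GolayPt)) :
    x ∈ MulAut.conj g • H ↔ g⁻¹ * x * g ∈ H := by
  rw [Subgroup.mem_pointwise_smul_iff_inv_smul_mem, ← map_inv, MulAut.smul_def,
    MulAut.conj_apply, inv_inv]

end Cfsg.Agent.Helper9.Golay
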