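import Mathlib
import Cfsg.Prelude.Def_Sporadic_a
import Cfsg.Agent.Helper9.Golay.Syl3Thm

set_option autoImplicit false

/-!
Elements of order three of the group of the code, up to conjugacy and inversion.
-/

namespace Cfsg.Agent.Helper9.Golay

open Cfsg
open scoped Pointwise

theorem orderOf_conj_elt {G : Type*} [Group G] (k u : G) : orderOf (k * u * k⁻¹) = orderOf u := by
  rw [← MulAut.conj_apply]
  exact MulEquiv.orderOf_eq _ _

theorem ncard_fixSet_zpowers' (u : ↥M24) :
    (fixSet (Subgroup.zpowers u)).ncard =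
      (Finset.univ.filter fun p => ((u : ↥M24) : Equiv.Perm GolayPt) p = p).card := by
  rw [fixSet_zpowers, ← Set.ncard_coe_finset]
  congr 1
  ext p
  simp

/-- an element of order three is conjugate to one of two elements or to its square. -/
theorem elt3_classify (x : Equiv.Perm GolayPt) (hx : x ∈ M24) (h3 : orderOf x = 3) :
    ∃ k ∈ M24, ∃ r ∈ M24, (k * x * k⁻¹ = r ∨ k * x * k⁻¹ = r * r) ∧
      ((IsTbl r p3Rep6 ∧ (Finset.univ.filter fun p => x p = p).card = 6) ∨
        (IsTbl r p3Rep0 ∧ (Finset.univ.filter fun p => x p = p).card = 0)) := by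
  obtain ⟨u, hu⟩ : ∃ u : ↥M24, u = ⟨x, hx⟩ := ⟨_, rfl⟩
  have hux : ((u : ↥M24) : Equiv.Perm GolayPt) = x := by rw [hu]
  have hou : orderOf u = 3 := by
    rw [← h3, ← hux]
    exact (Subgroup.orderOf_coe u).symm
  have hX : Nat.card (Subgroup.zpowers u) = 3 := by rw [Nat.card_zpowers, hou]
  obtain ⟨k, r, h, hk⟩ := sub3_classify (Subgroup.zpowers u) hX
  rw [ncard_fixSet_zpowers', hux] at h
  rw [conj_zpowers] at hk
  have hmem : k * u * k⁻¹ ∈ Subgroup.zpowers r := by
    rw [← hk]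
    exact Subgroup.mem_zpowers _
  have hor : orderOf r = 3 := by
    rw [← Nat.card_zpowers, ← hk, Nat.card_zpowers, orderOf_conj_elt, hou]
  have hne : k * u * k⁻¹ ≠ 1 := by
    intro h1
    have : orderOf (k * u * k⁻¹) = 3 := by rw [orderOf_conj_elt, hou]
    rw [h1, orderOf_one] at this
    norm_num at this
  rw [Subgroup.mem_zpowers_iff] at hmem
  obtain ⟨j, hj⟩ := hmem
  have hj' : r ^ j = r ^ (j % 3) := by
    have := zpow_mod_orderOf r j
    rw [hor] at this
    exact this.symm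
  have hj3 : 0 ≤ j % 3 ∧ j % 3 < 3 :=
    ⟨Int.emod_nonneg _ (by norm_num), Int.emod_lt_of_pos _ (by norm_num)⟩
  obtain ⟨n, hn⟩ : ∃ n : ℕ, j % 3 = n := ⟨(j % 3).toNat, by omega⟩
  rw [hj', hn, zpow_natCast] at hj
  have hn3 : n < 3 := by omega
  have hcoe : ((k : ↥M24) : Equiv.Perm GolayPt) * x * ((k : ↥M24) : Equiv.Perm GolayPt)⁻¹ =
      (((k * u * k⁻¹ : ↥M24) : ↥M24) : Equiv.Perm GolayPt) := by
    rw [← hux]
    rfl
  refine ⟨k, k.2, r, r.2, ?_, h⟩
  rw [hcoe, ← hj]
  interval_cases n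
  · exact absurd (by rw [← hj, pow_zero]) hne
  · left
    rw [pow_one]
  · right
    rw [pow_two]
    rfl

end Cfsg.Agent.Helper9.Golay
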