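import Mathlib
import Cfsg.Prelude
import Cfsg.Agent.Helper9.Golay.TrioOct

set_option autoImplicit false

/-! The stabilizer of an octad is doubly transitive on the trios through it. -/

namespace Cfsg.Agent.Helper9.Golay

open Cfsg
open scoped Pointwise

theorem a0_mem : (1009728 : ℕ) ∈ codeList := by decide +kernel

theorem a0_octad : suppM 1009728 ∈ octads :=
  (mem_octads_iff _).mpr ⟨1009728, a0_mem, by decide, rfl⟩

theorem smul_mem_Dx {g : Equiv.Perm GolayPt} (hg : g ∈ M24) {o a : Finset GolayPt} {x : GolayPt}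
    (ha : a ∈ Dx o x) : g • a ∈ Dx (g • o) (g x) := by
  refine ⟨smul_mem_wordsOfWeight hg ha.1, ?_, ?_⟩
  · rw [apply_mem_smul_iff]
    exact ha.2.1
  · rw [← Finset.smul_finset_inter, card_smul_finset]
    exact ha.2.2

/-- standard position for an octad, a point outside and an octad away from both. -/
theorem exists_std_tr {o : Finset GolayPt} (ho : o ∈ octads) {x : GolayPt} (hx : x ∉ o)
    {c : Finset GolayPt} (hc : c ∈ Dx o x) :
    ∃ h ∈ M24, h • suppM 5279 = o ∧ h (idxPtN 5) = x ∧ h • suppM 1009728 = c := by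
  obtain ⟨h0, hh0, hho, hhx⟩ := exists_flag_out ho hx
  have h0D : suppM 1009728 ∈ Dx (suppM 5279) (idxPtN 5) := by
    refine ⟨a0_octad, ?_, ?_⟩
    · rw [mem_suppM_idx (by norm_num)]
      decide
    · rw [suppM_inter, card_suppM]
      decide
  have h1 := smul_mem_Dx hh0 h0D
  rw [hho, hhx] at h1
  obtain ⟨g, hg, hgx, hgo, hgc⟩ := (flag_out_orbits x o ho hx).2.2.2 _ _ h1.1 hc.1 h1.2.1 hc.2.1
    (by rw [h1.2.2, hc.2.2])
  refine ⟨g * h0, M24.mul_mem hg hh0, ?_, ?_, ?_⟩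
  · rw [mul_smul, hho, hgo]
  · rw [Equiv.Perm.mul_apply, hhx, hgx]
  · rw [mul_smul, hgc]

theorem tr_mask {o : Finset GolayPt} {x : GolayPt} {c : Finset GolayPt} {h : Equiv.Perm GolayPt}
    (hh : h ∈ M24) (hho : h • suppM 5279 = o) (hhx : h (idxPtN 5) = x)
    (hhc : h • suppM 1009728 = c) {b : Finset GolayPt} (hb : b ∈ Dx o x) (hbc : b ≠ c) :
    ∃ m ∈ codeList, trP m = true ∧ suppM m = h⁻¹ • b := by
  have he : h⁻¹ • b ∈ octads := smul_mem_wordsOfWeight (M24.inv_mem hh) hb.1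
  obtain ⟨m, hm, hp8, hs⟩ := (mem_octads_iff _).mp he
  have hb5 : m.testBit 5 = false := by
    rw [← Bool.not_eq_true, ← mem_suppM_idx (by norm_num), hs, mem_smul_finset_iff', inv_inv, hhx]
    exact hb.2.1
  have h0 : popc (m &&& 5279) = 0 := by
    have e1 : (suppM m ∩ suppM 5279).card = (h • suppM 5279 ∩ b).card := by
      rw [hs, Finset.inter_comm, card_inter_inv_smul]
    rw [← card_suppM, ← suppM_inter, e1, hho]
    exact hb.2.2
  have hne : m ≠ 1009728 := by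
    rintro rfl
    apply hbc
    rw [← hhc, hs, smul_inv_smul]
  refine ⟨m, hm, ?_, hs⟩
  unfold trP
  simp [hp8, hb5, h0, hne]

theorem stab_trans2 {o : Finset GolayPt} (ho : o ∈ octads) {x : GolayPt} (hx : x ∉ o)
    {c b d : Finset GolayPt} (hc : c ∈ Dx o x) (hb : b ∈ Dx o x) (hd : d ∈ Dx o x)
    (hbc : b ≠ c) (hdc : d ≠ c) : ∃ g ∈ M24, g • o = o ∧ g • c = c ∧ g • b = d := by
  obtain ⟨h, hh, hho, hhx, hhc⟩ := exists_std_tr ho hx hc
  obtain ⟨m, hm, hP, hs⟩ := tr_mask hh hho hhx hhc hb hbc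
  obtain ⟨m', hm', hP', hs'⟩ := tr_mask hh hho hhx hhc hd hdc
  have hconj := classes_conj (KOf [5] [5279, 1009728]) (KOf_le _ _) trTabs tr_tabs trCKs trCCert
    trCRoot trCFinal trP (fun _ => 0) tr_runs tr_pass hm hm' hP hP' rfl
  rw [hs, hs'] at hconj
  obtain ⟨g, hg, -, hmask, hgab⟩ := conj_glue [5] [5279, 1009728] hh hconj
  refine ⟨g, hg, ?_, ?_, hgab⟩
  · have := hmask 5279 (by simp)
    rwa [hho] at this
  · have := hmask 1009728 (by simp)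
    rwa [hhc] at this

theorem trios_two_trans {o : Finset GolayPt} (ho : o ∈ octads)
    {T₁ T₂ T₁' T₂' : Finset (Finset GolayPt)} (h1 : T₁ ∈ trios) (h2 : T₂ ∈ trios)
    (h1' : T₁' ∈ trios) (h2' : T₂' ∈ trios) (ho1 : o ∈ T₁) (ho2 : o ∈ T₂) (ho1' : o ∈ T₁')
    (ho2' : o ∈ T₂') (hne : T₁ ≠ T₂) (hne' : T₁' ≠ T₂') :
    ∃ g ∈ M24, g • o = o ∧ g • T₁ = T₁' ∧ g • T₂ = T₂' := by
  obtain ⟨x, hx⟩ := exists_not_mem_octad ho
  obtain ⟨a1, ha1, rfl⟩ := exists_Dx_of_trio hx h1 ho1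
  obtain ⟨a2, ha2, rfl⟩ := exists_Dx_of_trio hx h2 ho2
  obtain ⟨c1, hc1, rfl⟩ := exists_Dx_of_trio hx h1' ho1'
  obtain ⟨c2, hc2, rfl⟩ := exists_Dx_of_trio hx h2' ho2'
  have ha12 : a1 ≠ a2 := fun h => hne (by rw [h])
  have hc12 : c1 ≠ c2 := fun h => hne' (by rw [h])
  obtain ⟨g1, hg1, hg1x, hg1o, hg1a⟩ := (flag_out_orbits x o ho hx).2.2.2 a1 c1 ha1.1 hc1.1
    ha1.2.1 hc1.2.1 (by rw [ha1.2.2, hc1.2.2])
  have hbD : g1 • a2 ∈ Dx o x := by
    have := smul_mem_Dx hg1 ha2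
    rwa [hg1o, hg1x] at this
  have hbc : g1 • a2 ≠ c1 := by
    rw [← hg1a]
    intro h
    exact ha12 (smul_left_cancel g1 h).symm
  obtain ⟨g2, hg2, hg2o, hg2c, hg2b⟩ := stab_trans2 ho hx hc1 hbD hc2 hbc (Ne.symm hc12)
  refine ⟨g2 * g1, M24.mul_mem hg2 hg1, ?_, ?_, ?_⟩
  · rw [mul_smul, hg1o, hg2o]
  · rw [smul_trioOf, mul_smul, mul_smul, hg1o, hg2o, hg1a, hg2c]
  · rw [smul_trioOf, mul_smul, mul_smul, hg1o, hg2o, hg2b]

end Cfsg.Agent.Helper9.Golay
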