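import Mathlib
import Cfsg.Prelude
import Cfsg.Agent.Helper9.Golay.TrioOct2

set_option autoImplicit false

/-! The kernel of the action of the stabilizer of an octad on the trios through it. -/

namespace Cfsg.Agent.Helper9.Golay

open Cfsg
open scoped Pointwise

theorem K6_par_check : (codeList.filter (fun m => popc m == 8)).all (fun m =>
    !(popc (m &&& 5279) == 0) ||
      cert6.all (fun e => pullT (m24Tables.getD e.2 idT) m == m ||
        pullT (m24Tables.getD e.2 idT) m == coct0 ^^^ m)) = true := by decide +kernel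

theorem suppM_coct0_xor {m : ℕ} (hm : m < 2 ^ 24) (h0 : popc (m &&& 5279) = 0) :
    suppM (coct0 ^^^ m) = (suppM 5279 ∪ suppM m)ᶜ := by
  have hz : m &&& 5279 = 0 :=
    eq_zero_of_popc_eq_zero (lt_of_le_of_lt Nat.and_le_left hm) h0
  ext p
  rw [Finset.mem_compl, Finset.mem_union, mem_suppM, mem_suppM, mem_suppM, coct0_eq,
    Nat.testBit_xor, testBit_fullMask_xor _ (ptIdx_lt _)]
  have hb := congrArg (fun n => n.testBit (ptIdx p)) hz
  simp only [Nat.testBit_and, Nat.zero_testBit] at hb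
  cases h1 : m.testBit (ptIdx p) <;> cases h2 : (5279 : ℕ).testBit (ptIdx p) <;> simp_all

theorem K6_par {g : Equiv.Perm GolayPt} (hg : g ∈ K6) {m : ℕ} (hm : m ∈ codeList)
    (h8 : popc m = 8) (h0 : popc (m &&& 5279) = 0) :
    g • suppM m = suppM m ∨ g • suppM m = (suppM 5279 ∪ suppM m)ᶜ := by
  obtain ⟨e, he, ht⟩ := K6_table (K6.inv_mem hg)
  have hc := List.all_eq_true.mp K6_par_check m (List.mem_filter.mpr ⟨hm, by simpa using h8⟩)
  have hcond : (popc (m &&& 5279) == 0) = true := by rw [beq_iff_eq]; exact h0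
  rw [hcond] at hc
  simp only [Bool.not_true, Bool.false_or] at hc
  have hc' := List.all_eq_true.mp hc e he
  have hs := suppM_pullT ht m
  rw [inv_inv] at hs
  rw [Bool.or_eq_true, beq_iff_eq, beq_iff_eq] at hc'
  rcases hc' with h | h
  · left
    rw [← hs, h]
  · right
    rw [← hs, h, suppM_coct0_xor (codeList_lt hm) h0]

theorem trioOf_compl {o a : Finset GolayPt} (ho : o ∈ octads) (ha : a ∈ octads)
    (hd : Disjoint o a) : trioOf o (o ∪ a)ᶜ = trioOf o a := by
  symm
  exact trio_eq_trioOf (trioOf_mem ho ha hd) (left_mem_trioOf o a) (compl_mem_trioOf o a)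
    (octad_ne_of_disjoint ho (disjoint_compl_union_left o a))

/-- an element fixing an octad pointwise fixes every trio through it. -/
theorem KO_fixes_trios {o : Finset GolayPt} (ho : o ∈ octads) {g : Equiv.Perm GolayPt}
    (hg : g ∈ KO o) {T : Finset (Finset GolayPt)} (hT : T ∈ trios) (hoT : o ∈ T) :
    g • T = T := by
  obtain ⟨x, hx⟩ := exists_not_mem_octad ho
  obtain ⟨a, ha, rfl⟩ := exists_Dx_of_trio hx hT hoT
  have hgo : g • o = o := smul_eq_of_fix (mem_KO_iff.mp hg).2
  obtain ⟨k, hk, rfl⟩ := exists_smul_oct0 ho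
  have h1 := (conj_mem_KO hk _ g).mp hg
  rw [KO_oct0] at h1
  have he : k⁻¹ • a ∈ octads := smul_mem_wordsOfWeight (M24.inv_mem hk) ha.1
  obtain ⟨m, hm, hp8, hs⟩ := (mem_octads_iff _).mp he
  have h0 : popc (m &&& 5279) = 0 := by
    have e1 : (suppM m ∩ suppM 5279).card = (k • suppM 5279 ∩ a).card := by
      rw [hs, Finset.inter_comm, card_inter_inv_smul]
    rw [← card_suppM, ← suppM_inter, e1]
    exact ha.2.2
  have hga : g • a = k • ((k⁻¹ * g * k) • suppM m) := by
    rw [hs, mul_smul, mul_smul, smul_inv_smul, smul_inv_smul]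
  have hak : a = k • suppM m := by rw [hs, smul_inv_smul]
  rw [smul_trioOf, hgo]
  rcases K6_par h1 hm hp8 h0 with h | h
  · rw [hga, h, ← hak]
  · rw [hga, h, smul_finset_compl', Finset.smul_finset_union, ← hak]
    exact trioOf_compl ho ha.1 (disjoint_of_mem_Dx ha)

/-- the elements of the stabilizer of an octad fixing every trio through it. -/
def trioKer (o : Finset GolayPt) : Subgroup ↥(GO o) where
  carrier := {g | ∀ T ∈ trios, o ∈ T → (g : Equiv.Perm GolayPt) • T = T}
  one_mem' := fun T _ _ => one_smul _ T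
  mul_mem' := by
    intro a b ha hb T hT hoT
    change ((a : Equiv.Perm GolayPt) * (b : Equiv.Perm GolayPt)) • T = T
    rw [mul_smul, hb T hT hoT, ha T hT hoT]
  inv_mem' := by
    intro a ha T hT hoT
    change ((a : Equiv.Perm GolayPt))⁻¹ • T = T
    rw [inv_smul_eq_iff, ha T hT hoT]

theorem mem_GO_iff {o : Finset GolayPt} {g : Equiv.Perm GolayPt} :
    g ∈ GO o ↔ g ∈ M24 ∧ g • o = o := by
  unfold GO
  exact Subgroup.mem_inf

theorem trioKer_normal (o : Finset GolayPt) : (trioKer o).Normal := by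
  constructor
  intro n hn g T hT hoT
  have hgM := (mem_GO_iff.mp g.2).1
  have hgo := (mem_GO_iff.mp g.2).2
  change ((g : Equiv.Perm GolayPt) * (n : Equiv.Perm GolayPt) * (g : Equiv.Perm GolayPt)⁻¹) • T = T
  have hT' : (g : Equiv.Perm GolayPt)⁻¹ • T ∈ trios := smul_mem_trios (M24.inv_mem hgM) hT
  have hoT' : o ∈ (g : Equiv.Perm GolayPt)⁻¹ • T := by
    have : (g : Equiv.Perm GolayPt)⁻¹ • o ∈ (g : Equiv.Perm GolayPt)⁻¹ • T :=
      Finset.smul_mem_smul_finset hoT
    rwa [inv_smul_eq_iff.mpr hgo.symm] at this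
  rw [mul_smul, mul_smul, hn _ hT' hoT', smul_inv_smul]

theorem trioKer_ne_top {o : Finset GolayPt} (ho : o ∈ octads) : trioKer o ≠ ⊤ := by
  intro htop
  have h15 := ncard_trios_through ho
  have h1 : 1 < {T : Finset (Finset GolayPt) | T ∈ trios ∧ o ∈ T}.ncard := by rw [h15]; omega
  obtain ⟨T₁, T₂, hT₁, hT₂, hne⟩ := (Set.one_lt_ncard_iff (Set.toFinite _)).mp h1
  obtain ⟨g, hg, hgo, hg1, -⟩ := trios_two_trans ho hT₁.1 hT₂.1 hT₂.1 hT₁.1 hT₁.2 hT₂.2 hT₂.2 hT₁.2
    hne (Ne.symm hne)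
  have hmem : (⟨g, mem_GO_iff.mpr ⟨hg, hgo⟩⟩ : ↥(GO o)) ∈ trioKer o := by rw [htop]; trivial
  have := hmem T₁ hT₁.1 hT₁.2
  change g • T₁ = T₁ at this
  rw [hg1] at this
  exact hne this.symm

theorem trioKer_le {o : Finset GolayPt} (ho : o ∈ octads) (g : ↥(GO o)) (hg : g ∈ trioKer o) :
    (g : Equiv.Perm GolayPt) ∈ KO o := by
  classical
  have := trioKer_normal o
  have hA : (rhoO o).range = alternatingGroup ↥o := range_rhoO ho
  have hcard : 5 ≤ Nat.card ↥o := by
    rw [Nat.card_eq_fintype_card, Fintype.card_coe, ho.2]; omega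
  have hsimple : IsSimpleGroup (alternatingGroup ↥o) := alternatingGroup.isSimpleGroup hcard
  -- the image of the kernel in the alternating group
  let M : Subgroup ↥(alternatingGroup ↥o) := ((trioKer o).map (rhoO o)).subgroupOf _
  have hMn : M.Normal := by
    constructor
    intro n hn a
    rw [Subgroup.mem_subgroupOf] at hn ⊢
    obtain ⟨n0, hn0, hn0e⟩ := Subgroup.mem_map.mp hn
    have ha : (a : Equiv.Perm ↥o) ∈ (rhoO o).range := by rw [hA]; exact a.2
    obtain ⟨a0, ha0⟩ := ha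
    refine Subgroup.mem_map.mpr ⟨a0 * n0 * a0⁻¹, (trioKer_normal o).conj_mem n0 hn0 a0, ?_⟩
    rw [map_mul, map_mul, map_inv, ha0, hn0e]
    rfl
  rcases hMn.eq_bot_or_eq_top with hbot | htop
  · -- trivial image: in the kernel of the action on the octad
    have h1 : (⟨rhoO o g, by rw [← hA]; exact ⟨g, rfl⟩⟩ : ↥(alternatingGroup ↥o)) ∈ M := by
      rw [Subgroup.mem_subgroupOf]
      exact Subgroup.mem_map.mpr ⟨g, hg, rfl⟩
    rw [hbot, Subgroup.mem_bot] at h1
    have h2 : rhoO o g = 1 := congrArg Subtype.val h1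
    exact (mem_ker_rhoO g).mp h2
  · -- full image: everything is in the kernel, impossible
    exfalso
    apply trioKer_ne_top ho
    rw [eq_top_iff]
    intro x _
    have hx : (⟨rhoO o x, by rw [← hA]; exact ⟨x, rfl⟩⟩ : ↥(alternatingGroup ↥o)) ∈ M := by
      rw [htop]; trivial
    rw [Subgroup.mem_subgroupOf] at hx
    obtain ⟨n, hn, hne⟩ := Subgroup.mem_map.mp hx
    have hker : n⁻¹ * x ∈ (rhoO o).ker := by
      rw [MonoidHom.mem_ker, map_mul, map_inv]
      change (rhoO o n)⁻¹ * rhoO o x = 1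
      rw [hne]
      exact inv_mul_cancel _
    have hK : ((n⁻¹ * x : ↥(GO o)) : Equiv.Perm GolayPt) ∈ KO o := (mem_ker_rhoO _).mp hker
    have hmem : n⁻¹ * x ∈ trioKer o := fun T hT hoT => KO_fixes_trios ho hK hT hoT
    have : x = n * (n⁻¹ * x) := by group
    rw [this]
    exact (trioKer o).mul_mem hn hmem

theorem trio_kernel {o : Finset GolayPt} (ho : o ∈ octads) {g : Equiv.Perm GolayPt}
    (hg : g ∈ M24) (hgo : g • o = o) :
    (∀ T ∈ trios, o ∈ T → g • T = T) ↔ ∀ p ∈ o, g p = p := by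
  constructor
  · intro h
    have := trioKer_le ho ⟨g, mem_GO_iff.mpr ⟨hg, hgo⟩⟩ h
    exact (mem_KO_iff.mp this).2
  · intro h T hT hoT
    exact KO_fixes_trios ho (mem_KO_iff.mpr ⟨hg, h⟩) hT hoT

end Cfsg.Agent.Helper9.Golay
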