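import Mathlib
import Cfsg.Prelude.Def_Sporadic_a
import Cfsg.Agent.Helper9.Golay.OctFlag2

set_option autoImplicit false

/-!
Orbits of the stabilizer of a dodecad and one of its points on the dodecads through the point.
-/

namespace Cfsg.Agent.Helper9.Golay

open Cfsg
open scoped Pointwise

def dodFlagProg : List (ℕ × ℕ) := [(2, 1), (0, 3), (0, 4), (0, 0), (0, 2), (2, 7), (0, 8), (2, 9), (0, 10), (0, 11), (1, 12), (2, 3), (2, 14), (2, 15), (0, 16), (2, 17), (0, 18), (19, 19), (20, 20), (21, 21), (22, 22), (21, 23), (24, 13), (1, 0), (2, 26), (0, 27), (2, 28), (0, 29), (2, 30), (0, 31), (1, 32), (2, 10), (2, 34), (2, 35), (36, 36), (37, 37), (37, 38), (39, 33), (1, 6), (0, 41), (0, 42), (1, 43), (0, 44), (0, 45), (1, 46), (0, 47), (1, 7), (0, 49), (2, 50), (0, 51), (0, 52), (1, 53), (54, 54), (55, 55), (56, 56), (54, 57), (58, 48), (1, 30), (2, 60), (0, 61), (2, 41), (0, 63), (2, 64), (2, 65), (0, 66), (2, 67), (68, 68), (69, 69), (68, 70), (70, 70), (71, 72), (73, 62), (0, 6), (2, 75), (0, 76), (1, 77), (0, 78),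 (0, 79), (2, 80), (1, 81), (2, 2), (0, 83), (2, 84), (0, 85), (1, 86), (0, 87), (0, 88), (89, 89), (90, 90), (90, 91), (91, 91), (92, 93), (94, 82), (1, 84), (0, 96), (1, 97), (2, 98), (2, 99), (0, 100), (0, 5), (0, 102), (2, 103), (2, 104), (105, 105), (105, 106), (106, 106), (108, 108), (107, 109), (110, 101), (0, 1), (2, 112), (2, 113), (0, 114), (0, 115), (0, 116), (0, 117), (0, 118), (1, 112), (0, 120), (0, 121), (1, 122), (0, 123), (0, 124), (1, 125), (126, 126), (127, 127), (128, 128), (127, 129), (130, 119), (59, 25), (132, 132), (132, 133), (133, 133), (134, 135), (95, 40), (111, 40), (95, 138), (40, 40), (40, 140), (140, 140), (141, 142), (143, 139), (40, 59), (59, 145), (145, 145), (147, 147), (145, 148), (149, 146), (131, 132), (59, 59), (152, 152), (153, 151), (25, 25), (25, 155), (155, 155), (156, 157), (25, 40), (136, 159), (25, 74), (143, 161), (40, 155), (153, 163), (95, 25), (40, 165), (158, 166)]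

def dodK1Gens : List ℕ := [137, 144, 150, 154, 160, 162, 164, 167]

def dodC1Ks : List ℕ := [4, 6, 8, 12]

set_option maxRecDepth 1000000 in
def dodC1Cert : ℕ → List (ℕ × ℕ)
  | 4 => [(253, 0), (253, 1), (253, 2), (253, 3), (253, 4), (253, 5), (253, 6), (253, 7), (2428, 0), (2428, 1), (2428, 2), (2428, 3), (2428, 4), (2428, 5), (2428, 6), (2428, 7), (3555, 0), (3555, 1), (3555, 2), (3555, 3), (3555, 4), (3555, 5), (3555, 6), (3555, 7), (1469, 0), (1469, 3), (1469, 4), (1469, 5), (1469, 6), (1469, 7), (3467, 0), (3467, 2), (3467, 3), (3467, 4), (3467, 5), (3467, 6), (3467, 7), (2801, 0), (2801, 1), (2801, 2), (2801, 3), (2801, 5), (2801, 6), (2801, 7), (4052, 1), (4052, 2), (4052, 3), (4052, 4), (4052, 5), (4052, 6), (4052, 7), (1659, 0), (1659, 1), (1659, 2), (1659, 4), (1659, 5), (1659, 6), (3177, 2), (3177, 3), (3177, 4), (3177, 6), (3177, 7), (3934, 0), (3934, 1), (3934, 2), (3934, 3), (3934, 7), (2929, 0), (2929, 1), (2929, 2), (2929, 3), (2929, 5), (2929, 6), (2929, 7), (3741, 1), (3741, 2), (3741, 3), (3741,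 5), (3741, 6), (3741, 7), (2979, 2), (2979, 3), (2979, 4), (2979, 6), (2297, 0), (2297, 2), (2297, 3), (2297, 4), (2297, 7), (3917, 0), (3917, 3), (3917, 5), (3917, 6), (3917, 7), (2033, 0), (2033, 3), (2033, 4), (2033, 6), (2033, 7), (2925, 1), (2925, 3), (2925, 5), (2925, 7), (3691, 6), (3691, 7), (2008, 3), (2008, 7), (3952, 2), (3952, 4), (3952, 6), (3900, 1), (3900, 2), (3900, 7), (3784, 1), (3784, 2), (3784, 3), (3784, 7), (1689, 0), (1689, 1), (1689, 5), (1689, 6), (1689, 7), (2985, 4), (2021, 4), (2021, 6), (2021, 7), (893, 0), (893, 1), (3704, 0), (3704, 5), (3704, 7), (1493, 0), (3257, 6), (3257, 7), (1768, 0), (1833, 0), (1833, 4), (1833, 5), (3048, 5), (3772, 7), (3289, 1), (3289, 3), (3533, 3), (4042, 2), (4042, 7), (3312, 2), (3312, 5), (3387, 4), (1865, 5), (890, 1), (760, 2), (760, 7), (2901, 4), (2939, 2), (2939, 6), (1853, 3), (2969, 0), (2969, 7), (3320, 2), (3561, 4), (2681, 3), (2781, 0), (2781, 3), (1961, 7)]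
  | 6 => [(57, 0), (57, 1), (57, 2), (57, 3), (57, 4), (57, 5), (57, 6), (57, 7), (378, 0), (378, 1), (378, 2), (378, 3), (378, 4), (378, 5), (378, 6), (378, 7), (3367, 0), (3367, 1), (3367, 2), (3367, 3), (3367, 4), (3367, 5), (3367, 6), (3367, 7), (1193, 0), (1193, 1), (1193, 2), (1193, 3), (1193, 4), (1193, 5), (1193, 6), (1193, 7), (3201, 0), (3201, 1), (3201, 2), (3201, 3), (3201, 4), (3201, 5), (3201, 6), (2673, 0), (2673, 1), (2673, 2), (2673, 3), (2673, 4), (2673, 5), (2673, 6), (2673, 7), (3520, 0), (3520, 1), (3520, 2), (3520, 3), (3520, 4), (3520, 5), (3520, 6), (3520, 7), (1137, 0), (1137, 1), (1137, 2), (1137, 3), (1137, 4), (1137, 5), (1137, 6), (1137, 7), (3180, 0), (3180, 1), (3180, 2), (3180, 3), (3180, 4), (3180, 5), (3180, 6), (3180, 7), (2896, 0), (2896, 2), (2896, 3), (2896, 4), (2896, 5), (2896, 6), (2896, 7), (2417, 0), (2417, 1), (2417, 2), (2417, 3), (2417, 4), (2417, 5), (2417, 6), (2417, 7), (1691, 0), (1691, 1), (1691, 2), (1691, 3), (1691, 4), (1691, 5), (1691, 6), (1691, 7), (421,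 0), (421, 1), (421, 2), (421, 3), (421, 4), (421, 6), (2239, 0), (2239, 1), (2239, 2), (2239, 3), (2239, 4), (2239, 5), (2239, 6), (2239, 7), (2883, 0), (2883, 1), (2883, 4), (2883, 5), (2883, 6), (2883, 7), (1780, 0), (1780, 1), (1780, 2), (1780, 3), (1780, 4), (1780, 6), (1780, 7), (2603, 0), (2603, 1), (2603, 2), (2603, 3), (2603, 4), (2603, 5), (2603, 6), (2603, 7), (1645, 0), (1645, 1), (1645, 2), (1645, 3), (1645, 4), (1645, 5), (1645, 6), (1645, 7), (1820, 0), (1820, 2), (1820, 3), (1820, 4), (1820, 5), (1820, 7), (3684, 0), (3684, 1), (3684, 2), (3684, 5), (3684, 6), (3684, 7), (3638, 1), (3638, 2), (3638, 3), (3638, 4), (3638, 6), (3656, 0), (3656, 1), (3656, 2), (3656, 3), (3656, 5), (3656, 6), (3656, 7), (1165, 0), (1165, 1), (1165, 2), (1165, 4), (1165, 5), (1165, 6), (1165, 7), (2467, 0), (2467, 2), (2467, 4), (2467, 5), (2467, 7), (2016, 0), (2016, 1), (2016, 2), (2016, 3), (2016, 4), (2016, 5), (2016, 7), (361, 0), (361, 1), (361, 2), (361, 3), (361, 4), (361, 5), (361, 6), (1423, 0), (1423, 1),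 (1423, 2), (1423, 3), (1423, 4), (1423, 5), (1423, 6), (1423, 7), (1504, 0), (1504, 2), (1504, 3), (1504, 4), (1504, 5), (1504, 6), (1504, 7), (3224, 0), (3224, 1), (3224, 2), (3224, 3), (3224, 4), (3224, 5), (3224, 6), (3224, 7), (3668, 0), (3668, 1), (3668, 2), (3668, 3), (3668, 4), (3668, 5), (3668, 7), (1232, 0), (1232, 3), (1232, 4), (1232, 5), (1232, 6), (1232, 7), (3119, 1), (3119, 2), (3119, 3), (3119, 4), (3119, 5), (3119, 6), (3119, 7), (1258, 0), (1258, 1), (1258, 3), (1258, 6), (1258, 7), (1065, 0), (1065, 1), (1065, 3), (1065, 4), (1065, 5), (1065, 6), (3724, 1), (3724, 2), (3724, 4), (3724, 5), (2410, 0), (2410, 1), (2410, 2), (2410, 4), (2410, 5), (2410, 7), (3608, 0), (3608, 2), (3608, 3), (3608, 4), (3608, 5), (3608, 6), (3608, 7), (1603, 0), (1603, 1), (1603, 2), (1603, 3), (1603, 4), (1603, 5), (1603, 6), (1603, 7), (3226, 2), (3226, 3), (3226, 4), (3226, 5), (3226, 6), (3226, 7), (2379, 0), (2379, 2), (2379, 3), (2379, 4), (2379, 5), (2379, 6), (3314, 0), (3314, 1), (3314, 2), (3314, 3), (3314,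 4), (3314, 5), (1888, 0), (1888, 3), (1888, 5), (1888, 6), (1888, 7), (3121, 2), (3121, 4), (3121, 6), (1857, 1), (1857, 2), (1857, 3), (1857, 4), (1857, 6), (1857, 7), (2980, 2), (2980, 3), (2980, 4), (2980, 5), (2980, 7), (936, 1), (936, 2), (936, 5), (936, 7), (822, 1), (822, 2), (822, 3), (822, 4), (822, 6), (1335, 0), (1335, 5), (1335, 6), (3595, 0), (3595, 2), (3595, 3), (3595, 5), (3595, 6), (3595, 7), (732, 1), (732, 6), (732, 7), (2898, 0), (2898, 2), (2898, 3), (2898, 5), (2898, 6), (2872, 0), (2872, 1), (2872, 2), (2872, 6), (2872, 7), (1230, 0), (1230, 1), (1230, 6), (1563, 0), (1563, 4), (1563, 5), (2957, 0), (2957, 1), (2957, 2), (2957, 3), (2957, 5), (2957, 6), (967, 4), (967, 5), (967, 7), (2163, 0), (2163, 2), (2163, 3), (2163, 4), (2163, 5), (2163, 6), (2163, 7), (3438, 0), (3438, 1), (3438, 3), (3438, 6), (3438, 7), (1145, 1), (1145, 2), (1145, 3), (1145, 4), (1145, 5), (1145, 6), (1297, 0), (1297, 1), (1297, 2), (1297, 5), (1297, 6), (1297, 7), (3749, 0), (3749, 1), (3749, 3), (3749, 5), (3749,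 6), (2944, 0), (2944, 1), (2944, 2), (2944, 4), (2678, 1), (2678, 2), (2678, 3), (2678, 4), (2678, 5), (2678, 7), (3239, 0), (3239, 1), (3239, 3), (3239, 4), (3239, 5), (3397, 0), (3397, 1), (3397, 2), (3397, 5), (3397, 6), (3397, 7), (2889, 2), (2889, 4), (2889, 5), (2889, 7), (3294, 0), (3294, 2), (3294, 4), (3294, 5), (3294, 6), (3294, 7), (914, 0), (914, 1), (914, 2), (914, 3), (914, 5), (914, 6), (914, 7), (3223, 1), (3223, 2), (3223, 3), (3223, 5), (3223, 7), (2638, 4), (2638, 5), (2638, 7), (3940, 0), (3940, 4), (3940, 5), (3940, 7), (2475, 0), (2475, 1), (2475, 4), (2475, 6), (3728, 0), (3728, 1), (3728, 3), (3728, 4), (3728, 5), (3728, 6), (3728, 7), (2585, 0), (2585, 3), (2585, 4), (2585, 5), (2585, 7), (865, 0), (865, 2), (429, 0), (429, 3), (429, 4), (429, 5), (429, 7), (2857, 1), (2857, 3), (2857, 4), (2857, 6), (2857, 7), (982, 0), (982, 1), (982, 2), (982, 7), (2835, 0), (2835, 3), (2835, 6), (3696, 1), (3696, 2), (3696, 6), (1910, 0), (1910, 3), (1910, 5), (1910, 6), (1910, 7), (3635, 1), (3635,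 5), (1825, 1), (1825, 3), (1825, 5), (1825, 6), (2734, 0), (2734, 2), (2734, 3), (2734, 4), (2734, 5), (2734, 6), (907, 2), (948, 0), (948, 1), (948, 2), (948, 3), (948, 4), (948, 6), (1827, 0), (435, 3), (435, 6), (1195, 0), (1195, 2), (1195, 4), (483, 0), (483, 1), (483, 5), (483, 6), (1245, 1), (1245, 3), (1245, 5), (1842, 2), (1842, 3), (1842, 4), (1842, 5), (1842, 6), (498, 1), (498, 6), (3096, 0), (3096, 1), (3096, 3), (3096, 5), (3096, 7), (1180, 0), (1180, 1), (1180, 3), (1180, 6), (622, 1), (622, 6), (622, 7), (3474, 1), (3474, 3), (3474, 4), (3474, 6), (1838, 0), (1838, 6), (3114, 1), (3114, 6), (2635, 1), (2635, 2), (2635, 5), (2635, 6), (233, 0), (233, 1), (233, 2), (233, 5), (1955, 4), (1955, 6), (3493, 1), (3493, 3), (3493, 4), (3493, 5), (3493, 6), (1679, 2), (1679, 6), (1679, 7), (2608, 0), (2608, 1), (2608, 5), (476, 4), (1336, 1), (1336, 2), (1324, 0), (1324, 1), (1324, 6), (3754, 0), (3754, 1), (3754, 2), (3754, 4), (3754, 7), (1618, 1), (1618, 3), (1618, 4), (968, 1), (968, 5), (968, 7), (1705,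 0), (1705, 1), (1705, 7), (899, 0), (899, 5), (899, 6), (899, 7), (1877, 3), (1877, 4), (1877, 5), (2261, 6), (2261, 7), (492, 0), (1367, 0), (1367, 1), (1367, 2), (1367, 5), (1367, 6), (3490, 1), (3490, 3), (2616, 4), (2616, 5), (177, 4), (177, 6), (177, 7), (1506, 1), (1506, 2), (1506, 3), (3843, 3), (3843, 4), (3240, 2), (3240, 4), (3240, 5), (3240, 7), (1732, 0), (1732, 2), (1732, 4), (2833, 0), (2833, 1), (2833, 3), (2280, 0), (1376, 6), (3388, 1), (3388, 6), (3388, 7), (2535, 2), (2535, 4), (1353, 0), (1353, 7), (1270, 0), (1270, 2), (1270, 5), (1490, 0), (3986, 0), (3986, 1), (3986, 2), (3986, 5), (742, 4), (742, 7), (3616, 0), (3616, 4), (1213, 6), (1213, 7), (927, 1), (709, 4), (2291, 4), (1404, 0), (1404, 1), (1404, 7), (1381, 2), (1381, 3), (734, 1), (734, 2), (734, 3), (734, 5), (840, 0), (3156, 2), (1580, 6), (1580, 7), (2851, 1), (2851, 4), (501, 0), (501, 1), (501, 7), (808, 1), (3141, 2), (3141, 5), (2647, 2), (3428, 1), (3428, 6), (3428, 7), (2359, 1), (3465, 2), (3465, 5), (3465, 7), (589, 4),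 (589, 5), (2258, 3), (3024, 1), (1642, 4), (3841, 4), (473, 6), (301, 5), (3209, 2), (3209, 6), (494, 2), (494, 4), (1623, 0), (3286, 5), (3286, 6), (3151, 3), (3151, 5), (3151, 6), (3274, 1), (3274, 2), (1632, 6), (3880, 3), (3880, 4), (3880, 7), (2201, 0), (2201, 1), (2201, 7), (3874, 2), (3874, 7), (478, 3), (478, 6), (1874, 1), (1874, 3), (376, 7), (3470, 2), (3470, 4), (563, 1), (691, 3), (2922, 0), (1365, 2), (1365, 5), (1714, 6), (3488, 2), (2778, 4), (2778, 5), (1697, 2), (1697, 7), (815, 2), (815, 3), (1179, 0), (1179, 3), (1179, 5), (996, 5), (3262, 4), (1624, 3), (1624, 4), (1237, 5), (1740, 0), (2360, 2), (2360, 5), (3272, 3), (1553, 4), (1305, 7), (685, 1), (685, 5), (2497, 0), (2497, 1), (2497, 4), (2713, 5), (1140, 2), (1368, 2), (3359, 1), (3359, 6), (2664, 4), (2143, 0), (1443, 1), (1443, 4), (2862, 5), (2449, 3), (2329, 4), (3858, 1), (2243, 1), (3308, 5), (2252, 0), (2252, 6), (461, 6), (2460, 2), (3629, 2), (3629, 4), (3629, 5), (235, 7), (363, 6), (3266, 4), (649, 6), (649, 7), (3912, 6), (849,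 6), (1427, 3), (1427, 7), (2249, 2), (2249, 6), (721, 5), (1333, 3), (3414, 3), (3414, 6), (3746, 5), (3746, 7), (2394, 4), (3420, 0), (2442, 0), (2442, 6), (3872, 5), (1006, 0), (797, 2), (368, 4), (368, 6), (1751, 0), (2437, 3), (1449, 0), (2272, 5), (1256, 3), (1496, 3), (1496, 4), (2579, 6), (1683, 3), (2914, 3), (3980, 0), (689, 2)]
  | 8 => [(21, 0), (21, 1), (21, 2), (21, 3), (21, 4), (21, 5), (21, 6), (21, 7), (60, 0), (60, 1), (60, 2), (60, 3), (60, 4), (60, 5), (60, 6), (60, 7), (3106, 0), (3106, 1), (3106, 2), (3106, 3), (3106, 5), (3106, 7), (47, 0), (47, 1), (47, 2), (47, 3), (47, 4), (47, 5), (47, 6), (47, 7), (3075, 1), (3075, 2), (3075, 3), (3075, 4), (3075, 5), (3075, 6), (611, 0), (611, 1), (611, 2), (611, 3), (611, 4), (611, 5), (611, 6), (611, 7), (3462, 1), (3462, 2), (3462, 3), (3462, 5), (3462, 6), (3462, 7), (83, 0), (83, 1), (83, 2), (83, 3), (83, 4), (83, 6), (3136, 1), (3136, 2), (3136, 3), (3136, 4), (3136, 5), (3136, 7), (342, 0), (342, 1), (342, 2), (342, 3), (342, 4), (342, 5), (342,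 6), (342, 7), (2339, 0), (2339, 1), (2339, 2), (2339, 3), (2339, 4), (2339, 5), (2339, 6), (2339, 7), (1167, 0), (1167, 3), (1167, 5), (1167, 6), (1167, 7), (131, 0), (131, 2), (131, 4), (131, 5), (131, 6), (2103, 2), (2103, 4), (2103, 5), (2103, 6), (2103, 7), (2374, 1), (2374, 3), (2374, 4), (2374, 5), (2374, 6), (2374, 7), (1142, 0), (1142, 2), (1142, 3), (1142, 4), (1142, 5), (1142, 6), (1142, 7), (2094, 2), (2094, 3), (2094, 4), (2094, 5), (2094, 6), (2094, 7), (1099, 2), (1099, 3), (1099, 4), (1099, 5), (1099, 6), (780, 0), (780, 4), (780, 5), (780, 7), (3138, 0), (3138, 1), (3138, 2), (3138, 3), (3138, 5), (3138, 7), (2580, 2), (2580, 3), (2580, 4), (2580, 5), (1034, 0), (1034, 1), (1034, 3), (1034, 6), (1034, 7), (484, 0), (484, 1), (484, 5), (484, 6), (484, 7), (364, 1), (364, 3), (364, 4), (364, 5), (364, 6), (364, 7), (1287, 1), (1287, 2), (1287, 3), (1287, 4), (1287, 5), (1287, 6), (1287, 7), (1190, 0), (1190, 3), (1190, 5), (1190, 6), (1190, 7), (3206, 0), (3206, 1), (3206, 3), (3206, 4), (3206, 5),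 (3206, 6), (3206, 7), (2642, 1), (2642, 2), (2642, 5), (2642, 6), (2642, 7), (1222, 2), (1222, 3), (1222, 4), (1222, 6), (1222, 7), (1059, 0), (1059, 1), (1059, 4), (1059, 5), (1059, 6), (1128, 0), (1128, 1), (1128, 2), (1128, 3), (1128, 5), (3598, 0), (3598, 1), (3598, 2), (3598, 4), (3598, 5), (3598, 6), (3598, 7), (2154, 0), (2154, 4), (2154, 7), (1556, 0), (1556, 4), (1556, 5), (1543, 2), (1543, 3), (1543, 4), (1543, 5), (2186, 0), (2186, 1), (2186, 3), (2186, 6), (2186, 7), (2372, 3), (2372, 6), (2274, 2), (2274, 5), (1350, 6), (1074, 5), (1074, 7), (1348, 1), (1348, 3), (1348, 4), (1348, 5), (1348, 7), (2946, 0), (2946, 1), (2946, 2), (2946, 3), (2946, 4), (674, 1), (674, 5), (674, 7), (546, 0), (546, 3), (546, 6), (1077, 0), (1077, 3), (666, 2), (666, 3), (666, 5), (666, 7), (2886, 0), (2886, 3), (2886, 7), (31, 4), (31, 5), (31, 6), (2440, 0), (2440, 1), (2440, 5), (2440, 6), (900, 1), (900, 4), (2096, 3), (2096, 4), (3172, 1), (3172, 5), (3172, 7), (59, 2), (59, 7), (1285, 0), (1285, 1), (679, 1), (679,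 3), (679, 5), (598, 3), (2636, 7), (2136, 2), (784, 6), (1157, 4), (1157, 5), (1157, 6), (2439, 3), (2439, 5), (2439, 6), (2582, 1), (2582, 7), (2164, 2), (2164, 3), (2164, 4), (2164, 6), (541, 0), (541, 3), (295, 3), (295, 5), (295, 6), (173, 2), (173, 7), (2567, 5), (2567, 6), (1634, 0), (1634, 7), (3618, 1), (3618, 6), (139, 6), (416, 1), (416, 2), (416, 6), (1828, 1), (1828, 5), (1828, 7), (1182, 7), (212, 0), (3084, 5), (1162, 0), (40, 1), (298, 5), (583, 5), (77, 2), (3111, 3), (3111, 4), (2598, 2), (398, 1), (398, 4), (1318, 3), (200, 5), (837, 2), (837, 7), (2135, 3), (1109, 3), (1109, 5), (2610, 6), (3212, 1), (2065, 0), (1684, 1), (1127, 0), (3083, 6), (586, 1), (2055, 2), (680, 7), (2204, 6), (810, 2), (97, 5)]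
  | 12 => []
  | _ => []

def dodC1Root : ℕ → ℕ
  | 4 => 253
  | 6 => 57
  | 8 => 21
  | 12 => 6
  | _ => 0

def dodC1Final : ℕ → ℕ
  | 4 => 63748329274021337636811274555902095420386829404551112930222586235587666904219821321379185629186246656463835640257207274797338611650260027391213628234070038082155474826551581111314659353367602410936162860676846413197325228287808767968053978141416965060783662398541568805285668288522840599532678699016337768803883059087668284886616199968445963562055382028984982140755928302019213697027625959123440155921280887027855732227667619699820532419515450720704935235576224026831376366667007433229030515342322095495800497068395093516532893636538187044888537181190600098514300415616707527271257842952220700623959719706461819838002752041014081801895273058333564416631631635215901327883098492360788400562984945702111953427297249696239625721985082534367925558616742360805987362328096616324854234149665753882440914646183308127996491540983932419521345828492346359034481784635885905422434545902063474792157719523471764107479117911824619525820382335535159244060691823853005445613540834158865929466712752630386414584688111811641719351341816617969292747497116119788649011174190084291052818201548714800280806625379559453714761149924495819867219931726173316414702314524636188765096769164296778449303542083604254924834638433198954758691050393136183377920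
  | 6 => 56616434720575148788423217466972825918594767161666757057681426778454762469871815312559865836051295321146740738502068079549989190619707517699862615339492819793747419629392888472520584190229557646000036297783784051673745494419078695372537652916003324680355263066712558399158904678233326855164296290512867300688859972178802175728974413932447655689236144618900049347779426926679372843635899066657707393500593843256121520955895616810099171497023901922350578615176803702338312942267076767514459294407907781620178418682526501711165776889330397758217872633372596766446637111278299046845692311260427127427342365606336933459530022902894151916739240108269603753369582091252421017608236966723201366744352934556542947911701175407156703177192633069073700426166137257033877072291819191401026677955108052415337818832738787157001265794250616443831010653193566341497430326253364834489226973623811036839002793549281717144020034326755346432133668507810255213058353426374837092271803003489138185724230819663111218731679916205712349030061840631429678117652116417548939570097087003198157375386102382027335969694509840810712352831581955845627856298962529505053460260343506682080768301937235491123916300388530043987980639589473273740525568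
  | 8 => 1696382871402068459525446782367565826280670879511340849120105078560214246055803672581131991348875448132584561123209935921009089359430326323915097473341762304951307176463386620579681904585130042669248237922318632225644876042199815858087667723740841879010062759671858497428789521661267693901144836542173027247840517161752807940766655359601891859682186748050327716503837748247092675113426304058542143711066387488212887351241447488801373054445590337723387348226719054273595825776396715205440862424258248185160180741356188373528351537615673887341386386098217499169914257029497835393447477487779881105526491955654622232089952995351015813303923325488381865771012462581455374614961757481428824025290325590552723206375598420202936768335346741725190291187380607985458940883746826842371582690878016014763695538519232291035093699017019948723383718997437599205775050515894745993662712814677363393383730216441453022425797065697347966697305731934994549848613597818171756555472903691286333243599646446421289171968043372136336733586723132976169661564553191454178522078781795252803997096397128017818981202198281852309947072395138102722560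
  | 12 => 64
  | _ => 0

def dodK1Tabs : List (List ℕ) := dodK1Gens.map (fun j => (runSLP dodFlagProg stdTabs).getD j idT)

theorem dodK1_tabs : ∀ t ∈ dodK1Tabs, ∃ σ ∈ KOf [0] [dod0], IsTbl σ t :=
  tabs_of_genOK (goodT_std dodFlagProg M24 stepPerm_mem) dodK1Gens (by decide +kernel)

theorem dodC1_runs : runsOK dodK1Tabs dodC1Ks dodC1Cert dodC1Root dodC1Final = true := by
  decide +kernel
theorem dodC1_pass : passOK dodC1Ks dodC1Final (fun m => popc m == 12 && m.testBit 0)
    (fun m => popc (m &&& dod0)) = true := by decide +kernel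

theorem count_D1_4 : ((codeList.filter (fun m => popc m == 12)).filter
    (fun m => m.testBit 0 && popc (m &&& dod0) == 4)).length = 165 := by decide +kernel
theorem count_D1_8 : ((codeList.filter (fun m => popc m == 12)).filter
    (fun m => m.testBit 0 && popc (m &&& dod0) == 8)).length = 330 := by decide +kernel
theorem count_D1_6 : ((codeList.filter (fun m => popc m == 12)).filter
    (fun m => m.testBit 0 && popc (m &&& dod0) == 6)).length = 792 := by decide +kernel

/-- counting dodecads with a property is invariant under the group. -/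
theorem ncard_dodecads_smul {h : Equiv.Perm GolayPt} (hh : h ∈ M24) (Q : Finset GolayPt → Prop) :
    {o' : Finset GolayPt | o' ∈ dodecads ∧ Q o'}.ncard
      = {o'' : Finset GolayPt | o'' ∈ dodecads ∧ Q (h • o'')}.ncard := by
  have himg : {o' : Finset GolayPt | o' ∈ dodecads ∧ Q o'}
      = (fun o'' => h • o'') '' {o'' : Finset GolayPt | o'' ∈ dodecads ∧ Q (h • o'')} := by
    ext o'
    simp only [Set.mem_setOf_eq, Set.mem_image]
    constructor
    · rintro ⟨ho', hQ⟩
      refine ⟨h⁻¹ • o', ⟨smul_mem_wordsOfWeight (M24.inv_mem hh) ho', ?_⟩, smul_inv_smul h o'⟩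
      rw [smul_inv_smul]; exact hQ
    · rintro ⟨o'', ⟨ho'', hQ⟩, rfl⟩
      exact ⟨smul_mem_wordsOfWeight hh ho'', hQ⟩
  rw [himg]
  exact Set.ncard_image_of_injective _ (MulAction.injective h)

/-- a dodecad and one of its points can be moved to standard position. -/
theorem exists_dflag_in {d : Finset GolayPt} (hd : d ∈ dodecads) {x : GolayPt} (hx : x ∈ d) :
    ∃ h ∈ M24, h • suppM dod0 = d ∧ h (idxPtN 0) = x := by
  obtain ⟨k, hk, rfl⟩ := exists_smul_dod0 hd
  have hx' : k⁻¹ x ∈ (suppM dod0 : Set GolayPt) := (mem_smul_finset_iff' k _ _).mp hx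
  obtain ⟨σ, hσ, -, hσ0⟩ := m12A_step 0 (by norm_num) _ hx' (by simp)
  obtain ⟨hσM, hσd⟩ := mem_KD.mp hσ
  refine ⟨k * σ, M24.mul_mem hk hσM, ?_, ?_⟩
  · rw [mul_smul, hσd]
  · rw [Equiv.Perm.mul_apply]
    have : σ (cA 0) = k⁻¹ x := hσ0
    have h' : cA 0 = idxPtN 0 := rfl
    rw [← h', this]
    simp

theorem ncard_dflag_in (k : ℕ) {d : Finset GolayPt} {x : GolayPt} {h : Equiv.Perm GolayPt}
    (hh : h ∈ M24) (hd : h • suppM dod0 = d) (hx : h (idxPtN 0) = x) :
    {d' : Finset GolayPt | d' ∈ dodecads ∧ x ∈ d' ∧ (d ∩ d').card = k}.ncard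
      = ((codeList.filter (fun m => popc m == 12)).filter
        (fun m => m.testBit 0 && popc (m &&& dod0) == k)).length := by
  rw [ncard_dodecads_smul hh (fun d' => x ∈ d' ∧ (d ∩ d').card = k)]
  have : {o'' : Finset GolayPt | o'' ∈ dodecads ∧ (x ∈ h • o'' ∧ (d ∩ h • o'').card = k)}
      = {b : Finset GolayPt | b ∈ wordsOfWeight (golayCode : Set (GolayPt → ZMod 2)) 12 ∧
        (idxPtN 0 ∈ b ∧ (suppM dod0 ∩ b).card = k)} := by
    ext b
    simp only [Set.mem_setOf_eq]
    rw [← hx, ← hd, ← Finset.smul_finset_inter, card_smul_finset, apply_mem_smul_iff]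
    rfl
  rw [this]
  apply ncard_wordsOfWeight_filter
  intro m _
  rw [mem_suppM_idx (by norm_num), suppM_inter, card_suppM, Nat.land_comm]
  simp

theorem dflag_in_orbits (x : GolayPt) (d : Finset GolayPt) (hd : d ∈ dodecads) (hx : x ∈ d) :
    {d' : Finset GolayPt | d' ∈ dodecads ∧ x ∈ d' ∧ (d ∩ d').card = 4}.ncard = 165 ∧
    {d' : Finset GolayPt | d' ∈ dodecads ∧ x ∈ d' ∧ (d ∩ d').card = 8}.ncard = 330 ∧
    {d' : Finset GolayPt | d' ∈ dodecads ∧ x ∈ d' ∧ (d ∩ d').card = 6}.ncard = 792 ∧
    ∀ d' d'' : Finset GolayPt, d' ∈ dodecads → d'' ∈ dodecads → x ∈ d' → x ∈ d'' →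
      (d ∩ d').card = (d ∩ d'').card →
      ∃ g : Equiv.Perm GolayPt, g ∈ M24 ∧ g x = x ∧ g • d = d ∧ g • d' = d'' := by
  obtain ⟨h, hh, hhd, hhx⟩ := exists_dflag_in hd hx
  refine ⟨?_, ?_, ?_, ?_⟩
  · rw [ncard_dflag_in 4 hh hhd hhx]; exact count_D1_4
  · rw [ncard_dflag_in 8 hh hhd hhx]; exact count_D1_8
  · rw [ncard_dflag_in 6 hh hhd hhx]; exact count_D1_6
  · intro d' d'' hd' hd'' hxd' hxd'' hcard
    have he' : h⁻¹ • d' ∈ dodecads := smul_mem_wordsOfWeight (M24.inv_mem hh) hd'
    have he'' : h⁻¹ • d'' ∈ dodecads := smul_mem_wordsOfWeight (M24.inv_mem hh) hd''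
    obtain ⟨m', hm', hp', hs'⟩ := (mem_dodecads_iff _).mp he'
    obtain ⟨m'', hm'', hp'', hs''⟩ := (mem_dodecads_iff _).mp he''
    have hb' : m'.testBit 0 = true := by
      rw [← mem_suppM_idx (by norm_num), hs', mem_smul_finset_iff', inv_inv, hhx]
      exact hxd'
    have hb'' : m''.testBit 0 = true := by
      rw [← mem_suppM_idx (by norm_num), hs'', mem_smul_finset_iff', inv_inv, hhx]
      exact hxd''
    have hcls : popc (m' &&& dod0) = popc (m'' &&& dod0) := by
      have e1 : (suppM m' ∩ suppM dod0).card = (h • suppM dod0 ∩ d').card := by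
        rw [hs', Finset.inter_comm, card_inter_inv_smul]
      have e2 : (suppM m'' ∩ suppM dod0).card = (h • suppM dod0 ∩ d'').card := by
        rw [hs'', Finset.inter_comm, card_inter_inv_smul]
      rw [← card_suppM, ← card_suppM, ← suppM_inter, ← suppM_inter, e1, e2, hhd]
      exact hcard
    have hconj := classes_conj (KOf [0] [dod0]) (KOf_le _ _) dodK1Tabs dodK1_tabs dodC1Ks dodC1Cert
      dodC1Root dodC1Final _ _ dodC1_runs dodC1_pass hm' hm''
      (by simp [hp', hb']) (by simp [hp'', hb'']) hcls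
    rw [hs', hs''] at hconj
    obtain ⟨g, hg, hfix, hmask, hgab⟩ := conj_glue [0] [dod0] hh hconj
    refine ⟨g, hg, ?_, ?_, hgab⟩
    · have := hfix 0 (by simp)
      rwa [hhx] at this
    · have := hmask dod0 (by simp)
      rwa [hhd] at this

end Cfsg.Agent.Helper9.Golay
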