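import Mathlib
import Cfsg.Prelude.Def_Sporadic_a
import Cfsg.Agent.Helper9.Golay.OctFix

set_option autoImplicit false

/-!
Pointwise stabilizers of small sets of points in the group of the length-24 code.
-/

namespace Cfsg.Agent.Helper9.Golay

open Cfsg
open scoped Pointwise

/-- a crude lower bound for the pointwise stabilizer of a list of points. -/
theorem card_le_pow_mul (H : Subgroup (Equiv.Perm GolayPt)) :
    ∀ l : List GolayPt, Nat.card H ≤ 24 ^ l.length *
      Nat.card (H ⊓ fixL l : Subgroup (Equiv.Perm GolayPt)) := by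
  intro l
  induction l with
  | nil => simp [fixL]
  | cons b bs ih =>
    have h1 : H ⊓ fixL (b :: bs) = (H ⊓ fixL bs) ⊓ MulAction.stabilizer (Equiv.Perm GolayPt) b := by
      rw [fixL, inf_assoc]
    have h2 := card_eq_orbit_mul (H ⊓ fixL bs) b
    have h3 : (MulAction.orbit (H ⊓ fixL bs : Subgroup (Equiv.Perm GolayPt)) b).ncard ≤ 24 := by
      have := ncard_orbit_le (K := H ⊓ fixL bs) (b := b) Finset.univ (fun _ _ => Finset.mem_univ _)
      rwa [Finset.card_univ, card_golayPt] at this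
    rw [h1, List.length_cons, pow_succ]
    calc Nat.card H ≤ 24 ^ bs.length * Nat.card (H ⊓ fixL bs : Subgroup (Equiv.Perm GolayPt)) := ih
      _ = 24 ^ bs.length * ((MulAction.orbit (H ⊓ fixL bs : Subgroup (Equiv.Perm GolayPt)) b).ncard *
          Nat.card ((H ⊓ fixL bs) ⊓ MulAction.stabilizer (Equiv.Perm GolayPt) b :
            Subgroup (Equiv.Perm GolayPt))) := by rw [← h2]
      _ ≤ 24 ^ bs.length * (24 * Nat.card ((H ⊓ fixL bs) ⊓
            MulAction.stabilizer (Equiv.Perm GolayPt) b : Subgroup (Equiv.Perm GolayPt))) := by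
          apply Nat.mul_le_mul_left
          exact Nat.mul_le_mul_right _ h3
      _ = 24 ^ bs.length * 24 * Nat.card ((H ⊓ fixL bs) ⊓
            MulAction.stabilizer (Equiv.Perm GolayPt) b : Subgroup (Equiv.Perm GolayPt)) := by
          rw [mul_assoc]

theorem exists_fix_of_card_le_six (B : Finset GolayPt) (hB : B.card ≤ 6) :
    ∃ g ∈ M24, g ≠ 1 ∧ ∀ b ∈ B, g b = b := by
  have h1 := card_le_pow_mul M24 B.toList
  rw [card_M24, Finset.length_toList] at h1
  have h2 : 24 ^ B.card ≤ 24 ^ 6 := Nat.pow_le_pow_right (by norm_num) hB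
  have h3 : 1 < Nat.card (M24 ⊓ fixL B.toList : Subgroup (Equiv.Perm GolayPt)) := by
    by_contra hcon
    have hle : Nat.card (M24 ⊓ fixL B.toList : Subgroup (Equiv.Perm GolayPt)) ≤ 1 := by omega
    have : 24 ^ B.card * Nat.card (M24 ⊓ fixL B.toList : Subgroup (Equiv.Perm GolayPt))
        ≤ 24 ^ 6 * 1 := Nat.mul_le_mul h2 hle
    exact absurd (le_trans h1 this) (by norm_num)
  obtain ⟨g, hg⟩ := (Subgroup.one_lt_card_iff_ne_bot _).mp h3 |> (Subgroup.ne_bot_iff_exists_ne_one).mp
  refine ⟨g.1, (Subgroup.mem_inf.mp g.2).1, ?_, ?_⟩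
  · intro hcon
    apply hg
    exact Subtype.ext hcon
  · intro b hb
    exact mem_fixL.mp (Subgroup.mem_inf.mp g.2).2 b (Finset.mem_toList.mpr hb)

theorem exists_base_seven :
    ∃ B : Finset GolayPt, B.card = 7 ∧ ∀ g ∈ M24, (∀ b ∈ B, g b = b) → g = 1 := by
  refine ⟨(([5, 7, 4, 3, 2, 1, 0] : List ℕ).map idxPtN).toFinset, by decide, ?_⟩
  intro g hg hfix
  have : g ∈ K7 := by
    refine Subgroup.mem_inf.mpr ⟨hg, ?_⟩
    rw [mem_fixL]
    intro b hb
    exact hfix b (List.mem_toFinset.mpr hb)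
  rw [K7_eq_bot, Subgroup.mem_bot] at this
  exact this

end Cfsg.Agent.Helper9.Golay
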