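import Mathlib
import Cfsg.Prelude.Def_Sporadic_a
import Cfsg.Agent.Helper9.Coatom
import Cfsg.Agent.Helper9.Golay.DodPairs
import Cfsg.Agent.Helper9.Golay.DodFlag
import Cfsg.Agent.Helper9.Golay.DodThree

set_option autoImplicit false

/-!
The stabilizer of a pair of complementary dodecads is a maximal subgroup.
-/

namespace Cfsg.Agent.Helper9.Golay

open Cfsg
open scoped Pointwise

theorem card_inter_dodecads {d d' : Finset GolayPt} (hd : d ∈ dodecads) (hd' : d' ∈ dodecads) :
    (d ∩ d').card = 0 ∨ (d ∩ d').card = 4 ∨ (d ∩ d').card = 6 ∨ (d ∩ d').card = 8 ∨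
      (d ∩ d').card = 12 := by
  obtain ⟨a, ha, ha12, rfl⟩ := (mem_dodecads_iff d).mp hd
  obtain ⟨b, hb, hb12, rfl⟩ := (mem_dodecads_iff d').mp hd'
  rw [suppM_inter, card_suppM]
  have h1 := popc_xor a b
  have h2 := popc_mem_codeList (xor_mem_codeList ha hb)
  omega

theorem eq_of_inter_twelve {d d' : Finset GolayPt} (hd : d ∈ dodecads) (hd' : d' ∈ dodecads)
    (h : (d ∩ d').card = 12) : d' = d := by
  have h1 : d ∩ d' = d := Finset.eq_of_subset_of_card_le Finset.inter_subset_left (by
    rw [h, hd.2])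
  have h2 : d ∩ d' = d' := Finset.eq_of_subset_of_card_le Finset.inter_subset_right (by
    rw [h, hd'.2])
  rw [← h2, h1]

theorem eq_compl_of_inter_zero {d d' : Finset GolayPt} (hd : d ∈ dodecads) (hd' : d' ∈ dodecads)
    (h : (d ∩ d').card = 0) : d' = dᶜ := by
  rw [Finset.card_eq_zero, ← Finset.disjoint_iff_inter_eq_empty] at h
  apply Finset.eq_of_subset_of_card_le
  · intro x hx
    rw [Finset.mem_compl]
    intro hxd
    exact Finset.disjoint_left.mp h hxd hx
  · rw [Finset.card_compl, card_golayPt, hd.2, hd'.2]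

theorem card_inter_compl {d : Finset GolayPt} (hd : d ∈ dodecads) (e : Finset GolayPt) :
    (d ∩ eᶜ).card = 12 - (d ∩ e).card := by
  have h := Finset.card_sdiff_add_card_inter d e
  rw [Finset.sdiff_eq_inter_compl, hd.2] at h
  omega

theorem pair_eq_iff {a b : Finset GolayPt} (p : GolayPt) (ha : p ∈ a) (hb : p ∈ b)
    (h : ({a, aᶜ} : Finset (Finset GolayPt)) = {b, bᶜ}) : a = b := by
  have h1 : a ∈ ({b, bᶜ} : Finset (Finset GolayPt)) := by
    rw [← h]; exact Finset.mem_insert_self _ _
  rw [Finset.mem_insert, Finset.mem_singleton] at h1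
  rcases h1 with h1 | h1
  · exact h1
  · exfalso
    rw [h1, Finset.mem_compl] at ha
    exact ha hb

theorem dodecad_pair_stab_coatom {d : Finset GolayPt} (hd : d ∈ dodecads) :
    IsCoatom (MulAction.stabilizer M24 ({d, dᶜ} : Finset (Finset GolayPt))) := by
  classical
  have hsmulΦ : ∀ (g : ↥M24) (e : Finset GolayPt),
      g • ({e, eᶜ} : Finset (Finset GolayPt)) = {g • e, (g • e)ᶜ} := by
    intro g e
    rw [Finset.smul_finset_insert, Finset.smul_finset_singleton]
    have : g • eᶜ = (g • e)ᶜ := smul_finset_compl' g.1 e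
    rw [this]
  have horb : MulAction.orbit M24 ({d, dᶜ} : Finset (Finset GolayPt)) =
      (fun e : Finset GolayPt => ({e, eᶜ} : Finset (Finset GolayPt))) '' dodecads := by
    ext P
    constructor
    · rintro ⟨g, rfl⟩
      refine ⟨g • d, smul_mem_wordsOfWeight g.2 hd, ?_⟩
      exact (hsmulΦ g d).symm
    · rintro ⟨e, he, rfl⟩
      obtain ⟨g, hg⟩ := transitive_dodecads hd he
      refine ⟨g, ?_⟩
      show g • ({d, dᶜ} : Finset (Finset GolayPt)) = {e, eᶜ}
      rw [hsmulΦ g d, hg]
  obtain ⟨p0, hp0⟩ : ∃ p0, p0 ∈ d := by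
    apply Finset.card_pos.mp
    rw [hd.2]; norm_num
  obtain ⟨h165, h330, h792, -⟩ := dflag_in_orbits p0 d hd hp0
  have hcΦ : ∀ e : Finset GolayPt,
      ({e, eᶜ} : Finset (Finset GolayPt)).sup (fun e' => (d ∩ e').card) =
        max (d ∩ e).card (12 - (d ∩ e).card) := by
    intro e
    rw [Finset.sup_insert, Finset.sup_singleton, card_inter_compl hd]
  apply Cfsg.Agent.Helper9.isCoatom_stabilizer_of_suborbits' ({d, dᶜ} : Finset (Finset GolayPt))
    (fun P => P.sup (fun e' => (d ∩ e').card)) ({6, 8} : Finset ℕ)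
    (fun v => if v = 6 then 792 else 495)
  · decide
  · intro y hy z hz hc
    rw [horb] at hy hz
    obtain ⟨e, he, rfl⟩ := hy
    obtain ⟨f, hf, rfl⟩ := hz
    have hc' : max (d ∩ e).card (12 - (d ∩ e).card) = max (d ∩ f).card (12 - (d ∩ f).card) := by
      rw [← hcΦ e, ← hcΦ f]
      exact hc
    -- choose the member of the second pair with the right intersection
    have hk : (d ∩ e).card = (d ∩ f).card ∨ (d ∩ e).card = (d ∩ fᶜ).card := by
      rw [card_inter_compl hd f]
      have h1 := card_inter_dodecads hd he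
      have h2 := card_inter_dodecads hd hf
      rcases Nat.le_total (d ∩ e).card (12 - (d ∩ e).card) with h | h <;>
      rcases Nat.le_total (d ∩ f).card (12 - (d ∩ f).card) with h' | h' <;>
      simp only [max_eq_left, max_eq_right, h, h'] at hc' <;> omega
    have hstab : ∀ g : Equiv.Perm GolayPt, ∀ hg : g ∈ M24, g • d = d →
        (⟨g, hg⟩ : ↥M24) ∈ MulAction.stabilizer M24 ({d, dᶜ} : Finset (Finset GolayPt)) := by
      intro g hg hgd
      rw [MulAction.mem_stabilizer_iff, hsmulΦ]
      have : (⟨g, hg⟩ : ↥M24) • d = d := hgd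
      rw [this]
    rcases hk with hk | hk
    · obtain ⟨g, hg, hgd, hge⟩ := dodecad_pair_conj hd he hf hk
      refine ⟨⟨g, hg⟩, hstab g hg hgd, ?_⟩
      show (⟨g, hg⟩ : ↥M24) • ({e, eᶜ} : Finset (Finset GolayPt)) = {f, fᶜ}
      rw [hsmulΦ]
      have : (⟨g, hg⟩ : ↥M24) • e = f := hge
      rw [this]
    · obtain ⟨g, hg, hgd, hge⟩ := dodecad_pair_conj hd he (compl_mem_dodecads hf) hk
      refine ⟨⟨g, hg⟩, hstab g hg hgd, ?_⟩
      show (⟨g, hg⟩ : ↥M24) • ({e, eᶜ} : Finset (Finset GolayPt)) = {f, fᶜ}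
      rw [hsmulΦ]
      have : (⟨g, hg⟩ : ↥M24) • e = fᶜ := hge
      rw [this, compl_compl, Finset.pair_comm]
  · intro y hy hne
    rw [horb] at hy
    obtain ⟨e, he, rfl⟩ := hy
    show ({e, eᶜ} : Finset (Finset GolayPt)).sup (fun e' => (d ∩ e').card) ∈ ({6, 8} : Finset ℕ)
    rw [hcΦ e]
    have h1 := card_inter_dodecads hd he
    have h12 : (d ∩ e).card ≠ 12 := by
      intro h
      apply hne
      show ({e, eᶜ} : Finset (Finset GolayPt)) = {d, dᶜ}
      rw [eq_of_inter_twelve hd he h]
    have h0 : (d ∩ e).card ≠ 0 := by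
      intro h
      apply hne
      show ({e, eᶜ} : Finset (Finset GolayPt)) = {d, dᶜ}
      rw [eq_compl_of_inter_zero hd he h, compl_compl, Finset.pair_comm]
    simp only [Finset.mem_insert, Finset.mem_singleton]
    rcases h1 with h | h | h | h | h
    · exact absurd h h0
    · rw [h]; decide
    · rw [h]; decide
    · rw [h]; decide
    · exact absurd h h12
  · show ({d, dᶜ} : Finset (Finset GolayPt)).sup (fun e' => (d ∩ e').card) ∉ ({6, 8} : Finset ℕ)
    rw [hcΦ d, Finset.inter_self, hd.2]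
    decide
  · intro v hv
    rw [horb]
    -- the pairs correspond to the dodecads through `p0`
    have hset : {y | y ∈ (fun e : Finset GolayPt => ({e, eᶜ} : Finset (Finset GolayPt))) '' dodecads ∧
        y.sup (fun e' => (d ∩ e').card) = v} =
        (fun e : Finset GolayPt => ({e, eᶜ} : Finset (Finset GolayPt))) ''
          {e | e ∈ dodecads ∧ p0 ∈ e ∧ max (d ∩ e).card (12 - (d ∩ e).card) = v} := by
      ext P
      simp only [Set.mem_ofPred_eq, Set.mem_image]
      constructor
      · rintro ⟨⟨e, he, rfl⟩, hc⟩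
        rw [hcΦ e] at hc
        by_cases hpe : p0 ∈ e
        · exact ⟨e, ⟨he, hpe, hc⟩, rfl⟩
        · refine ⟨eᶜ, ⟨compl_mem_dodecads he, Finset.mem_compl.mpr hpe, ?_⟩, ?_⟩
          · rw [card_inter_compl hd e]
            have h1 := card_inter_dodecads hd he
            rw [← hc]
            rcases h1 with h | h | h | h | h <;> rw [h] <;> decide
          · rw [compl_compl, Finset.pair_comm]
      · rintro ⟨e, ⟨he, -, hc⟩, rfl⟩
        exact ⟨⟨e, he, rfl⟩, by rw [hcΦ e]; exact hc⟩
    have hinj : Set.InjOn (fun e : Finset GolayPt => ({e, eᶜ} : Finset (Finset GolayPt)))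
        {e | e ∈ dodecads ∧ p0 ∈ e ∧ max (d ∩ e).card (12 - (d ∩ e).card) = v} := by
      intro a ha b hb hab
      exact pair_eq_iff p0 ha.2.1 hb.2.1 hab
    rw [hset, Set.InjOn.ncard_image hinj]
    simp only [Finset.mem_insert, Finset.mem_singleton] at hv
    rcases hv with rfl | rfl
    · rw [if_pos rfl, ← h792]
      congr 1
      ext e
      simp only [Set.mem_ofPred_eq]
      constructor
      · rintro ⟨he, hp, hc⟩
        refine ⟨he, hp, ?_⟩
        have h1 := card_inter_dodecads hd he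
        rcases h1 with h | h | h | h | h <;> rw [h] at hc ⊢ <;> revert hc <;> decide
      · rintro ⟨he, hp, hc⟩
        refine ⟨he, hp, ?_⟩
        rw [hc]
        decide
    · rw [if_neg (by norm_num)]
      have hsplit : {e | e ∈ dodecads ∧ p0 ∈ e ∧ max (d ∩ e).card (12 - (d ∩ e).card) = 8} =
          {d' : Finset GolayPt | d' ∈ dodecads ∧ p0 ∈ d' ∧ (d ∩ d').card = 4} ∪
          {d' : Finset GolayPt | d' ∈ dodecads ∧ p0 ∈ d' ∧ (d ∩ d').card = 8} := by
        ext e
        simp only [Set.mem_ofPred_eq, Set.mem_union]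
        constructor
        · rintro ⟨he, hp, hc⟩
          have h1 := card_inter_dodecads hd he
          rcases h1 with h | h | h | h | h
          · rw [h] at hc; exact absurd hc (by decide)
          · exact Or.inl ⟨he, hp, h⟩
          · rw [h] at hc; exact absurd hc (by decide)
          · exact Or.inr ⟨he, hp, h⟩
          · rw [h] at hc; exact absurd hc (by decide)
        · rintro (⟨he, hp, hc⟩ | ⟨he, hp, hc⟩)
          · exact ⟨he, hp, by rw [hc]; decide⟩
          · exact ⟨he, hp, by rw [hc]; decide⟩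
      have hdisj : Disjoint
          {d' : Finset GolayPt | d' ∈ dodecads ∧ p0 ∈ d' ∧ (d ∩ d').card = 4}
          {d' : Finset GolayPt | d' ∈ dodecads ∧ p0 ∈ d' ∧ (d ∩ d').card = 8} := by
        rw [Set.disjoint_left]
        rintro e ⟨-, -, h1⟩ ⟨-, -, h2⟩
        omega
      rw [hsplit, Set.ncard_union_eq hdisj (Set.toFinite _) (Set.toFinite _), h165, h330]
  · decide

end Cfsg.Agent.Helper9.Golay
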