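import Mathlib
import Cfsg.Prelude.Def_Sporadic_a
import Cfsg.Agent.Helper9.Golay.F6Enum
import Cfsg.Agent.Helper9.Golay.Syl2Thm

set_option autoImplicit false

/-!
No fixed-point-free involution commutes with an element of order three with six fixed points.
-/

namespace Cfsg.Agent.Helper9.Golay

open Cfsg
open scoped Pointwise

theorem f6_check : allF6.all (fun t => !(mulT t t == idT) || !(mulT t p3Rep6 == mulT p3Rep6 t) ||
    t == idT || !(fixCount t == 0)) = true := by decide +kernel

theorem fixMask_p3Rep6 : fixMask p3Rep6 = 63 := by decide +kernel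

theorem no_fpf_commute_six {r s : Equiv.Perm GolayPt} (hr : IsTbl r p3Rep6) (hs : s ∈ M24)
    (h2 : s * s = 1) (hc : s * r = r * s) (h0 : ∀ p, s p ≠ p) : False := by
  have hF : s • suppM 63 = suppM 63 := by
    rw [← fixMask_p3Rep6, ← fix_eq_suppM hr, ← fix_conj]
    have : s * r * s⁻¹ = r := by rw [hc]; group
    rw [this]
  obtain ⟨t, ht, hst⟩ := f6_enum s hs hF
  have h := List.all_eq_true.mp f6_check t ht
  simp only [Bool.or_eq_true, Bool.not_eq_true', beq_eq_false_iff_ne, ne_eq, beq_iff_eq] at h
  have h1 : mulT t t = idT := by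
    have e : IsTbl (s * s) (mulT t t) := hst.mul hst
    rw [h2] at e
    exact (tbl_eq_tblOf e).trans (tbl_eq_tblOf isTbl_one).symm
  have h2' : mulT t p3Rep6 = mulT p3Rep6 t := by
    have e1 : IsTbl (s * r) (mulT t p3Rep6) := hst.mul hr
    have e2 : IsTbl (r * s) (mulT p3Rep6 t) := hr.mul hst
    rw [hc] at e1
    exact (tbl_eq_tblOf e1).trans (tbl_eq_tblOf e2).symm
  have h3 : t ≠ idT := by
    rintro rfl
    have : s = 1 := hst.eq_of_eq isTbl_one
    rw [this] at h0
    exact h0 (idxPtN 0) rfl
  have h4 : fixCount t = 0 := by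
    rw [← card_fix_of_tbl hst, Finset.card_eq_zero, Finset.filter_eq_empty_iff]
    intro p _
    exact h0 p
  rcases h with ((h | h) | h) | h
  · exact h h1
  · exact h h2'
  · exact h3 h
  · exact h h4

end Cfsg.Agent.Helper9.Golay
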