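import Mathlib
import Cfsg.Prelude.Def_Sporadic_a
import Cfsg.Prelude.Def_SporadicCombinatorics
import Cfsg.Agent.Helper9.Golay.FamCount
import Cfsg.Agent.Helper9.Golay.Elt3
import Cfsg.Agent.Helper9.Golay.Syl2Thm
import Cfsg.Agent.Helper9.Golay.SextetBasic
import Cfsg.Agent.Helper9.Golay.TrioOct

set_option autoImplicit false

/-!
The numbers of octads, dodecads, trios and sextets mapped to themselves by the elements of
order two and three of the group of the code.
-/

namespace Cfsg.Agent.Helper9.Golay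

open Cfsg
open scoped Pointwise

theorem ncard_fixed_of_conj3 {α : Type*} [MulAction (Equiv.Perm GolayPt) α] (S : Set α)
    (hS : ∀ k ∈ M24, ∀ a ∈ S, k • a ∈ S) {g k r : Equiv.Perm GolayPt} (hk : k ∈ M24)
    (hconj : k * g * k⁻¹ = r ∨ k * g * k⁻¹ = r * r) (h3 : r * r * r = 1) :
    {a | a ∈ S ∧ g • a = a}.ncard = {a | a ∈ S ∧ r • a = a}.ncard := by
  rw [← ncard_fixed_conj S k g (hS k hk) (hS k⁻¹ (M24.inv_mem hk))]
  rcases hconj with h | h
  · rw [h]
  · rw [h]
    congr 1
    ext a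
    simp only [Set.mem_ofPred_eq]
    rw [fixed_sq_iff h3]

theorem ncard_fixed_of_conj {α : Type*} [MulAction (Equiv.Perm GolayPt) α] (S : Set α)
    (hS : ∀ k ∈ M24, ∀ a ∈ S, k • a ∈ S) {g k r : Equiv.Perm GolayPt} (hk : k ∈ M24)
    (hconj : k * g * k⁻¹ = r) :
    {a | a ∈ S ∧ g • a = a}.ncard = {a | a ∈ S ∧ r • a = a}.ncard := by
  rw [← ncard_fixed_conj S k g (hS k hk) (hS k⁻¹ (M24.inv_mem hk)), hconj]

theorem octads_inv : ∀ k ∈ M24, ∀ a ∈ octads, k • a ∈ octads :=
  fun _ hk _ ha => smul_mem_wordsOfWeight hk ha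

theorem dodecads_inv : ∀ k ∈ M24, ∀ a ∈ dodecads, k • a ∈ dodecads :=
  fun _ hk _ ha => smul_mem_wordsOfWeight hk ha

theorem trios_inv : ∀ k ∈ M24, ∀ a ∈ trios, k • a ∈ trios :=
  fun _ hk _ ha => smul_mem_trios hk ha

theorem sextets_inv : ∀ k ∈ M24, ∀ a ∈ sextets, k • a ∈ sextets :=
  fun _ hk _ ha => smul_mem_sextets hk ha

theorem cube_of_tbl {r : Equiv.Perm GolayPt} {t : List ℕ} (hr : IsTbl r t)
    (h : mulT t (mulT t t) = idT) : r * r * r = 1 := by
  have e : IsTbl (r * (r * r)) (mulT t (mulT t t)) := hr.mul (hr.mul hr)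
  rw [h] at e
  rw [mul_assoc]
  exact e.eq_of_eq isTbl_one

/-- the counts for an element of order three with six fixed points. -/
theorem counts_3A (g : Equiv.Perm GolayPt) (hg : g ∈ M24) (h₃ : orderOf g = 3)
    (h₆ : (Finset.univ.filter fun p => g p = p).card = 6) :
    {o : Finset GolayPt | o ∈ octads ∧ g • o = o}.ncard = 21 ∧
    {T : Finset (Finset GolayPt) | T ∈ trios ∧ g • T = T}.ncard = 15 ∧
    {S : Finset (Finset GolayPt) | S ∈ sextets ∧ g • S = S}.ncard = 16 ∧
    {d : Finset GolayPt | d ∈ dodecads ∧ g • d = d}.ncard = 20 := by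
  obtain ⟨k, hk, r, -, hconj, hcase⟩ := elt3_classify g hg h₃
  rcases hcase with ⟨hrt, -⟩ | ⟨-, h0⟩
  · have h3 := cube_of_tbl hrt p3Rep6_props.2.2
    refine ⟨?_, ?_, ?_, ?_⟩
    · rw [ncard_fixed_of_conj3 octads octads_inv hk hconj h3]
      exact (ncard_octads_fixed hrt pullTab3A_ok).trans cnt3A_oct
    · rw [ncard_fixed_of_conj3 trios trios_inv hk hconj h3]
      exact (ncard_trios_fixed hrt pullTab3A_ok).trans cnt3A_trio
    · rw [ncard_fixed_of_conj3 sextets sextets_inv hk hconj h3]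
      exact (ncard_sextets_fixed hrt pullTab3A_ok).trans cnt3A_sext
    · rw [ncard_fixed_of_conj3 dodecads dodecads_inv hk hconj h3]
      exact (ncard_dodecads_fixed hrt pullTab3A_ok).trans cnt3A_dod
  · rw [h₆] at h0
    norm_num at h0

/-- the counts for a fixed-point-free element of order three. -/
theorem counts_3B (g : Equiv.Perm GolayPt) (hg : g ∈ M24) (h₃ : orderOf g = 3)
    (h₀ : ∀ p, g p ≠ p) :
    {S : Finset (Finset GolayPt) | S ∈ sextets ∧ g • S = S}.ncard = 7 ∧
    {T : Finset (Finset GolayPt) | T ∈ trios ∧ g • T = T}.ncard = 15 := by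
  obtain ⟨k, hk, r, -, hconj, hcase⟩ := elt3_classify g hg h₃
  rcases hcase with ⟨-, h6⟩ | ⟨hrt, -⟩
  · have : (Finset.univ.filter fun p => g p = p) = ∅ := by
      rw [Finset.filter_eq_empty_iff]
      intro p _
      exact h₀ p
    rw [this] at h6
    norm_num at h6
  · have h3 := cube_of_tbl hrt p3Rep0_props.2.2
    refine ⟨?_, ?_⟩
    · rw [ncard_fixed_of_conj3 sextets sextets_inv hk hconj h3]
      exact (ncard_sextets_fixed hrt pullTab3B_ok).trans cnt3B_sext
    · rw [ncard_fixed_of_conj3 trios trios_inv hk hconj h3]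
      exact (ncard_trios_fixed hrt pullTab3B_ok).trans cnt3B_trio

/-- the counts for an involution with eight fixed points. -/
theorem counts_2A (g : Equiv.Perm GolayPt) (hg : g ∈ M24) (h₂ : orderOf g = 2)
    (h₈ : (Finset.univ.filter fun p => g p = p).card = 8) :
    {o : Finset GolayPt | o ∈ octads ∧ g • o = o}.ncard = 71 ∧
    {T : Finset (Finset GolayPt) | T ∈ trios ∧ g • T = T}.ncard = 99 ∧
    {S : Finset (Finset GolayPt) | S ∈ sextets ∧ g • S = S}.ncard = 91 := by
  obtain ⟨k, hk, r, hconj, hcase⟩ := inv_classify g hg h₂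
  rcases hcase with ⟨hrt, -⟩ | ⟨-, h0⟩
  · rw [r8T_eq] at hrt
    refine ⟨?_, ?_, ?_⟩
    · rw [ncard_fixed_of_conj octads octads_inv hk hconj]
      exact (ncard_octads_fixed hrt pullTab2A_ok).trans cnt2A_oct
    · rw [ncard_fixed_of_conj trios trios_inv hk hconj]
      exact (ncard_trios_fixed hrt pullTab2A_ok).trans cnt2A_trio
    · rw [ncard_fixed_of_conj sextets sextets_inv hk hconj]
      exact (ncard_sextets_fixed hrt pullTab2A_ok).trans cnt2A_sext
  · have : (Finset.univ.filter fun p => g p = p) = ∅ := by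
      rw [Finset.filter_eq_empty_iff]
      intro p _
      exact h0 p
    rw [this] at h₈
    norm_num at h₈

/-- the counts for a fixed-point-free involution. -/
theorem counts_2B (g : Equiv.Perm GolayPt) (hg : g ∈ M24) (h₂ : orderOf g = 2)
    (h₀ : ∀ p, g p ≠ p) :
    {o : Finset GolayPt | o ∈ octads ∧ g • o = o}.ncard = 15 ∧
    {T : Finset (Finset GolayPt) | T ∈ trios ∧ g • T = T}.ncard = 75 ∧
    {S : Finset (Finset GolayPt) | S ∈ sextets ∧ g • S = S}.ncard = 51 := by
  obtain ⟨k, hk, r, hconj, hcase⟩ := inv_classify g hg h₂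
  rcases hcase with ⟨-, ho⟩ | ⟨hrt, -⟩
  · have : (Finset.univ.filter fun p => g p = p) = ∅ := by
      rw [Finset.filter_eq_empty_iff]
      intro p _
      exact h₀ p
    rw [this] at ho
    have := ho.2
    norm_num at this
  · rw [r0T_eq] at hrt
    refine ⟨?_, ?_, ?_⟩
    · rw [ncard_fixed_of_conj octads octads_inv hk hconj]
      exact (ncard_octads_fixed hrt pullTab2B_ok).trans cnt2B_oct
    · rw [ncard_fixed_of_conj trios trios_inv hk hconj]
      exact (ncard_trios_fixed hrt pullTab2B_ok).trans cnt2B_trio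
    · rw [ncard_fixed_of_conj sextets sextets_inv hk hconj]
      exact (ncard_sextets_fixed hrt pullTab2B_ok).trans cnt2B_sext

end Cfsg.Agent.Helper9.Golay
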