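import Mathlib
import Cfsg.Prelude.Def_Sporadic_a
import Cfsg.Prelude.Def_SporadicCombinatorics
import Cfsg.Agent.Helper9.Golay.FamData
import Cfsg.Agent.Helper9.Golay.Steiner
import Cfsg.Agent.Helper9.Golay.Orbit
import Cfsg.Agent.Helper9.Golay.Inter
import Cfsg.Agent.Lead.Sextets
import Cfsg.Agent.Lead.Trios

set_option autoImplicit false

/-!
Counting the trios, sextets, octads and dodecads mapped to themselves by an element given by
its table.
-/

namespace Cfsg.Agent.Helper9.Golay

open Cfsg
open scoped Pointwise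

theorem pairsB_sound {R : ℕ → ℕ → Bool} (hsymm : ∀ a b, R a b = R b a) :
    ∀ e : List ℕ, pairsB R e = true → ∀ a ∈ e, ∀ b ∈ e, a ≠ b → R a b = true
  | [], _ => by intro a ha; simp at ha
  | c :: l, h => by
    simp only [pairsB, Bool.and_eq_true, List.all_eq_true] at h
    have ih := pairsB_sound hsymm l h.2
    intro a ha b hb hab
    rcases List.mem_cons.mp ha with rfl | ha'
    · rcases List.mem_cons.mp hb with rfl | hb'
      · exact absurd rfl hab
      · exact h.1 b hb'
    · rcases List.mem_cons.mp hb with rfl | hb'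
      · rw [hsymm]
        exact h.1 a ha'
      · exact ih a ha' b hb' hab

theorem ltB_lt {e : List ℕ} (h : ltB e = true) : ∀ m ∈ e, m < 2 ^ 24 := by
  intro m hm
  unfold ltB at h
  have := Nat.le_of_ble_eq_true (List.all_eq_true.mp h m hm)
  norm_num
  omega

theorem okMasks_of {e : List ℕ} (h1 : sortedB e = true) (h2 : ltB e = true) :
    okMasks e = true := by
  unfold okMasks
  rw [Bool.and_eq_true]
  refine ⟨h1, ?_⟩
  rw [List.all_eq_true]
  intro m hm
  rw [decide_eq_true_eq]
  exact ltB_lt h2 m hm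

theorem okTrio_masks {e : List ℕ} (h : okTrioF e = true) : okMasks e = true := by
  unfold okTrioF at h
  simp only [Bool.and_eq_true] at h
  exact okMasks_of h.1.1.1.1 h.1.1.1.2

theorem okSext_masks {e : List ℕ} (h : okSextF e = true) : okMasks e = true := by
  unfold okSextF at h
  simp only [Bool.and_eq_true] at h
  exact okMasks_of h.1.1.1.1 h.1.1.1.2

theorem famOf_mem_trios {e : List ℕ} (h : okTrioF e = true) : famOf e ∈ trios := by
  have hm := okTrio_masks h
  have hlt := okMasks_lt hm
  unfold okTrioF at h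
  simp only [Bool.and_eq_true, beq_iff_eq, List.all_eq_true] at h
  obtain ⟨⟨⟨-, hlen⟩, hoct⟩, hpair⟩ := h
  refine ⟨by rw [card_famOf hm, hlen], ?_, ?_⟩
  · intro o ho
    obtain ⟨m, hme, rfl⟩ := mem_famOf.mp ho
    rw [mem_octads_iff]
    obtain ⟨h1, h2⟩ := isOctF_sound (hlt m hme) (hoct m hme)
    exact ⟨m, h1, h2, rfl⟩
  · intro o ho o' ho' hne
    obtain ⟨m, hme, rfl⟩ := mem_famOf.mp ho
    obtain ⟨m', hme', rfl⟩ := mem_famOf.mp ho'
    have hmm : m ≠ m' := by
      rintro rfl
      exact hne rfl
    have := pairsB_sound (R := fun a b => Nat.beq (Nat.land a b) 0)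
      (by intro a b; change Nat.beq (a &&& b) 0 = Nat.beq (b &&& a) 0; rw [Nat.land_comm]) e hpair m hme m' hme' hmm
    have h0 : m &&& m' = 0 := Nat.eq_of_beq_eq_true this
    rw [Finset.disjoint_iff_inter_eq_empty, suppM_inter, h0, suppM_zero]

theorem famOf_mem_sextets {e : List ℕ} (h : okSextF e = true) : famOf e ∈ sextets := by
  have hm := okSext_masks h
  have hlt := okMasks_lt hm
  unfold okSextF at h
  simp only [Bool.and_eq_true, beq_iff_eq, List.all_eq_true] at h
  obtain ⟨⟨⟨-, hlen⟩, hfour⟩, hpair⟩ := h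
  refine ⟨by rw [card_famOf hm, hlen], ?_, ?_⟩
  · intro t ht
    obtain ⟨m, hme, rfl⟩ := mem_famOf.mp ht
    rw [card_suppM, ← popcF_eq (hlt m hme)]
    exact Nat.eq_of_beq_eq_true (hfour m hme)
  · intro t ht u hu hne
    obtain ⟨m, hme, rfl⟩ := mem_famOf.mp ht
    obtain ⟨m', hme', rfl⟩ := mem_famOf.mp hu
    have hmm : m ≠ m' := by
      rintro rfl
      exact hne rfl
    have := pairsB_sound (R := fun a b => isOctF (Nat.lor a b))
      (by intro a b; change isOctF (a ||| b) = isOctF (b ||| a); rw [Nat.lor_comm]) e hpair m hme m' hme' hmm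
    have hlt' : m ||| m' < 2 ^ 24 := Nat.or_lt_two_pow (hlt m hme) (hlt m' hme')
    obtain ⟨h1, h2⟩ := isOctF_sound hlt' this
    rw [suppM_or, mem_octads_iff]
    exact ⟨m ||| m', h1, h2, rfl⟩

theorem trioL_nodup : trioL.Nodup := nodup_of_sorted_key trioL keyOf trioL_sorted

theorem sextL_nodup : sextL.Nodup := nodup_of_sorted_key sextL keyOf sextL_sorted

/-- the table of images maps the list of masks to itself. -/
def invBF (T : ℕ) (e : List ℕ) : Bool := e.all (fun m => e.any (fun y => Nat.beq (pullF T m) y))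

theorem invBF_iff {σ : Equiv.Perm GolayPt} {t : List ℕ} {T : ℕ} (ht : IsTbl σ t)
    (hT : okPullTab t T = true) {e : List ℕ} (he : okMasks e = true) :
    invBF T e = true ↔ σ • famOf e = famOf e := by
  rw [← invB_iff ht he]
  unfold invBF invB
  simp only [List.all_eq_true, List.any_eq_true, List.contains_iff_mem]
  constructor
  · intro h m hm
    obtain ⟨y, hy, hb⟩ := h m hm
    rw [← pullF_eq hT (okMasks_lt he m hm), Nat.eq_of_beq_eq_true hb]
    exact hy
  · intro h m hm
    refine ⟨pullT t m, h m hm, ?_⟩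
    rw [pullF_eq hT (okMasks_lt he m hm)]
    exact Nat.beq_refl _

theorem ncard_trios_fixed {σ : Equiv.Perm GolayPt} {t : List ℕ} {T : ℕ} (ht : IsTbl σ t)
    (hT : okPullTab t T = true) :
    {X : Finset (Finset GolayPt) | X ∈ trios ∧ σ • X = X}.ncard =
      (trioL.filter (invBF T)).length := by
  have hok := List.all_eq_true.mp trioL_ok
  apply ncard_filter_of_list_inj trios trioL famOf trioL_nodup
  · intro b hb b' hb' h
    exact famOf_inj (okTrio_masks (hok b hb)) (okTrio_masks (hok b' hb')) h
  · intro b hb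
    exact famOf_mem_trios (hok b hb)
  · rw [Cfsg.Agent.Lead.Steiner.trios_ncard, trioL_length]
  · rw [trioL_length]; norm_num
  · intro b hb
    exact invBF_iff ht hT (okTrio_masks (hok b hb))

theorem ncard_sextets_fixed {σ : Equiv.Perm GolayPt} {t : List ℕ} {T : ℕ} (ht : IsTbl σ t)
    (hT : okPullTab t T = true) :
    {S : Finset (Finset GolayPt) | S ∈ sextets ∧ σ • S = S}.ncard =
      (sextL.filter (invBF T)).length := by
  have hok := List.all_eq_true.mp sextL_ok
  apply ncard_filter_of_list_inj sextets sextL famOf sextL_nodup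
  · intro b hb b' hb' h
    exact famOf_inj (okSext_masks (hok b hb)) (okSext_masks (hok b' hb')) h
  · intro b hb
    exact famOf_mem_sextets (hok b hb)
  · rw [Cfsg.Agent.Lead.Steiner.sextets_main.2, sextL_length]
  · rw [sextL_length]; norm_num
  · intro b hb
    exact invBF_iff ht hT (okSext_masks (hok b hb))

theorem ncard_words_fixed (n : ℕ) {σ : Equiv.Perm GolayPt} {t : List ℕ} {T : ℕ} (ht : IsTbl σ t)
    (hT : okPullTab t T = true) :
    {o : Finset GolayPt | o ∈ wordsOfWeight (golayCode : Set (GolayPt → ZMod 2)) n ∧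
        σ • o = o}.ncard =
      ((codeList.filter (fun m => popc m == n)).filter
        (fun m => Nat.beq (pullF T m) m)).length := by
  apply ncard_wordsOfWeight_filter
  intro m hm
  rw [smul_suppM_eq_iff ht (codeList_lt hm), pullF_eq hT (codeList_lt hm)]
  constructor
  · exact Nat.eq_of_beq_eq_true
  · intro h
    rw [h]
    exact Nat.beq_refl _

theorem ncard_octads_fixed {σ : Equiv.Perm GolayPt} {t : List ℕ} {T : ℕ} (ht : IsTbl σ t)
    (hT : okPullTab t T = true) :
    {o : Finset GolayPt | o ∈ octads ∧ σ • o = o}.ncard =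
      (octL.filter (fun m => Nat.beq (pullF T m) m)).length := by
  rw [← octL_eq]
  exact ncard_words_fixed 8 ht hT

theorem ncard_dodecads_fixed {σ : Equiv.Perm GolayPt} {t : List ℕ} {T : ℕ} (ht : IsTbl σ t)
    (hT : okPullTab t T = true) :
    {o : Finset GolayPt | o ∈ dodecads ∧ σ • o = o}.ncard =
      (dodL.filter (fun m => Nat.beq (pullF T m) m)).length := by
  rw [← dodL_eq]
  exact ncard_words_fixed 12 ht hT

end Cfsg.Agent.Helper9.Golay
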