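import Mathlib
import Cfsg.Prelude.Def_FusionSystem
import Cfsg.Agent.Lead.SimpleCritE

set_option autoImplicit false

/-!
The 2-fusion system of a subgroup `G` of a group is simple as soon as a 2-subgroup `SP` of `G` of
the largest possible order is such that every element of `G` that normalizes it has order a power
of two, and every subgroup of `SP` closed under the conjugations by `G` inside `SP` that contains a
central element of `SP` other than the identity is `SP`.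
-/

namespace Cfsg.Agent.Helper9.Golay

open Cfsg Cfsg.Agent.Lead.SimpCrit

theorem fusion_simple_of {P : Type*} [Group P] (G : Subgroup P) [Finite ↥G] (SP : Subgroup P)
    (k : ℕ) (hle : SP ≤ G) (hcard : Nat.card SP = 2 ^ k) (hk : 0 < k)
    (hG : ¬ 2 ^ (k + 1) ∣ Nat.card G)
    (hN : ∀ g ∈ G, (∀ h ∈ SP, g * h * g⁻¹ ∈ SP) → (∀ h ∈ SP, g⁻¹ * h * g ∈ SP) →
      ∃ n : ℕ, g ^ 2 ^ n = 1)
    (hgen : ∀ x ∈ SP, x ≠ 1 → (∀ s ∈ SP, s * x = x * s) → ∀ T : Subgroup P, T ≤ SP → x ∈ T →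
      (∀ y ∈ T, ∀ g ∈ G, g * y * g⁻¹ ∈ SP → g * y * g⁻¹ ∈ T) → SP ≤ T)
    (S : Sylow 2 ↥G) : (groupFusionSystem (S : Subgroup ↥G)).IsSimple 2 := by
  have : Fact (Nat.Prime 2) := ⟨by norm_num⟩
  obtain ⟨S1, hS1def⟩ : ∃ S1 : Subgroup ↥G, S1 = SP.subgroupOf G := ⟨_, rfl⟩
  have hmemS1 : ∀ x : ↥G, x ∈ S1 ↔ (x : P) ∈ SP := by
    intro x
    rw [hS1def, Subgroup.mem_subgroupOf]
  have hc1 : Nat.card S1 = 2 ^ k := by
    rw [hS1def, Nat.card_congr (Subgroup.subgroupOfEquivOfLe hle).toEquiv]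
    exact hcard
  obtain ⟨Q, hQ⟩ := (IsPGroup.of_card hc1).exists_le_sylow
  have hbound : ∀ (K : Subgroup ↥G) (m : ℕ), Nat.card K = 2 ^ m → m ≤ k := by
    intro K m hm
    by_contra h
    apply hG
    have h1 : Nat.card K ∣ Nat.card ↥G := Subgroup.card_subgroup_dvd_card K
    rw [hm] at h1
    exact dvd_trans (pow_dvd_pow 2 (by omega)) h1
  obtain ⟨m, hm⟩ := IsPGroup.iff_card.mp Q.isPGroup'
  have hQeq : (Q : Subgroup ↥G) = S1 := by
    symm
    apply Subgroup.eq_of_le_of_card_ge hQ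
    rw [hm, hc1]
    exact Nat.pow_le_pow_right (by norm_num) (hbound _ m hm)
  -- the normalizer
  have hNorm : Subgroup.normalizer ((Q : Subgroup ↥G) : Set ↥G) ≤ (Q : Subgroup ↥G) := by
    rw [hQeq]
    have hp : IsPGroup 2 ↥(Subgroup.normalizer (S1 : Set ↥G)) := by
      intro n
      have hn := n.2
      have hn1 : ∀ h ∈ SP, (n.1 : P) * h * (n.1 : P)⁻¹ ∈ SP := by
        intro h hh
        have h1 : (⟨h, hle hh⟩ : ↥G) ∈ S1 := (hmemS1 _).mpr hh
        have h2 := (Subgroup.mem_normalizer_iff.mp hn _).mp h1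
        exact (hmemS1 _).mp h2
      have hn2 : ∀ h ∈ SP, (n.1 : P)⁻¹ * h * (n.1 : P) ∈ SP := by
        intro h hh
        have h1 : (⟨h, hle hh⟩ : ↥G) ∈ S1 := (hmemS1 _).mpr hh
        have e : n.1 * (n.1⁻¹ * ⟨h, hle hh⟩ * n.1) * n.1⁻¹ = (⟨h, hle hh⟩ : ↥G) := by group
        have h2 := (Subgroup.mem_normalizer_iff.mp hn (n.1⁻¹ * ⟨h, hle hh⟩ * n.1)).mpr (by
          rw [e]
          exact h1)
        exact (hmemS1 _).mp h2
      obtain ⟨e, he⟩ := hN (n.1 : P) n.1.2 hn1 hn2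
      refine ⟨e, ?_⟩
      apply Subtype.ext
      apply Subtype.ext
      exact he
    obtain ⟨j, hj⟩ := IsPGroup.iff_card.mp hp
    have hle2 : S1 ≤ Subgroup.normalizer (S1 : Set ↥G) := Subgroup.le_normalizer
    have : S1 = Subgroup.normalizer (S1 : Set ↥G) := by
      apply Subgroup.eq_of_le_of_card_ge hle2
      rw [hj, hc1]
      exact Nat.pow_le_pow_right (by norm_num) (hbound _ j hj)
    rw [← this]
  have hS1ne : (Q : Subgroup ↥G) ≠ ⊥ := by
    rw [hQeq]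
    intro h
    rw [h, Subgroup.card_bot] at hc1
    have : 2 ≤ 2 ^ k := by
      calc 2 = 2 ^ 1 := by norm_num
        _ ≤ 2 ^ k := Nat.pow_le_pow_right (by norm_num) hk
    omega
  refine crit_all 2 Q hS1ne ⟨?_, ?_⟩ S
  · intro T hTS hT
    by_cases hbot : T = ⊥
    · exact Or.inl hbot
    right
    have hSp : IsPGroup 2 ↥(Q : Subgroup ↥G) := Q.isPGroup'
    have hQn : (T.subgroupOf (Q : Subgroup ↥G)).Normal := by
      constructor
      intro x hx u
      rw [Subgroup.mem_subgroupOf] at hx ⊢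
      have h1 : ((u * x * u⁻¹ : ↥(Q : Subgroup ↥G)) : ↥G) = (u : ↥G) * (x : ↥G) * (u : ↥G)⁻¹ := rfl
      rw [h1]
      apply hT _ hx
      exact (Q : Subgroup ↥G).mul_mem ((Q : Subgroup ↥G).mul_mem u.2 x.2)
        ((Q : Subgroup ↥G).inv_mem u.2)
    have hQ1 : T.subgroupOf (Q : Subgroup ↥G) ≠ ⊥ := by
      intro h
      apply hbot
      rw [Subgroup.subgroupOf_eq_bot] at h
      rw [eq_bot_iff]
      intro x hx
      have : x ∈ T ⊓ (Q : Subgroup ↥G) := ⟨hx, hTS hx⟩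
      rw [disjoint_iff.mp h] at this
      exact this
    obtain ⟨z, hzQ, hz1, hzc⟩ :=
      Cfsg.Agent.Helper5.exists_ne_one_mem_center_of_normal hSp
        (T.subgroupOf (Q : Subgroup ↥G)) hQ1
    have hzT : (z : ↥G) ∈ T := Subgroup.mem_subgroupOf.mp hzQ
    have hzSP : ((z : ↥G) : P) ∈ SP := (hmemS1 _).mp (hQeq.le z.2)
    have hz1' : ((z : ↥G) : P) ≠ 1 := by
      intro h
      apply hz1
      apply Subtype.ext
      apply Subtype.ext
      exact h
    have hzc' : ∀ s ∈ SP, s * ((z : ↥G) : P) = ((z : ↥G) : P) * s := by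
      intro s hs
      have hsQ : (⟨s, hle hs⟩ : ↥G) ∈ (Q : Subgroup ↥G) := by
        rw [hQeq]
        exact (hmemS1 _).mpr hs
      have := hzc ⟨⟨s, hle hs⟩, hsQ⟩
      exact congrArg (fun w : ↥(Q : Subgroup ↥G) => ((w : ↥G) : P)) this
    have hmain := hgen _ hzSP hz1' hzc' (T.map G.subtype) (by
        rintro _ ⟨t, ht, rfl⟩
        have := hTS ht
        rw [hQeq] at this
        exact (hmemS1 _).mp this) ⟨z, hzT, rfl⟩ (by
        rintro _ ⟨t, ht, rfl⟩ g hg hgS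
        have hmem : (⟨g, hg⟩ : ↥G) * t * (⟨g, hg⟩ : ↥G)⁻¹ ∈ (Q : Subgroup ↥G) := by
          rw [hQeq]
          exact (hmemS1 _).mpr hgS
        exact ⟨_, hT t ht ⟨g, hg⟩ hmem, rfl⟩)
    apply le_antisymm hTS
    intro x hx
    rw [hQeq] at hx
    have h1 := hmain ((hmemS1 x).mp hx)
    obtain ⟨t, ht, hte⟩ := h1
    have : t = x := Subtype.ext hte
    rw [← this]
    exact ht
  · intro m hm
    have hmS : m ∈ (Q : Subgroup ↥G) := hNorm hm
    apply Subgroup.subset_closure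
    refine ⟨hm, (Q : Subgroup ↥G), le_rfl, Subgroup.le_normalizer, inf_le_left, ?_⟩
    apply Subgroup.subset_closure
    refine ⟨hm, ?_⟩
    obtain ⟨e, he⟩ := (IsPGroup.iff_orderOf.mp Q.isPGroup') ⟨m, hmS⟩
    rw [Subgroup.orderOf_mk] at he
    exact ⟨e, he⟩

end Cfsg.Agent.Helper9.Golay
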