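import Mathlib
import Cfsg.Prelude
import Cfsg.Agent.Helper9.Golay.S22Data
import Cfsg.Agent.Helper9.Golay.FusGen
import Cfsg.Agent.Helper9.Golay.OctFix
import Cfsg.Agent.Helper9.Golay.M22Out
import Cfsg.Agent.Helper9.Out.M22Out
import Cfsg.Agent.Helper9.Out.M23Out

set_option autoImplicit false

/-!
The 2-fusion systems of the stabilizers of one point and of two points in the group of the code are
simple.
-/

namespace Cfsg.Agent.Helper9.Golay

open Cfsg Cfsg.Agent.Helper9.OutM22 Cfsg.Agent.Helper9.OutM23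

/-- the subgroup of order 128 of the stabilizer of two points. -/
def s22SP : Subgroup (Equiv.Perm GolayPt) := s22G.permSubgroup s22_bfs s22_closed s22gens_real

theorem s22_hT (h : Equiv.Perm GolayPt) : h ∈ s22SP ↔ ∃ t ∈ s22G.tabs, IsTbl h t :=
  s22G.mem_permSubgroup s22_bfs s22_closed s22gens_real h

theorem s22_hTr : ∀ t ∈ s22G.tabs, ∃ σ : Equiv.Perm GolayPt, IsTbl σ t :=
  s22G.real_perm s22_bfs s22gens_real

theorem s22SP_le_M24 : s22SP ≤ M24 := s22G.permSubgroup_le_M24 s22_bfs s22_closed s22gens_real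

theorem s22SP_le_M22 : s22SP ≤ Spor.M22 := by
  intro h hh
  obtain ⟨t, ht, hht⟩ := (s22_hT h).mp hh
  have h24 : h ∈ M24 := s22SP_le_M24 hh
  have hf := List.all_eq_true.mp s22_fix t ht
  unfold fix23_0 at hf
  simp only [Bool.and_eq_true, beq_iff_eq] at hf
  exact mem_M22_of_tbl h24 hht hf.1 hf.2

theorem M22_le_M23 : Spor.M22 ≤ Spor.M23 := by
  intro x hx
  rw [mem_M22_iff] at hx
  rw [mem_M23_iff]
  exact ⟨hx.1, hx.2.1⟩

theorem card_s22SP : Nat.card s22SP = 2 ^ 7 := by
  unfold s22SP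
  rw [s22G.card_permSubgroup s22_bfs s22_closed s22gens_real s22_sorted]
  rfl

theorem s22M_mem : (13062145 : ℕ) ∈ codeList := by decide +kernel

theorem s22M_oct : suppM s22M ∈ octads :=
  (mem_octads_iff _).mpr ⟨13062145, s22M_mem, by decide, rfl⟩

/-- an element of the group of the code that normalizes the subgroup has order a power of two. -/
theorem s22_norm {g : Equiv.Perm GolayPt} (hg : g ∈ M24)
    (h1 : ∀ h ∈ s22SP, g * h * g⁻¹ ∈ s22SP) (h2 : ∀ h ∈ s22SP, g⁻¹ * h * g ∈ s22SP) :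
    g ^ 2 ^ 4 = 1 := by
  have hmemO : ∀ p : GolayPt, p ∈ suppM s22M ↔ ptIdx p ∈ s22O := by
    intro p
    rw [mem_suppM, s22_mask _ (ptIdx_lt p)]
  have hO : ∀ p ∈ suppM s22M, g p ∈ suppM s22M := by
    apply normO_out h2 (by rw [card_suppM]; decide) ?_ (idxPtN 1)
    · intro p hp
      apply trans_of s22_hT s22_hTr (by norm_num) s22_chk_trans
      apply s22_out _ (ptIdx_lt p)
      intro h
      exact hp ((hmemO p).mpr h)
    · intro s hs p hp
      rw [hmemO] at hp ⊢
      exact closed_of s22_hT s22_chk_closed s hs p hp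
  have hO' : ∀ p, ptIdx p ∈ s22O → ptIdx (g p) ∈ s22O := by
    intro p hp
    rw [← hmemO] at hp ⊢
    exact hO p hp
  have h8 := pow8_of_norm s22_hT s22_hTr h1 h2 s22O s22Pi s22Be s22_facts s22_struct s22_chk_F
    (fun a b => (relU s22SP a ↔ relU s22SP b))
    (by
      intro a b
      rw [relU_conj h1 h2, relU_conj h1 h2])
    (fun a b => relUB s22G.tabs a == relUB s22G.tabs b)
    (by
      intro a b
      rw [beq_iff_eq, ← relUB_iff s22_hT s22_hTr a, ← relUB_iff s22_hT s22_hTr b]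
      exact Bool.eq_iff_iff)
    s22_chk_B hO'
  have e8 : g ^ 8 = g * (g * (g * (g * (g * (g * (g * g)))))) := by
    simp only [pow_succ, pow_zero, one_mul, mul_assoc]
  have hfix : g ^ 8 ∈ M24 ⊓ fixingSubgroup (Equiv.Perm GolayPt) (suppM s22M : Set GolayPt) := by
    refine Subgroup.mem_inf.mpr ⟨M24.pow_mem hg 8, ?_⟩
    rw [mem_fixingSubgroup_iff]
    intro p hp
    have hp' : ptIdx p ∈ s22O := (hmemO p).mp (by simpa using hp)
    show (g ^ 8) p = p
    rw [e8]
    exact h8 p hp'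
  have h16 := (oct_fix_card_sq s22M_oct).2 _ hfix
  rw [← pow_add] at h16
  exact h16

theorem s22_hinG22 : ∀ σ ∈ M24, ∀ t, IsTbl σ t → fix23_0 t = true → σ ∈ Spor.M22 := by
  intro σ hσ t ht hf
  unfold fix23_0 at hf
  simp only [Bool.and_eq_true, beq_iff_eq] at hf
  exact mem_M22_of_tbl hσ ht hf.1 hf.2

theorem fusion_M22 (S : Sylow 2 Spor.M22) :
    (groupFusionSystem (S : Subgroup Spor.M22)).IsSimple 2 := by
  apply fusion_simple_of Spor.M22 s22SP 7 s22SP_le_M22 card_s22SP (by norm_num)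
  · rw [card_M22]
    norm_num
  · intro g hg h1 h2
    exact ⟨4, s22_norm (M22_le hg) h1 h2⟩
  · exact hgen_of_cert s22G s22_bfs s22_closed s22gens_real s22S s22S_ok Spor.M22 fix23_0
      s22_hinG22 s22Zc (by decide) s22_center s22_gensOK s22Steps s22_deriv s22_final

theorem fusion_M23 (S : Sylow 2 Spor.M23) :
    (groupFusionSystem (S : Subgroup Spor.M23)).IsSimple 2 := by
  apply fusion_simple_of Spor.M23 s22SP 7 (s22SP_le_M22.trans M22_le_M23) card_s22SP (by norm_num)
  · rw [card_M23]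
    norm_num
  · intro g hg h1 h2
    exact ⟨4, s22_norm (M23_le hg) h1 h2⟩
  · exact hgen_of_cert s22G s22_bfs s22_closed s22gens_real s22S s22S_ok Spor.M23 fix23_0
      (fun σ hσ t ht hf => M22_le_M23 (s22_hinG22 σ hσ t ht hf))
      s22Zc (by decide) s22_center s22_gensOK s22Steps s22_deriv s22_final

end Cfsg.Agent.Helper9.Golay
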