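import Mathlib
import Cfsg.Prelude.Def_Sporadic_a
import Cfsg.Agent.Helper9.Golay.Syl2
import Cfsg.Agent.Helper9.Golay.OctFix

set_option autoImplicit false

/-!
A Sylow 2-subgroup of the group of the code is its own normalizer.
-/

namespace Cfsg.Agent.Helper9.Golay

open Cfsg
open scoped Pointwise

/-- a permutation of a set of eight points which preserves a partition into two blocks of four
points and a pairing inside the blocks has order dividing 8 on the set. -/
theorem pow8_fix {X : Type*} (f : X → X) (hinj : Function.Injective f) (O : Set X) (π : X → X)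
    (β : X → Bool)
    (hfO : ∀ a ∈ O, f a ∈ O)
    (hππ : ∀ a ∈ O, π (π a) = a)
    (hfπ : ∀ a ∈ O, f (π a) = π (f a))
    (hfβ : ∀ a ∈ O, ∀ b ∈ O, (β (f a) = β (f b) ↔ β a = β b))
    (hstruct : ∀ a ∈ O, ∀ b ∈ O, ∀ c ∈ O, β a = β b → β a = β c →
       (c = a ∨ c = π a) ∨ (c = b ∨ c = π b) ∨ (b = a ∨ b = π a)) :
    ∀ a ∈ O, f (f (f (f (f (f (f (f a))))))) = a := by
  -- the square preserves the blocks
  have h1 : ∀ a ∈ O, β (f (f a)) = β a := by
    intro a ha
    have hfa := hfO a ha
    have key := hfβ a ha (f a) hfa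
    by_cases h : β (f a) = β a
    · rw [← key.mpr h.symm, h]
    · have h' : ¬ β (f a) = β (f (f a)) := fun h2 => h (key.mp h2).symm
      revert h h'
      cases β a <;> cases β (f a) <;> cases β (f (f a)) <;> simp
  let h : X → X := fun a => f (f a)
  have hhO : ∀ a ∈ O, h a ∈ O := fun a ha => hfO _ (hfO a ha)
  have hhπ : ∀ a ∈ O, h (π a) = π (h a) := by
    intro a ha
    show f (f (π a)) = π (f (f a))
    rw [hfπ a ha, hfπ (f a) (hfO a ha)]
  have hhinj : Function.Injective h := hinj.comp hinj
  -- the fourth power preserves the pairs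
  have h2 : ∀ a ∈ O, h (h a) = a ∨ h (h a) = π a := by
    intro a ha
    have hb := hhO a ha
    have hc := hhO _ hb
    have e1 : β a = β (h a) := (h1 a ha).symm
    have e2 : β a = β (h (h a)) := by rw [h1 (h a) hb, h1 a ha]
    rcases hstruct a ha (h a) hb (h (h a)) hc e1 e2 with (h3 | h3) | (h3 | h3) | (h3 | h3)
    · exact Or.inl h3
    · exact Or.inr h3
    · left
      have := hhinj h3
      rw [this, this]
    · left
      rw [← hhπ a ha] at h3
      have := hhinj h3
      rw [this, hhπ a ha, this, hππ a ha]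
    · left
      rw [h3, h3]
    · left
      rw [h3, hhπ a ha, h3, hππ a ha]
  let k : X → X := fun a => h (h a)
  have hkπ : ∀ a ∈ O, k (π a) = π (k a) := by
    intro a ha
    show h (h (π a)) = π (h (h a))
    rw [hhπ a ha, hhπ (h a) (hhO a ha)]
  intro a ha
  show k (k a) = a
  rcases h2 a ha with h3 | h3
  · show k (k a) = a
    have : k a = a := h3
    rw [this, this]
  · have : k a = π a := h3
    rw [this, hkπ a ha, this, hππ a ha]

/-! ### the computations -/

def oIdx : List ℕ := [0, 1, 2, 3, 4, 7, 10, 12]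

def piIdx (i : ℕ) : ℕ := [1, 0, 3, 2, 7, 0, 0, 4, 0, 0, 12, 0, 10].getD i 0

def beIdx (i : ℕ) : Bool := decide (i < 4)

theorem p2_chk_closed :
    p2G.tabs.all (fun t => oIdx.all (fun i => oIdx.contains (t.getD i 0))) = true := by
  decide +kernel

theorem p2_chk_transO :
    oIdx.all (fun i => p2G.tabs.any (fun t => t.getD 0 0 == i)) = true := by
  decide +kernel

theorem p2_chk_transOut :
    (List.range 24).all (fun i => oIdx.contains i || p2G.tabs.any (fun t => t.getD 5 0 == i)) =
      true := by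
  decide +kernel

theorem p2_chk_F : oIdx.all (fun a => oIdx.all (fun b => (b == a || b == piIdx a) ==
    p2G.tabs.all (fun t => !(t.getD a 0 == a) || t.getD b 0 == b))) = true := by
  decide +kernel

theorem p2_chk_B : oIdx.all (fun a => oIdx.all (fun b => (beIdx a == beIdx b) ==
    p2G.tabs.all (fun t => !(t.getD a 0 == a) || t.getD (t.getD b 0) 0 == b))) = true := by
  decide +kernel

theorem idx_facts : ∀ i ∈ oIdx, piIdx i ∈ oIdx ∧ piIdx (piIdx i) = i ∧ piIdx i ≠ i ∧
    piIdx i < 24 ∧ i < 24 := by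
  decide

theorem idx_struct : ∀ a ∈ oIdx, ∀ b ∈ oIdx, ∀ c ∈ oIdx, beIdx a = beIdx b → beIdx a = beIdx c →
    (c = a ∨ c = piIdx a) ∨ (c = b ∨ c = piIdx b) ∨ (b = a ∨ b = piIdx a) := by
  decide

theorem idx_mask : ∀ i < 24, (5279 : ℕ).testBit i = true ↔ i ∈ oIdx := by
  decide

end Cfsg.Agent.Helper9.Golay
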