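import Mathlib
import Cfsg.Prelude.Def_Sporadic_a
import Cfsg.Agent.Helper9.Golay.Syl2Norm

set_option autoImplicit false

/-!
A Sylow 2-subgroup of the group of the code is its own normalizer: the group theory.
-/

namespace Cfsg.Agent.Helper9.Golay

open Cfsg
open scoped Pointwise

/-- the points of the octad which is an orbit of the Sylow 2-subgroup. -/
def inO (p : GolayPt) : Prop := ptIdx p ∈ oIdx

/-- the pairing. -/
def piP (p : GolayPt) : GolayPt := idxPtN (piIdx (ptIdx p))

/-- the blocks. -/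
def beP (p : GolayPt) : Bool := beIdx (ptIdx p)

theorem ptIdx_piP {p : GolayPt} (hp : inO p) : ptIdx (piP p) = piIdx (ptIdx p) :=
  ptIdx_idxPtN (idx_facts _ hp).2.2.2.1

theorem inO_piP {p : GolayPt} (hp : inO p) : inO (piP p) := by
  unfold inO
  rw [ptIdx_piP hp]
  exact (idx_facts _ hp).1

theorem piP_piP {p : GolayPt} (hp : inO p) : piP (piP p) = p := by
  unfold piP
  rw [ptIdx_idxPtN (idx_facts _ hp).2.2.2.1, (idx_facts _ hp).2.1, idxPtN_ptIdx]

theorem piP_ne {p : GolayPt} (hp : inO p) : piP p ≠ p := by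
  intro h
  have := congrArg ptIdx h
  rw [ptIdx_piP hp] at this
  exact (idx_facts _ hp).2.2.1 this

theorem tbl_apply {τ : Equiv.Perm GolayPt} {t : List ℕ} (h : IsTbl τ t) (p : GolayPt) :
    ptIdx (τ p) = t.getD (ptIdx p) 0 := (h.2 p).symm

theorem P2_closed {h : ↥M24} (hh : h ∈ P2) {p : GolayPt} (hp : inO p) : inO (h.1 p) := by
  obtain ⟨t, ht, htb⟩ := (mem_P2 h).mp hh
  have h1 := List.all_eq_true.mp (List.all_eq_true.mp p2_chk_closed t ht) (ptIdx p) hp
  unfold inO
  rw [tbl_apply htb]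
  simpa using h1

theorem P2_transO {p : GolayPt} (hp : inO p) : ∃ h ∈ P2, h.1 (idxPtN 0) = p := by
  have h1 := List.all_eq_true.mp p2_chk_transO (ptIdx p) hp
  rw [List.any_eq_true] at h1
  obtain ⟨t, ht, hte⟩ := h1
  obtain ⟨σ, hσ, hσt⟩ := p2_real t ht
  refine ⟨⟨σ, hσ⟩, (mem_P2 _).mpr ⟨t, ht, hσt⟩, ?_⟩
  show σ (idxPtN 0) = p
  rw [hσt.apply_idx (by norm_num)]
  rw [beq_iff_eq] at hte
  rw [hte, idxPtN_ptIdx]

theorem P2_transOut {p : GolayPt} (hp : ¬ inO p) : ∃ h ∈ P2, h.1 (idxPtN 5) = p := by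
  have h1 := List.all_eq_true.mp p2_chk_transOut (ptIdx p) (List.mem_range.mpr (ptIdx_lt p))
  rw [Bool.or_eq_true] at h1
  rcases h1 with h1 | h1
  · exfalso
    apply hp
    unfold inO
    simpa using h1
  rw [List.any_eq_true] at h1
  obtain ⟨t, ht, hte⟩ := h1
  obtain ⟨σ, hσ, hσt⟩ := p2_real t ht
  refine ⟨⟨σ, hσ⟩, (mem_P2 _).mpr ⟨t, ht, hσt⟩, ?_⟩
  show σ (idxPtN 5) = p
  rw [hσt.apply_idx (by norm_num)]
  rw [beq_iff_eq] at hte
  rw [hte, idxPtN_ptIdx]

/-- the points fixed by a point stabiliser. -/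
theorem P2_F {a b : GolayPt} (ha : inO a) (hb : inO b) :
    (∀ h ∈ P2, h.1 a = a → h.1 b = b) ↔ (b = a ∨ b = piP a) := by
  have h1 := List.all_eq_true.mp (List.all_eq_true.mp p2_chk_F (ptIdx a) ha) (ptIdx b) hb
  rw [beq_iff_eq] at h1
  constructor
  · intro hall
    have h2 : p2G.tabs.all (fun t => !(t.getD (ptIdx a) 0 == ptIdx a) ||
        t.getD (ptIdx b) 0 == ptIdx b) = true := by
      rw [List.all_eq_true]
      intro t ht
      obtain ⟨σ, hσ, hσt⟩ := p2_real t ht
      have hmem : (⟨σ, hσ⟩ : ↥M24) ∈ P2 := (mem_P2 _).mpr ⟨t, ht, hσt⟩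
      by_cases hfa : t.getD (ptIdx a) 0 = ptIdx a
      · have hσa : σ a = a := by
          apply ptIdx_injective
          rw [tbl_apply hσt, hfa]
        have hσb : σ b = b := hall ⟨σ, hσ⟩ hmem hσa
        have : t.getD (ptIdx b) 0 = ptIdx b := by rw [← tbl_apply hσt, hσb]
        rw [Bool.or_eq_true]
        right
        rw [beq_iff_eq]
        exact this
      · rw [Bool.or_eq_true]
        left
        rw [Bool.not_eq_true', beq_eq_false_iff_ne]
        exact hfa
    rw [h2] at h1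
    simp only [Bool.or_eq_true, beq_iff_eq] at h1
    rcases h1 with h1 | h1
    · exact Or.inl (ptIdx_injective h1)
    · right
      apply ptIdx_injective
      rw [ptIdx_piP ha]
      exact h1
  · intro hb' h hh hfa
    have h3 : ((ptIdx b == ptIdx a) || (ptIdx b == piIdx (ptIdx a))) = true := by
      rcases hb' with rfl | rfl
      · simp
      · rw [ptIdx_piP ha]
        simp
    rw [h3] at h1
    obtain ⟨t, ht, htb⟩ := (mem_P2 h).mp hh
    have h4 := List.all_eq_true.mp h1.symm t ht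
    have h5 : t.getD (ptIdx a) 0 = ptIdx a := by rw [← tbl_apply htb, hfa]
    simp only [h5, beq_self_eq_true, Bool.not_true, Bool.false_or, beq_iff_eq] at h4
    apply ptIdx_injective
    rw [tbl_apply htb, h4]

/-- the points on which the squares of a point stabiliser act trivially. -/
theorem P2_B {a b : GolayPt} (ha : inO a) (hb : inO b) :
    (∀ h ∈ P2, h.1 a = a → h.1 (h.1 b) = b) ↔ beP a = beP b := by
  have h1 := List.all_eq_true.mp (List.all_eq_true.mp p2_chk_B (ptIdx a) ha) (ptIdx b) hb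
  rw [beq_iff_eq] at h1
  constructor
  · intro hall
    have h2 : p2G.tabs.all (fun t => !(t.getD (ptIdx a) 0 == ptIdx a) ||
        t.getD (t.getD (ptIdx b) 0) 0 == ptIdx b) = true := by
      rw [List.all_eq_true]
      intro t ht
      obtain ⟨σ, hσ, hσt⟩ := p2_real t ht
      have hmem : (⟨σ, hσ⟩ : ↥M24) ∈ P2 := (mem_P2 _).mpr ⟨t, ht, hσt⟩
      by_cases hfa : t.getD (ptIdx a) 0 = ptIdx a
      · have hσa : σ a = a := by
          apply ptIdx_injective
          rw [tbl_apply hσt, hfa]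
        have hσb : σ (σ b) = b := hall ⟨σ, hσ⟩ hmem hσa
        have : t.getD (t.getD (ptIdx b) 0) 0 = ptIdx b := by
          rw [← tbl_apply hσt, ← tbl_apply hσt, hσb]
        rw [Bool.or_eq_true]
        right
        rw [beq_iff_eq]
        exact this
      · rw [Bool.or_eq_true]
        left
        rw [Bool.not_eq_true', beq_eq_false_iff_ne]
        exact hfa
    rw [h2] at h1
    simpa [beP] using h1
  · intro hbe h hh hfa
    have h3 : (beIdx (ptIdx a) == beIdx (ptIdx b)) = true := by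
      rw [beq_iff_eq]
      exact hbe
    rw [h3] at h1
    obtain ⟨t, ht, htb⟩ := (mem_P2 h).mp hh
    have h4 := List.all_eq_true.mp h1.symm t ht
    have h5 : t.getD (ptIdx a) 0 = ptIdx a := by rw [← tbl_apply htb, hfa]
    simp only [h5, beq_self_eq_true, Bool.not_true, Bool.false_or, beq_iff_eq] at h4
    apply ptIdx_injective
    rw [tbl_apply htb, tbl_apply htb, h4]

end Cfsg.Agent.Helper9.Golay
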