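import Mathlib
import Cfsg.Prelude.Def_Sporadic_a
import Cfsg.Agent.Helper9.Golay.Syl2Norm2

set_option autoImplicit false

/-!
A Sylow 2-subgroup of the group of the code is its own normalizer: the normalizer of the explicit
Sylow 2-subgroup is a 2-group.
-/

namespace Cfsg.Agent.Helper9.Golay

open Cfsg
open scoped Pointwise

theorem inO_iff (p : GolayPt) : inO p ↔ p ∈ suppM 5279 := by
  rw [mem_suppM]
  exact (idx_mask (ptIdx p) (ptIdx_lt p)).symm

theorem card_suppM_5279 : (suppM 5279).card = 8 := by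
  rw [card_suppM]
  decide

section

variable (g : ↥M24) (hg : g ∈ Subgroup.normalizer (P2 : Set ↥M24))

include hg

theorem conj_mem_P2 {h : ↥M24} (hh : h ∈ P2) : g * h * g⁻¹ ∈ P2 :=
  (Subgroup.mem_normalizer_iff.mp hg h).mp hh

theorem conj_mem_P2' {h : ↥M24} (hh : h ∈ P2) : g⁻¹ * h * g ∈ P2 := by
  rw [Subgroup.mem_normalizer_iff.mp hg (g⁻¹ * h * g)]
  have : g * (g⁻¹ * h * g) * g⁻¹ = h := by group
  rw [this]
  exact hh

/-- the normalizer preserves the octad. -/
theorem norm_O {a : GolayPt} (ha : inO a) : inO (g.1 a) := by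
  classical
  by_contra hna
  -- every point outside the octad is moved into the octad by the inverse
  have key : ∀ y : GolayPt, ¬ inO y → inO (g.1.symm y) := by
    intro y hy
    obtain ⟨h1, hh1, e1⟩ := P2_transOut hna
    obtain ⟨h2, hh2, e2⟩ := P2_transOut hy
    have hmem : h2 * h1⁻¹ ∈ P2 := P2.mul_mem hh2 (P2.inv_mem hh1)
    have e3 : (h2 * h1⁻¹).1 (g.1 a) = y := by
      show h2.1 (h1⁻¹.1 (g.1 a)) = y
      have : h1⁻¹.1 (g.1 a) = idxPtN 5 := by
        rw [← e1]
        show (h1.1)⁻¹ (h1.1 (idxPtN 5)) = idxPtN 5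
        simp
      rw [this, e2]
    have h4 := P2_closed (conj_mem_P2' g hg hmem) ha
    have e5 : (g⁻¹ * (h2 * h1⁻¹) * g).1 a = g.1.symm y := by
      show (g.1)⁻¹ ((h2 * h1⁻¹).1 (g.1 a)) = g.1.symm y
      rw [e3]
      rfl
    rw [e5] at h4
    exact h4
  have hle : ((suppM 5279)ᶜ).card ≤ (suppM 5279).card := by
    apply Finset.card_le_card_of_injOn (fun y => g.1.symm y)
    · intro y hy
      have hy' : ¬ inO y := by
        rw [inO_iff]
        simpa using hy
      exact (inO_iff _).mp (key y hy')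
    · intro x _ y _ hxy
      exact g.1.symm.injective hxy
  rw [Finset.card_compl, card_suppM_5279, card_golayPt] at hle
  omega

/-- the normalizer preserves the pairing. -/
theorem norm_pi {a : GolayPt} (ha : inO a) : g.1 (piP a) = piP (g.1 a) := by
  have ha' := norm_O g hg ha
  have hb' := norm_O g hg (inO_piP ha)
  have h1 : ∀ h ∈ P2, h.1 (g.1 a) = g.1 a → h.1 (g.1 (piP a)) = g.1 (piP a) := by
    intro h hh hfix
    have hmem := conj_mem_P2' g hg hh
    have hfa : (g⁻¹ * h * g).1 a = a := by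
      show (g.1)⁻¹ (h.1 (g.1 a)) = a
      rw [hfix]
      simp
    have h2 := (P2_F ha (inO_piP ha)).mpr (Or.inr rfl) _ hmem hfa
    have h3 : (g.1)⁻¹ (h.1 (g.1 (piP a))) = piP a := h2
    have h4 := congrArg g.1 h3
    simpa using h4
  rcases (P2_F ha' hb').mp h1 with h2 | h2
  · exfalso
    exact piP_ne ha (g.1.injective h2)
  · exact h2

/-- the normalizer preserves the blocks. -/
theorem norm_be {a b : GolayPt} (ha : inO a) (hb : inO b) :
    beP (g.1 a) = beP (g.1 b) ↔ beP a = beP b := by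
  have ha' := norm_O g hg ha
  have hb' := norm_O g hg hb
  rw [← P2_B ha hb, ← P2_B ha' hb']
  constructor
  · intro hall h hh hfa
    have hmem := conj_mem_P2 g hg hh
    have hfix : (g * h * g⁻¹).1 (g.1 a) = g.1 a := by
      show g.1 (h.1 ((g.1)⁻¹ (g.1 a))) = g.1 a
      rw [show (g.1)⁻¹ (g.1 a) = a by simp, hfa]
    have h2 := hall _ hmem hfix
    have h3 : g.1 (h.1 ((g.1)⁻¹ (g.1 (h.1 ((g.1)⁻¹ (g.1 b)))))) = g.1 b := h2
    rw [show (g.1)⁻¹ (g.1 b) = b by simp,
      show (g.1)⁻¹ (g.1 (h.1 b)) = h.1 b by simp] at h3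
    exact g.1.injective h3
  · intro hall h hh hfa
    have hmem := conj_mem_P2' g hg hh
    have hfix : (g⁻¹ * h * g).1 a = a := by
      show (g.1)⁻¹ (h.1 (g.1 a)) = a
      rw [hfa]
      simp
    have h2 := hall _ hmem hfix
    have h3 : (g.1)⁻¹ (h.1 (g.1 ((g.1)⁻¹ (h.1 (g.1 b))))) = b := h2
    rw [show g.1 ((g.1)⁻¹ (h.1 (g.1 b))) = h.1 (g.1 b) by simp] at h3
    have h4 := congrArg g.1 h3
    simpa using h4

/-- the sixteenth power of an element of the normalizer is trivial. -/
theorem norm_pow16 : g ^ 2 ^ 4 = 1 := by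
  have h8 := pow8_fix (fun p => g.1 p) g.1.injective {p | inO p} piP beP
    (fun a ha => norm_O g hg ha)
    (fun a ha => piP_piP ha)
    (fun a ha => norm_pi g hg ha)
    (fun a ha b hb => norm_be g hg ha hb)
    (by
      intro a ha b hb c hc h1 h2
      have := idx_struct _ ha _ hb _ hc h1 h2
      rcases this with (h3 | h3) | (h3 | h3) | (h3 | h3)
      · exact Or.inl (Or.inl (ptIdx_injective h3))
      · refine Or.inl (Or.inr (ptIdx_injective ?_))
        rw [ptIdx_piP ha]
        exact h3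
      · exact Or.inr (Or.inl (Or.inl (ptIdx_injective h3)))
      · refine Or.inr (Or.inl (Or.inr (ptIdx_injective ?_)))
        rw [ptIdx_piP hb]
        exact h3
      · exact Or.inr (Or.inr (Or.inl (ptIdx_injective h3)))
      · refine Or.inr (Or.inr (Or.inr (ptIdx_injective ?_)))
        rw [ptIdx_piP ha]
        exact h3)
  let s : ↥M24 := g * g * (g * g) * (g * g * (g * g))
  have hs : ∀ p, inO p → s.1 p = p := fun p hp => h8 p hp
  have ho : suppM 5279 ∈ octads := (mem_octads_iff _).mpr ⟨5279, oct0_mem, by decide, rfl⟩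
  have hmem : s.1 ∈ M24 ⊓ fixingSubgroup (Equiv.Perm GolayPt) ((suppM 5279 : Finset GolayPt) :
      Set GolayPt) := by
    refine Subgroup.mem_inf.mpr ⟨s.2, ?_⟩
    rw [mem_fixingSubgroup_iff]
    intro y hy
    exact hs y ((inO_iff y).mpr hy)
  have hsq := (oct_fix_card_sq ho).2 s.1 hmem
  have hsq' : s * s = 1 := Subtype.ext hsq
  have e : g ^ 2 ^ 4 = s * s := by
    show g ^ 16 = g * g * (g * g) * (g * g * (g * g)) * (g * g * (g * g) * (g * g * (g * g)))
    simp only [pow_succ, pow_zero, one_mul, mul_assoc]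
  rw [e, hsq']

end

/-- the explicit Sylow 2-subgroup is its own normalizer. -/
theorem normalizer_P2 : Subgroup.normalizer (P2 : Set ↥M24) = P2 := by
  have : Fact (Nat.Prime 2) := ⟨by norm_num⟩
  have hp : IsPGroup 2 ↥(Subgroup.normalizer (P2 : Set ↥M24)) := by
    intro n
    refine ⟨4, ?_⟩
    apply Subtype.ext
    rw [Subgroup.coe_pow]
    exact norm_pow16 n.1 n.2
  obtain ⟨k, hk⟩ := IsPGroup.iff_card.mp hp
  have hdvd : Nat.card ↥(Subgroup.normalizer (P2 : Set ↥M24)) ∣ Nat.card ↥M24 :=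
    Subgroup.card_subgroup_dvd_card _
  rw [hk, card_M24] at hdvd
  have hk10 : k ≤ 10 := by
    by_contra h
    have h11 : 2 ^ 11 ∣ 2 ^ k := pow_dvd_pow 2 (by omega)
    have := dvd_trans h11 hdvd
    revert this
    decide
  have hle : P2 ≤ Subgroup.normalizer (P2 : Set ↥M24) := Subgroup.le_normalizer
  symm
  apply Subgroup.eq_of_le_of_card_ge hle
  rw [hk, card_P2]
  exact Nat.pow_le_pow_right (by norm_num) hk10

/-- a Sylow 2-subgroup of the group of the code is its own normalizer. -/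
theorem sylow2_self_normalizing (S : Sylow 2 ↥M24) :
    Subgroup.normalizer ((S : Subgroup ↥M24) : Set ↥M24) = (S : Subgroup ↥M24) := by
  have : Fact (Nat.Prime 2) := ⟨by norm_num⟩
  have hP2 : IsPGroup 2 ↥P2 := IsPGroup.of_card card_P2
  obtain ⟨Q, hQ⟩ := hP2.exists_le_sylow
  -- the explicit subgroup is a Sylow subgroup
  obtain ⟨k, hk⟩ := IsPGroup.iff_card.mp Q.isPGroup'
  have hdvd : Nat.card ↥(Q : Subgroup ↥M24) ∣ Nat.card ↥M24 := Subgroup.card_subgroup_dvd_card _
  rw [hk, card_M24] at hdvd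
  have hk10 : k ≤ 10 := by
    by_contra h
    have h11 : 2 ^ 11 ∣ 2 ^ k := pow_dvd_pow 2 (by omega)
    have := dvd_trans h11 hdvd
    revert this
    decide
  have hQeq : P2 = (Q : Subgroup ↥M24) := by
    apply Subgroup.eq_of_le_of_card_ge hQ
    rw [hk, card_P2]
    exact Nat.pow_le_pow_right (by norm_num) hk10
  have hcardQ : Nat.card ↥(Q : Subgroup ↥M24) = 2 ^ 10 := by rw [← hQeq, card_P2]
  have hcardS : Nat.card ↥(S : Subgroup ↥M24) = 2 ^ 10 := by
    rw [Sylow.card_eq_multiplicity, ← Sylow.card_eq_multiplicity Q, hcardQ]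
  have hNQ : Subgroup.normalizer ((Q : Subgroup ↥M24) : Set ↥M24) = (Q : Subgroup ↥M24) := by
    rw [← hQeq]
    exact normalizer_P2
  have h1 : Nat.card (Sylow 2 ↥M24) =
      (Subgroup.normalizer ((Q : Subgroup ↥M24) : Set ↥M24)).index :=
    Sylow.card_eq_index_normalizer Q
  have h2 : Nat.card (Sylow 2 ↥M24) =
      (Subgroup.normalizer ((S : Subgroup ↥M24) : Set ↥M24)).index :=
    Sylow.card_eq_index_normalizer S
  rw [hNQ] at h1
  have h3 := Subgroup.card_mul_index (Q : Subgroup ↥M24)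
  have h4 := Subgroup.card_mul_index (Subgroup.normalizer ((S : Subgroup ↥M24) : Set ↥M24))
  rw [← h2, h1] at h4
  rw [hcardQ] at h3
  have hidx : (Q : Subgroup ↥M24).index ≠ 0 := by
    intro h0
    rw [h0, mul_zero, card_M24] at h3
    omega
  have hcardN : Nat.card ↥(Subgroup.normalizer ((S : Subgroup ↥M24) : Set ↥M24)) = 2 ^ 10 := by
    have := h4.trans h3.symm
    exact Nat.eq_of_mul_eq_mul_right (Nat.pos_of_ne_zero hidx) this
  symm
  apply Subgroup.eq_of_le_of_card_ge Subgroup.le_normalizer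
  rw [hcardN, hcardS]

end Cfsg.Agent.Helper9.Golay
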