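import Mathlib
import Cfsg.Agent.Helper9.Golay.Syl2Norm3
import Cfsg.Agent.Lead.SimpleCritE

set_option autoImplicit false
set_option Elab.async false

/-!
The 2-fusion system of the group of the binary Golay code is simple: the explicit Sylow
2-subgroup is its own normalizer, its centre has order two, and the conjugates of the central
involution that lie in it generate it.
-/

namespace Cfsg.Agent.Helper9.Golay

open Cfsg

namespace Packed

variable (G : Packed)

/-- a subgroup that contains the generators contains the subgroup of the packed data. -/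
theorem subgroup_le (hb : G.okBfs = true) (hc : G.okClosed = true)
    (hg : ∀ s ∈ G.gens, ∃ σ ∈ M24, IsTbl σ s) (K : Subgroup ↥M24)
    (hK : ∀ s ∈ G.gens, ∀ x : ↥M24, IsTbl ((x : ↥M24) : Equiv.Perm GolayPt) s → x ∈ K) :
    G.subgroup hb hc hg ≤ K := by
  have key : ∀ d j, j < G.n → G.depOf j = d → ∀ x : ↥M24,
      IsTbl ((x : ↥M24) : Equiv.Perm GolayPt) (G.acc j) → x ∈ K := by
    have hb' := hb
    unfold okBfs at hb'
    simp only [Bool.and_eq_true, beq_iff_eq, decide_eq_true_eq] at hb'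
    obtain ⟨⟨⟨h0, hd0⟩, hn⟩, hall⟩ := hb'
    intro d
    induction d with
    | zero =>
      intro j hj hd x hx
      by_cases hj0 : j = G.z
      · subst hj0
        rw [h0] at hx
        have : x = 1 := Subtype.ext (hx.eq_of_eq isTbl_one)
        rw [this]
        exact K.one_mem
      · have h1 := List.all_eq_true.mp hall j (List.mem_range.mpr hj)
        simp only [Bool.or_eq_true, beq_iff_eq, hj0, false_or, Bool.and_eq_true,
          decide_eq_true_eq] at h1
        omega
    | succ d ih =>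
      intro j hj hd x hx
      by_cases hj0 : j = G.z
      · subst hj0
        omega
      · have h1 := List.all_eq_true.mp hall j (List.mem_range.mpr hj)
        simp only [Bool.or_eq_true, beq_iff_eq, hj0, false_or, Bool.and_eq_true,
          decide_eq_true_eq] at h1
        obtain ⟨⟨⟨hp, hk⟩, hdep⟩, he⟩ := h1
        obtain ⟨σ, hσ, hσt⟩ := G.real_acc hb hg _ _ hp rfl
        have hmem : G.gens.getD (G.genOf j) [] ∈ G.gens := by
          rw [List.getD_eq_getElem _ _ hk]
          exact List.getElem_mem _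
        obtain ⟨τ, hτ, hτt⟩ := hg _ hmem
        have hx2 : x = (⟨σ, hσ⟩ : ↥M24) * ⟨τ, hτ⟩ := by
          apply Subtype.ext
          apply hx.eq_of_eq
          rw [he]
          exact hσt.mul hτt
        rw [hx2]
        exact K.mul_mem (ih _ hp (by omega) ⟨σ, hσ⟩ hσt) (hK _ hmem ⟨τ, hτ⟩ hτt)
  rintro x ⟨t, ht, hxt⟩
  obtain ⟨j, hj, rfl⟩ := (G.mem_tabs t).mp ht
  exact key _ j hj rfl x hxt

end Packed

/-- the only elements of the explicit Sylow 2-subgroup that commute with its generators are the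
identity and one involution. -/
theorem p2_center : (List.range 1024).all (fun j =>
    !(p2G.gens.all (fun s => mulT (p2G.acc j) s == mulT s (p2G.acc j))) ||
      j == 1023 || j == 12) = true := by
  decide +kernel

theorem p2_gens_mem : p2G.gens.all (fun s => p2G.tabs.contains s) = true := by decide +kernel

/-- the conjugating elements. -/
def p2Conj : List (ℕ × ℕ) :=
  [(12, 145), (6, 139), (13, 153), (23, 188), (55, 230), (63, 285), (87, 296), (391, 382),
    (592, 548)]

theorem p2_conj_check : p2Conj.all (fun e => decide (e.1 < 1024) && decide (e.2 < p2SN) &&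
    mulT (p2S.acc e.2) (p2G.acc e.1) == mulT (p2G.acc 1) (p2S.acc e.2)) = true := by
  decide +kernel

/-- the generators as products of involutions with eight fixed points. -/
def p2Words : List (List ℕ) := [[23, 55, 87], [63, 592], [13, 87, 391], [6, 13]]

theorem p2_words_check : (List.range 4).all (fun k =>
    ((p2Words.getD k []).map p2G.acc).foldl mulT idT == p2G.gens.getD k [] &&
    (p2Words.getD k []).all (fun i => (p2Conj.map Prod.fst).contains i)) = true := by
  decide +kernel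

theorem p2_acc0 : p2G.acc 1023 = idT := by decide +kernel

theorem p2G_gens_length : p2G.gens.length = 4 := by decide +kernel

theorem acc_mem_tabs' {j : ℕ} (hj : j < 1024) : p2G.acc j ∈ p2G.tabs :=
  (p2G.mem_tabs _).mpr ⟨j, hj, rfl⟩

theorem exists_P2_of_idx {j : ℕ} (hj : j < 1024) :
    ∃ y : ↥M24, y ∈ P2 ∧ IsTbl ((y : ↥M24) : Equiv.Perm GolayPt) (p2G.acc j) := by
  obtain ⟨σ, hσ, ht⟩ := p2_real _ (acc_mem_tabs' hj)
  exact ⟨⟨σ, hσ⟩, (mem_P2 _).2 ⟨_, acc_mem_tabs' hj, ht⟩, ht⟩

/-- a central element other than the identity is the involution of the centre. -/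
theorem central_tbl {x : ↥M24} (hx : x ∈ P2) (h1 : x ≠ 1) (hc : ∀ s ∈ P2, s * x = x * s) :
    IsTbl ((x : ↥M24) : Equiv.Perm GolayPt) (p2G.acc 12) := by
  obtain ⟨t, ht, hxt⟩ := (mem_P2 x).1 hx
  obtain ⟨j, hj, rfl⟩ := (p2G.mem_tabs t).mp ht
  have h := List.all_eq_true.mp p2_center j (List.mem_range.mpr hj)
  have hall : p2G.gens.all (fun s => mulT (p2G.acc j) s == mulT s (p2G.acc j)) = true := by
    rw [List.all_eq_true]
    intro s hs
    have hs2 : s ∈ p2G.tabs := by
      have := List.all_eq_true.mp p2_gens_mem s hs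
      simpa using this
    obtain ⟨σ, hσ, hst⟩ := p2_real s hs2
    have hg : (⟨σ, hσ⟩ : ↥M24) ∈ P2 := (mem_P2 _).2 ⟨s, hs2, hst⟩
    have hcomm := hc _ hg
    rw [beq_iff_eq]
    have t1 := hxt.mul hst
    have t2 := hst.mul hxt
    have e : (x : Equiv.Perm GolayPt) * σ = σ * (x : Equiv.Perm GolayPt) :=
      (congrArg Subtype.val hcomm).symm
    rw [tbl_eq_tblOf t1, tbl_eq_tblOf t2, e]
  rw [hall] at h
  simp only [Bool.not_true, Bool.false_or, Bool.or_eq_true, beq_iff_eq] at h
  rcases h with h | h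
  · exfalso
    apply h1
    subst h
    rw [p2_acc0] at hxt
    exact Subtype.ext (hxt.eq_of_eq isTbl_one)
  · subst h
    exact hxt

/-- the involutions of the list are conjugate to the involution of the centre. -/
theorem conj_of_idx {x : ↥M24} (hx : IsTbl ((x : ↥M24) : Equiv.Perm GolayPt) (p2G.acc 12))
    {i e : ℕ} (hie : (i, e) ∈ p2Conj) {y : ↥M24}
    (hy : IsTbl ((y : ↥M24) : Equiv.Perm GolayPt) (p2G.acc i)) : ∃ g : ↥M24, y = g * x * g⁻¹ := by
  have h12 := List.all_eq_true.mp p2_conj_check (12, 145) (by decide)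
  have hi := List.all_eq_true.mp p2_conj_check (i, e) hie
  simp only [Bool.and_eq_true, decide_eq_true_eq, beq_iff_eq] at h12 hi
  obtain ⟨⟨_, he12⟩, c12⟩ := h12
  obtain ⟨⟨_, hei⟩, ci⟩ := hi
  obtain ⟨v, hv, tv⟩ := p2S.real p2S_ok 145 he12
  obtain ⟨u, hu, tu⟩ := p2S.real p2S_ok e hei
  obtain ⟨R, _, tR⟩ := p2_real _ (acc_mem_tabs' (show 1 < 1024 by norm_num))
  have e1 : u * (y : Equiv.Perm GolayPt) = R * u := by
    have t1 := tu.mul hy
    rw [ci] at t1
    exact t1.eq_of_eq (tR.mul tu)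
  have e2 : v * (x : Equiv.Perm GolayPt) = R * v := by
    have t1 := tv.mul hx
    rw [c12] at t1
    exact t1.eq_of_eq (tR.mul tv)
  refine ⟨(⟨u, hu⟩ : ↥M24)⁻¹ * ⟨v, hv⟩, ?_⟩
  apply Subtype.ext
  show (y : Equiv.Perm GolayPt) = u⁻¹ * v * (x : Equiv.Perm GolayPt) * (u⁻¹ * v)⁻¹
  have e3 : R = v * (x : Equiv.Perm GolayPt) * v⁻¹ := by
    rw [e2, mul_inv_cancel_right]
  have e4 : (y : Equiv.Perm GolayPt) = u⁻¹ * R * u := by
    rw [mul_assoc, ← e1, inv_mul_cancel_left]
  rw [e4, e3]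
  simp only [mul_inv_rev, inv_inv, mul_assoc]

theorem foldl_real (K : Subgroup ↥M24) (w : List ℕ)
    (hw : ∀ i ∈ w, ∃ y ∈ K, IsTbl ((y : ↥M24) : Equiv.Perm GolayPt) (p2G.acc i)) :
    ∀ (t0 : List ℕ) (y0 : ↥M24), y0 ∈ K → IsTbl ((y0 : ↥M24) : Equiv.Perm GolayPt) t0 →
      ∃ y ∈ K, IsTbl ((y : ↥M24) : Equiv.Perm GolayPt) ((w.map p2G.acc).foldl mulT t0) := by
  induction w with
  | nil =>
    intro t0 y0 h0 ht0
    exact ⟨y0, h0, ht0⟩
  | cons i w ih =>
    intro t0 y0 h0 ht0
    obtain ⟨y, hy, hyt⟩ := hw i (List.mem_cons_self)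
    rw [List.map_cons, List.foldl_cons]
    exact ih (fun j hj => hw j (List.mem_cons_of_mem _ hj)) _ (y0 * y) (K.mul_mem h0 hy)
      (ht0.mul hyt)

/-- the conjugates of a central element other than the identity that lie in the explicit Sylow
2-subgroup generate it. -/
theorem p2_hgen (x : ↥M24) (hx : x ∈ P2) (h1 : x ≠ 1) (hc : ∀ s ∈ P2, s * x = x * s) :
    P2 ≤ Subgroup.closure {y : ↥M24 | y ∈ P2 ∧ ∃ g : ↥M24, y = g * x * g⁻¹} := by
  have hxt := central_tbl hx h1 hc
  unfold P2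
  apply Packed.subgroup_le
  intro s hs g hg
  obtain ⟨k, hk, rfl⟩ := List.mem_iff_getElem.mp hs
  have hk4 : k < 4 := by rwa [p2G_gens_length] at hk
  have hchk := List.all_eq_true.mp p2_words_check k (List.mem_range.mpr hk4)
  rw [Bool.and_eq_true, beq_iff_eq, List.getD_eq_getElem _ _ hk] at hchk
  obtain ⟨hw1, hw2⟩ := hchk
  obtain ⟨y, hy, hyt⟩ := foldl_real
    (Subgroup.closure {y : ↥M24 | y ∈ P2 ∧ ∃ g : ↥M24, y = g * x * g⁻¹}) (p2Words.getD k [])
    (fun i hi => by
      have hi2 := List.all_eq_true.mp hw2 i hi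
      rw [List.contains_iff_mem, List.mem_map] at hi2
      obtain ⟨⟨i', e⟩, hie, rfl⟩ := hi2
      have hlt := List.all_eq_true.mp p2_conj_check (i', e) hie
      simp only [Bool.and_eq_true, decide_eq_true_eq, beq_iff_eq] at hlt
      obtain ⟨Y, hY, hYt⟩ := exists_P2_of_idx hlt.1.1
      exact ⟨Y, Subgroup.subset_closure ⟨hY, conj_of_idx hxt hie hYt⟩, hYt⟩)
    idT 1 (Subgroup.one_mem _) isTbl_one
  rw [hw1] at hyt
  have : g = y := Subtype.ext (hg.eq_of_eq hyt)
  rw [this]
  exact hy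

theorem exists_sylow_P2 : ∃ Q : Sylow 2 ↥M24, (Q : Subgroup ↥M24) = P2 := by
  have : Fact (Nat.Prime 2) := ⟨by norm_num⟩
  have hP2 : IsPGroup 2 ↥P2 := IsPGroup.of_card card_P2
  obtain ⟨Q, hQ⟩ := hP2.exists_le_sylow
  obtain ⟨k, hk⟩ := IsPGroup.iff_card.mp Q.isPGroup'
  have hdvd : Nat.card ↥(Q : Subgroup ↥M24) ∣ Nat.card ↥M24 := Subgroup.card_subgroup_dvd_card _
  rw [hk, card_M24] at hdvd
  have hk10 : k ≤ 10 := by
    by_contra h
    have h11 : 2 ^ 11 ∣ 2 ^ k := pow_dvd_pow 2 (by omega)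
    have := dvd_trans h11 hdvd
    revert this
    decide
  refine ⟨Q, (Subgroup.eq_of_le_of_card_ge hQ ?_).symm⟩
  rw [hk, card_P2]
  exact Nat.pow_le_pow_right (by norm_num) hk10

/-- the 2-fusion system of the group of the code is simple. -/
theorem fusion_M24 (S : Sylow 2 ↥M24) :
    (Cfsg.groupFusionSystem (S : Subgroup ↥M24)).IsSimple 2 := by
  have : Fact (Nat.Prime 2) := ⟨by norm_num⟩
  obtain ⟨Q, hQ⟩ := exists_sylow_P2
  refine Cfsg.Agent.Lead.SimpCrit.isSimple_of_self_normalizing 2 Q ?_ ?_ ?_ S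
  · rw [hQ]
    intro h
    have := card_P2
    rw [h, Subgroup.card_bot] at this
    norm_num at this
  · rw [hQ, normalizer_P2]
  · rw [hQ]
    exact p2_hgen

end Cfsg.Agent.Helper9.Golay
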