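import Mathlib
import Cfsg.Prelude.Def_Sporadic_a
import Cfsg.Agent.Helper9.Golay.Aut
import Cfsg.Agent.Helper9.Golay.Orbit
import Cfsg.Agent.Helper9.Golay.SetTrans
import Cfsg.Agent.Helper9.Golay.M22Simple
import Cfsg.Agent.S0359
import Cfsg.Agent.S0378
import Cfsg.Agent.S1635

/-!
The subspaces of the space of binary words of length 24 invariant under the group of the code.
-/

set_option autoImplicit false

namespace Cfsg.Agent.Helper9.Golay

open Cfsg
open scoped Pointwise

/-- the action of a permutation on binary words. -/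
def permW (σ : Equiv.Perm GolayPt) (w : GolayPt → ZMod 2) : GolayPt → ZMod 2 :=
  fun p => w (σ.symm p)

theorem permW_add (σ : Equiv.Perm GolayPt) (v w : GolayPt → ZMod 2) :
    permW σ (v + w) = permW σ v + permW σ w := rfl

theorem permW_one_word (σ : Equiv.Perm GolayPt) : permW σ 1 = 1 := rfl

theorem permW_zero_word (σ : Equiv.Perm GolayPt) : permW σ 0 = 0 := rfl

theorem permW_mul (σ τ : Equiv.Perm GolayPt) (w : GolayPt → ZMod 2) :
    permW (σ * τ) w = permW σ (permW τ w) := rfl

theorem support₂_permW (σ : Equiv.Perm GolayPt) (w : GolayPt → ZMod 2) :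
    support₂ (permW σ w) = σ • support₂ w := by
  have h := inv_smul_support₂ σ⁻¹ w
  rw [inv_inv] at h
  rw [h]
  rfl

theorem permW_eq_of_smul (σ : Equiv.Perm GolayPt) (v w : GolayPt → ZMod 2)
    (h : σ • support₂ v = support₂ w) : permW σ v = w := by
  apply eq_of_support₂_eq
  rw [support₂_permW, h]

theorem permW_mem_golayCode {σ : Equiv.Perm GolayPt} (hσ : σ ∈ M24) {c : GolayPt → ZMod 2}
    (hc : c ∈ golayCode) : permW σ c ∈ golayCode := by
  have h1 : σ • support₂ c ∈ supports (golayCode : Set (GolayPt → ZMod 2)) :=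
    smul_mem_supports hσ ⟨c, hc, rfl⟩
  obtain ⟨w, hw, hws⟩ := h1
  rw [permW_eq_of_smul σ c w hws.symm]
  exact hw

/-- invariance of a subspace under the group of the code. -/
def InvSub (W : Submodule (ZMod 2) (GolayPt → ZMod 2)) : Prop :=
  ∀ σ ∈ M24, ∀ w ∈ W, permW σ w ∈ W

theorem one_mem_golayCode : (1 : GolayPt → ZMod 2) ∈ golayCode :=
  Submodule.subset_span (Or.inr rfl)

theorem support₂_add_one (c : GolayPt → ZMod 2) : support₂ (c + 1) = (support₂ c)ᶜ := by
  ext p
  unfold support₂
  simp only [Finset.mem_filter, Finset.mem_univ, true_and, Finset.mem_compl, Pi.add_apply,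
    Pi.one_apply, not_not]
  rcases zmod2_cases (c p) with h | h <;> rw [h] <;> decide

theorem hammingNorm_eq_card (w : GolayPt → ZMod 2) : hammingNorm w = (support₂ w).card := rfl

theorem mem_octads_of {c : GolayPt → ZMod 2} (hc : c ∈ golayCode) (h8 : hammingNorm c = 8) :
    support₂ c ∈ octads :=
  ⟨⟨c, hc, rfl⟩, h8⟩

theorem mem_dodecads_of {c : GolayPt → ZMod 2} (hc : c ∈ golayCode) (h12 : hammingNorm c = 12) :
    support₂ c ∈ dodecads :=
  ⟨⟨c, hc, rfl⟩, h12⟩

theorem support₂_decW_eq (m : ℕ) : support₂ (decW m) = suppM m := rfl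

theorem mask_m1 : (0x800c75 : ℕ) ∈ codeList ∧ popc 0x800c75 = 8 := by decide +kernel

theorem mask_m2 : (0x400a4f : ℕ) ∈ codeList ∧ popc 0x400a4f = 8 := by decide +kernel

theorem mask_m12 : (0x800c75 ^^^ 0x400a4f : ℕ) ∈ codeList ∧ popc (0x800c75 ^^^ 0x400a4f) = 8 := by
  decide +kernel

theorem mask_d1 : (28637 : ℕ) ∈ codeList ∧ popc 28637 = 12 := by decide +kernel

theorem mask_d2 : (57274 : ℕ) ∈ codeList ∧ popc 57274 = 12 := by decide +kernel

theorem mask_d12 : (28637 ^^^ 57274 : ℕ) ∈ codeList ∧ popc (28637 ^^^ 57274) = 8 := by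
  decide +kernel

section

variable (W : Submodule (ZMod 2) (GolayPt → ZMod 2)) (hW : InvSub W)

include hW

/-- an invariant subspace containing a word of weight 8 of the code contains the code. -/
theorem le_of_octad_mem (c : GolayPt → ZMod 2) (hc : c ∈ golayCode) (h8 : hammingNorm c = 8)
    (hcW : c ∈ W) : golayCode ≤ W := by
  have ho := mem_octads_of hc h8
  refine le_trans golayCode_le_span_basis ?_
  rw [Submodule.span_le]
  rintro w ⟨b, hb, rfl⟩
  have hb' : suppM b ∈ octads :=
    (mem_octads_iff _).mpr ⟨b, basis12_mem_codeList b hb, basis12_popc b hb, rfl⟩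
  obtain ⟨g, hg⟩ := transitive_octads ho hb'
  have h1 : permW g.1 c = decW b := permW_eq_of_smul g.1 c (decW b) hg
  rw [← h1]
  exact hW g.1 g.2 c hcW

/-- an invariant subspace containing a word of the code other than zero and the all-ones word
contains the code. -/
theorem le_of_mem_code (c : GolayPt → ZMod 2) (hc : c ∈ golayCode) (hcW : c ∈ W) (h0 : c ≠ 0)
    (h1 : c ≠ 1) : golayCode ≤ W := by
  have hwt := Cfsg.Agent.S0359.result c hc
  rcases hwt with h | h | h | h | h
  · exact absurd (hammingNorm_eq_zero.mp h) h0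
  · exact le_of_octad_mem W hW c hc h hcW
  · -- weight 12
    have hd := mem_dodecads_of hc h
    have hd1 : suppM 28637 ∈ dodecads :=
      (mem_dodecads_iff _).mpr ⟨28637, mask_d1.1, mask_d1.2, rfl⟩
    have hd2 : suppM 57274 ∈ dodecads :=
      (mem_dodecads_iff _).mpr ⟨57274, mask_d2.1, mask_d2.2, rfl⟩
    obtain ⟨g1, hg1⟩ := transitive_dodecads hd hd1
    obtain ⟨g2, hg2⟩ := transitive_dodecads hd hd2
    have e1 : permW g1.1 c = decW 28637 := permW_eq_of_smul g1.1 c (decW 28637) hg1
    have e2 : permW g2.1 c = decW 57274 := permW_eq_of_smul g2.1 c (decW 57274) hg2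
    have hmem : decW (28637 ^^^ 57274) ∈ W := by
      rw [decW_xor, ← e1, ← e2]
      exact W.add_mem (hW g1.1 g1.2 c hcW) (hW g2.1 g2.2 c hcW)
    exact le_of_octad_mem W hW _ (decW_mem_of_mem_codeList mask_d12.1)
      (by rw [hammingNorm_decW]; exact mask_d12.2) hmem
  · -- weight 16
    have hc' : c + 1 ∈ golayCode := golayCode.add_mem hc one_mem_golayCode
    have h8 : hammingNorm (c + 1) = 8 := by
      rw [hammingNorm_eq_card, support₂_add_one, Finset.card_compl, ← hammingNorm_eq_card, h,
        card_golayPt]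
    have ho := mem_octads_of hc' h8
    have ho1 : suppM 0x800c75 ∈ octads :=
      (mem_octads_iff _).mpr ⟨_, mask_m1.1, mask_m1.2, rfl⟩
    have ho2 : suppM 0x400a4f ∈ octads :=
      (mem_octads_iff _).mpr ⟨_, mask_m2.1, mask_m2.2, rfl⟩
    obtain ⟨g1, hg1⟩ := transitive_octads ho ho1
    obtain ⟨g2, hg2⟩ := transitive_octads ho ho2
    have e1 : permW g1.1 (c + 1) = decW 0x800c75 := permW_eq_of_smul g1.1 _ (decW _) hg1
    have e2 : permW g2.1 (c + 1) = decW 0x400a4f := permW_eq_of_smul g2.1 _ (decW _) hg2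
    have hmem : decW (0x800c75 ^^^ 0x400a4f) ∈ W := by
      rw [decW_xor, ← e1, ← e2, permW_add, permW_add, permW_one_word, permW_one_word]
      have : permW g1.1 c + 1 + (permW g2.1 c + 1) = permW g1.1 c + permW g2.1 c := by
        have h2 : (1 : GolayPt → ZMod 2) + 1 = 0 := by
          funext p
          show (1 : ZMod 2) + 1 = 0
          decide
        calc permW g1.1 c + 1 + (permW g2.1 c + 1)
            = permW g1.1 c + permW g2.1 c + (1 + 1) := by abel
          _ = permW g1.1 c + permW g2.1 c := by rw [h2, add_zero]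
      rw [this]
      exact W.add_mem (hW g1.1 g1.2 c hcW) (hW g2.1 g2.2 c hcW)
    exact le_of_octad_mem W hW _ (decW_mem_of_mem_codeList mask_m12.1)
      (by rw [hammingNorm_decW]; exact mask_m12.2) hmem
  · -- weight 24
    exfalso
    apply h1
    funext p
    have hp : p ∈ support₂ c := by
      have : support₂ c = Finset.univ := by
        apply Finset.eq_univ_of_card
        rw [← hammingNorm_eq_card, h, card_golayPt]
      rw [this]
      exact Finset.mem_univ p
    unfold support₂ at hp
    simp only [Finset.mem_filter, Finset.mem_univ, true_and] at hp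
    rcases zmod2_cases (c p) with h' | h'
    · exact absurd h' hp
    · rw [h']
      rfl

end

end Cfsg.Agent.Helper9.Golay
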