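import Mathlib
import Cfsg.Prelude.Def_Sporadic_a
import Cfsg.Agent.Helper9.Golay.InvSub

/-!
The subspaces of the space of binary words of length 24 invariant under the group of the code:
words outside the code.
-/

set_option autoImplicit false

namespace Cfsg.Agent.Helper9.Golay

open Cfsg
open scoped Pointwise

theorem add_self_word (x : GolayPt → ZMod 2) : x + x = 0 := by
  funext p
  exact CharTwo.add_self_eq_zero (x p)

/-- the word with a single non-zero entry. -/
def eW (p : GolayPt) : GolayPt → ZMod 2 := Pi.single p 1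

/-- the indicator word of a set. -/
def ind (s : Finset GolayPt) : GolayPt → ZMod 2 := fun p => if p ∈ s then 1 else 0

theorem support₂_ind (s : Finset GolayPt) : support₂ (ind s) = s := by
  ext p
  unfold support₂ ind
  simp only [Finset.mem_filter, Finset.mem_univ, true_and]
  by_cases h : p ∈ s
  · rw [if_pos h]
    exact ⟨fun _ => h, fun _ => by decide⟩
  · rw [if_neg h]
    exact ⟨fun h' => absurd rfl h', fun h' => absurd h' h⟩

theorem ind_support₂ (w : GolayPt → ZMod 2) : ind (support₂ w) = w :=
  eq_of_support₂_eq (support₂_ind _)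

theorem ind_insert (a : GolayPt) (T : Finset GolayPt) (ha : a ∉ T) :
    ind (insert a T) = eW a + ind T := by
  funext p
  unfold ind eW
  rw [Pi.add_apply, Pi.single_apply]
  by_cases hpa : p = a
  · subst hpa
    rw [if_pos (Finset.mem_insert_self _ _), if_pos rfl, if_neg ha, add_zero]
  · rw [if_neg hpa, zero_add]
    by_cases hpT : p ∈ T
    · rw [if_pos hpT, if_pos (Finset.mem_insert_of_mem hpT)]
    · rw [if_neg hpT, if_neg]
      rw [Finset.mem_insert]
      tauto

theorem permW_eW (σ : Equiv.Perm GolayPt) (p : GolayPt) : permW σ (eW p) = eW (σ p) := by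
  funext q
  unfold permW eW
  rw [Pi.single_apply, Pi.single_apply]
  by_cases h : q = σ p
  · rw [if_pos h, if_pos]
    rw [h, Equiv.symm_apply_apply]
  · rw [if_neg h, if_neg]
    intro h'
    apply h
    rw [← h', Equiv.apply_symm_apply]

/-- an embedding with three prescribed values. -/
def embThree (a b c : GolayPt) (hab : a ≠ b) (hac : a ≠ c) (hbc : b ≠ c) : Fin 3 ↪ GolayPt where
  toFun := ![a, b, c]
  inj' := by
    intro i j h
    fin_cases i <;> fin_cases j <;> simp_all

theorem m24_three_pt {a b c a' b' c' : GolayPt} (hab : a ≠ b) (hac : a ≠ c) (hbc : b ≠ c)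
    (hab' : a' ≠ b') (hac' : a' ≠ c') (hbc' : b' ≠ c') :
    ∃ g ∈ M24, g a = a' ∧ g b = b' ∧ g c = c' := by
  haveI := m24_isMultiplyPretransitive
  have h3 : MulAction.IsMultiplyPretransitive M24 GolayPt 3 :=
    MulAction.isMultiplyPretransitive_of_le (n := 5) (by norm_num)
      (by rw [Nat.card_eq_fintype_card, card_golayPt]; norm_num)
  rw [MulAction.isMultiplyPretransitive_iff] at h3
  obtain ⟨g, hg⟩ := h3 (embThree a b c hab hac hbc) (embThree a' b' c' hab' hac' hbc')
  refine ⟨g, g.2, ?_, ?_, ?_⟩
  · exact congrArg (fun f => f 0) hg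
  · exact congrArg (fun f => f 1) hg
  · exact congrArg (fun f => f 2) hg

/-- every word differs from a word of weight at most 4 by a word of the code. -/
theorem exists_leader (w : GolayPt → ZMod 2) :
    ∃ v : GolayPt → ZMod 2, hammingNorm v ≤ 4 ∧ w - v ∈ golayCode := by
  rcases Cfsg.Agent.S1635.result w with ⟨-, v, hv, hvc⟩ | ⟨h6, -⟩
  · exact ⟨v, by omega, hvc⟩
  · have hne : {v : GolayPt → ZMod 2 | hammingNorm v ≤ 4 ∧ w - v ∈ golayCode}.Nonempty := by
      rw [← Set.ncard_pos (Set.toFinite _), h6]
      norm_num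
    obtain ⟨v, hv⟩ := hne
    exact ⟨v, hv.1, hv.2⟩

section

variable (W : Submodule (ZMod 2) (GolayPt → ZMod 2)) (hW : InvSub W)

include hW

/-- an invariant subspace not contained in the code contains all words of weight 2 modulo the
code. -/
theorem pair_mod_code (w : GolayPt → ZMod 2) (hwW : w ∈ W) (hwC : w ∉ golayCode) (a b : GolayPt)
    (hab : a ≠ b) : ∃ c ∈ golayCode, eW a + eW b + c ∈ W := by
  classical
  obtain ⟨v, hv4, hvc⟩ := exists_leader w
  have hwv : w = v + (w - v) := by abel
  have hS1 : 1 ≤ (support₂ v).card := by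
    by_contra h
    have h0 : hammingNorm v = 0 := by
      rw [hammingNorm_eq_card]
      omega
    rw [hammingNorm_eq_zero] at h0
    rw [h0, sub_zero] at hvc
    exact hwC hvc
  have hS4 : (support₂ v).card ≤ 4 := hv4
  -- an auxiliary set avoiding `a` and `b`
  have hc : (support₂ v).card - 1 ≤ ((Finset.univ : Finset GolayPt) \ {a, b}).card := by
    have h1 : ({a, b} : Finset GolayPt).card ≤ 2 := Finset.card_le_two
    have h2 := Finset.le_card_sdiff ({a, b} : Finset GolayPt) (Finset.univ : Finset GolayPt)
    rw [Finset.card_univ, card_golayPt] at h2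
    omega
  obtain ⟨T, hT, hTc⟩ := Finset.exists_subset_card_eq hc
  have haT : a ∉ T := by
    intro h
    have := hT h
    simp at this
  have hbT : b ∉ T := by
    intro h
    have := hT h
    simp at this
  have hc1 : (insert a T).card = (support₂ v).card := by
    rw [Finset.card_insert_of_notMem haT, hTc]
    omega
  have hc2 : (insert b T).card = (support₂ v).card := by
    rw [Finset.card_insert_of_notMem hbT, hTc]
    omega
  have horb := orbit_M24_eq (support₂ v) (by omega)
  have h1 : insert a T ∈ MulAction.orbit M24 (support₂ v) := by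
    rw [horb]
    exact hc1
  have h2 : insert b T ∈ MulAction.orbit M24 (support₂ v) := by
    rw [horb]
    exact hc2
  obtain ⟨g1, hg1⟩ := h1
  obtain ⟨g2, hg2⟩ := h2
  have e1 : permW g1.1 v = eW a + ind T := by
    rw [← ind_insert a T haT]
    apply permW_eq_of_smul
    rw [support₂_ind]
    exact hg1
  have e2 : permW g2.1 v = eW b + ind T := by
    rw [← ind_insert b T hbT]
    apply permW_eq_of_smul
    rw [support₂_ind]
    exact hg2
  refine ⟨permW g1.1 (w - v) + permW g2.1 (w - v), golayCode.add_mem
    (permW_mem_golayCode g1.2 hvc) (permW_mem_golayCode g2.2 hvc), ?_⟩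
  have hsum : permW g1.1 w + permW g2.1 w ∈ W := W.add_mem (hW g1.1 g1.2 w hwW) (hW g2.1 g2.2 w hwW)
  have e3 : permW g1.1 w + permW g2.1 w =
      eW a + eW b + (permW g1.1 (w - v) + permW g2.1 (w - v)) := by
    conv_lhs => rw [hwv, permW_add, permW_add, e1, e2]
    calc eW a + ind T + permW g1.1 (w - v) + (eW b + ind T + permW g2.1 (w - v))
        = eW a + eW b + (permW g1.1 (w - v) + permW g2.1 (w - v)) + (ind T + ind T) := by abel
      _ = _ := by rw [add_self_word, add_zero]
  rw [← e3]
  exact hsum

end

end Cfsg.Agent.Helper9.Golay
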