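import Mathlib
import Cfsg.Prelude.Def_Sporadic_a
import Cfsg.Agent.Helper9.Golay.InvSub2

/-!
The subspaces of the space of binary words of length 24 invariant under the group of the code:
the words of weight 2.
-/

set_option autoImplicit false

namespace Cfsg.Agent.Helper9.Golay

open Cfsg
open scoped Pointwise

theorem add_eq_zero_word {x y : GolayPt → ZMod 2} (h : x + y = 0) : x = y := by
  have : x = x + (y + y) := by rw [add_self_word, add_zero]
  rw [this, ← add_assoc, h, zero_add]

theorem one_word_ne_zero : (1 : GolayPt → ZMod 2) ≠ 0 := by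
  intro h
  have := congrFun h none
  revert this
  decide

/-- a word of the code with at most two non-zero entries is zero. -/
theorem eq_zero_of_support_le {c : GolayPt → ZMod 2} (hc : c ∈ golayCode) (a b : GolayPt)
    (h : ∀ x, x ≠ a → x ≠ b → c x = 0) : c = 0 := by
  classical
  have hsub : support₂ c ⊆ {a, b} := by
    intro x hx
    unfold support₂ at hx
    simp only [Finset.mem_filter, Finset.mem_univ, true_and] at hx
    rw [Finset.mem_insert, Finset.mem_singleton]
    by_contra hne
    push_neg at hne
    exact hx (h x hne.1 hne.2)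
  have hle : hammingNorm c ≤ 2 := by
    rw [hammingNorm_eq_card]
    exact (Finset.card_le_card hsub).trans Finset.card_le_two
  rcases Cfsg.Agent.S0359.result c hc with h0 | h0 | h0 | h0 | h0
  · exact hammingNorm_eq_zero.mp h0
  all_goals omega

section

variable (W : Submodule (ZMod 2) (GolayPt → ZMod 2)) (hW : InvSub W)

include hW

/-- the key step: the code word correcting a word of weight 2 is fixed by the two-point
stabiliser. -/
theorem fixed_of_small (hsmall : ∀ c ∈ W, c ∈ golayCode → c = 0 ∨ c = 1) (a b : GolayPt)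
    (hab : a ≠ b) (c : GolayPt → ZMod 2) (hc : c ∈ golayCode) (hu : eW a + eW b + c ∈ W) :
    ∀ σ : ↥(MulAction.stabilizer M24 a ⊓ MulAction.stabilizer M24 b),
      permW σ.1.1 c = c := by
  -- the defect of an element of the stabiliser
  have hd : ∀ σ : ↥(MulAction.stabilizer M24 a ⊓ MulAction.stabilizer M24 b),
      permW σ.1.1 c + c = 0 ∨ permW σ.1.1 c + c = 1 := by
    intro σ
    have ha : σ.1.1 a = a := (Subgroup.mem_inf.mp σ.2).1
    have hb : σ.1.1 b = b := (Subgroup.mem_inf.mp σ.2).2
    have h1 : permW σ.1.1 (eW a + eW b + c) ∈ W := hW σ.1.1 σ.1.2 _ hu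
    rw [permW_add, permW_add, permW_eW, permW_eW, ha, hb] at h1
    have h2 := W.add_mem h1 hu
    have e : eW a + eW b + permW σ.1.1 c + (eW a + eW b + c) = permW σ.1.1 c + c := by
      calc eW a + eW b + permW σ.1.1 c + (eW a + eW b + c)
          = permW σ.1.1 c + c + ((eW a + eW b) + (eW a + eW b)) := by abel
        _ = _ := by rw [add_self_word, add_zero]
    rw [e] at h2
    exact hsmall _ h2 (golayCode.add_mem (permW_mem_golayCode σ.1.2 hc) hc)
  have hperm : ∀ (τ : Equiv.Perm GolayPt) (d : GolayPt → ZMod 2), (d = 0 ∨ d = 1) →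
      permW τ d = d := by
    rintro τ d (rfl | rfl)
    · rfl
    · rfl
  -- the homomorphism to the group of order 2
  let φ : ↥(MulAction.stabilizer M24 a ⊓ MulAction.stabilizer M24 b) →*
      Multiplicative (ZMod 2) :=
    { toFun := fun σ => Multiplicative.ofAdd ((permW σ.1.1 c + c) none)
      map_one' := by
        show Multiplicative.ofAdd ((c + c) none) = 1
        rw [add_self_word]
        rfl
      map_mul' := by
        intro σ τ
        show Multiplicative.ofAdd ((permW (σ.1.1 * τ.1.1) c + c) none) =
          Multiplicative.ofAdd ((permW σ.1.1 c + c) none) *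
            Multiplicative.ofAdd ((permW τ.1.1 c + c) none)
        rw [← ofAdd_add]
        congr 1
        have e1 : permW τ.1.1 c = (permW τ.1.1 c + c) + c := by
          rw [add_assoc, add_self_word, add_zero]
        have e2 : permW (σ.1.1 * τ.1.1) c + c =
            (permW σ.1.1 c + c) + (permW τ.1.1 c + c) := by
          rw [permW_mul]
          conv_lhs => rw [e1, permW_add, hperm σ.1.1 _ (hd τ)]
          abel
        rw [e2]
        rfl }
  have hφ : ∀ σ, φ σ = Multiplicative.ofAdd ((permW σ.1.1 c + c) none) := fun _ => rfl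
  have hsimp := two_point_stab_simple a b hab
  rcases (MonoidHom.normal_ker φ).eq_bot_or_eq_top with h | h
  · exfalso
    have hinj : Function.Injective φ := (MonoidHom.ker_eq_bot_iff φ).mp h
    have hle := Nat.card_le_card_of_injective φ hinj
    have h2 : Nat.card (Multiplicative (ZMod 2)) = 2 := by
      rw [Nat.card_eq_fintype_card, Fintype.card_multiplicative, ZMod.card]
    have h3 := Cfsg.Agent.S0378.result a b hab
    omega
  · intro σ
    have hσ : σ ∈ φ.ker := by
      rw [h]
      trivial
    rw [MonoidHom.mem_ker, hφ, ofAdd_eq_one] at hσ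
    rcases hd σ with h0 | h1
    · exact add_eq_zero_word h0
    · exfalso
      rw [h1] at hσ
      revert hσ
      decide

/-- the words of weight 2 lie in an invariant subspace not contained in the code. -/
theorem pair_mem (hII : ∀ a b : GolayPt, a ≠ b → ∃ c ∈ golayCode, eW a + eW b + c ∈ W)
    (a b : GolayPt) (hab : a ≠ b) : eW a + eW b ∈ W := by
  classical
  obtain ⟨c, hc, hu⟩ := hII a b hab
  by_cases hC : golayCode ≤ W
  · have := W.add_mem hu (hC hc)
    rw [add_assoc, add_self_word, add_zero] at this
    exact this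
  have hsmall : ∀ c ∈ W, c ∈ golayCode → c = 0 ∨ c = 1 := by
    intro c hcW hcC
    by_contra hne
    push_neg at hne
    exact hC (le_of_mem_code W hW c hcC hcW hne.1 hne.2)
  have hfix := fixed_of_small W hW hsmall a b hab c hc hu
  -- the correcting word is constant away from `a` and `b`
  have hconst : ∀ x y : GolayPt, x ≠ a → x ≠ b → y ≠ a → y ≠ b → c x = c y := by
    intro x y hxa hxb hya hyb
    obtain ⟨g, hg, g1, g2, g3⟩ := m24_three_pt hab (Ne.symm hxa) (Ne.symm hxb) hab (Ne.symm hya)
      (Ne.symm hyb) (c := x) (c' := y)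
    have hmem : (⟨g, hg⟩ : ↥M24) ∈ MulAction.stabilizer M24 a ⊓ MulAction.stabilizer M24 b :=
      Subgroup.mem_inf.mpr ⟨g1, g2⟩
    have h1 := congrFun (hfix ⟨⟨g, hg⟩, hmem⟩) y
    have h2 : g.symm y = x := by rw [← g3, Equiv.symm_apply_apply]
    unfold permW at h1
    rw [show ((⟨⟨g, hg⟩, hmem⟩ : ↥(MulAction.stabilizer M24 a ⊓ MulAction.stabilizer M24 b)).1.1 :
      Equiv.Perm GolayPt) = g from rfl, h2] at h1
    exact h1
  -- a third point
  obtain ⟨z, hza, hzb⟩ : ∃ z : GolayPt, z ≠ a ∧ z ≠ b := by
    have hc' : 1 ≤ ((Finset.univ : Finset GolayPt) \ {a, b}).card := by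
      have h1 : ({a, b} : Finset GolayPt).card ≤ 2 := Finset.card_le_two
      have h2 := Finset.le_card_sdiff ({a, b} : Finset GolayPt) (Finset.univ : Finset GolayPt)
      rw [Finset.card_univ, card_golayPt] at h2
      omega
    obtain ⟨z, hz⟩ := Finset.card_pos.mp hc'
    simp only [Finset.mem_sdiff, Finset.mem_univ, Finset.mem_insert, Finset.mem_singleton,
      true_and, not_or] at hz
    exact ⟨z, hz.1, hz.2⟩
  have hc01 : c = 0 ∨ c = 1 := by
    rcases zmod2_cases (c z) with h0 | h1
    · left
      apply eq_zero_of_support_le hc a b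
      intro x hxa hxb
      rw [hconst x z hxa hxb hza hzb, h0]
    · right
      have hc' : c + 1 ∈ golayCode := golayCode.add_mem hc one_mem_golayCode
      have : c + 1 = 0 := by
        apply eq_zero_of_support_le hc' a b
        intro x hxa hxb
        rw [Pi.add_apply, hconst x z hxa hxb hza hzb, h1]
        rfl
      exact add_eq_zero_word this
  rcases hc01 with rfl | rfl
  · rw [add_zero] at hu
    exact hu
  · -- the words of weight 2 plus the all-ones word
    obtain ⟨g1, hg1, g1a, g1b⟩ := m24_two_trans hab (Ne.symm hza) (c := a) (d := z)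
    obtain ⟨g2, hg2, g2a, g2b⟩ := m24_two_trans hab hzb (c := z) (d := b)
    have h1 := hW g1 hg1 _ hu
    have h2 := hW g2 hg2 _ hu
    rw [permW_add, permW_add, permW_eW, permW_eW, permW_one_word, g1a, g1b] at h1
    rw [permW_add, permW_add, permW_eW, permW_eW, permW_one_word, g2a, g2b] at h2
    have h3 := W.add_mem h1 h2
    have e : eW a + eW z + 1 + (eW z + eW b + 1) = eW a + eW b := by
      calc eW a + eW z + 1 + (eW z + eW b + 1)
          = eW a + eW b + (eW z + eW z) + ((1 : GolayPt → ZMod 2) + 1) := by abel
        _ = _ := by rw [add_self_word, add_self_word, add_zero, add_zero]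
    rw [e] at h3
    exact h3

end

/-- a subspace containing the words of weight 2 contains the words of even weight. -/
theorem even_le (W : Submodule (ZMod 2) (GolayPt → ZMod 2))
    (hpair : ∀ a b : GolayPt, a ≠ b → eW a + eW b ∈ W) (w : GolayPt → ZMod 2)
    (hw : ∑ p, w p = 0) : w ∈ W := by
  classical
  have h1 : ∑ p, w p • (eW p + eW none) ∈ W := by
    apply Submodule.sum_mem
    intro p _
    apply W.smul_mem
    by_cases hp : p = none
    · rw [hp, add_self_word]
      exact W.zero_mem
    · exact hpair p none hp
  have h2 : ∑ p, w p • (eW p + eW none) = w := by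
    simp only [smul_add, Finset.sum_add_distrib, ← Finset.sum_smul, hw, zero_smul, add_zero]
    funext q
    rw [Finset.sum_apply]
    unfold eW
    simp only [Pi.smul_apply, Pi.single_apply, smul_eq_mul, mul_ite, mul_one, mul_zero,
      Finset.sum_ite_eq, Finset.mem_univ, if_true]
  rw [← h2]
  exact h1

/-- a subspace containing the words of even weight and a word of odd weight is everything. -/
theorem eq_top_of_odd (W : Submodule (ZMod 2) (GolayPt → ZMod 2))
    (heven : ∀ w : GolayPt → ZMod 2, ∑ p, w p = 0 → w ∈ W) (w : GolayPt → ZMod 2) (hwW : w ∈ W)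
    (hw : ∑ p, w p ≠ 0) : W = ⊤ := by
  classical
  have hw1 : ∑ p, w p = 1 := by
    rcases zmod2_cases (∑ p, w p) with h | h
    · exact absurd h hw
    · exact h
  have hsum_e : ∀ q : GolayPt, ∑ p, eW q p = 1 := by
    intro q
    unfold eW
    simp only [Pi.single_apply, Finset.sum_ite_eq', Finset.mem_univ, if_true]
  have he : ∀ q : GolayPt, eW q ∈ W := by
    intro q
    have h1 : w + eW q ∈ W := by
      apply heven
      simp only [Pi.add_apply, Finset.sum_add_distrib, hw1, hsum_e]
      decide
    have h2 := W.add_mem hwW h1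
    rw [← add_assoc, add_self_word, zero_add] at h2
    exact h2
  rw [eq_top_iff]
  intro x _
  have h2 : ∑ p, x p • eW p = x := by
    funext q
    rw [Finset.sum_apply]
    unfold eW
    simp only [Pi.smul_apply, Pi.single_apply, smul_eq_mul, mul_ite, mul_one, mul_zero,
      Finset.sum_ite_eq, Finset.mem_univ, if_true]
  rw [← h2]
  apply Submodule.sum_mem
  intro p _
  exact W.smul_mem _ (he p)

end Cfsg.Agent.Helper9.Golay
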