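import Mathlib
import Cfsg.Prelude.Def_Sporadic_a
import Cfsg.Prelude.Def_SporadicCombinatorics
import Cfsg.Agent.Helper9.Golay.SqDod
import Cfsg.Agent.Helper9.Golay.Restrict
import Cfsg.Agent.S0384
import Cfsg.Agent.S0386
import Cfsg.Agent.S0387

set_option autoImplicit false

/-!
The stabilizer of a dodecad, a point of it and a pair of points outside.
-/

namespace Cfsg.Agent.Helper9.Golay

open Cfsg
open scoped Pointwise

/-- an embedding of `Fin 2` from two distinct points. -/
def emb2 (a b : GolayPt) (h : a ≠ b) : Fin 2 ↪ GolayPt :=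
  ⟨fun i => if i = 0 then a else b, by
    intro i j hij
    fin_cases i <;> fin_cases j <;> simp_all⟩

theorem emb2_zero (a b : GolayPt) (h : a ≠ b) : emb2 a b h 0 = a := rfl

theorem emb2_one (a b : GolayPt) (h : a ≠ b) : emb2 a b h 1 = b := rfl

/-- the stabilizer of a dodecad and a point of it is 2-transitive on the complement. -/
theorem dodecad_pt_two_trans {d : Finset GolayPt} (hd : d ∈ dodecads) {p : GolayPt}
    (hp : p ∈ d) {a a' b b' : GolayPt} (ha : a ∉ d) (ha' : a' ∉ d) (hb : b ∉ d) (hb' : b' ∉ d)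
    (haa : a ≠ a') (hbb : b ≠ b') :
    ∃ g ∈ M24, g • d = d ∧ g p = p ∧ g a = b ∧ g a' = b' := by
  classical
  have hc : 3 ≤ (dᶜ).card := by
    rw [Finset.card_compl, card_golayPt, hd.2]
    norm_num
  obtain ⟨X, hX, hXa⟩ := extend_emb (by norm_num : 2 ≤ 3) hc (emb2 a a' haa) (by
    intro i
    fin_cases i
    · exact Finset.mem_compl.mpr ha
    · exact Finset.mem_compl.mpr ha')
  obtain ⟨Y, hY, hYb⟩ := extend_emb (by norm_num : 2 ≤ 3) hc (emb2 b b' hbb) (by
    intro i
    fin_cases i
    · exact Finset.mem_compl.mpr hb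
    · exact Finset.mem_compl.mpr hb')
  obtain ⟨g, hg, hgd, hgp, hgXY⟩ := dodecad_pt_three_trans hd hp X Y
    (fun i => Finset.mem_compl.mp (hX i)) (fun i => Finset.mem_compl.mp (hY i))
  refine ⟨g, hg, hgd, hgp, ?_, ?_⟩
  · have h1 := hgXY (Fin.castLE (by norm_num : 2 ≤ 3) 0)
    rw [hXa 0, hYb 0] at h1
    exact h1
  · have h1 := hgXY (Fin.castLE (by norm_num : 2 ≤ 3) 1)
    rw [hXa 1, hYb 1] at h1
    exact h1

theorem smul_pair (g : Equiv.Perm GolayPt) (a b : GolayPt) :
    g • ({a, b} : Finset GolayPt) = {g a, g b} := by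
  rw [Finset.smul_finset_insert, Finset.smul_finset_singleton]
  rfl

/-- the order of the stabilizer of a pair of outside points. -/
theorem card_pair_stab {d : Finset GolayPt} (hd : d ∈ dodecads) {p : GolayPt} (hp : p ∈ d)
    {q q' : GolayPt} (hq : q ∉ d) (hq' : q' ∉ d) (hne : q ≠ q') :
    Nat.card ↥(MulAction.stabilizer M24 d ⊓ MulAction.stabilizer M24 p ⊓
      MulAction.stabilizer M24 ({q, q'} : Finset GolayPt)) = 120 := by
  classical
  have h := card_eq_orbit_mul (MulAction.stabilizer M24 d ⊓ MulAction.stabilizer M24 p)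
    ({q, q'} : Finset GolayPt)
  rw [Cfsg.Agent.S0387.result d hd p hp] at h
  have horb : MulAction.orbit ↥(MulAction.stabilizer M24 d ⊓ MulAction.stabilizer M24 p)
      ({q, q'} : Finset GolayPt) =
      ((Finset.powersetCard 2 dᶜ : Finset (Finset GolayPt)) : Set (Finset GolayPt)) := by
    ext s
    rw [Finset.mem_coe, Finset.mem_powersetCard]
    constructor
    · rintro ⟨g, rfl⟩
      have hgd : ((g : M24) : Equiv.Perm GolayPt) • d = d := (Subgroup.mem_inf.mp g.2).1
      change ((g : M24) : Equiv.Perm GolayPt) • ({q, q'} : Finset GolayPt) ⊆ dᶜ ∧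
        (((g : M24) : Equiv.Perm GolayPt) • ({q, q'} : Finset GolayPt)).card = 2
      constructor
      · rw [← (smul_compl_eq_iff _ d).mpr hgd]
        apply Finset.smul_finset_subset_smul_finset
        intro x hx
        rw [Finset.mem_insert, Finset.mem_singleton] at hx
        rcases hx with rfl | rfl
        · exact Finset.mem_compl.mpr hq
        · exact Finset.mem_compl.mpr hq'
      · rw [card_smul_finset, Finset.card_pair hne]
    · rintro ⟨hs, hs2⟩
      obtain ⟨a, a', haa, rfl⟩ := Finset.card_eq_two.mp hs2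
      have ha : a ∉ d := Finset.mem_compl.mp (hs (by simp))
      have ha' : a' ∉ d := Finset.mem_compl.mp (hs (by simp))
      obtain ⟨g, hg, hgd, hgp, hga, hga'⟩ := dodecad_pt_two_trans hd hp hq hq' ha ha' hne haa
      refine ⟨⟨⟨g, hg⟩, Subgroup.mem_inf.mpr ⟨hgd, hgp⟩⟩, ?_⟩
      change g • ({q, q'} : Finset GolayPt) = {a, a'}
      rw [smul_pair, hga, hga']
  have hcount : (MulAction.orbit ↥(MulAction.stabilizer M24 d ⊓ MulAction.stabilizer M24 p)
      ({q, q'} : Finset GolayPt)).ncard = 66 := by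
    rw [horb, Set.ncard_coe_finset, Finset.card_powersetCard, Finset.card_compl, card_golayPt,
      hd.2]
    decide
  have h' : 7920 = 66 * Nat.card ↥(MulAction.stabilizer M24 d ⊓ MulAction.stabilizer M24 p ⊓
      MulAction.stabilizer M24 ({q, q'} : Finset GolayPt)) := by
    rw [← hcount]
    exact h
  omega

/-- an octad through a point of the dodecad and two points outside, meeting the dodecad in six
points. -/
theorem exists_octad_pair {d : Finset GolayPt} (hd : d ∈ dodecads) {p : GolayPt} (hp : p ∈ d)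
    {q q' : GolayPt} (hq : q ∉ d) (hq' : q' ∉ d) (hne : q ≠ q') :
    ∃ o ∈ octads, p ∈ o ∧ (o ∩ d).card = 6 ∧ o \ d = {q, q'} := by
  classical
  have h132 := (Cfsg.Agent.S0386.result d hd).1
  have hne0 : {o : Finset GolayPt | o ∈ octads ∧ (o ∩ d).card = 6}.Nonempty := by
    apply Set.nonempty_of_ncard_ne_zero
    rw [h132]
    norm_num
  obtain ⟨o0, ho0, h6⟩ := hne0
  obtain ⟨p0, hp0⟩ : (o0 ∩ d).Nonempty := by
    rw [← Finset.card_pos, h6]; norm_num
  obtain ⟨hp0o, hp0d⟩ := Finset.mem_inter.mp hp0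
  obtain ⟨h, hh, hhd, hhp⟩ := dodecad_trans_pt hd hp0d hp
  have ho1 : h • o0 ∈ octads := smul_mem_wordsOfWeight hh ho0
  have hp1 : p ∈ h • o0 := by
    rw [← hhp]; exact Finset.smul_mem_smul_finset hp0o
  have h61 : (h • o0 ∩ d).card = 6 := by
    nth_rewrite 1 [← hhd]
    rw [← Finset.smul_finset_inter, card_smul_finset, h6]
  have h2 : (h • o0 \ d).card = 2 := by
    have := Finset.card_sdiff_add_card_inter (h • o0) d
    have h8 : (h • o0).card = 8 := ho1.2
    omega
  obtain ⟨a, a', haa, hsd⟩ := Finset.card_eq_two.mp h2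
  have ha : a ∉ d := by
    have : a ∈ h • o0 \ d := by rw [hsd]; simp
    exact (Finset.mem_sdiff.mp this).2
  have ha' : a' ∉ d := by
    have : a' ∈ h • o0 \ d := by rw [hsd]; simp
    exact (Finset.mem_sdiff.mp this).2
  obtain ⟨g, hg, hgd, hgp, hga, hga'⟩ := dodecad_pt_two_trans hd hp ha ha' hq hq' haa hne
  refine ⟨g • h • o0, smul_mem_wordsOfWeight hg ho1, ?_, ?_, ?_⟩
  · rw [← hgp]; exact Finset.smul_mem_smul_finset hp1
  · nth_rewrite 1 [← hgd]
    rw [← Finset.smul_finset_inter, card_smul_finset, h61]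
  · nth_rewrite 1 [← hgd]
    rw [← Finset.smul_finset_sdiff, hsd, smul_pair, hga, hga']

end Cfsg.Agent.Helper9.Golay
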