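import Mathlib
import Cfsg.Prelude
import Cfsg.Agent.Helper9.Golay.TblGroup

set_option autoImplicit false

/-! Explicit subgroups given by tables packed in large numbers, with a search tree and a table
of successors. -/

namespace Cfsg.Agent.Helper9.Golay

open Cfsg
open scoped Pointwise

/-- decode a table from fields of five bits. -/
def decT (k : ℕ) : List ℕ := (List.range 24).map (fun i => (k >>> (5 * i)) &&& 31)

/-- a number attached to a table, for comparisons. -/
def encT (t : List ℕ) : ℕ := t.foldr (fun x a => x + 32 * a) 0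

/-- the field of width `w` at position `j`. -/
def fld (N w j : ℕ) : ℕ := (N >>> (w * j)) &&& (2 ^ w - 1)

/-- packed data of a group: number of elements, number of generators, tables, parents, successors,
depths, generators. -/
structure Packed where
  n : ℕ
  r : ℕ
  z : ℕ
  tab : ℕ
  par : ℕ
  next : ℕ
  dep : ℕ
  gens : List (List ℕ)

namespace Packed

variable (G : Packed)

def acc (j : ℕ) : List ℕ := decT (fld G.tab 120 j)
def parOf (j : ℕ) : ℕ := fld G.par 16 j / 16
def genOf (j : ℕ) : ℕ := fld G.par 16 j % 16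
def nextOf (i k : ℕ) : ℕ := fld G.next 16 (i * G.r + k)
def depOf (j : ℕ) : ℕ := fld G.dep 8 j

/-- the list of the tables. -/
def tabs : List (List ℕ) := (List.range G.n).map G.acc

def okBfs : Bool :=
  G.acc G.z == idT && G.depOf G.z == 0 && decide (G.z < G.n) &&
  (List.range G.n).all (fun j => j == G.z ||
    (decide (G.parOf j < G.n) && decide (G.genOf j < G.gens.length) &&
      G.depOf j == G.depOf (G.parOf j) + 1 &&
      G.acc j == mulT (G.acc (G.parOf j)) (G.gens.getD (G.genOf j) [])))

def okClosed : Bool :=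
  (List.range G.n).all (fun i => (List.range G.gens.length).all (fun k =>
    decide (G.nextOf i k < G.n) &&
    mulT (G.acc i) (G.gens.getD k []) == G.acc (G.nextOf i k)))

def okSorted : Bool :=
  (List.range (G.n - 1)).all (fun j => decide (encT (G.acc j) < encT (G.acc (j + 1))))

theorem mem_tabs (t : List ℕ) : t ∈ G.tabs ↔ ∃ j, j < G.n ∧ G.acc j = t := by
  unfold tabs
  rw [List.mem_map]
  constructor
  · rintro ⟨j, hj, rfl⟩
    exact ⟨j, List.mem_range.mp hj, rfl⟩
  · rintro ⟨j, hj, rfl⟩
    exact ⟨j, List.mem_range.mpr hj, rfl⟩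

theorem length_tabs : G.tabs.length = G.n := by
  unfold tabs
  rw [List.length_map, List.length_range]

theorem lt_of_sorted (hs : G.okSorted = true) :
    ∀ i j, i < j → j < G.n → encT (G.acc i) < encT (G.acc j) := by
  unfold okSorted at hs
  intro i j hij
  induction j with
  | zero => omega
  | succ j ih =>
    intro hj
    have h1 := List.all_eq_true.mp hs j (List.mem_range.mpr (by omega))
    rw [decide_eq_true_eq] at h1
    by_cases h : i = j
    · rw [h]; exact h1
    · exact lt_trans (ih (by omega) (by omega)) h1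

theorem nodup_tabs (hs : G.okSorted = true) : G.tabs.Nodup := by
  unfold tabs
  apply List.Nodup.map_on
  · intro i hi j hj h
    rw [List.mem_range] at hi hj
    by_contra hne
    rcases Nat.lt_or_gt_of_ne hne with h1 | h1
    · have := G.lt_of_sorted hs i j h1 hj
      rw [h] at this
      exact lt_irrefl _ this
    · have := G.lt_of_sorted hs j i h1 hi
      rw [h] at this
      exact lt_irrefl _ this
  · exact List.nodup_range

theorem id_mem_tabs (hb : G.okBfs = true) : idT ∈ G.tabs := by
  unfold okBfs at hb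
  simp only [Bool.and_eq_true, beq_iff_eq, decide_eq_true_eq] at hb
  exact (G.mem_tabs idT).mpr ⟨G.z, hb.1.2, hb.1.1.1⟩

theorem real_acc (hb : G.okBfs = true) (hg : ∀ s ∈ G.gens, ∃ σ ∈ M24, IsTbl σ s) :
    ∀ d j, j < G.n → G.depOf j = d → ∃ σ ∈ M24, IsTbl σ (G.acc j) := by
  unfold okBfs at hb
  simp only [Bool.and_eq_true, beq_iff_eq, decide_eq_true_eq] at hb
  obtain ⟨⟨⟨h0, hd0⟩, hn⟩, hall⟩ := hb
  intro d
  induction d with
  | zero =>
    intro j hj hd
    by_cases hj0 : j = G.z
    · subst hj0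
      rw [h0]
      exact ⟨1, M24.one_mem, isTbl_one⟩
    · have h1 := List.all_eq_true.mp hall j (List.mem_range.mpr hj)
      simp only [Bool.or_eq_true, beq_iff_eq, hj0, false_or, Bool.and_eq_true,
        decide_eq_true_eq] at h1
      omega
  | succ d ih =>
    intro j hj hd
    by_cases hj0 : j = G.z
    · subst hj0
      omega
    · have h1 := List.all_eq_true.mp hall j (List.mem_range.mpr hj)
      simp only [Bool.or_eq_true, beq_iff_eq, hj0, false_or, Bool.and_eq_true,
        decide_eq_true_eq] at h1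
      obtain ⟨⟨⟨hp, hk⟩, hdep⟩, he⟩ := h1
      obtain ⟨σ, hσ, hσt⟩ := ih _ hp (by omega)
      have hmem : G.gens.getD (G.genOf j) [] ∈ G.gens := by
        rw [List.getD_eq_getElem _ _ hk]
        exact List.getElem_mem _
      obtain ⟨τ, hτ, hτt⟩ := hg _ hmem
      rw [he]
      exact ⟨σ * τ, M24.mul_mem hσ hτ, hσt.mul hτt⟩

theorem real_tabs (hb : G.okBfs = true) (hg : ∀ s ∈ G.gens, ∃ σ ∈ M24, IsTbl σ s) :
    ∀ t ∈ G.tabs, ∃ σ ∈ M24, IsTbl σ t := by
  intro t ht
  obtain ⟨j, hj, rfl⟩ := (G.mem_tabs t).mp ht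
  exact G.real_acc hb hg _ j hj rfl

theorem mul_gen_mem' (hc : G.okClosed = true) {x s : ↥M24} (hx : x ∈ tblCarrier G.tabs) {k : ℕ}
    (hk : k < G.gens.length)
    (hs : IsTbl ((s : ↥M24) : Equiv.Perm GolayPt) (G.gens.getD k [])) :
    x * s ∈ tblCarrier G.tabs := by
  obtain ⟨t, ht, hxt⟩ := hx
  obtain ⟨i, hi, rfl⟩ := (G.mem_tabs t).mp ht
  unfold okClosed at hc
  have h1 := List.all_eq_true.mp (List.all_eq_true.mp hc i (List.mem_range.mpr hi)) k
    (List.mem_range.mpr hk)
  rw [Bool.and_eq_true, decide_eq_true_eq, beq_iff_eq] at h1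
  refine ⟨_, (G.mem_tabs _).mpr ⟨_, h1.1, rfl⟩, ?_⟩
  rw [← h1.2]
  exact hxt.mul hs

theorem hmul (hb : G.okBfs = true) (hc : G.okClosed = true)
    (hg : ∀ s ∈ G.gens, ∃ σ ∈ M24, IsTbl σ s) :
    ∀ g h : ↥M24, g ∈ tblCarrier G.tabs → h ∈ tblCarrier G.tabs → g * h ∈ tblCarrier G.tabs := by
  have key : ∀ d j, j < G.n → G.depOf j = d → ∀ g h : ↥M24, g ∈ tblCarrier G.tabs →
      IsTbl ((h : ↥M24) : Equiv.Perm GolayPt) (G.acc j) → g * h ∈ tblCarrier G.tabs := by
    have hb' := hb
    unfold okBfs at hb'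
    simp only [Bool.and_eq_true, beq_iff_eq, decide_eq_true_eq] at hb'
    obtain ⟨⟨⟨h0, hd0⟩, hn⟩, hall⟩ := hb'
    intro d
    induction d with
    | zero =>
      intro j hj hd g h hgm hh
      by_cases hj0 : j = G.z
      · subst hj0
        rw [h0] at hh
        have : h = 1 := Subtype.ext (hh.eq_of_eq isTbl_one)
        rw [this, mul_one]
        exact hgm
      · have h1 := List.all_eq_true.mp hall j (List.mem_range.mpr hj)
        simp only [Bool.or_eq_true, beq_iff_eq, hj0, false_or, Bool.and_eq_true,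
          decide_eq_true_eq] at h1
        omega
    | succ d ih =>
      intro j hj hd g h hgm hh
      by_cases hj0 : j = G.z
      · subst hj0
        omega
      · have h1 := List.all_eq_true.mp hall j (List.mem_range.mpr hj)
        simp only [Bool.or_eq_true, beq_iff_eq, hj0, false_or, Bool.and_eq_true,
          decide_eq_true_eq] at h1
        obtain ⟨⟨⟨hp, hk⟩, hdep⟩, he⟩ := h1
        obtain ⟨σ, hσ, hσt⟩ := G.real_acc hb hg _ _ hp rfl
        have hmem : G.gens.getD (G.genOf j) [] ∈ G.gens := by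
          rw [List.getD_eq_getElem _ _ hk]
          exact List.getElem_mem _
        obtain ⟨τ, hτ, hτt⟩ := hg _ hmem
        have hh2 : h = (⟨σ, hσ⟩ : ↥M24) * ⟨τ, hτ⟩ := by
          apply Subtype.ext
          apply hh.eq_of_eq
          rw [he]
          exact hσt.mul hτt
        rw [hh2, ← mul_assoc]
        exact G.mul_gen_mem' hc (ih _ hp (by omega) g ⟨σ, hσ⟩ hgm hσt) hk hτt
  rintro g h hgm ⟨t, ht, hht⟩
  obtain ⟨j, hj, rfl⟩ := (G.mem_tabs t).mp ht
  exact key _ j hj rfl g h hgm hht

/-- the subgroup of the packed data. -/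
def subgroup (hb : G.okBfs = true) (hc : G.okClosed = true)
    (hg : ∀ s ∈ G.gens, ∃ σ ∈ M24, IsTbl σ s) : Subgroup ↥M24 :=
  tblSubgroup G.tabs (G.id_mem_tabs hb) (G.hmul hb hc hg)

theorem card_subgroup (hb : G.okBfs = true) (hc : G.okClosed = true) (hs : G.okSorted = true)
    (hg : ∀ s ∈ G.gens, ∃ σ ∈ M24, IsTbl σ s) :
    Nat.card (G.subgroup hb hc hg) = G.n := by
  unfold subgroup
  rw [card_tblSubgroup _ _ _ (G.nodup_tabs hs) (G.real_tabs hb hg), G.length_tabs]

end Packed

/-- packed trace of a straight-line program from the three generators. -/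
structure PackedSLP where
  n : ℕ
  tab : ℕ
  prog : ℕ

namespace PackedSLP

variable (S : PackedSLP)

def acc (m : ℕ) : List ℕ := decT (fld S.tab 120 m)
def left (m : ℕ) : ℕ := fld S.prog 32 m % 65536
def right (m : ℕ) : ℕ := fld S.prog 32 m / 65536

def ok : Bool :=
  S.acc 0 == stdTabs.getD 0 [] && S.acc 1 == stdTabs.getD 1 [] && S.acc 2 == stdTabs.getD 2 [] &&
  (List.range S.n).all (fun m => decide (m < 3) ||
    (decide (S.left m < m) && decide (S.right m < m) &&
      S.acc m == mulT (S.acc (S.left m)) (S.acc (S.right m))))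

theorem real (h : S.ok = true) : ∀ m, m < S.n → ∃ σ ∈ M24, IsTbl σ (S.acc m) := by
  unfold ok at h
  simp only [Bool.and_eq_true, beq_iff_eq] at h
  obtain ⟨⟨⟨h0, h1⟩, h2⟩, hall⟩ := h
  have hstd : ∀ t ∈ stdTabs, ∃ σ ∈ M24, IsTbl σ t := by
    have := goodT_std [] M24 stepPerm_mem
    exact this
  intro m
  induction m using Nat.strong_induction_on with
  | _ m ih =>
    intro hm
    by_cases hm3 : m < 3
    · have : m = 0 ∨ m = 1 ∨ m = 2 := by omega
      rcases this with rfl | rfl | rfl
      · rw [h0]; exact hstd _ (by simp [stdTabs])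
      · rw [h1]; exact hstd _ (by simp [stdTabs])
      · rw [h2]; exact hstd _ (by simp [stdTabs])
    · have hc := List.all_eq_true.mp hall m (List.mem_range.mpr hm)
      simp only [Bool.or_eq_true, decide_eq_true_eq, hm3, false_or, Bool.and_eq_true,
        beq_iff_eq] at hc
      obtain ⟨⟨hl, hr⟩, he⟩ := hc
      obtain ⟨σ, hσ, hσt⟩ := ih _ hl (lt_trans hl hm)
      obtain ⟨τ, hτ, hτt⟩ := ih _ hr (lt_trans hr hm)
      rw [he]
      exact ⟨σ * τ, M24.mul_mem hσ hτ, hσt.mul hτt⟩

end PackedSLP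

end Cfsg.Agent.Helper9.Golay
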