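import Mathlib
import Cfsg.Prelude
import Cfsg.Agent.Helper9.Golay.TblGroup3

set_option autoImplicit false

/-!
Homomorphisms from a subgroup given by packed tables with a search tree and a table of
successors: a map on the numbers of the elements that respects the successors is multiplicative.
-/

namespace Cfsg.Agent.Helper9.Golay

open Cfsg
open scoped Pointwise

namespace Packed

/-- the checks on the packed data. -/
structure Good (G : Packed) : Prop where
  bfs : G.okBfs = true
  closed : G.okClosed = true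
  sorted : G.okSorted = true
  gens : ∀ s ∈ G.gens, ∃ σ ∈ M24, IsTbl σ s

variable {G : Packed}

/-- the subgroup of checked packed data. -/
def Good.sub (h : G.Good) : Subgroup ↥M24 := G.subgroup h.bfs h.closed h.gens

theorem Good.card_sub (h : G.Good) : Nat.card h.sub = G.n :=
  G.card_subgroup h.bfs h.closed h.sorted h.gens

theorem Good.mem_sub (h : G.Good) (g : ↥M24) :
    g ∈ h.sub ↔ ∃ j, j < G.n ∧ IsTbl ((g : ↥M24) : Equiv.Perm GolayPt) (G.acc j) := by
  constructor
  · rintro ⟨t, ht, hgt⟩
    obtain ⟨j, hj, rfl⟩ := (G.mem_tabs t).mp ht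
    exact ⟨j, hj, hgt⟩
  · rintro ⟨j, hj, hgt⟩
    exact ⟨_, (G.mem_tabs _).mpr ⟨j, hj, rfl⟩, hgt⟩

theorem Good.acc_inj (h : G.Good) {j j' : ℕ} (hj : j < G.n) (hj' : j' < G.n)
    (e : G.acc j = G.acc j') : j = j' := by
  by_contra hne
  rcases Nat.lt_or_gt_of_ne hne with h1 | h1
  · have := G.lt_of_sorted h.sorted j j' h1 hj'
    rw [e] at this
    exact lt_irrefl _ this
  · have := G.lt_of_sorted h.sorted j' j h1 hj
    rw [e] at this
    exact lt_irrefl _ this

/-- the number of an element of the subgroup. -/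
noncomputable def Good.idx (h : G.Good) (g : h.sub) : ℕ :=
  Classical.choose ((h.mem_sub g.1).mp g.2)

theorem Good.idx_lt (h : G.Good) (g : h.sub) : h.idx g < G.n :=
  (Classical.choose_spec ((h.mem_sub g.1).mp g.2)).1

theorem Good.idx_spec (h : G.Good) (g : h.sub) :
    IsTbl ((g : ↥M24) : Equiv.Perm GolayPt) (G.acc (h.idx g)) :=
  (Classical.choose_spec ((h.mem_sub g.1).mp g.2)).2

theorem Good.idx_eq (h : G.Good) (g : h.sub) {j : ℕ} (hj : j < G.n)
    (ht : IsTbl ((g : ↥M24) : Equiv.Perm GolayPt) (G.acc j)) : h.idx g = j := by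
  apply h.acc_inj (h.idx_lt g) hj
  rw [tbl_eq_tblOf (h.idx_spec g), tbl_eq_tblOf ht]

theorem Good.z_facts (h : G.Good) : G.z < G.n ∧ G.acc G.z = idT := by
  have hb := h.bfs
  unfold okBfs at hb
  simp only [Bool.and_eq_true, beq_iff_eq, decide_eq_true_eq] at hb
  exact ⟨hb.1.2, hb.1.1.1⟩

theorem Good.idx_one (h : G.Good) : h.idx 1 = G.z := by
  apply h.idx_eq 1 h.z_facts.1
  rw [h.z_facts.2]
  exact isTbl_one

theorem Good.next_facts (h : G.Good) {i k : ℕ} (hi : i < G.n) (hk : k < G.gens.length) :
    G.nextOf i k < G.n ∧ mulT (G.acc i) (G.gens.getD k []) = G.acc (G.nextOf i k) := by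
  have hc := h.closed
  unfold okClosed at hc
  have h1 := List.all_eq_true.mp (List.all_eq_true.mp hc i (List.mem_range.mpr hi)) k
    (List.mem_range.mpr hk)
  rw [Bool.and_eq_true, decide_eq_true_eq, beq_iff_eq] at h1
  exact h1

/-- a map on the numbers of the elements that respects the successors is multiplicative. -/
theorem Good.map_mul (h : G.Good) {T : Type*} [Monoid T] (φ : ℕ → T) (γ : ℕ → T)
    (h1 : φ G.z = 1)
    (h2 : ∀ i < G.n, ∀ k < G.gens.length, φ (G.nextOf i k) = φ i * γ k)
    (a b : h.sub) : φ (h.idx (a * b)) = φ (h.idx a) * φ (h.idx b) := by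
  have key : ∀ d j, j < G.n → G.depOf j = d → ∀ a b : h.sub,
      IsTbl ((b : ↥M24) : Equiv.Perm GolayPt) (G.acc j) →
      φ (h.idx (a * b)) = φ (h.idx a) * φ j := by
    have hb' := h.bfs
    unfold okBfs at hb'
    simp only [Bool.and_eq_true, beq_iff_eq, decide_eq_true_eq] at hb'
    obtain ⟨⟨⟨h0, hd0⟩, hn⟩, hall⟩ := hb'
    intro d
    induction d with
    | zero =>
      intro j hj hd a b hb
      by_cases hj0 : j = G.z
      · subst hj0
        rw [h0] at hb
        have hb1 : b = 1 := Subtype.ext (Subtype.ext (hb.eq_of_eq isTbl_one))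
        rw [hb1, mul_one, h1, mul_one]
      · have h3 := List.all_eq_true.mp hall j (List.mem_range.mpr hj)
        simp only [Bool.or_eq_true, beq_iff_eq, hj0, false_or, Bool.and_eq_true,
          decide_eq_true_eq] at h3
        omega
    | succ d ih =>
      intro j hj hd a b hb
      by_cases hj0 : j = G.z
      · subst hj0
        omega
      · have h3 := List.all_eq_true.mp hall j (List.mem_range.mpr hj)
        simp only [Bool.or_eq_true, beq_iff_eq, hj0, false_or, Bool.and_eq_true,
          decide_eq_true_eq] at h3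
        obtain ⟨⟨⟨hp, hk⟩, hdep⟩, he⟩ := h3
        obtain ⟨σ, hσ, hσt⟩ := G.real_acc h.bfs h.gens _ _ hp rfl
        have hmem : G.gens.getD (G.genOf j) [] ∈ G.gens := by
          rw [List.getD_eq_getElem _ _ hk]
          exact List.getElem_mem _
        obtain ⟨τ, hτ, hτt⟩ := h.gens _ hmem
        have hb2 : (b : ↥M24) = (⟨σ, hσ⟩ : ↥M24) * ⟨τ, hτ⟩ := by
          apply Subtype.ext
          apply hb.eq_of_eq
          rw [he]
          exact hσt.mul hτt
        let b' : h.sub := ⟨⟨σ, hσ⟩, (h.mem_sub _).mpr ⟨_, hp, hσt⟩⟩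
        have hih := ih _ hp (by omega) a b' hσt
        have hi := h.idx_lt (a * b')
        have hspec := h.idx_spec (a * b')
        obtain ⟨hn1, hn2⟩ := h.next_facts hi hk
        have hab : h.idx (a * b) = G.nextOf (h.idx (a * b')) (G.genOf j) := by
          apply h.idx_eq _ hn1
          rw [← hn2]
          have e : (((a * b : h.sub) : ↥M24) : Equiv.Perm GolayPt) =
              (((a * b' : h.sub) : ↥M24) : Equiv.Perm GolayPt) * τ := by
            change ((a : ↥M24) : Equiv.Perm GolayPt) * ((b : ↥M24) : Equiv.Perm GolayPt) =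
              ((a : ↥M24) : Equiv.Perm GolayPt) * σ * τ
            rw [hb2]
            change ((a : ↥M24) : Equiv.Perm GolayPt) * (σ * τ) = _
            rw [mul_assoc]
          rw [e]
          exact hspec.mul hτt
        obtain ⟨hm1, hm2⟩ := h.next_facts hp hk
        have hj' : G.nextOf (G.parOf j) (G.genOf j) = j := by
          apply h.acc_inj hm1 hj
          rw [← hm2, he]
        rw [hab, h2 _ hi _ hk, hih, mul_assoc, ← h2 _ hp _ hk, hj']
  rw [key _ _ (h.idx_lt b) rfl a b (h.idx_spec b)]

/-- the homomorphism given by a map on the numbers of the elements respecting the successors. -/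
noncomputable def Good.toHom (h : G.Good) {T : Type*} [Monoid T] (φ : ℕ → T) (γ : ℕ → T)
    (h1 : φ G.z = 1)
    (h2 : ∀ i < G.n, ∀ k < G.gens.length, φ (G.nextOf i k) = φ i * γ k) : h.sub →* T where
  toFun g := φ (h.idx g)
  map_one' := by rw [h.idx_one, h1]
  map_mul' := h.map_mul φ γ h1 h2

theorem Good.toHom_apply (h : G.Good) {T : Type*} [Monoid T] (φ : ℕ → T) (γ : ℕ → T)
    (h1 : φ G.z = 1)
    (h2 : ∀ i < G.n, ∀ k < G.gens.length, φ (G.nextOf i k) = φ i * γ k) (g : h.sub) :
    h.toHom φ γ h1 h2 g = φ (h.idx g) := rfl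

/-- the homomorphism is injective when only the neutral element has image one. -/
theorem Good.toHom_injective (h : G.Good) {T : Type*} [Group T] (φ : ℕ → T) (γ : ℕ → T)
    (h1 : φ G.z = 1)
    (h2 : ∀ i < G.n, ∀ k < G.gens.length, φ (G.nextOf i k) = φ i * γ k)
    (h3 : ∀ i < G.n, φ i = 1 → i = G.z) : Function.Injective (h.toHom φ γ h1 h2) := by
  rw [injective_iff_map_eq_one]
  intro g hg
  rw [h.toHom_apply] at hg
  have hz := h3 _ (h.idx_lt g) hg
  have hs := h.idx_spec g
  rw [hz, h.z_facts.2] at hs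
  exact Subtype.ext (Subtype.ext (hs.eq_of_eq isTbl_one))

end Packed

end Cfsg.Agent.Helper9.Golay
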