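import Mathlib
import Cfsg.Prelude
import Cfsg.Agent.Helper9.Golay.PackedHom
import Cfsg.Agent.Helper9.Golay.L11Data
import Cfsg.Agent.Helper9.Golay.M11Pair
import Cfsg.Agent.Helper7.LinearCard

set_option autoImplicit false
set_option Elab.async false

/-!
The stabilizer of a dodecad, a point of it and a point outside it is isomorphic to the
projective special linear group of degree two over the field with eleven elements.
-/

namespace Cfsg.Agent.Helper9.Golay

open Cfsg
open scoped Pointwise

/-- the packed trace of the program. -/
def l11S : PackedSLP := ⟨l11SN, l11STab, l11SProg⟩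

/-- the packed data of the stabilizer. -/
def l11G : Packed := ⟨660, 2, l11Z, l11Tab, l11Par, l11Next, l11Dep, l11Gens⟩

theorem l11S_ok : l11S.ok = true := by decide +kernel

theorem l11Gens_eq : l11Gens = l11GenIdx.map l11S.acc := by decide +kernel

theorem l11GenIdx_lt : l11GenIdx.all (fun j => decide (j < l11SN)) = true := by decide +kernel

theorem l11gens_real : ∀ t ∈ l11G.gens, ∃ σ ∈ M24, IsTbl σ t := by
  intro t ht
  change t ∈ l11Gens at ht
  rw [l11Gens_eq, List.mem_map] at ht
  obtain ⟨j, hj, rfl⟩ := ht
  have := List.all_eq_true.mp l11GenIdx_lt j hj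
  rw [decide_eq_true_eq] at this
  exact l11S.real l11S_ok j this

theorem l11_bfs : l11G.okBfs = true := by decide +kernel
theorem l11_closed : l11G.okClosed = true := by decide +kernel
theorem l11_sorted : l11G.okSorted = true := by decide +kernel

theorem l11_good : l11G.Good := ⟨l11_bfs, l11_closed, l11_sorted, l11gens_real⟩

/-- the explicit subgroup of order 660. -/
def L11 : Subgroup ↥M24 := l11_good.sub

theorem card_L11 : Nat.card L11 = 660 := l11_good.card_sub

theorem l11_fix : (List.range 660).all (fun j => genOK [0, 1] [dod0] (l11G.acc j)) = true := by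
  decide +kernel

end Cfsg.Agent.Helper9.Golay
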