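import Mathlib
import Cfsg.Prelude
import Cfsg.Agent.Helper9.Golay.L11
import Cfsg.Agent.Helper9.Golay.M11Simple

set_option autoImplicit false

/-!
The stabilizer of a dodecad, a point of it and a point outside it has order 660, and in standard
position it is the explicit subgroup.
-/

namespace Cfsg.Agent.Helper9.Golay

open Cfsg
open scoped Pointwise

/-- the order of the stabilizer of a dodecad, a point of it and a point outside it. -/
theorem card_dod_pt_pt_stab {d : Finset GolayPt} (hd : d ∈ dodecads) {p : GolayPt} (hp : p ∈ d)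
    {q : GolayPt} (hq : q ∉ d) :
    Nat.card ↥(MulAction.stabilizer M24 d ⊓ MulAction.stabilizer M24 p ⊓
      MulAction.stabilizer M24 q) = 660 := by
  classical
  have h := card_eq_orbit_mul (MulAction.stabilizer M24 d ⊓ MulAction.stabilizer M24 p) q
  rw [Cfsg.Agent.S0387.result d hd p hp] at h
  have hc12 : (dᶜ).card = 12 := by
    rw [Finset.card_compl, card_golayPt, hd.2]
  have horb : MulAction.orbit ↥(MulAction.stabilizer M24 d ⊓ MulAction.stabilizer M24 p) q =
      ((dᶜ : Finset GolayPt) : Set GolayPt) := by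
    ext s
    rw [Finset.mem_coe, Finset.mem_compl]
    constructor
    · rintro ⟨g, rfl⟩
      have hgd : ((g : M24) : Equiv.Perm GolayPt) • d = d := (Subgroup.mem_inf.mp g.2).1
      change ((g : M24) : Equiv.Perm GolayPt) q ∉ d
      intro hcon
      apply hq
      have hcon' : ((g : M24) : Equiv.Perm GolayPt) q ∈ ((g : M24) : Equiv.Perm GolayPt) • d := by
        rw [hgd]
        exact hcon
      have := (mem_smul_finset_iff' _ _ _).mp hcon'
      simpa using this
    · intro hs
      obtain ⟨a', ha', hne⟩ := Finset.exists_mem_ne (s := dᶜ) (by rw [hc12]; norm_num) q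
      obtain ⟨b', hb', hne'⟩ := Finset.exists_mem_ne (s := dᶜ) (by rw [hc12]; norm_num) s
      obtain ⟨g, hg, hgd, hgp, hga, -⟩ := dodecad_pt_two_trans hd hp hq
        (Finset.mem_compl.mp ha') hs (Finset.mem_compl.mp hb') hne.symm hne'.symm
      exact ⟨⟨⟨g, hg⟩, Subgroup.mem_inf.mpr ⟨hgd, hgp⟩⟩, hga⟩
  have hcount : (MulAction.orbit ↥(MulAction.stabilizer M24 d ⊓ MulAction.stabilizer M24 p)
      q).ncard = 12 := by
    rw [horb, Set.ncard_coe_finset, hc12]
  rw [hcount] at h
  omega

/-- the stabilizer in standard position. -/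
def H11 : Subgroup ↥M24 :=
  MulAction.stabilizer M24 (suppM dod0) ⊓ MulAction.stabilizer M24 (idxPtN 0) ⊓
    MulAction.stabilizer M24 (idxPtN 1)

theorem one_notMem_dod0 : idxPtN 1 ∉ suppM dod0 := by rw [mem_suppM]; decide

theorem card_H11 : Nat.card H11 = 660 := card_dod_pt_pt_stab dod0_mem dod0_zero one_notMem_dod0

theorem L11_le_H11 : L11 ≤ H11 := by
  intro g hg
  obtain ⟨j, hj, hgt⟩ := (l11_good.mem_sub g).mp hg
  have hok := List.all_eq_true.mp l11_fix j (List.mem_range.mpr hj)
  have hK := genOK_sound g.2 hgt hok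
  obtain ⟨-, hfix, hmask⟩ := mem_KOf.mp hK
  refine Subgroup.mem_inf.mpr ⟨Subgroup.mem_inf.mpr ⟨?_, ?_⟩, ?_⟩
  · exact MulAction.mem_stabilizer_iff.mpr (hmask dod0 (by simp))
  · exact MulAction.mem_stabilizer_iff.mpr (hfix 0 (by simp))
  · exact MulAction.mem_stabilizer_iff.mpr (hfix 1 (by simp))

theorem L11_eq_H11 : L11 = H11 := by
  have : Finite ↥H11 := Nat.finite_of_card_ne_zero (by rw [card_H11]; norm_num)
  exact Subgroup.eq_of_le_of_card_ge L11_le_H11 (by rw [card_H11, card_L11])

end Cfsg.Agent.Helper9.Golay
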