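import Mathlib
import Cfsg.Prelude
import Cfsg.Agent.Helper9.Golay.L11Stab
import Cfsg.Agent.Helper7.LinearCard

set_option autoImplicit false
set_option Elab.async false

/-!
The explicit subgroup of order 660 is isomorphic to the projective special linear group of degree
two over the field with eleven elements.
-/

namespace Cfsg.Agent.Helper9.Golay

open Cfsg Matrix
open scoped Pointwise

abbrev S11 := Matrix.SpecialLinearGroup (Fin 2) (ZMod 11)
abbrev P11 := Matrix.ProjectiveSpecialLinearGroup (Fin 2) (ZMod 11)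

/-- the entry number `e` of the matrix with code `c`. -/
def matE (c e : ℕ) : ℕ := (c >>> (4 * e)) &&& 15

/-- the code of the matrix of the element number `i`. -/
def matC (i : ℕ) : ℕ := fld l11Mat 16 i

/-- the matrix with code `c`. -/
def matOf (c : ℕ) : Matrix (Fin 2) (Fin 2) (ZMod 11) :=
  !![(matE c 0 : ZMod 11), (matE c 1 : ZMod 11); (matE c 2 : ZMod 11), (matE c 3 : ZMod 11)]

instance fact_prime_eleven : Fact (Nat.Prime 11) := ⟨by norm_num⟩

theorem cast_eq_of_mod {x y : ℕ} (h : x % 11 = y % 11) : (x : ZMod 11) = (y : ZMod 11) :=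
  (ZMod.natCast_eq_natCast_iff' x y 11).mpr h

def detOK (c : ℕ) : Bool := (matE c 0 * matE c 3 + 10 * (matE c 1 * matE c 2)) % 11 == 1

theorem det_matOf {c : ℕ} (h : detOK c = true) : (matOf c).det = 1 := by
  unfold detOK at h
  rw [beq_iff_eq] at h
  unfold matOf
  rw [Matrix.det_fin_two_of]
  have h1 : ((matE c 0 * matE c 3 + 10 * (matE c 1 * matE c 2) : ℕ) : ZMod 11) =
      ((1 : ℕ) : ZMod 11) := cast_eq_of_mod (h.trans (by norm_num))
  push_cast at h1
  have h10 : (10 : ZMod 11) = -1 := by decide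
  rw [h10] at h1
  linear_combination h1

/-- the element of the special linear group with code `c`. -/
noncomputable def slOf (c : ℕ) : S11 :=
  if h : detOK c = true then (⟨matOf c, det_matOf h⟩ : S11) else (1 : S11)

theorem slOf_val {c : ℕ} (h : detOK c = true) :
    (slOf c : Matrix (Fin 2) (Fin 2) (ZMod 11)) = matOf c := by
  have e : slOf c = (⟨matOf c, det_matOf h⟩ : S11) := dif_pos h
  rw [e]

/-- the entries of the product. -/
def prodE (c1 c2 : ℕ) : ℕ × ℕ × ℕ × ℕ :=
  (matE c1 0 * matE c2 0 + matE c1 1 * matE c2 2, matE c1 0 * matE c2 1 + matE c1 1 * matE c2 3,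
   matE c1 2 * matE c2 0 + matE c1 3 * matE c2 2, matE c1 2 * matE c2 1 + matE c1 3 * matE c2 3)

def mulOK (c1 c2 c3 : ℕ) : Bool :=
  ((prodE c1 c2).1 % 11 == matE c3 0 % 11 && (prodE c1 c2).2.1 % 11 == matE c3 1 % 11 &&
    (prodE c1 c2).2.2.1 % 11 == matE c3 2 % 11 && (prodE c1 c2).2.2.2 % 11 == matE c3 3 % 11) ||
  (((prodE c1 c2).1 + matE c3 0) % 11 == 0 && ((prodE c1 c2).2.1 + matE c3 1) % 11 == 0 &&
    ((prodE c1 c2).2.2.1 + matE c3 2) % 11 == 0 && ((prodE c1 c2).2.2.2 + matE c3 3) % 11 == 0)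

theorem cast_add_eq_zero {x y : ℕ} (h : (x + y) % 11 = 0) : (x : ZMod 11) + (y : ZMod 11) = 0 := by
  have := (ZMod.natCast_eq_zero_iff (x + y) 11).mpr (Nat.dvd_of_mod_eq_zero h)
  push_cast at this
  exact this

theorem mulOK_sound {c1 c2 c3 : ℕ} (h : mulOK c1 c2 c3 = true) :
    matOf c3 = matOf c1 * matOf c2 ∨ matOf c3 + matOf c1 * matOf c2 = 0 := by
  unfold mulOK prodE at h
  simp only [Bool.or_eq_true, Bool.and_eq_true, beq_iff_eq] at h
  unfold matOf
  rw [Matrix.mul_fin_two]
  rcases h with ⟨⟨⟨h0, h1⟩, h2⟩, h3⟩ | ⟨⟨⟨h0, h1⟩, h2⟩, h3⟩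
  · left
    have e0 := cast_eq_of_mod h0
    have e1 := cast_eq_of_mod h1
    have e2 := cast_eq_of_mod h2
    have e3 := cast_eq_of_mod h3
    push_cast at e0 e1 e2 e3
    rw [← e0, ← e1, ← e2, ← e3]
  · right
    have e0 := cast_add_eq_zero h0
    have e1 := cast_add_eq_zero h1
    have e2 := cast_add_eq_zero h2
    have e3 := cast_add_eq_zero h3
    push_cast at e0 e1 e2 e3
    rw [Matrix.of_add_of]
    ext i j
    fin_cases i <;> fin_cases j
    · simpa [add_comm] using e0
    · simpa [add_comm] using e1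
    · simpa [add_comm] using e2
    · simpa [add_comm] using e3

/-- the class of a matrix in the projective group. -/
def pmk11 (A : S11) : P11 := QuotientGroup.mk A

theorem pmk11_mul (A B : S11) : pmk11 (A * B) = pmk11 A * pmk11 B := rfl

theorem pmk11_one : pmk11 1 = 1 := rfl

/-- minus the identity. -/
def negOne11 : S11 := ⟨-1, by decide⟩

theorem negOne11_mem_center : negOne11 ∈ Subgroup.center S11 := by
  rw [Subgroup.mem_center_iff]
  intro g
  apply Subtype.ext
  change (g : Matrix (Fin 2) (Fin 2) (ZMod 11)) * (-1) = (-1) * (g : Matrix (Fin 2) (Fin 2) (ZMod 11))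
  rw [Matrix.mul_neg, Matrix.neg_mul, mul_one, one_mul]

theorem pmk11_eq_of_add {A B : S11}
    (h : (A : Matrix (Fin 2) (Fin 2) (ZMod 11)) + (B : Matrix (Fin 2) (Fin 2) (ZMod 11)) = 0) :
    pmk11 A = pmk11 B := by
  have hA : A = B * negOne11 := by
    apply Subtype.ext
    change (A : Matrix (Fin 2) (Fin 2) (ZMod 11)) = (B : Matrix (Fin 2) (Fin 2) (ZMod 11)) * (-1)
    rw [Matrix.mul_neg, mul_one]
    exact eq_neg_of_add_eq_zero_left h
  rw [hA, pmk11_mul]
  have : pmk11 negOne11 = 1 := (QuotientGroup.eq_one_iff _).mpr negOne11_mem_center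
  rw [this, mul_one]

def E11 : S11 := ⟨!![1, 1; 0, 1], by decide⟩
def F11 : S11 := ⟨!![1, 0; 1, 1], by decide⟩

def centralOK (c : ℕ) : Bool :=
  matE c 1 % 11 == 0 && matE c 2 % 11 == 0 && matE c 0 % 11 == matE c 3 % 11

theorem central_of_pmk11 {c : ℕ} (hd : detOK c = true) (h : pmk11 (slOf c) = 1) :
    centralOK c = true := by
  have hc : slOf c ∈ Subgroup.center S11 := (QuotientGroup.eq_one_iff _).mp h
  have hE := congrArg Subtype.val (Subgroup.mem_center_iff.mp hc E11)
  have hF := congrArg Subtype.val (Subgroup.mem_center_iff.mp hc F11)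
  change (E11 : Matrix (Fin 2) (Fin 2) (ZMod 11)) * (slOf c : Matrix (Fin 2) (Fin 2) (ZMod 11)) =
    (slOf c : Matrix (Fin 2) (Fin 2) (ZMod 11)) * (E11 : Matrix (Fin 2) (Fin 2) (ZMod 11)) at hE
  change (F11 : Matrix (Fin 2) (Fin 2) (ZMod 11)) * (slOf c : Matrix (Fin 2) (Fin 2) (ZMod 11)) =
    (slOf c : Matrix (Fin 2) (Fin 2) (ZMod 11)) * (F11 : Matrix (Fin 2) (Fin 2) (ZMod 11)) at hF
  rw [slOf_val hd] at hE hF
  unfold matOf E11 at hE
  unfold matOf F11 at hF
  change !![(1 : ZMod 11), 1; 0, 1] * _ = _ * !![(1 : ZMod 11), 1; 0, 1] at hE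
  change !![(1 : ZMod 11), 0; 1, 1] * _ = _ * !![(1 : ZMod 11), 0; 1, 1] at hF
  rw [Matrix.mul_fin_two, Matrix.mul_fin_two] at hE hF
  have h00 := congrFun (congrFun hE 0) 0
  have h01 := congrFun (congrFun hE 0) 1
  have h00' := congrFun (congrFun hF 0) 0
  simp at h00 h01 h00'
  unfold centralOK
  simp only [Bool.and_eq_true, beq_iff_eq]
  refine ⟨⟨?_, ?_⟩, ?_⟩
  · have := (ZMod.natCast_eq_zero_iff (matE c 1) 11).mp h00'
    exact Nat.mod_eq_zero_of_dvd this
  · have := (ZMod.natCast_eq_zero_iff (matE c 2) 11).mp h00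
    exact Nat.mod_eq_zero_of_dvd this
  · have e : (matE c 0 : ZMod 11) = (matE c 3 : ZMod 11) := by
      linear_combination (-1 : ZMod 11) * h01
    exact (ZMod.natCast_eq_natCast_iff' _ _ 11).mp e

/-! ### the checks -/

/-- the code of the matrix of a generator. -/
def genC (k : ℕ) : ℕ := [l11GA, l11GB].getD k 0

theorem l11_det : (List.range 660).all (fun i => detOK (matC i)) = true := by decide +kernel

theorem l11_gdet : (List.range 2).all (fun k => detOK (genC k)) = true := by decide +kernel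

theorem l11_mul : (List.range 660).all (fun i => (List.range 2).all (fun k =>
    mulOK (matC i) (genC k) (matC (l11G.nextOf i k)))) = true := by decide +kernel

theorem l11_noncentral : (List.range 660).all (fun i => i == l11Z || !centralOK (matC i)) = true := by
  decide +kernel

theorem l11_zcode : matC l11Z = 4097 := by decide +kernel

theorem matOf_4097 : matOf 4097 = 1 := by
  unfold matOf
  rw [Matrix.one_fin_two]
  have e0 : matE 4097 0 = 1 := by decide
  have e1 : matE 4097 1 = 0 := by decide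
  have e2 : matE 4097 2 = 0 := by decide
  have e3 : matE 4097 3 = 1 := by decide
  rw [e0, e1, e2, e3]
  simp

theorem card_P11 : Nat.card P11 = 660 := by
  have h1 := Cfsg.Agent.Helper7.card_center_mul_card_PSL (F := ZMod 11) 2 (by norm_num)
  have h2 := Cfsg.Agent.Helper7.card_units_mul_card_SL (n := Fin 2) (F := ZMod 11)
  have h3 := Matrix.card_GL_field (n := 2) (𝔽 := ZMod 11)
  rw [Fin.prod_univ_two] at h3
  have e0 : ((0 : Fin 2) : ℕ) = 0 := rfl
  have e1' : ((1 : Fin 2) : ℕ) = 1 := rfl
  rw [e0, e1'] at h3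
  rw [ZMod.card] at h1 h2 h3
  rw [h3] at h2
  have e1 : Nat.gcd 2 (11 - 1) = 2 := by decide
  rw [e1] at h1
  change 2 * Nat.card P11 = Nat.card S11 at h1
  change (11 - 1) * Nat.card S11 = _ at h2
  generalize Nat.card S11 = x at h1 h2
  generalize Nat.card P11 = y at h1 ⊢
  norm_num at h2
  omega

/-- the images of the numbered elements. -/
noncomputable def phi11 (i : ℕ) : P11 := pmk11 (slOf (matC i))

/-- the isomorphism from the explicit subgroup. -/
theorem L11_iso : Nonempty (↥L11 ≃* P11) := by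
  have h1 : phi11 l11G.z = 1 := by
    change pmk11 (slOf (matC l11Z)) = 1
    rw [l11_zcode]
    have hd : detOK 4097 = true := by decide
    have : slOf 4097 = 1 := Subtype.ext (by rw [slOf_val hd, matOf_4097]; rfl)
    rw [this, pmk11_one]
  have h2 : ∀ i < l11G.n, ∀ k < l11G.gens.length,
      phi11 (l11G.nextOf i k) = phi11 i * pmk11 (slOf (genC k)) := by
    intro i hi k hk
    have hi' : i < 660 := hi
    have hk' : k < 2 := hk
    have hd1 := List.all_eq_true.mp l11_det i (List.mem_range.mpr hi')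
    have hd2 := List.all_eq_true.mp l11_gdet k (List.mem_range.mpr hk')
    have hn := (l11_good.next_facts hi hk).1
    have hd3 := List.all_eq_true.mp l11_det _ (List.mem_range.mpr hn)
    have hm := List.all_eq_true.mp (List.all_eq_true.mp l11_mul i (List.mem_range.mpr hi')) k
      (List.mem_range.mpr hk')
    unfold phi11
    rw [← pmk11_mul]
    rcases mulOK_sound hm with h | h
    · congr 1
      apply Subtype.ext
      rw [Matrix.SpecialLinearGroup.coe_mul, slOf_val hd1, slOf_val hd2, slOf_val hd3]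
      exact h
    · apply pmk11_eq_of_add
      rw [Matrix.SpecialLinearGroup.coe_mul, slOf_val hd1, slOf_val hd2, slOf_val hd3]
      exact h
  have h3 : ∀ i < l11G.n, phi11 i = 1 → i = l11G.z := by
    intro i hi h
    have hi' : i < 660 := hi
    have hd1 := List.all_eq_true.mp l11_det i (List.mem_range.mpr hi')
    have hc := central_of_pmk11 hd1 h
    have hn := List.all_eq_true.mp l11_noncentral i (List.mem_range.mpr hi')
    rw [Bool.or_eq_true, beq_iff_eq, hc] at hn
    rcases hn with hn | hn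
    · exact hn
    · exact absurd hn (by decide)
  have hinj := l11_good.toHom_injective phi11 (fun k => pmk11 (slOf (genC k))) h1 h2 h3
  have hbij : Function.Bijective (l11_good.toHom phi11 (fun k => pmk11 (slOf (genC k))) h1 h2) := by
    have : Finite P11 := Nat.finite_of_card_ne_zero (by rw [card_P11]; norm_num)
    apply Function.Injective.bijective_of_nat_card_le hinj
    rw [card_P11]
    exact le_of_eq card_L11.symm
  exact ⟨MulEquiv.ofBijective _ hbij⟩

/-- a dodecad, a point of it and a point outside it can be moved to standard position. -/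
theorem exists_smul_dod0_pt_pt {d : Finset GolayPt} (hd : d ∈ dodecads) {p : GolayPt} (hp : p ∈ d)
    {q : GolayPt} (hq : q ∉ d) :
    ∃ k ∈ M24, k • suppM dod0 = d ∧ k (idxPtN 0) = p ∧ k (idxPtN 1) = q := by
  classical
  obtain ⟨k1, hk1, hk1d, hk1p⟩ := exists_smul_dod0_pt hd hp
  have hq' : k1⁻¹ q ∉ suppM dod0 := by
    intro hcon
    apply hq
    rw [← hk1d]
    have := Finset.smul_mem_smul_finset (a := k1) hcon
    simpa using this
  have hc12 : ((suppM dod0)ᶜ).card = 12 := by
    rw [Finset.card_compl, card_golayPt, dod0_mem.2]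
  obtain ⟨a', ha', hne⟩ := Finset.exists_mem_ne (s := (suppM dod0)ᶜ) (by rw [hc12]; norm_num)
    (idxPtN 1)
  obtain ⟨b', hb', hne'⟩ := Finset.exists_mem_ne (s := (suppM dod0)ᶜ) (by rw [hc12]; norm_num)
    (k1⁻¹ q)
  obtain ⟨g, hg, hgd, hgp, hga, -⟩ := dodecad_pt_two_trans dod0_mem dod0_zero one_notMem_dod0
    (Finset.mem_compl.mp ha') hq' (Finset.mem_compl.mp hb') hne.symm hne'.symm
  refine ⟨k1 * g, M24.mul_mem hk1 hg, ?_, ?_, ?_⟩
  · rw [mul_smul, hgd, hk1d]
  · rw [Equiv.Perm.mul_apply, hgp, hk1p]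
  · rw [Equiv.Perm.mul_apply, hga]
    simp

/-- the stabilizer of a dodecad, a point of it and a point outside it is isomorphic to the
projective special linear group. -/
theorem dod_pt_pt_stab_iso {d : Finset GolayPt} (hd : d ∈ dodecads) {p : GolayPt} (hp : p ∈ d)
    {q : GolayPt} (hq : q ∉ d) :
    Nonempty (↥(MulAction.stabilizer M24 d ⊓ MulAction.stabilizer M24 p ⊓
      MulAction.stabilizer M24 q) ≃* P11) := by
  obtain ⟨k, hk, hkd, hkp, hkq⟩ := exists_smul_dod0_pt_pt hd hp hq
  let k' : ↥M24 := ⟨k, hk⟩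
  have e1 : MulAction.stabilizer M24 d =
      (MulAction.stabilizer M24 (suppM dod0)).map (MulAut.conj k').toMonoidHom := by
    rw [← MulAction.stabilizer_smul_eq_stabilizer_map_conj]
    congr 1
    exact hkd.symm
  have e2 : MulAction.stabilizer M24 p =
      (MulAction.stabilizer M24 (idxPtN 0)).map (MulAut.conj k').toMonoidHom := by
    rw [← MulAction.stabilizer_smul_eq_stabilizer_map_conj]
    congr 1
    exact hkp.symm
  have e3 : MulAction.stabilizer M24 q =
      (MulAction.stabilizer M24 (idxPtN 1)).map (MulAut.conj k').toMonoidHom := by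
    rw [← MulAction.stabilizer_smul_eq_stabilizer_map_conj]
    congr 1
    exact hkq.symm
  have hinj : Function.Injective (MulAut.conj k').toMonoidHom := (MulAut.conj k').injective
  have e : MulAction.stabilizer M24 d ⊓ MulAction.stabilizer M24 p ⊓ MulAction.stabilizer M24 q =
      H11.map (MulAut.conj k').toMonoidHom := by
    unfold H11
    rw [Subgroup.map_inf _ _ _ hinj, Subgroup.map_inf _ _ _ hinj, ← e1, ← e2, ← e3]
  obtain ⟨f⟩ := L11_iso
  exact ⟨(MulEquiv.subgroupCongr e).trans
    ((Subgroup.equivMapOfInjective H11 _ hinj).symm.trans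
      ((MulEquiv.subgroupCongr L11_eq_H11.symm).trans f))⟩

end Cfsg.Agent.Helper9.Golay
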