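import Mathlib
import Cfsg.Prelude.Def_Sporadic_a
import Cfsg.Agent.Helper9.Golay.M11Simple
import Cfsg.Agent.Helper9.Golay.M11Pair

set_option autoImplicit false

/-!
Simplicity of the stabilizer of a dodecad.
-/

namespace Cfsg.Agent.Helper9.Golay

open Cfsg
open scoped Pointwise

theorem KD_simple : IsSimpleGroup ↥KD := by
  classical
  apply Cfsg.Agent.Helper9.simple_of_stab_simple KD (↑(suppM dod0)) (idxPtN 0) dod0_zero
  · intro g hg x hx
    exact KD_maps hg hx
  · intro a ha a' ha' b hb b' hb' haa hbb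
    obtain ⟨g, hg, hgd, hgx⟩ := dodecad_k_trans dod0_mem (by norm_num : 2 ≤ 5)
      (emb2 a a' haa) (emb2 b b' hbb)
      (by
        intro i
        fin_cases i
        · exact ha
        · exact ha')
      (by
        intro i
        fin_cases i
        · exact hb
        · exact hb')
    exact ⟨g, mem_KD.mpr ⟨hg, hgd⟩, hgx 0, hgx 1⟩
  · intro g hg hfix
    obtain ⟨hgM, hgd⟩ := mem_KD.mp hg
    have hc : 5 ≤ (suppM dod0).card := by
      rw [card_suppM]
      decide
    let x0 : Fin 0 ↪ GolayPt := ⟨fun i => i.elim0, fun i => i.elim0⟩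
    obtain ⟨X, hX, -⟩ := extend_emb (by norm_num : 0 ≤ 5) hc x0 (fun i => i.elim0)
    exact eq_one_of_fix_five dod0_mem hgM hgd X hX (fun i => hfix _ (hX i))
  · exact Nat.prime_two
  · exact Nat.prime_three
  · norm_num
  · rw [Set.ncard_coe_finset, card_suppM]
    decide
  · rw [Set.ncard_coe_finset, card_suppM]
    decide
  · intro K hK
    have hle : KOf [0] [dod0] ≤ KD := by
      intro g hg
      obtain ⟨h1, -, h3⟩ := mem_G11.mp hg
      exact mem_KD.mpr ⟨h1, h3⟩
    haveI := hK
    have hnorm : (K.comap (Subgroup.inclusion hle)).Normal := inferInstance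
    haveI := G11_simple
    rcases hnorm.eq_bot_or_eq_top with h | h
    · left
      intro k hk hkp
      obtain ⟨h1, h3⟩ := mem_KD.mp k.2
      have hk11 : k.1 ∈ KOf [0] [dod0] := mem_G11.mpr ⟨h1, hkp, h3⟩
      have hmem : (⟨k.1, hk11⟩ : ↥(KOf [0] [dod0])) ∈ K.comap (Subgroup.inclusion hle) := by
        rw [Subgroup.mem_comap]
        exact hk
      rw [h, Subgroup.mem_bot] at hmem
      apply Subtype.ext
      exact congrArg (fun z : ↥(KOf [0] [dod0]) => (z : Equiv.Perm GolayPt)) hmem
    · right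
      intro g hgp
      obtain ⟨h1, h3⟩ := mem_KD.mp g.2
      have hg11 : g.1 ∈ KOf [0] [dod0] := mem_G11.mpr ⟨h1, hgp, h3⟩
      have hmem : (⟨g.1, hg11⟩ : ↥(KOf [0] [dod0])) ∈ K.comap (Subgroup.inclusion hle) := by
        rw [h]
        exact Subgroup.mem_top _
      rw [Subgroup.mem_comap] at hmem
      exact hmem

/-- the stabilizer of a dodecad is isomorphic to the standard one. -/
noncomputable def stabEquiv12 {k : Equiv.Perm GolayPt} (hk : k ∈ M24) {d : Finset GolayPt}
    (hkd : k • suppM dod0 = d) : ↥(MulAction.stabilizer M24 d) ≃* ↥KD where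
  toFun x := ⟨k⁻¹ * x.1.1 * k, mem_KD.mpr ⟨M24.mul_mem (M24.mul_mem (M24.inv_mem hk) x.1.2) hk, by
    have hx : x.1.1 • d = d := x.2
    rw [mul_smul, mul_smul, hkd, hx, ← hkd, inv_smul_smul]⟩⟩
  invFun y := ⟨⟨k * y.1 * k⁻¹, M24.mul_mem (M24.mul_mem hk (mem_KD.mp y.2).1) (M24.inv_mem hk)⟩, by
    refine MulAction.mem_stabilizer_iff.mpr ?_
    change (k * y.1 * k⁻¹) • d = d
    rw [mul_smul, mul_smul, ← hkd, inv_smul_smul, (mem_KD.mp y.2).2]⟩
  left_inv x := by
    apply Subtype.ext
    apply Subtype.ext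
    simp only
    group
  right_inv y := by
    apply Subtype.ext
    simp only
    group
  map_mul' x y := by
    apply Subtype.ext
    simp only [Subgroup.coe_mul]
    group

theorem dodecad_stab_simple {d : Finset GolayPt} (hd : d ∈ dodecads) :
    IsSimpleGroup ↥(MulAction.stabilizer M24 d) := by
  obtain ⟨k, hk, hkd⟩ := exists_smul_dod0 hd
  haveI := KD_simple
  exact (stabEquiv12 hk hkd).isSimpleGroup

end Cfsg.Agent.Helper9.Golay
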