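import Mathlib
import Cfsg.Prelude.Def_Sporadic_a
import Cfsg.Agent.Helper9.Golay.SimpleCert
import Cfsg.Agent.Helper9.Golay.OctFlag
import Cfsg.Agent.Helper9.Golay.OctGraph
import Cfsg.Agent.Helper9.Golay.ListTrans
import Cfsg.Agent.Helper9.Coatom
import Cfsg.Agent.S0376

set_option autoImplicit false

/-!
Simplicity of the point stabilizer in the group of the length-24 code.
-/

namespace Cfsg.Agent.Helper9.Golay

open Cfsg
open scoped Pointwise

def s23Prog1 : List (ℕ × ℕ) := [(1, 0), (2, 3), (4, 4), (5, 5), (5, 6), (6, 6), (8, 8), (7, 9), (0, 0), (1, 11), (2, 11), (0, 13), (1, 14), (0, 12), (0, 16), (17, 17), (18, 18), (19, 19), (18, 20), (21, 15), (0, 11), (0, 23), (2, 0), (2, 25), (26, 26), (27, 27), (28, 24), (2, 4), (0, 30), (25, 25), (32, 32), (25, 33), (34, 31), (1, 23), (0, 17), (10, 37), (0, 25), (0, 39), (2, 40), (1, 41), (0, 36), (43, 43), (44, 44), (45, 45), (44, 46), (47, 42), (2, 13), (11, 11), (11, 50), (50, 50), (52, 52), (51, 53),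 (54, 49), (2, 12), (39, 39), (57, 57), (57, 58), (59, 56), (55, 60), (2, 61), (22, 62), (2, 63), (22, 64), (48, 65), (66, 66), (67, 67), (22, 48), (60, 69), (35, 70), (38, 71), (60, 72), (22, 73), (2, 74), (55, 75), (38, 76), (77, 68), (77, 77), (77, 79), (79, 79), (80, 81), (78, 82), (22, 35), (60, 55), (22, 85), (48, 86), (35, 87), (38, 88), (22, 89), (48, 90), (29, 91), (92, 68), (92, 92), (92, 94), (94, 94), (95, 96), (93, 97), (48, 48), (35, 99), (60, 100), (101, 68), (101, 101), (103, 103), (103, 104), (102, 105), (22, 84), (38, 107), (2, 108), (35, 109), (22, 110), (111, 68), (111, 111), (113, 113), (114, 114), (113, 115), (112, 116), (22, 2), (55, 118), (60, 119), (48, 120), (22, 121), (35, 122), (123, 68), (123, 123), (125, 125), (123, 126), (124, 127)]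

def s23Z : List (ℕ × ℕ) := [(68, 201013), (83, 8783649), (98, 5275709), (106, 8421811), (117, 15335473), (128, 622863)]

def s23Prog2 : List (ℕ × ℕ) := [(1, 0), (3, 0), (5, 0), (0, 1), (1, 4), (3, 4), (0, 6), (3, 6), (5, 6), (0, 7), (4, 7), (0, 8), (2, 8), (2, 9), (2, 11), (4, 11), (0, 13), (1, 18), (5, 18), (1, 20), (20, 20), (26, 26), (26, 27), (28, 25), (3, 12), (19, 19), (31, 31), (32, 32), (31, 33), (34, 30), (0, 23), (23, 23), (37, 37), (23, 38), (38, 38), (39, 40), (41, 36), (35, 35), (42, 35), (35, 43), (42, 43), (29, 44), (35, 44), (29, 45), (42, 45), (29, 46), (35, 46), (29, 48), (35, 48), (42, 48), (35, 50), (35, 51), (29, 52), (35, 52), (29, 56), (42, 60), (42, 52), (53, 53), (63, 63), (63, 64), (65, 62), (42, 51), (51, 51), (68, 68), (68, 69), (70, 67), (35, 57), (44, 44), (73, 73), (73, 74), (75, 72), (66, 66), (76, 66), (66, 71), (76, 71), (66, 76), (71, 76), (66, 77), (76, 77), (71, 78), (66, 79), (76, 79), (71, 81), (76, 82), (66, 83),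 (76, 84), (71, 86), (76, 88), (66, 90), (87, 87), (95, 94), (76, 78), (71, 79), (79, 79), (99, 99), (100, 98), (96, 96), (101, 96), (96, 97), (101, 97), (96, 101), (97, 101), (97, 102), (96, 104), (97, 106), (101, 106), (96, 107), (97, 107), (101, 107), (96, 110), (101, 110), (97, 111), (101, 108), (104, 104), (119, 119), (120, 118), (97, 114), (115, 115), (123, 122), (97, 109), (114, 114), (114, 126), (127, 125), (121, 121), (129, 129), (128, 129), (130, 131), (124, 132), (128, 132), (128, 124), (128, 133), (124, 121), (129, 137), (138, 132), (138, 124), (138, 128), (138, 133), (138, 134), (138, 135), (138, 136)]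

def s23Levels : List (ℕ × List (ℕ × ℕ)) := [(1, [(1, 100000), (2, 16), (3, 12), (4, 23), (5, 24), (6, 6), (7, 18), (8, 20), (9, 8), (10, 11), (11, 9), (12, 21), (13, 7), (14, 17), (15, 1), (16, 4), (17, 19), (18, 14), (19, 15), (20, 13), (21, 0), (22, 10), (23, 22)]),
  (2, [(2, 100000), (3, 48), (4, 60), (5, 61), (6, 44), (7, 53), (8, 52), (9, 29), (10, 46), (11, 58), (12, 55), (13, 49), (14, 35), (15, 54), (16, 59), (17, 47), (18, 56), (19, 57), (20, 43), (21, 50), (22, 45), (23, 51)]),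
  (3, [(3, 100000), (4, 86), (5, 90), (6, 83), (7, 78), (8, 92), (9, 77), (10, 93), (11, 71), (12, 79), (13, 84), (14, 88), (15, 66), (16, 76), (17, 82), (18, 89), (19, 87), (20, 81), (21, 91), (22, 80), (23, 85)]),
  (4, [(4, 100000), (5, 108), (6, 112), (7, 117), (8, 104), (9, 109), (10, 97), (11, 102), (12, 111), (13, 101), (14, 116), (15, 110), (16, 96), (17, 114), (18, 113), (19, 107), (20, 106), (21, 105), (22, 115), (23, 103)]),
  (7, [(7, 100000), (10, 129), (12, 121)]),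
  (5, [(5, 100000), (6, 139), (8, 124), (9, 135), (11, 140), (13, 138), (14, 145), (15, 132), (16, 144), (17, 141), (18, 142), (19, 143), (20, 128), (21, 136), (22, 134), (23, 133)])]

def s23PairM : List ℕ := [3, 3, 5, 3, 5]

def s23TriM : ℕ := 11

theorem s23_zs : zsOK [0] s23Prog1 s23Z = true := by decide +kernel

theorem s23_chain : chainOK (certTabs2 s23Prog1 s23Z s23Prog2) [] s23Levels = true := by
  decide +kernel

theorem s23_bound : chainBound s23Levels = 10200960 := by decide +kernel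

theorem s23_rels : relsOK s23Prog1 s23Z s23PairM s23TriM = true := by decide +kernel

theorem mem_GF0 {g : Equiv.Perm GolayPt} :
    g ∈ GF [0] ↔ g ∈ M24 ∧ g (idxPtN 0) = idxPtN 0 := by
  unfold GF
  rw [Subgroup.mem_inf, mem_fixL]
  simp

theorem mem_BF0 {o : Finset GolayPt} : o ∈ BF [0] ↔ o ∈ octads ∧ idxPtN 0 ∈ o := by
  unfold BF
  simp

theorem card_GF0 : Nat.card (GF [0]) = 10200960 := by
  rw [← Cfsg.Agent.S0376.result (idxPtN 0)]
  apply Nat.card_congr
  exact ⟨fun x => ⟨⟨x.1, (mem_GF0.mp x.2).1⟩, (mem_GF0.mp x.2).2⟩,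
    fun x => ⟨x.1.1, mem_GF0.mpr ⟨x.1.2, x.2⟩⟩, fun _ => rfl, fun _ => rfl⟩

theorem trans_BF0 : ∀ o ∈ BF [0], ∀ o' ∈ BF [0], ∃ g ∈ GF [0], g • o = o' := by
  intro o ho o' ho'
  rw [mem_BF0] at ho ho'
  obtain ⟨h, hh, hho, hh0⟩ := exists_flag_in ho.1 ho.2
  obtain ⟨h', hh', hho', hh0'⟩ := exists_flag_in ho'.1 ho'.2
  refine ⟨h' * h⁻¹, mem_GF0.mpr ⟨M24.mul_mem hh' (M24.inv_mem hh), ?_⟩, ?_⟩
  · rw [Equiv.Perm.mul_apply]
    nth_rewrite 1 [← hh0]
    simp only [Equiv.Perm.coe_inv, Equiv.symm_apply_apply]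
    exact hh0'
  · rw [mul_smul, ← hho, inv_smul_smul, hho']

theorem oct18147_mem : suppM 18147 ∈ octads :=
  (mem_octads_iff _).mpr ⟨18147, by decide +kernel, by decide, rfl⟩

theorem nt_BF0 : ∃ o ∈ BF [0], ∃ o' ∈ BF [0], o ≠ o' := by
  refine ⟨suppM 5279, mem_BF0.mpr ⟨oct5279_mem, by rw [mem_suppM]; decide⟩,
    suppM 18147, mem_BF0.mpr ⟨oct18147_mem, by rw [mem_suppM]; decide⟩, ?_⟩
  intro h
  have h5 : idxPtN 5 ∈ suppM 18147 := by rw [mem_suppM]; decide
  rw [← h, mem_suppM] at h5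
  exact absurd h5 (by decide)

theorem max_BF0 : ∀ o ∈ BF [0], IsCoatom (MulAction.stabilizer ↥(GF [0]) o) := by
  intro o ho
  have ho' := mem_BF0.mp ho
  obtain ⟨h112, h140, hconj⟩ := flag_in_orbits (idxPtN 0) o ho'.1 ho'.2
  have horb : MulAction.orbit ↥(GF [0]) o = BF [0] := by
    ext o'
    constructor
    · rintro ⟨g, rfl⟩
      rw [mem_BF0]
      obtain ⟨hgM, hg0⟩ := mem_GF0.mp g.2
      refine ⟨smul_mem_wordsOfWeight hgM ho'.1, ?_⟩
      rw [← hg0]
      exact Finset.smul_mem_smul_finset ho'.2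
    · intro ho''
      obtain ⟨g, hg, hgo⟩ := trans_BF0 o ho o' ho''
      exact ⟨⟨g, hg⟩, hgo⟩
  apply Cfsg.Agent.Helper9.isCoatom_stabilizer_of_suborbits' o (fun o' => (o ∩ o').card)
    ({2, 4} : Finset ℕ) (fun v => if v = 2 then 112 else 140)
  · decide
  · intro y hy z hz hc
    rw [horb, mem_BF0] at hy hz
    obtain ⟨g, hg, hg0, hgo, hgy⟩ := hconj y z hy.1 hz.1 hy.2 hz.2 hc
    exact ⟨⟨g, mem_GF0.mpr ⟨hg, hg0⟩⟩, hgo, hgy⟩
  · intro y hy hne
    rw [horb, mem_BF0] at hy
    have h1 := card_inter_octads ho'.1 hy.1 (Ne.symm hne)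
    have h2 : 0 < (o ∩ y).card :=
      Finset.card_pos.mpr ⟨idxPtN 0, Finset.mem_inter.mpr ⟨ho'.2, hy.2⟩⟩
    simp only [Finset.mem_insert, Finset.mem_singleton]
    omega
  · rw [Finset.inter_self, ho'.1.2]
    decide
  · intro v hv
    rw [horb]
    have hset : {y | y ∈ BF [0] ∧ (o ∩ y).card = v} =
        {o' : Finset GolayPt | o' ∈ octads ∧ idxPtN 0 ∈ o' ∧ (o ∩ o').card = v} := by
      ext y
      simp only [Set.mem_ofPred_eq, mem_BF0, and_assoc]
    rw [hset]
    simp only [Finset.mem_insert, Finset.mem_singleton] at hv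
    rcases hv with rfl | rfl
    · exact h112
    · exact h140
  · decide

theorem faith_BF0 : ∀ g ∈ GF [0], (∀ o ∈ BF [0], g • o = o) → g = 1 := by
  intro g hg hfix
  obtain ⟨hgM, hg0⟩ := mem_GF0.mp hg
  apply Equiv.ext
  intro p
  by_contra hne
  have hne' : g p ≠ p := hne
  have hp0 : p ≠ idxPtN 0 := fun h => hne' (by rw [h]; exact hg0)
  have hq0 : g p ≠ idxPtN 0 := by
    intro h
    apply hp0
    apply g.injective
    rw [h, hg0]
  have hnd : [idxPtN 0, p, g p].Nodup := by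
    simp only [List.nodup_cons, List.mem_cons, List.not_mem_nil, or_false, not_or,
      List.nodup_nil, and_true, not_false_eq_true]
    exact ⟨⟨Ne.symm hp0, Ne.symm hq0⟩, Ne.symm hne'⟩
  have hnd0 : [idxPtN 0, idxPtN 1, idxPtN 5].Nodup := by decide
  obtain ⟨k, hk, hkl⟩ := m24_map_list [idxPtN 0, idxPtN 1, idxPtN 5] [idxPtN 0, p, g p] hnd0 hnd
    rfl (by simp)
  simp only [List.map_cons, List.map_nil, List.cons.injEq, and_true] at hkl
  obtain ⟨hk0, hk1, hk5⟩ := hkl
  have hoct : k • suppM 5279 ∈ BF [0] := by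
    rw [mem_BF0]
    refine ⟨smul_mem_wordsOfWeight hk oct5279_mem, ?_⟩
    nth_rewrite 1 [← hk0]
    exact Finset.smul_mem_smul_finset (by rw [mem_suppM]; decide)
  have hp : p ∈ k • suppM 5279 := by
    rw [← hk1]; exact Finset.smul_mem_smul_finset (by rw [mem_suppM]; decide)
  have hgp : g p ∉ k • suppM 5279 := by
    rw [← hk5]
    intro hcon
    have := (Finset.smul_mem_smul_finset_iff k).mp hcon
    rw [mem_suppM] at this
    exact absurd this (by decide)
  apply hgp
  rw [← hfix _ hoct]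
  exact Finset.smul_mem_smul_finset hp

theorem GF0_simple : IsSimpleGroup ↥(GF [0]) :=
  simple_of_cert [0] s23Prog1 s23Z s23Prog2 s23Levels s23PairM s23TriM 10200960
    s23_zs s23_chain s23_bound s23_rels (by decide) card_GF0 (by norm_num)
    trans_BF0 nt_BF0 max_BF0 faith_BF0

/-- the stabilizer of a point is isomorphic to the standard one. -/
noncomputable def stabEquiv0 {k : Equiv.Perm GolayPt} (hk : k ∈ M24) {p : GolayPt}
    (hkp : k (idxPtN 0) = p) : ↥(MulAction.stabilizer M24 p) ≃* ↥(GF [0]) where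
  toFun x := ⟨k⁻¹ * x.1.1 * k, mem_GF0.mpr ⟨M24.mul_mem (M24.mul_mem (M24.inv_mem hk) x.1.2) hk, by
    have hx : x.1.1 p = p := x.2
    rw [Equiv.Perm.mul_apply, Equiv.Perm.mul_apply, hkp, hx, ← hkp]
    simp only [Equiv.Perm.coe_inv, Equiv.symm_apply_apply]⟩⟩
  invFun y := ⟨⟨k * y.1 * k⁻¹, M24.mul_mem (M24.mul_mem hk (mem_GF0.mp y.2).1) (M24.inv_mem hk)⟩, by
    rw [MulAction.mem_stabilizer_iff]
    change (k * y.1 * k⁻¹) p = p
    rw [Equiv.Perm.mul_apply, Equiv.Perm.mul_apply, ← hkp]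
    simp only [Equiv.Perm.coe_inv, Equiv.symm_apply_apply]
    rw [(mem_GF0.mp y.2).2]⟩
  left_inv x := by
    apply Subtype.ext
    apply Subtype.ext
    simp only
    group
  right_inv y := by
    apply Subtype.ext
    simp only
    group
  map_mul' x y := by
    apply Subtype.ext
    simp only [Subgroup.coe_mul]
    group

theorem point_stab_simple (p : GolayPt) : IsSimpleGroup ↥(MulAction.stabilizer M24 p) := by
  obtain ⟨k, hk, hkp⟩ := m24_trans (idxPtN 0) p
  haveI := GF0_simple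
  exact (stabEquiv0 hk hkp).isSimpleGroup

end Cfsg.Agent.Helper9.Golay
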