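import Mathlib
import Cfsg.Prelude.Def_Sporadic_a
import Cfsg.Agent.Helper9.Golay.DodThree
import Cfsg.Agent.Helper9.Golay.M12Trans
import Cfsg.Agent.Helper9.Golay.TblGroup
import Cfsg.Agent.Helper9.Golay.SextKThm

set_option autoImplicit false

/-!
The stabilizer of the standard dodecad and of three of its points: its 72 elements by their tables
(generated data and checks).
-/

namespace Cfsg.Agent.Helper9.Golay

open Cfsg
open scoped Pointwise

def m9Prog : List (ℕ × ℕ) := [(0, 1), (0, 3), (1, 4), (0, 5), (0, 6), (0, 7), (2, 8), (0, 0), (0, 10), (1, 11), (2, 12), (2, 13), (0, 14), (1, 15), (16, 16), (17, 17), (16, 18), (18, 18), (19, 20), (21, 9), (0, 4), (1, 23), (0, 24), (2, 25), (2, 26), (0, 27), (1, 28), (2, 1), (0, 30), (0, 31), (1, 32), (0, 33), (2, 34), (2, 35), (2, 36), (37, 37), (37, 38), (38, 38), (40, 40), (39, 41), (42, 29), (1, 10), (0, 44), (1, 3), (0, 46), (2, 0), (0, 48), (1, 49), (2, 50), (0, 51), (1, 52), (2, 53), (2, 54), (2, 55), (0, 23), (1, 57), (2, 58), (2, 59),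 (0, 60), (61, 61), (62, 62), (62, 63), (63, 63), (65, 65), (64, 66), (67, 56), (2, 44), (2, 69), (0, 70), (2, 71), (0, 12), (2, 73), (0, 74), (2, 75), (2, 76), (2, 77), (0, 78), (72, 72), (80, 80), (72, 81), (81, 81), (82, 83), (84, 79), (2, 45), (0, 86), (2, 87), (2, 88), (2, 89), (2, 90), (0, 2), (0, 92), (2, 93), (2, 94), (2, 95), (0, 96), (1, 97), (0, 98), (99, 99), (100, 100), (101, 101), (100, 102), (103, 91), (0, 93), (1, 105), (0, 106), (0, 107), (0, 108), (1, 109), (2, 110), (0, 47), (0, 112), (0, 113), (1, 114), (115, 115), (115, 116), (117, 111), (68, 68), (118, 68), (85, 85), (121, 121), (122, 122), (121, 123), (124, 120), (85, 68), (68, 22), (104, 127), (22, 43), (129, 129), (130, 130), (131, 131), (129, 132), (133, 128), (68, 85), (22, 135), (136, 125), (126, 119), (138, 138), (138, 139), (139, 139), (140, 141), (142, 137), (119, 134), (134, 134), (145, 145), (134, 146), (147, 144), (134, 119), (136, 149), (149, 149), (151, 151), (149, 152), (153, 150), (154, 154), (148, 148),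 (148, 156), (157, 155), (148, 143), (154, 159), (156, 160), (158, 158), (161, 158), (158, 161), (161, 161), (158, 162), (161, 162), (158, 163), (161, 163), (158, 164), (161, 164), (158, 165), (161, 165), (161, 166), (158, 167), (161, 167), (158, 168), (161, 168), (158, 169), (161, 169), (158, 170), (161, 170), (158, 171), (161, 171), (158, 172), (161, 172), (158, 173), (158, 174), (161, 174), (158, 175), (161, 175), (158, 176), (161, 176), (158, 177), (161, 177), (158, 178), (161, 178), (158, 179), (161, 179), (158, 180), (161, 181), (158, 182), (161, 182), (158, 183), (161, 183), (158, 184), (161, 184), (158, 185), (161, 185), (158, 186), (161, 186), (158, 187), (161, 187), (158, 188), (161, 188), (158, 189), (161, 189), (158, 190), (161, 190), (158, 191), (161, 191), (158, 192), (161, 192), (158, 193), (161, 194), (158, 195), (161, 196), (158, 197), (161, 197), (158, 198)]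

def m9Idx : List ℕ := [100000, 165, 185, 162, 176, 222, 212, 206, 190, 205, 170, 197, 216, 226, 179, 219, 229, 182, 192, 201, 208, 172, 166, 158, 188, 203, 199, 210, 168, 194, 228, 181, 218, 180, 227, 217, 209, 200, 173, 167, 161, 193, 177, 186, 223, 163, 174, 214, 164, 175, 224, 187, 184, 221, 171, 207, 198, 202, 191, 213, 220, 230, 225, 215, 178, 183, 196, 211, 169, 204, 195, 189]

def m9N : List (List ℕ) := [[0, 1, 2, 3, 4, 5, 6, 7, 8, 9, 10, 11, 12, 13, 14, 15, 16, 17, 18, 19, 20, 21, 22, 23], [0, 1, 2, 3, 7, 16, 9, 10, 13, 11, 4, 6, 12, 14, 8, 21, 18, 19, 5, 20, 17, 23, 22, 15], [0, 1, 2, 3, 10, 18, 11, 4, 14, 6, 7, 9, 12, 8, 13, 23, 5, 20, 16, 17, 19, 15, 22, 21], [0, 12, 2, 3, 8, 16, 10, 13, 9, 4, 14, 7, 22, 11, 6, 15, 18, 20, 5, 17, 19, 21, 1, 23], [0, 12, 2, 3, 13, 18, 4, 14, 11, 7, 8, 10, 22, 6, 9, 21, 5, 17, 16, 19, 20, 23, 1, 15], [0, 12, 2, 3, 14, 5, 7, 8, 6, 10, 13, 4, 22, 9, 11, 23, 16, 19, 18, 20, 17, 15, 1, 21], [0, 22, 2, 3, 6, 16, 13, 9, 10, 14, 11, 8, 1, 4, 7, 23, 18,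 17, 5, 19, 20, 15, 12, 21], [0, 22, 2, 3, 9, 18, 14, 11, 4, 8, 6, 13, 1, 7, 10, 15, 5, 19, 16, 20, 17, 21, 12, 23], [0, 22, 2, 3, 11, 5, 8, 6, 7, 13, 9, 14, 1, 10, 4, 21, 16, 20, 18, 17, 19, 23, 12, 15]]

def m9Tabs : List (List ℕ) := certTabs1 m9Prog

theorem goodT_m9 : GoodT M24 m9Tabs := goodT_std m9Prog M24 stepPerm_mem

/-- the tables of all the elements. -/
def m9All : List (List ℕ) := m9Idx.map (fun j => m9Tabs.getD j idT)

theorem m9All_length : m9All.length = 72 := by decide +kernel

theorem m9All_nodup : m9All.Nodup := by decide +kernel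

theorem m9All_ok : m9All.all (fun t => genOK [0, 2, 3] [dod0] t) = true := by decide +kernel

theorem m9N_length : m9N.length = 9 := by decide +kernel

theorem m9N_nodup : m9N.Nodup := by decide +kernel

theorem m9N_id : idT ∈ m9N := by decide +kernel

theorem m9N_sub : ∀ t ∈ m9N, t ∈ m9All := by decide +kernel

theorem m9N_mul : ∀ a ∈ m9N, ∀ b ∈ m9N, mulT a b ∈ m9N := by decide +kernel

theorem m9N_cube : ∀ a ∈ m9N, powT a 3 = idT := by decide +kernel

theorem m9N_all9 : m9All.all (fun a => !(powT a 9 == idT) || m9N.contains a) = true := by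
  decide +kernel

theorem m9_inv : m9All.all (fun a => m9All.all (fun b => !(powT a 2 == idT) ||
    !(powT b 2 == idT) || a == idT || b == idT || powT (mulT a b) 3 == idT)) = true := by
  decide +kernel

theorem m9_no8 : m9All.all (fun a => !(powT a 8 == idT) || powT a 4 == idT) = true := by
  decide +kernel

end Cfsg.Agent.Helper9.Golay
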