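import Mathlib
import Cfsg.Prelude.Def_Sporadic_a
import Cfsg.Agent.Helper9.Golay.M9Data
import Cfsg.Agent.Helper9.Grp72

set_option autoImplicit false

/-!
The stabilizer of a dodecad and of three of its points: a group of order 72 with a normal
elementary abelian Sylow 3-subgroup and quaternion Sylow 2-subgroups.
-/

namespace Cfsg.Agent.Helper9.Golay

open Cfsg
open scoped Pointwise

/-- the stabilizer of a set of points and of three points. -/
abbrev stab4 (d : Finset GolayPt) (p q r : GolayPt) : Subgroup ↥M24 :=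
  MulAction.stabilizer ↥M24 d ⊓ MulAction.stabilizer ↥M24 p ⊓ MulAction.stabilizer ↥M24 q ⊓
    MulAction.stabilizer ↥M24 r

theorem mem_stab4 {d : Finset GolayPt} {p q r : GolayPt} (x : ↥M24) :
    x ∈ stab4 d p q r ↔ (x : Equiv.Perm GolayPt) • d = d ∧ (x : Equiv.Perm GolayPt) p = p ∧
      (x : Equiv.Perm GolayPt) q = q ∧ (x : Equiv.Perm GolayPt) r = r := by
  rw [Subgroup.mem_inf, Subgroup.mem_inf, Subgroup.mem_inf, MulAction.mem_stabilizer_iff,
    MulAction.mem_stabilizer_iff, MulAction.mem_stabilizer_iff, MulAction.mem_stabilizer_iff,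
    and_assoc, and_assoc]
  rfl

theorem m9_pts : idxPtN 0 ∈ suppM dod0 ∧ idxPtN 2 ∈ suppM dod0 ∧ idxPtN 3 ∈ suppM dod0 ∧
    idxPtN 0 ≠ idxPtN 2 ∧ idxPtN 0 ≠ idxPtN 3 ∧ idxPtN 2 ≠ idxPtN 3 := by
  refine ⟨?_, ?_, ?_, ?_, ?_, ?_⟩
  · rw [mem_suppM, ptIdx_idxPtN (by norm_num)]; decide
  · rw [mem_suppM, ptIdx_idxPtN (by norm_num)]; decide
  · rw [mem_suppM, ptIdx_idxPtN (by norm_num)]; decide
  · intro h
    exact absurd (idxPtN_injOn (by norm_num) (by norm_num) h) (by norm_num)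
  · intro h
    exact absurd (idxPtN_injOn (by norm_num) (by norm_num) h) (by norm_num)
  · intro h
    exact absurd (idxPtN_injOn (by norm_num) (by norm_num) h) (by norm_num)

/-- the standard group of order 72. -/
abbrev m9H : Subgroup ↥M24 := stab4 (suppM dod0) (idxPtN 0) (idxPtN 2) (idxPtN 3)

theorem card_m9H : Nat.card ↥m9H = 72 :=
  card_three_stab dod0_mem m9_pts.1 m9_pts.2.1 m9_pts.2.2.1 m9_pts.2.2.2.1 m9_pts.2.2.2.2.1
    m9_pts.2.2.2.2.2

theorem m9_real : ∀ t ∈ m9All, ∃ g : ↥M24, g ∈ m9H ∧ IsTbl (g : Equiv.Perm GolayPt) t := by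
  intro t ht
  have hok := List.all_eq_true.mp m9All_ok t ht
  unfold m9All at ht
  rw [List.mem_map] at ht
  obtain ⟨j, -, rfl⟩ := ht
  obtain ⟨σ, hσ, hσt⟩ := goodT_m9.getD j
  obtain ⟨-, h2, h3⟩ := mem_KOf.mp (genOK_sound hσ hσt hok)
  exact ⟨⟨σ, hσ⟩, (mem_stab4 _).mpr ⟨h3 dod0 (by simp), h2 0 (by simp), h2 2 (by simp),
    h2 3 (by simp)⟩, hσt⟩

theorem m9_enum (g : ↥M24) (hg : g ∈ m9H) : ∃ t ∈ m9All, IsTbl (g : Equiv.Perm GolayPt) t := by
  classical
  let A : Set (Equiv.Perm GolayPt) := {x | x ∈ M24 ∧ x • suppM dod0 = suppM dod0 ∧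
    x (idxPtN 0) = idxPtN 0 ∧ x (idxPtN 2) = idxPtN 2 ∧ x (idxPtN 3) = idxPtN 3}
  let B : Set (Equiv.Perm GolayPt) := {x | x ∈ A ∧ ∃ t ∈ m9All, IsTbl x t}
  have hA : A.ncard = 72 := by
    rw [← card_m9H, ← Nat.card_coe_set_eq]
    apply Nat.card_congr
    exact
      { toFun := fun x => ⟨⟨x.1, x.2.1⟩, (mem_stab4 _).mpr x.2.2⟩
        invFun := fun y => ⟨y.1.1, y.1.2, (mem_stab4 _).mp y.2⟩
        left_inv := fun _ => rfl
        right_inv := fun _ => rfl }
  have hB : B.ncard = 72 := by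
    rw [← m9All_length]
    apply ncard_eq_of_tables m9All_nodup
    · intro x hx
      exact hx.2
    · intro t ht
      obtain ⟨x, hx, hxt⟩ := m9_real t ht
      exact ⟨x.1, ⟨⟨x.2, (mem_stab4 _).mp hx⟩, t, ht, hxt⟩, hxt⟩
  have hBA : B = A := by
    apply Set.eq_of_subset_of_ncard_le (fun x hx => hx.1) (by rw [hA, hB]) (Set.toFinite _)
  have hgA : (g : Equiv.Perm GolayPt) ∈ A := ⟨g.2, (mem_stab4 _).mp hg⟩
  rw [← hBA] at hgA
  exact hgA.2

theorem pow_eq_one_iff_tbl {g : Equiv.Perm GolayPt} {t : List ℕ} (ht : IsTbl g t) (n : ℕ) :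
    g ^ n = 1 ↔ powT t n = idT := by
  constructor
  · intro h
    have h1 := ht.pow n
    rw [h] at h1
    rw [tbl_eq_tblOf h1, tbl_eq_tblOf isTbl_one]
  · intro h
    have h1 := ht.pow n
    rw [h] at h1
    exact h1.eq_of_eq isTbl_one

theorem m9_ext {x y : ↥m9H}
    (h : ((x : ↥M24) : Equiv.Perm GolayPt) = ((y : ↥M24) : Equiv.Perm GolayPt)) : x = y :=
  Subtype.ext (Subtype.ext h)

theorem m9_pow_iff (x : ↥m9H) (n : ℕ) :
    x ^ n = 1 ↔ (((x : ↥M24) : Equiv.Perm GolayPt)) ^ n = 1 := by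
  constructor
  · intro h
    have := congrArg (fun z : ↥m9H => ((z : ↥M24) : Equiv.Perm GolayPt)) h
    simpa using this
  · intro h
    apply m9_ext
    simpa using h

/-- the subgroup of order 9. -/
def m9NSub : Subgroup ↥m9H where
  carrier := {x | ∃ t ∈ m9N, IsTbl ((x : ↥M24) : Equiv.Perm GolayPt) t}
  mul_mem' := by
    rintro a b ⟨s, hs, has⟩ ⟨t, ht, hbt⟩
    exact ⟨mulT s t, m9N_mul s hs t ht, has.mul hbt⟩
  one_mem' := ⟨idT, m9N_id, isTbl_one⟩
  inv_mem' := by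
    rintro a ⟨s, hs, has⟩
    have h3 : (((a : ↥M24) : Equiv.Perm GolayPt)) ^ 3 = 1 :=
      (pow_eq_one_iff_tbl has 3).mpr (m9N_cube s hs)
    have h4 : (((a : ↥M24) : Equiv.Perm GolayPt))⁻¹ = ((a : ↥M24) : Equiv.Perm GolayPt) *
        ((a : ↥M24) : Equiv.Perm GolayPt) := by
      apply inv_eq_of_mul_eq_one_right
      rw [← pow_three]
      exact h3
    refine ⟨mulT s s, m9N_mul s hs s hs, ?_⟩
    change IsTbl (((a : ↥M24) : Equiv.Perm GolayPt))⁻¹ _
    rw [h4]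
    exact has.mul has

theorem m9N_real : ∀ t ∈ m9N, ∃ x : ↥m9H, x ∈ m9NSub ∧
    IsTbl ((x : ↥M24) : Equiv.Perm GolayPt) t := by
  intro t ht
  obtain ⟨g, hg, hgt⟩ := m9_real t (m9N_sub t ht)
  exact ⟨⟨g, hg⟩, ⟨t, ht, hgt⟩, hgt⟩

theorem card_m9NSub : Nat.card ↥m9NSub = 9 := by
  rw [← m9N_length]
  have hmem : ∀ x : ↥m9NSub, tblOf (((x : ↥m9H) : ↥M24) : Equiv.Perm GolayPt) ∈ m9N := by
    intro x
    obtain ⟨t, ht, hxt⟩ := x.2
    rw [← tbl_eq_tblOf hxt]
    exact ht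
  have e : ↥m9NSub ≃ {t // t ∈ m9N} :=
    { toFun := fun x => ⟨tblOf (((x : ↥m9H) : ↥M24) : Equiv.Perm GolayPt), hmem x⟩
      invFun := fun t => ⟨Classical.choose (m9N_real t.1 t.2),
        (Classical.choose_spec (m9N_real t.1 t.2)).1⟩
      left_inv := by
        intro x
        apply Subtype.ext
        apply m9_ext
        have h := (Classical.choose_spec (m9N_real _ (hmem x))).2
        exact h.eq_of_eq (isTbl_tblOf _)
      right_inv := by
        intro t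
        apply Subtype.ext
        have h := (Classical.choose_spec (m9N_real t.1 t.2)).2
        exact (tbl_eq_tblOf h).symm }
  rw [Nat.card_congr e, Nat.card_congr (List.Nodup.getEquiv m9N m9N_nodup).symm,
    Nat.card_eq_fintype_card, Fintype.card_fin]

theorem is72_m9H : Cfsg.Agent.Helper9.Is72 ↥m9H where
  card := card_m9H
  exN := by
    refine ⟨m9NSub, card_m9NSub, ?_, ?_⟩
    · rintro x ⟨s, hs, hxs⟩
      rw [m9_pow_iff]
      exact (pow_eq_one_iff_tbl hxs 3).mpr (m9N_cube s hs)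
    · intro x hx
      obtain ⟨a, ha, hxa⟩ := m9_enum x.1 x.2
      have h9 := (pow_eq_one_iff_tbl hxa 9).mp ((m9_pow_iff x 9).mp hx)
      have hchk := List.all_eq_true.mp m9N_all9 a ha
      rw [h9] at hchk
      simp only [beq_self_eq_true, Bool.not_true, Bool.false_or, List.contains_iff_mem] at hchk
      exact ⟨a, hchk, hxa⟩
  inv := by
    intro x y hx1 hy1 hx2 hy2
    obtain ⟨a, ha, hxa⟩ := m9_enum x.1 x.2
    obtain ⟨b, hb, hyb⟩ := m9_enum y.1 y.2
    have ha2 := (pow_eq_one_iff_tbl hxa 2).mp ((m9_pow_iff x 2).mp hx2)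
    have hb2 := (pow_eq_one_iff_tbl hyb 2).mp ((m9_pow_iff y 2).mp hy2)
    have ha1 : (a == idT) = false := by
      rw [beq_eq_false_iff_ne]
      intro h
      apply hx1
      apply m9_ext
      rw [h] at hxa
      exact hxa.eq_of_eq isTbl_one
    have hb1 : (b == idT) = false := by
      rw [beq_eq_false_iff_ne]
      intro h
      apply hy1
      apply m9_ext
      rw [h] at hyb
      exact hyb.eq_of_eq isTbl_one
    have hchk := List.all_eq_true.mp (List.all_eq_true.mp m9_inv a ha) b hb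
    rw [ha2, hb2, ha1, hb1] at hchk
    simp only [beq_self_eq_true, Bool.not_true, Bool.false_or, beq_iff_eq] at hchk
    rw [m9_pow_iff]
    exact (pow_eq_one_iff_tbl (hxa.mul hyb) 3).mpr hchk
  no8 := by
    intro x hx
    obtain ⟨a, ha, hxa⟩ := m9_enum x.1 x.2
    have h8 := (pow_eq_one_iff_tbl hxa 8).mp ((m9_pow_iff x 8).mp hx)
    have hchk := List.all_eq_true.mp m9_no8 a ha
    rw [h8] at hchk
    simp only [beq_self_eq_true, Bool.not_true, Bool.false_or, beq_iff_eq] at hchk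
    rw [m9_pow_iff]
    exact (pow_eq_one_iff_tbl hxa 4).mpr hchk

/-- conjugation by an element of the group between the stabilizers. -/
def stab4Conj (k : ↥M24) (d : Finset GolayPt) (p q r : GolayPt) :
    ↥(stab4 d p q r) ≃* ↥(stab4 ((k : Equiv.Perm GolayPt) • d) ((k : Equiv.Perm GolayPt) p)
      ((k : Equiv.Perm GolayPt) q) ((k : Equiv.Perm GolayPt) r)) where
  toFun x := ⟨k * x * k⁻¹, (mem_stab4 _).mpr (by
    obtain ⟨h1, h2, h3, h4⟩ := (mem_stab4 _).mp x.2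
    refine ⟨?_, ?_, ?_, ?_⟩
    · change ((k : Equiv.Perm GolayPt) * ((x : ↥M24) : Equiv.Perm GolayPt) *
        ((k : Equiv.Perm GolayPt))⁻¹) • ((k : Equiv.Perm GolayPt) • d) = _
      rw [mul_smul, mul_smul, inv_smul_smul, h1]
    · change ((k : Equiv.Perm GolayPt) * ((x : ↥M24) : Equiv.Perm GolayPt) *
        ((k : Equiv.Perm GolayPt))⁻¹) ((k : Equiv.Perm GolayPt) p) = _
      simp [h2]
    · change ((k : Equiv.Perm GolayPt) * ((x : ↥M24) : Equiv.Perm GolayPt) *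
        ((k : Equiv.Perm GolayPt))⁻¹) ((k : Equiv.Perm GolayPt) q) = _
      simp [h3]
    · change ((k : Equiv.Perm GolayPt) * ((x : ↥M24) : Equiv.Perm GolayPt) *
        ((k : Equiv.Perm GolayPt))⁻¹) ((k : Equiv.Perm GolayPt) r) = _
      simp [h4])⟩
  invFun y := ⟨k⁻¹ * y * k, (mem_stab4 _).mpr (by
    obtain ⟨h1, h2, h3, h4⟩ := (mem_stab4 _).mp y.2
    refine ⟨?_, ?_, ?_, ?_⟩
    · change (((k : Equiv.Perm GolayPt))⁻¹ * ((y : ↥M24) : Equiv.Perm GolayPt) *
        (k : Equiv.Perm GolayPt)) • d = _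
      rw [mul_smul, mul_smul, h1, inv_smul_smul]
    · change (((k : Equiv.Perm GolayPt))⁻¹ * ((y : ↥M24) : Equiv.Perm GolayPt) *
        (k : Equiv.Perm GolayPt)) p = _
      simp [h2]
    · change (((k : Equiv.Perm GolayPt))⁻¹ * ((y : ↥M24) : Equiv.Perm GolayPt) *
        (k : Equiv.Perm GolayPt)) q = _
      simp [h3]
    · change (((k : Equiv.Perm GolayPt))⁻¹ * ((y : ↥M24) : Equiv.Perm GolayPt) *
        (k : Equiv.Perm GolayPt)) r = _
      simp [h4])⟩
  left_inv x := by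
    apply Subtype.ext
    change k⁻¹ * (k * (x : ↥M24) * k⁻¹) * k = x
    group
  right_inv y := by
    apply Subtype.ext
    change k * (k⁻¹ * (y : ↥M24) * k) * k⁻¹ = y
    group
  map_mul' x y := by
    apply Subtype.ext
    change k * ((x : ↥M24) * (y : ↥M24)) * k⁻¹ = (k * (x : ↥M24) * k⁻¹) * (k * (y : ↥M24) * k⁻¹)
    group

theorem is72_stab4 {d : Finset GolayPt} (hd : d ∈ dodecads) {p q r : GolayPt} (hp : p ∈ d)
    (hq : q ∈ d) (hr : r ∈ d) (hpq : p ≠ q) (hpr : p ≠ r) (hqr : q ≠ r) :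
    Cfsg.Agent.Helper9.Is72 ↥(stab4 d p q r) := by
  obtain ⟨h, hh, rfl⟩ := exists_smul_dod0 hd
  obtain ⟨m1, m2, m3, n1, n2, n3⟩ := m9_pts
  have hinj : ∀ {a b : GolayPt}, a ≠ b → h a ≠ h b := fun hab e => hab (h.injective e)
  obtain ⟨g, hg, hgd, hgx⟩ := dodecad_k_trans (d := h • suppM dod0) (smul_mem_wordsOfWeight hh dod0_mem)
    (by norm_num : 3 ≤ 5)
    (emb3 (h (idxPtN 0)) (h (idxPtN 2)) (h (idxPtN 3)) (nodup3 (hinj n1) (hinj n2) (hinj n3)))
    (emb3 p q r (nodup3 hpq hpr hqr))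
    (by
      intro i
      fin_cases i
      · exact Finset.smul_mem_smul_finset m1
      · exact Finset.smul_mem_smul_finset m2
      · exact Finset.smul_mem_smul_finset m3)
    (by
      intro i
      fin_cases i
      · exact hp
      · exact hq
      · exact hr)
  have e0 : g (h (idxPtN 0)) = p := hgx 0
  have e2 : g (h (idxPtN 2)) = q := hgx 1
  have e3 : g (h (idxPtN 3)) = r := hgx 2
  have key := is72_m9H.of_equiv (stab4Conj ⟨g * h, M24.mul_mem hg hh⟩ (suppM dod0) (idxPtN 0)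
    (idxPtN 2) (idxPtN 3))
  have d1 : (g * h) • suppM dod0 = h • suppM dod0 := by rw [mul_smul, hgd]
  change Cfsg.Agent.Helper9.Is72 ↥(stab4 ((g * h) • suppM dod0) ((g * h) (idxPtN 0))
    ((g * h) (idxPtN 2)) ((g * h) (idxPtN 3))) at key
  rw [d1, Equiv.Perm.mul_apply, Equiv.Perm.mul_apply, Equiv.Perm.mul_apply, e0, e2, e3] at key
  exact key

end Cfsg.Agent.Helper9.Golay
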