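import Mathlib
import Cfsg.Prelude.Def_Sporadic_a
import Cfsg.Agent.Helper9.Golay.SixSets
import Cfsg.Agent.Helper9.Golay.Chain2
import Cfsg.Agent.Helper9.Golay.OctJoint

set_option autoImplicit false

/-!
Two octads meeting in two points: the joint stabilizer acts faithfully on the six other points
of the first octad.
-/

namespace Cfsg.Agent.Helper9.Golay

open Cfsg
open scoped Pointwise

theorem preserves_of_smul_suppM {σ : Equiv.Perm GolayPt} {t : List ℕ} {m : ℕ} (ht : IsTbl σ t)
    (h : σ • suppM m = suppM m) : preservesMask t m = true := by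
  unfold preservesMask
  rw [List.all_eq_true]
  intro i hi
  rw [List.mem_range] at hi
  rw [beq_iff_eq]
  have h1 : idxPtN i ∈ suppM m ↔ σ (idxPtN i) ∈ suppM m := by
    conv_rhs => rw [← h]
    exact (Finset.smul_mem_smul_finset_iff σ).symm
  rw [mem_suppM, mem_suppM, ← ht.2, ptIdx_idxPtN hi] at h1
  exact Bool.eq_iff_iff.mpr h1

/-- six points of an octad in standard form. -/
theorem six_in_octad (e : Fin 6 ↪ GolayPt) {o : Finset GolayPt} (ho : o ∈ octads)
    (he : ∀ i, e i ∈ o) :
    ∃ k ∈ M24, (∀ i, k (stdPt 7 i) = e i) ∧ k • suppM 5279 = o := by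
  classical
  obtain ⟨k, hk, hke⟩ := six_std' e
  rcases hke with ⟨-, h2⟩ | ⟨h1, -⟩
  · refine ⟨k, hk, h2, ?_⟩
    have h1 : k • suppM 5279 ∈ octads := smul_mem_wordsOfWeight hk oct5279_mem
    refine octads_unique h1 ho ((Finset.univ : Finset (Fin 5)).map (Fin.castSuccEmb.trans e))
      (by simp) ?_ ?_
    · intro p hp
      rw [Finset.mem_map] at hp
      obtain ⟨i, -, rfl⟩ := hp
      change e i.castSucc ∈ _
      rw [← h2 i.castSucc, stdPt_castSucc]
      apply Finset.smul_mem_smul_finset
      rw [mem_suppM_idx' (by omega)]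
      have := i.2
      interval_cases (i : ℕ) <;> decide
    · intro p hp
      rw [Finset.mem_map] at hp
      obtain ⟨i, -, rfl⟩ := hp
      exact he _
  · exact absurd ⟨o, ho, he⟩ h1

theorem K6_oct2_check : (codeList.filter (fun m => popc m == 8)).all (fun m =>
    !(popc (m &&& 5279) == 2 && ([0, 1, 2, 3, 4, 7] : List ℕ).all (fun j => !m.testBit j)) ||
      cert6.all (fun e => (m24Tables.getD e.2 idT) == idT ||
        !preservesMask (m24Tables.getD e.2 idT) m)) = true := by decide +kernel

theorem K6_oct2 {g : Equiv.Perm GolayPt} (hg : g ∈ K6) {m : ℕ} (hm : m ∈ codeList)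
    (h8 : popc m = 8) (h2 : popc (m &&& 5279) = 2)
    (h0 : ∀ j ∈ ([0, 1, 2, 3, 4, 7] : List ℕ), m.testBit j = false)
    (hfix : g • suppM m = suppM m) : g = 1 := by
  obtain ⟨e, he, ht⟩ := K6_table hg
  have hc := List.all_eq_true.mp K6_oct2_check m (List.mem_filter.mpr ⟨hm, by simpa using h8⟩)
  have hcond : (popc (m &&& 5279) == 2 &&
      ([0, 1, 2, 3, 4, 7] : List ℕ).all (fun j => !m.testBit j)) = true := by
    rw [Bool.and_eq_true, beq_iff_eq, List.all_eq_true]
    refine ⟨h2, ?_⟩
    intro j hj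
    rw [h0 j hj]
    rfl
  rw [hcond] at hc
  simp only [Bool.not_true, Bool.false_or] at hc
  have hc' := List.all_eq_true.mp hc e he
  rw [Bool.or_eq_true] at hc'
  rcases hc' with h | h
  · rw [beq_iff_eq] at h
    rw [h] at ht
    exact ht.eq_of_eq isTbl_one
  · rw [preserves_of_smul_suppM ht hfix] at h
    exact absurd h (by simp)

/-- an element stabilizing two octads meeting in two points and fixing the six other points of
the first is trivial. -/
theorem oct2_faithful {o o' : Finset GolayPt} (ho : o ∈ octads) (ho' : o' ∈ octads)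
    (h2 : (o ∩ o').card = 2) {g : Equiv.Perm GolayPt} (hg : g ∈ M24) (hgo' : g • o' = o')
    (hfix : ∀ p ∈ o \ o', g p = p) : g = 1 := by
  classical
  have hE : (o \ o').card = 6 := by
    have := Finset.card_sdiff_add_card_inter o o'
    have h8 : o.card = 8 := ho.2
    omega
  let e0 : Fin 6 ≃ ↥(o \ o') := ((o \ o').equivFinOfCardEq hE).symm
  let e : Fin 6 ↪ GolayPt := e0.toEmbedding.trans (Function.Embedding.subtype _)
  have heE : ∀ i, e i ∈ o \ o' := fun i => (e0 i).2
  obtain ⟨k, hk, hke, hko⟩ := six_in_octad e ho (fun i => (Finset.mem_sdiff.mp (heE i)).1)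
  have hkinv : ∀ i, k⁻¹ (e i) = stdPt 7 i := by
    intro i
    rw [← hke i]
    simp only [Equiv.Perm.coe_inv, Equiv.symm_apply_apply]
  have hg' : k⁻¹ * g * k ∈ K6 := by
    rw [mem_K6_iff]
    refine ⟨M24.mul_mem (M24.mul_mem (M24.inv_mem hk) hg) hk, ?_⟩
    intro i
    rw [Equiv.Perm.mul_apply, Equiv.Perm.mul_apply, hke i, hfix _ (heE i), hkinv]
  have ho'' : k⁻¹ • o' ∈ octads := smul_mem_wordsOfWeight (M24.inv_mem hk) ho'
  obtain ⟨m, hm, hm8, hms⟩ := (mem_octads_iff _).mp ho''
  have hfix' : (k⁻¹ * g * k) • suppM m = suppM m := by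
    rw [hms, mul_smul, mul_smul, smul_inv_smul, hgo']
  have hp2 : popc (m &&& 5279) = 2 := by
    rw [← card_suppM, ← suppM_inter, hms]
    have : suppM 5279 = k⁻¹ • o := by rw [← hko, inv_smul_smul]
    rw [this, ← Finset.smul_finset_inter, card_smul_finset, Finset.inter_comm]
    exact h2
  have hnot : ∀ i, stdPt 7 i ∉ suppM m := by
    intro i hcon
    rw [hms, Finset.mem_inv_smul_finset_iff] at hcon
    change k (stdPt 7 i) ∈ o' at hcon
    rw [hke i] at hcon
    exact (Finset.mem_sdiff.mp (heE i)).2 hcon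
  have h0 : ∀ j ∈ ([0, 1, 2, 3, 4, 7] : List ℕ), m.testBit j = false := by
    intro j hj
    simp only [List.mem_cons, List.not_mem_nil, or_false] at hj
    rcases hj with rfl | rfl | rfl | rfl | rfl | rfl
    · have := hnot 0
      rw [show stdPt 7 0 = idxPtN 0 from rfl, mem_suppM_idx' (by norm_num)] at this
      simpa using this
    · have := hnot 1
      rw [show stdPt 7 1 = idxPtN 1 from rfl, mem_suppM_idx' (by norm_num)] at this
      simpa using this
    · have := hnot 2
      rw [show stdPt 7 2 = idxPtN 2 from rfl, mem_suppM_idx' (by norm_num)] at this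
      simpa using this
    · have := hnot 3
      rw [show stdPt 7 3 = idxPtN 3 from rfl, mem_suppM_idx' (by norm_num)] at this
      simpa using this
    · have := hnot 4
      rw [show stdPt 7 4 = idxPtN 4 from rfl, mem_suppM_idx' (by norm_num)] at this
      simpa using this
    · have := hnot 5
      rw [show stdPt 7 5 = idxPtN 7 from rfl, mem_suppM_idx' (by norm_num)] at this
      simpa using this
  have h1 := K6_oct2 hg' hm hm8 hp2 h0 hfix'
  have : g = k * (k⁻¹ * g * k) * k⁻¹ := by group
  rw [this, h1]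
  group

theorem card_joint_oct2 {o o' : Finset GolayPt} (ho : o ∈ octads) (ho' : o' ∈ octads)
    (h2 : (o ∩ o').card = 2) :
    Nat.card ↥(MulAction.stabilizer M24 o ⊓ MulAction.stabilizer M24 o') = 720 := by
  have h := joint_stab_octads ho ho'
  rw [h2, ncard_inter_octad 2 ho, oct_oct_2] at h
  omega

end Cfsg.Agent.Helper9.Golay
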