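import Mathlib
import Cfsg.Prelude
import Cfsg.Agent.Helper9.Out.M24Out
import Cfsg.Agent.Helper9.Golay.OctTwo
import Cfsg.Agent.Helper9.Golay.N7Data

set_option autoImplicit false

/-!
The centralizer of an element of order 7 of the Mathieu group on 24 points has 42 elements: an
element commuting with it is determined by the images of the three fixed points and of a point in
each of the three cycles, and it permutes the three invariant octads.
-/

namespace Cfsg.Agent.Helper9.N7

open Cfsg Cfsg.Agent.Helper9.Golay Cfsg.Agent.Helper9.OutM24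
open scoped Pointwise

/-! ### image masks -/

/-- the mask of the images of the points of a list under a table. -/
def imgM (t : List ℕ) (pts : List ℕ) : ℕ :=
  pts.foldr (fun x acc => 2 ^ (t.getD x 0) ||| acc) 0

theorem imgM_congr {t t' : List ℕ} {pts : List ℕ}
    (h : ∀ x ∈ pts, t.getD x 0 = t'.getD x 0) : imgM t pts = imgM t' pts := by
  induction pts with
  | nil => rfl
  | cons x pts ih =>
    unfold imgM
    rw [List.foldr_cons, List.foldr_cons, h x (List.mem_cons_self)]
    congr 1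
    exact ih (fun y hy => h y (List.mem_cons_of_mem _ hy))

theorem idT_getD {x : ℕ} (hx : x < 24) : idT.getD x 0 = x := by
  unfold idT
  rw [List.getD_eq_getElem _ _ (by simpa using hx), List.getElem_range]

theorem suppM_imgM {σ : Equiv.Perm GolayPt} {t : List ℕ} (ht : IsTbl σ t) (pts : List ℕ)
    (hpts : ∀ x ∈ pts, x < 24) : suppM (imgM t pts) = σ • suppM (imgM idT pts) := by
  induction pts with
  | nil =>
    change suppM 0 = σ • suppM 0
    rw [suppM_zero, Finset.smul_finset_empty]
  | cons x pts ih =>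
    have hx : x < 24 := hpts x List.mem_cons_self
    have ih' := ih (fun y hy => hpts y (List.mem_cons_of_mem _ hy))
    have hlt : t.getD x 0 < 24 := by
      have := ht.2 (idxPtN x)
      rw [ptIdx_idxPtN hx] at this
      rw [this]
      exact ptIdx_lt _
    change suppM (2 ^ (t.getD x 0) ||| imgM t pts) = σ • suppM (2 ^ (idT.getD x 0) ||| imgM idT pts)
    rw [← suppM_or, ← suppM_or, Finset.smul_finset_union, ih', suppM_two_pow hlt, idT_getD hx,
      suppM_two_pow hx, Finset.smul_finset_singleton, ← ht.apply_idx hx]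
    rfl

theorem imgM_lt {σ : Equiv.Perm GolayPt} {t : List ℕ} (ht : IsTbl σ t) (pts : List ℕ)
    (hpts : ∀ x ∈ pts, x < 24) : imgM t pts < 2 ^ 24 := by
  induction pts with
  | nil => change 0 < 2 ^ 24; norm_num
  | cons x pts ih =>
    have hx : x < 24 := hpts x List.mem_cons_self
    have ih' := ih (fun y hy => hpts y (List.mem_cons_of_mem _ hy))
    have hlt : t.getD x 0 < 24 := by
      have := ht.2 (idxPtN x)
      rw [ptIdx_idxPtN hx] at this
      rw [this]
      exact ptIdx_lt _
    change 2 ^ (t.getD x 0) ||| imgM t pts < 2 ^ 24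
    exact Nat.or_lt_two_pow (Nat.pow_lt_pow_right (by norm_num) hlt) ih'

theorem octL_isOctF : octL.all isOctF = true := by decide +kernel

/-- the image of an octad under an element of the group is an octad. -/
theorem oct_filter {σ : Equiv.Perm GolayPt} (hσ : σ ∈ M24) {t : List ℕ} (ht : IsTbl σ t)
    (pts : List ℕ) (hpts : ∀ x ∈ pts, x < 24) (hO : imgM idT pts ∈ octL) :
    isOctF (imgM t pts) = true := by
  rw [← octL_eq, List.mem_filter, beq_iff_eq] at hO
  have h1 : suppM (imgM idT pts) ∈ octads :=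
    (mem_octads_iff _).mpr ⟨_, hO.1, hO.2, rfl⟩
  have h2 : σ • suppM (imgM idT pts) ∈ octads := smul_mem_wordsOfWeight hσ h1
  rw [← suppM_imgM ht pts hpts] at h2
  obtain ⟨m, hm, hp, hs⟩ := (mem_octads_iff _).mp h2
  have hmm : m = imgM t pts := suppM_inj (codeList_lt hm) (imgM_lt ht pts hpts) hs
  rw [← hmm]
  have : m ∈ octL := by
    rw [← octL_eq, List.mem_filter, beq_iff_eq]
    exact ⟨hm, hp⟩
  exact List.all_eq_true.mp octL_isOctF m this

/-! ### the table of an element commuting with the element of order 7 -/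

/-- the table determined by the images of the representatives of the cycles. -/
def candT (v : List ℕ) : List ℕ :=
  (List.range 24).map
    (fun x => (sPow.getD (iOf.getD x 0) []).getD (v.getD (jOf.getD x 0) 0) 0)

theorem candT_getD (v : List ℕ) {x : ℕ} (hx : x < 24) :
    (candT v).getD x 0 =
      (sPow.getD (iOf.getD x 0) []).getD (v.getD (jOf.getD x 0) 0) 0 := by
  unfold candT
  rw [List.getD_eq_getElem _ _ (by simpa using hx), List.getElem_map, List.getElem_range]

/-- the images of the representatives of the cycles. -/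
def vals (g : Equiv.Perm GolayPt) : List ℕ := bs.map (fun b => ptIdx (g (idxPtN b)))

theorem vals_getD (g : Equiv.Perm GolayPt) {j : ℕ} (hj : j < 6) :
    (vals g).getD j 0 = ptIdx (g (idxPtN (bs.getD j 0))) := by
  interval_cases j <;> rfl

theorem data_ok : ∀ x < 24, iOf.getD x 0 < 7 ∧ jOf.getD x 0 < 6 ∧
    (sPow.getD (iOf.getD x 0) []).getD (bs.getD (jOf.getD x 0) 0) 0 = x ∧
    bs.getD (jOf.getD x 0) 0 < 24 := by decide

theorem sPow_ok : ∀ i < 7, powT o24ST i = sPow.getD i [] := by decide +kernel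

theorem sPow_tbl {i : ℕ} (hi : i < 7) : IsTbl (sP ^ i) (sPow.getD i []) := by
  rw [← sPow_ok i hi]
  exact sP_tbl.pow i

theorem tbl_of_comm (g : Equiv.Perm GolayPt) (hg : g * sP = sP * g) :
    tblOf g = candT (vals g) := by
  apply List.ext_getElem
  · simp [tblOf, candT]
  · intro x h1 h2
    have hx : x < 24 := by simpa [tblOf] using h1
    obtain ⟨hi, hj, hx', hb⟩ := data_ok x hx
    rw [← List.getD_eq_getElem _ 0 h1, ← List.getD_eq_getElem _ 0 h2, candT_getD _ hx,
      vals_getD g hj]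
    have h3 := (isTbl_tblOf g).2 (idxPtN x)
    rw [ptIdx_idxPtN hx] at h3
    rw [h3]
    have h4 : idxPtN x = (sP ^ (iOf.getD x 0)) (idxPtN (bs.getD (jOf.getD x 0) 0)) := by
      rw [(sPow_tbl hi).apply_idx hb, hx']
    have hc : g * sP ^ (iOf.getD x 0) = sP ^ (iOf.getD x 0) * g :=
      (Commute.pow_right (show Commute g sP from hg) _)
    rw [h4, ← Equiv.Perm.mul_apply, hc, Equiv.Perm.mul_apply]
    exact ((sPow_tbl hi).2 _).symm

/-! ### the candidates -/

/-- the image of a point under the table determined by `v`. -/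
def candF (v : List ℕ) (x : ℕ) : ℕ :=
  (sPow.getD (iOf.getD x 0) []).getD (v.getD (jOf.getD x 0) 0) 0

def imgF (f : ℕ → ℕ) (pts : List ℕ) : ℕ :=
  pts.foldr (fun x acc => 2 ^ (f x) ||| acc) 0

theorem imgF_congr {f f' : ℕ → ℕ} {pts : List ℕ} (h : ∀ x ∈ pts, f x = f' x) :
    imgF f pts = imgF f' pts := by
  induction pts with
  | nil => rfl
  | cons x pts ih =>
    unfold imgF
    rw [List.foldr_cons, List.foldr_cons, h x (List.mem_cons_self)]
    congr 1
    exact ih (fun y hy => h y (List.mem_cons_of_mem _ hy))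

def pts4 : List ℕ := [0, 22, 5, 1, 9, 17, 15, 16]

def pts5 : List ℕ := [1, 2, 9, 11, 13, 15, 16, 18]

def pts6 : List ℕ := [0, 1, 2, 3, 4, 7, 10, 12]

def st3 : List (List ℕ) :=
  ([8, 13, 16].flatMap fun a => [8, 13, 16].flatMap fun b => [8, 13, 16].map fun c =>
    [a, b, c]).filter (fun v => decide v.Nodup)

/-- one more image, subject to a condition. -/
def ext (l : List (List ℕ)) (pts : List ℕ) : List (List ℕ) :=
  (l.flatMap fun v => (List.range 24).map fun y => v ++ [y]).filter
    (fun v => isOctF (imgF (candF v) pts))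

theorem mem_ext {l : List (List ℕ)} {pts : List ℕ} {v : List ℕ} {y : ℕ} (hv : v ∈ l)
    (hy : y < 24) (hP : isOctF (imgF (candF (v ++ [y])) pts) = true) : v ++ [y] ∈ ext l pts := by
  unfold ext
  rw [List.mem_filter]
  refine ⟨?_, hP⟩
  rw [List.mem_flatMap]
  refine ⟨v, hv, ?_⟩
  rw [List.mem_map]
  exact ⟨y, List.mem_range.mpr hy, rfl⟩

def st4 : List (List ℕ) := ext st3 pts4

def st5 : List (List ℕ) := ext st4 pts5

def st6 : List (List ℕ) := ext st5 pts6

theorem pts_ok : (∀ x ∈ pts4, x < 24 ∧ jOf.getD x 0 < 4) ∧ (∀ x ∈ pts5, x < 24 ∧ jOf.getD x 0 < 5) ∧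
    (∀ x ∈ pts6, x < 24 ∧ jOf.getD x 0 < 6) ∧ imgM idT pts4 ∈ octL ∧ imgM idT pts5 ∈ octL ∧
    imgM idT pts6 ∈ octL := by decide +kernel

theorem fix_ok : ∀ i < 24, o24ST.getD i 0 = i → i ∈ [8, 13, 16] := by decide

theorem fix_ok' : ∀ i ∈ [8, 13, 16], i < 24 ∧ o24ST.getD i 0 = i := by decide

theorem fixed_mem (g : Equiv.Perm GolayPt) (hg : g * sP = sP * g) {i : ℕ}
    (hi : i ∈ [8, 13, 16]) : ptIdx (g (idxPtN i)) ∈ [8, 13, 16] := by
  obtain ⟨hi24, hfix⟩ := fix_ok' i hi
  apply fix_ok _ (ptIdx_lt _)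
  rw [sP_tbl.2, ← Equiv.Perm.mul_apply, ← hg, Equiv.Perm.mul_apply, sP_tbl.apply_idx hi24, hfix]

theorem val_inj (g : Equiv.Perm GolayPt) {i j : ℕ} (hi : i < 24) (hj : j < 24) (hij : i ≠ j) :
    ptIdx (g (idxPtN i)) ≠ ptIdx (g (idxPtN j)) := by
  intro h
  have h1 : g (idxPtN i) = g (idxPtN j) := by
    rw [← idxPtN_ptIdx (g (idxPtN i)), h, idxPtN_ptIdx]
  exact hij (idxPtN_injOn hi hj (g.injective h1))

/-- the test of an octad is passed by the images under an element of the group. -/
theorem chk_ok (g : Equiv.Perm GolayPt) (hgM : g ∈ M24) (hg : g * sP = sP * g) (L : ℕ)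
    (pts : List ℕ) (hpts : ∀ x ∈ pts, x < 24 ∧ jOf.getD x 0 < L) (hO : imgM idT pts ∈ octL)
    (v : List ℕ) (hv : ∀ j < L, v.getD j 0 = (vals g).getD j 0) :
    isOctF (imgF (candF v) pts) = true := by
  have ht : IsTbl g (candT (vals g)) := by
    rw [← tbl_of_comm g hg]
    exact isTbl_tblOf g
  have e : imgF (candF v) pts = imgM (candT (vals g)) pts := by
    apply imgF_congr
    intro x hx
    rw [candT_getD _ (hpts x hx).1]
    unfold candF
    rw [hv _ (hpts x hx).2]
  rw [e]
  exact oct_filter hgM ht pts (fun x hx => (hpts x hx).1) hO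

theorem prefix_getD (a b c d e f : ℕ) :
    (∀ j < 4, [a, b, c, d].getD j 0 = [a, b, c, d, e, f].getD j 0) ∧
    (∀ j < 5, [a, b, c, d, e].getD j 0 = [a, b, c, d, e, f].getD j 0) := by
  constructor
  · intro j hj
    interval_cases j <;> rfl
  · intro j hj
    interval_cases j <;> rfl

theorem vals_mem (g : Equiv.Perm GolayPt) (hgM : g ∈ M24) (hg : g * sP = sP * g) :
    vals g ∈ st6 := by
  have e : vals g = [ptIdx (g (idxPtN 8)), ptIdx (g (idxPtN 13)), ptIdx (g (idxPtN 16)),
    ptIdx (g (idxPtN 0)), ptIdx (g (idxPtN 2)), ptIdx (g (idxPtN 3))] := rfl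
  obtain ⟨hp4, hp5, hp6, ho4, ho5, ho6⟩ := pts_ok
  have h3 : [ptIdx (g (idxPtN 8)), ptIdx (g (idxPtN 13)), ptIdx (g (idxPtN 16))] ∈ st3 := by
    unfold st3
    rw [List.mem_filter]
    constructor
    · simp only [List.mem_flatMap, List.mem_map]
      exact ⟨_, fixed_mem g hg (by decide), _, fixed_mem g hg (by decide), _,
        fixed_mem g hg (by decide), rfl⟩
    · rw [decide_eq_true_iff]
      simp only [List.nodup_cons, List.mem_cons, List.not_mem_nil, or_false, not_or,
        List.nodup_nil, and_true, not_false_eq_true]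
      exact ⟨⟨val_inj g (by norm_num) (by norm_num) (by norm_num),
        val_inj g (by norm_num) (by norm_num) (by norm_num)⟩,
        val_inj g (by norm_num) (by norm_num) (by norm_num)⟩
  have h4 : [ptIdx (g (idxPtN 8)), ptIdx (g (idxPtN 13)), ptIdx (g (idxPtN 16)),
      ptIdx (g (idxPtN 0))] ∈ st4 := by
    apply mem_ext (v := [ptIdx (g (idxPtN 8)), ptIdx (g (idxPtN 13)), ptIdx (g (idxPtN 16))])
      h3 (ptIdx_lt _)
    apply chk_ok g hgM hg 4 pts4 hp4 ho4
    rw [e]
    exact (prefix_getD _ _ _ _ _ _).1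
  have h5 : [ptIdx (g (idxPtN 8)), ptIdx (g (idxPtN 13)), ptIdx (g (idxPtN 16)),
      ptIdx (g (idxPtN 0)), ptIdx (g (idxPtN 2))] ∈ st5 := by
    apply mem_ext (v := [ptIdx (g (idxPtN 8)), ptIdx (g (idxPtN 13)), ptIdx (g (idxPtN 16)),
      ptIdx (g (idxPtN 0))]) h4 (ptIdx_lt _)
    apply chk_ok g hgM hg 5 pts5 hp5 ho5
    rw [e]
    exact (prefix_getD _ _ _ _ _ _).2
  rw [e]
  apply mem_ext (v := [ptIdx (g (idxPtN 8)), ptIdx (g (idxPtN 13)), ptIdx (g (idxPtN 16)),
      ptIdx (g (idxPtN 0)), ptIdx (g (idxPtN 2))]) h5 (ptIdx_lt _)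
  exact chk_ok g hgM hg 6 pts6 hp6 ho6 _ (fun j _ => rfl)

/-! ### the final list -/

theorem st6_sub : (st6.map candT).all (fun t => n7L.contains t) = true := by decide +kernel

theorem tbl_mem_n7L (g : Equiv.Perm GolayPt) (hgM : g ∈ M24) (hg : g * sP = sP * g) :
    tblOf g ∈ n7L := by
  have h1 : tblOf g ∈ st6.map candT := by
    rw [tbl_of_comm g hg]
    exact List.mem_map_of_mem (vals_mem g hgM hg)
  have := List.all_eq_true.mp st6_sub _ h1
  exact List.contains_iff_mem.mp this

/-! ### the 42 elements -/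

def n7Tabs : List (List ℕ) := runSLP n7Prog stdTabs

theorem goodT_n7 : GoodT M24 n7Tabs := goodT_std n7Prog M24 stepPerm_mem

theorem n7L_eq : n7Idx.map (fun i => n7Tabs.getD i idT) = n7L := by decide +kernel

theorem n7L_comm : n7L.all (fun t => mulT t o24ST == mulT o24ST t) = true := by decide +kernel

theorem n7L_nodup : n7L.Nodup := by decide +kernel

theorem n7L_real : ∀ t ∈ n7L, ∃ σ ∈ M24, IsTbl σ t ∧ σ * sP = sP * σ := by
  intro t ht
  have ht' := ht
  rw [← n7L_eq, List.mem_map] at ht'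
  obtain ⟨i, -, rfl⟩ := ht'
  obtain ⟨σ, hσ, hT⟩ := goodT_n7.getD i
  refine ⟨σ, hσ, hT, ?_⟩
  apply (hT.mul sP_tbl).eq_of_eq
  have := List.all_eq_true.mp n7L_comm _ ht
  rw [beq_iff_eq] at this
  rw [this]
  exact sP_tbl.mul hT

/-- the number of elements of a subgroup whose tables are those of a list. -/
theorem card_of_tables (H : Subgroup ↥M24) (L : List (List ℕ)) (hnd : L.Nodup)
    (h1 : ∀ g ∈ H, tblOf ((g : ↥M24) : Equiv.Perm GolayPt) ∈ L)
    (h2 : ∀ t ∈ L, ∃ g ∈ H, IsTbl ((g : ↥M24) : Equiv.Perm GolayPt) t) :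
    Nat.card H = L.length := by
  have e : ↥H ≃ {t // t ∈ L} :=
    { toFun := fun g => ⟨tblOf ((g : ↥M24) : Equiv.Perm GolayPt), h1 g.1 g.2⟩
      invFun := fun t => ⟨Classical.choose (h2 t.1 t.2), (Classical.choose_spec (h2 t.1 t.2)).1⟩
      left_inv := by
        intro g
        apply Subtype.ext
        apply Subtype.ext
        have h := (Classical.choose_spec (h2 _ (h1 g.1 g.2))).2
        exact h.eq_of_eq (isTbl_tblOf _)
      right_inv := by
        intro t
        apply Subtype.ext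
        have h := (Classical.choose_spec (h2 t.1 t.2)).2
        exact (tbl_eq_tblOf h).symm }
  rw [Nat.card_congr e, Nat.card_congr (List.Nodup.getEquiv L hnd).symm, Nat.card_eq_fintype_card,
    Fintype.card_fin]

/-- the subgroup generated by the element of order 7. -/
noncomputable def S0 : Subgroup ↥M24 := Subgroup.zpowers sG

theorem card_S0 : Nat.card S0 = 7 := by
  unfold S0
  rw [Nat.card_zpowers, order_sG]

theorem mem_cent_iff (g : ↥M24) :
    g ∈ Subgroup.centralizer (S0 : Set ↥M24) ↔ g * sG = sG * g := by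
  rw [Subgroup.mem_centralizer_iff]
  constructor
  · intro h
    exact (h sG (Subgroup.mem_zpowers sG)).symm
  · intro h x hx
    obtain ⟨k, rfl⟩ := Subgroup.mem_zpowers_iff.mp hx
    exact (Commute.zpow_left (show Commute sG g from h.symm) k)

theorem mem_cent_iff' (g : ↥M24) :
    g ∈ Subgroup.centralizer (S0 : Set ↥M24) ↔
      (g : Equiv.Perm GolayPt) * sP = sP * (g : Equiv.Perm GolayPt) := by
  rw [mem_cent_iff]
  constructor
  · intro h
    have := congrArg Subtype.val h
    exact this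
  · intro h
    exact Subtype.ext h

theorem card_cent : Nat.card (Subgroup.centralizer (S0 : Set ↥M24)) = 42 := by
  rw [card_of_tables _ n7L n7L_nodup]
  · rfl
  · intro g hg
    exact tbl_mem_n7L g.1 g.2 ((mem_cent_iff' g).mp hg)
  · intro t ht
    obtain ⟨σ, hσ, hT, hc⟩ := n7L_real t ht
    exact ⟨⟨σ, hσ⟩, (mem_cent_iff' _).mpr hc, hT⟩

theorem n7L_noncomm : mulT (n7L.getD 1 idT) (n7L.getD 2 idT) ≠
    mulT (n7L.getD 2 idT) (n7L.getD 1 idT) ∧ n7L.getD 1 idT ∈ n7L ∧ n7L.getD 2 idT ∈ n7L := by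
  decide +kernel

theorem cent_nonabelian : ∃ x ∈ Subgroup.centralizer (S0 : Set ↥M24),
    ∃ y ∈ Subgroup.centralizer (S0 : Set ↥M24), x * y ≠ y * x := by
  obtain ⟨hne, h1, h2⟩ := n7L_noncomm
  obtain ⟨σ, hσ, hT, hc⟩ := n7L_real _ h1
  obtain ⟨τ, hτ, hT', hc'⟩ := n7L_real _ h2
  refine ⟨⟨σ, hσ⟩, (mem_cent_iff' _).mpr hc, ⟨τ, hτ⟩, (mem_cent_iff' _).mpr hc', ?_⟩
  intro h
  apply hne
  have h' : σ * τ = τ * σ := congrArg Subtype.val h
  have e1 := tbl_eq_tblOf (hT.mul hT')
  have e2 := tbl_eq_tblOf (hT'.mul hT)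
  rw [e1, e2, h']

/-! ### the invariant trio -/

/-- the trio of the three octads left invariant by the element of order 7. -/
noncomputable def T0 : Finset (Finset GolayPt) :=
  {suppM 1070536, suppM 4424227, suppM 11282452}

theorem inv_octs_check :
    octL.all (fun m => !(preservesMask o24ST m) || invOcts.contains m) = true := by
  decide +kernel

theorem invOcts_ok : invOcts.all (fun m => octL.contains m && preservesMask o24ST m) = true := by
  decide +kernel

theorem mem_octads_of_octL {m : ℕ} (hm : m ∈ octL) : suppM m ∈ octads := by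
  rw [← octL_eq, List.mem_filter, beq_iff_eq] at hm
  exact (mem_octads_iff _).mpr ⟨m, hm.1, hm.2, rfl⟩

theorem T0_ok : ∀ o ∈ T0, o ∈ octads ∧ sP • o = o := by
  have key : ∀ m ∈ invOcts, suppM m ∈ octads ∧ sP • suppM m = suppM m := by
    intro m hm
    have := List.all_eq_true.mp invOcts_ok m hm
    rw [Bool.and_eq_true] at this
    exact ⟨mem_octads_of_octL (List.contains_iff_mem.mp this.1),
      smul_suppM_of_preserves sP_tbl this.2⟩
  intro o ho
  unfold T0 at ho
  simp only [Finset.mem_insert, Finset.mem_singleton] at ho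
  rcases ho with rfl | rfl | rfl
  · exact key _ (by decide)
  · exact key _ (by decide)
  · exact key _ (by decide)

theorem inv_octad {o : Finset GolayPt} (ho : o ∈ octads) (hs : sP • o = o) : o ∈ T0 := by
  obtain ⟨m, hm, hp, rfl⟩ := (mem_octads_iff o).mp ho
  have h1 := preserves_of_smul_suppM sP_tbl hs
  have hmL : m ∈ octL := by
    rw [← octL_eq, List.mem_filter, beq_iff_eq]
    exact ⟨hm, hp⟩
  have h2 := List.all_eq_true.mp inv_octs_check m hmL
  rw [h1] at h2
  have h3 : m ∈ invOcts := by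
    simpa using h2
  unfold invOcts at h3
  simp only [List.mem_cons, List.not_mem_nil, or_false] at h3
  unfold T0
  rcases h3 with rfl | rfl | rfl <;> simp

theorem T0_mem_trios : T0 ∈ trios := by
  have hlt : (1070536 : ℕ) < 2 ^ 24 ∧ (4424227 : ℕ) < 2 ^ 24 ∧ (11282452 : ℕ) < 2 ^ 24 := by
    norm_num
  have hd : ∀ a b : ℕ, a &&& b = 0 → Disjoint (suppM a) (suppM b) := by
    intro a b h
    rw [Finset.disjoint_iff_inter_eq_empty, suppM_inter, h, suppM_zero]
  have hne : ∀ a b : ℕ, a < 2 ^ 24 → b < 2 ^ 24 → a ≠ b → suppM a ≠ suppM b :=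
    fun a b ha hb hab h => hab (suppM_inj ha hb h)
  have h12 := hne _ _ hlt.1 hlt.2.1 (by decide)
  have h13 := hne _ _ hlt.1 hlt.2.2 (by decide)
  have h23 := hne _ _ hlt.2.1 hlt.2.2 (by decide)
  have d12 := hd 1070536 4424227 (by decide)
  have d13 := hd 1070536 11282452 (by decide)
  have d23 := hd 4424227 11282452 (by decide)
  refine ⟨?_, fun o ho => (T0_ok o ho).1, ?_⟩
  · unfold T0
    rw [Finset.card_eq_three]
    exact ⟨_, _, _, h12, h13, h23, rfl⟩
  · intro o ho o' ho' hoo'
    unfold T0 at ho ho'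
    simp only [Finset.mem_insert, Finset.mem_singleton] at ho ho'
    rcases ho with rfl | rfl | rfl <;> rcases ho' with rfl | rfl | rfl
    · exact absurd rfl hoo'
    · exact d12
    · exact d13
    · exact d12.symm
    · exact absurd rfl hoo'
    · exact d23
    · exact d13.symm
    · exact d23.symm
    · exact absurd rfl hoo'

theorem normalizer_trio (n : ↥M24) (hn : n ∈ Subgroup.normalizer (S0 : Set ↥M24)) :
    ((n : ↥M24) : Equiv.Perm GolayPt) • T0 = T0 := by
  have h1 : n⁻¹ * sG * n ∈ S0 := by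
    rw [Subgroup.mem_normalizer_iff.mp hn (n⁻¹ * sG * n)]
    have e : n * (n⁻¹ * sG * n) * n⁻¹ = sG := by group
    rw [e]
    exact Subgroup.mem_zpowers sG
  obtain ⟨k, hk⟩ := Subgroup.mem_zpowers_iff.mp h1
  have h2 : sG * n = n * sG ^ k := by
    rw [hk]
    group
  have h3 : sP * (n : Equiv.Perm GolayPt) = (n : Equiv.Perm GolayPt) * sP ^ k := by
    have := congrArg Subtype.val h2
    rw [Subgroup.coe_mul, Subgroup.coe_mul, Subgroup.coe_zpow] at this
    exact this
  have hsub : ((n : ↥M24) : Equiv.Perm GolayPt) • T0 ⊆ T0 := by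
    intro o ho
    obtain ⟨o', ho', rfl⟩ := Finset.mem_smul_finset.mp ho
    obtain ⟨hoct, hinv⟩ := T0_ok o' ho'
    apply inv_octad (smul_mem_wordsOfWeight n.2 hoct)
    rw [smul_smul, h3, mul_smul]
    congr 1
    have : ∀ z : ℤ, sP ^ z • o' = o' := by
      intro z
      have hz : sP ^ z ∈ MulAction.stabilizer (Equiv.Perm GolayPt) o' :=
        Subgroup.zpow_mem _ (MulAction.mem_stabilizer_iff.mpr hinv) z
      exact MulAction.mem_stabilizer_iff.mp hz
    exact this k
  exact Finset.eq_of_subset_of_card_le hsub (by rw [Finset.card_smul_finset])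

end Cfsg.Agent.Helper9.N7
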