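import Mathlib
import Cfsg.Prelude.Def_Sporadic_a
import Cfsg.Agent.Helper9.Golay.M24Simple
import Cfsg.Agent.Helper9.Golay.M24Trans

set_option autoImplicit false

/-!
The group of the length-24 code contains no transposition (it is simple, so all its elements are
even permutations).
-/

namespace Cfsg.Agent.Helper9.Golay

open Cfsg

theorem sign_eq_one_of_mem_M24 {g : Equiv.Perm GolayPt} (hg : g ∈ M24) :
    Equiv.Perm.sign g = 1 := by
  haveI := M24_simple
  let f : M24 →* ℤˣ := Equiv.Perm.sign.comp M24.subtype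
  rcases Subgroup.Normal.eq_bot_or_eq_top (inferInstance : f.ker.Normal) with h | h
  · exfalso
    have hinj : Function.Injective f := (MonoidHom.ker_eq_bot_iff f).1 h
    have h1 : Nat.card M24 ≤ Nat.card ℤˣ := Nat.card_le_card_of_injective f hinj
    rw [card_M24] at h1
    have h2 : Nat.card ℤˣ = 2 := by
      rw [Nat.card_eq_fintype_card]; rfl
    omega
  · have h1 : (⟨g, hg⟩ : M24) ∈ f.ker := by rw [h]; trivial
    rw [MonoidHom.mem_ker] at h1
    exact h1

theorem swap_not_mem_M24 (p q : GolayPt) (hpq : p ≠ q) : Equiv.swap p q ∉ M24 := by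
  intro hmem
  have h1 := sign_eq_one_of_mem_M24 hmem
  rw [Equiv.Perm.sign_swap hpq] at h1
  exact absurd h1 (by decide)

end Cfsg.Agent.Helper9.Golay
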