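import Mathlib
import Cfsg.Prelude.Def_Sporadic_a
import Cfsg.Agent.Helper9.Golay.Syl2Norm
import Cfsg.Agent.Helper9.Golay.Steiner

set_option autoImplicit false

/-!
Permutations of the 24 points that normalize a group of permutations given by a list of tables:
relations defined by the group are preserved, and a permutation that preserves a set of eight
points with a pairing and two blocks defined in this way has order dividing 8 on the set.
-/

namespace Cfsg.Agent.Helper9.Golay

open Cfsg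

theorem pinv_apply {X : Type*} (g : Equiv.Perm X) (x : X) : g⁻¹ (g x) = x :=
  g.symm_apply_apply x

theorem papply_inv {X : Type*} (g : Equiv.Perm X) (x : X) : g (g⁻¹ x) = x :=
  g.apply_symm_apply x

section rel

variable (SP : Subgroup (Equiv.Perm GolayPt))

/-- the second point is fixed by the stabilizer of the first. -/
def relF (a b : GolayPt) : Prop := ∀ h ∈ SP, h a = a → h b = b

/-- the squares of the stabilizer of the first point fix the second. -/
def relB (a b : GolayPt) : Prop := ∀ h ∈ SP, h a = a → h (h b) = b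

/-- the squares of the group fix the point. -/
def relU (a : GolayPt) : Prop := ∀ h ∈ SP, h (h a) = a

variable {SP} {g : Equiv.Perm GolayPt} (h1 : ∀ h ∈ SP, g * h * g⁻¹ ∈ SP)
  (h2 : ∀ h ∈ SP, g⁻¹ * h * g ∈ SP)

include h1 h2

theorem relF_conj (a b : GolayPt) : relF SP (g a) (g b) ↔ relF SP a b := by
  constructor
  · intro hall h hh hfa
    have h3 := hall _ (h1 h hh) (by
      show g (h (g⁻¹ (g a))) = g a
      rw [pinv_apply, hfa])
    have h4 : g (h (g⁻¹ (g b))) = g b := h3
    rw [pinv_apply] at h4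
    exact g.injective h4
  · intro hall h hh hfa
    have h3 := hall _ (h2 h hh) (by
      show g⁻¹ (h (g a)) = a
      rw [hfa, pinv_apply])
    have h4 : g⁻¹ (h (g b)) = b := h3
    have h5 := congrArg g h4
    rwa [papply_inv] at h5

theorem relB_conj (a b : GolayPt) : relB SP (g a) (g b) ↔ relB SP a b := by
  constructor
  · intro hall h hh hfa
    have h3 := hall _ (h1 h hh) (by
      show g (h (g⁻¹ (g a))) = g a
      rw [pinv_apply, hfa])
    have h4 : g (h (g⁻¹ (g (h (g⁻¹ (g b)))))) = g b := h3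
    rw [pinv_apply, pinv_apply] at h4
    exact g.injective h4
  · intro hall h hh hfa
    have h3 := hall _ (h2 h hh) (by
      show g⁻¹ (h (g a)) = a
      rw [hfa, pinv_apply])
    have h4 : g⁻¹ (h (g (g⁻¹ (h (g b))))) = b := h3
    rw [papply_inv] at h4
    have h5 := congrArg g h4
    rwa [papply_inv] at h5

theorem relU_conj (a : GolayPt) : relU SP (g a) ↔ relU SP a := by
  constructor
  · intro hall h hh
    have h3 := hall _ (h1 h hh)
    have h4 : g (h (g⁻¹ (g (h (g⁻¹ (g a)))))) = g a := h3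
    rw [pinv_apply, pinv_apply] at h4
    exact g.injective h4
  · intro hall h hh
    have h3 := hall _ (h2 h hh)
    have h4 : g⁻¹ (h (g (g⁻¹ (h (g a))))) = a := h3
    rw [papply_inv] at h4
    have h5 := congrArg g h4
    rwa [papply_inv] at h5

end rel

/-! ### the relations on the tables -/

def relFB (T : List (List ℕ)) (a b : ℕ) : Bool :=
  T.all (fun t => !(t.getD a 0 == a) || t.getD b 0 == b)

def relBB (T : List (List ℕ)) (a b : ℕ) : Bool :=
  T.all (fun t => !(t.getD a 0 == a) || t.getD (t.getD b 0) 0 == b)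

def relUB (T : List (List ℕ)) (a : ℕ) : Bool :=
  T.all (fun t => t.getD (t.getD a 0) 0 == a)

def closedB (T : List (List ℕ)) (O : List ℕ) : Bool :=
  T.all (fun t => O.all (fun i => O.contains (t.getD i 0)))

def transB (T : List (List ℕ)) (p0 : ℕ) (L : List ℕ) : Bool :=
  L.all (fun i => T.any (fun t => t.getD p0 0 == i))

theorem tbl_apply' {τ : Equiv.Perm GolayPt} {t : List ℕ} (h : IsTbl τ t) (p : GolayPt) :
    ptIdx (τ p) = t.getD (ptIdx p) 0 := (h.2 p).symm

section tables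

variable {SP : Subgroup (Equiv.Perm GolayPt)} {T : List (List ℕ)}
  (hT : ∀ h : Equiv.Perm GolayPt, h ∈ SP ↔ ∃ t ∈ T, IsTbl h t)
  (hTr : ∀ t ∈ T, ∃ σ : Equiv.Perm GolayPt, IsTbl σ t)

include hT

theorem closed_of {O : List ℕ} (h : closedB T O = true) :
    ∀ s ∈ SP, ∀ p, ptIdx p ∈ O → ptIdx (s p) ∈ O := by
  intro s hs p hp
  obtain ⟨t, ht, hst⟩ := (hT s).mp hs
  have h1 := List.all_eq_true.mp (List.all_eq_true.mp h t ht) (ptIdx p) hp
  rw [tbl_apply' hst]
  simpa using h1

include hTr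

theorem trans_of {p0 : ℕ} (hp0 : p0 < 24) {L : List ℕ} (h : transB T p0 L = true) :
    ∀ p, ptIdx p ∈ L → ∃ s ∈ SP, s (idxPtN p0) = p := by
  intro p hp
  have h1 := List.all_eq_true.mp h (ptIdx p) hp
  rw [List.any_eq_true] at h1
  obtain ⟨t, ht, hte⟩ := h1
  obtain ⟨σ, hσt⟩ := hTr t ht
  refine ⟨σ, (hT σ).mpr ⟨t, ht, hσt⟩, ?_⟩
  rw [hσt.apply_idx hp0]
  rw [beq_iff_eq] at hte
  rw [hte, idxPtN_ptIdx]

theorem relFB_iff (a b : GolayPt) : relFB T (ptIdx a) (ptIdx b) = true ↔ relF SP a b := by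
  unfold relFB relF
  rw [List.all_eq_true]
  constructor
  · intro hall s hs hfa
    obtain ⟨t, ht, hst⟩ := (hT s).mp hs
    have h4 := hall t ht
    have h5 : t.getD (ptIdx a) 0 = ptIdx a := by rw [← tbl_apply' hst, hfa]
    simp only [h5, beq_self_eq_true, Bool.not_true, Bool.false_or, beq_iff_eq] at h4
    apply ptIdx_injective
    rw [tbl_apply' hst, h4]
  · intro hall t ht
    obtain ⟨σ, hσt⟩ := hTr t ht
    have hmem : σ ∈ SP := (hT σ).mpr ⟨t, ht, hσt⟩
    by_cases hfa : t.getD (ptIdx a) 0 = ptIdx a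
    · have hσa : σ a = a := by
        apply ptIdx_injective
        rw [tbl_apply' hσt, hfa]
      have hσb : σ b = b := hall σ hmem hσa
      have : t.getD (ptIdx b) 0 = ptIdx b := by rw [← tbl_apply' hσt, hσb]
      rw [Bool.or_eq_true]
      right
      rw [beq_iff_eq]
      exact this
    · rw [Bool.or_eq_true]
      left
      rw [Bool.not_eq_true', beq_eq_false_iff_ne]
      exact hfa

theorem relBB_iff (a b : GolayPt) : relBB T (ptIdx a) (ptIdx b) = true ↔ relB SP a b := by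
  unfold relBB relB
  rw [List.all_eq_true]
  constructor
  · intro hall s hs hfa
    obtain ⟨t, ht, hst⟩ := (hT s).mp hs
    have h4 := hall t ht
    have h5 : t.getD (ptIdx a) 0 = ptIdx a := by rw [← tbl_apply' hst, hfa]
    simp only [h5, beq_self_eq_true, Bool.not_true, Bool.false_or, beq_iff_eq] at h4
    apply ptIdx_injective
    rw [tbl_apply' hst, tbl_apply' hst, h4]
  · intro hall t ht
    obtain ⟨σ, hσt⟩ := hTr t ht
    have hmem : σ ∈ SP := (hT σ).mpr ⟨t, ht, hσt⟩
    by_cases hfa : t.getD (ptIdx a) 0 = ptIdx a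
    · have hσa : σ a = a := by
        apply ptIdx_injective
        rw [tbl_apply' hσt, hfa]
      have hσb : σ (σ b) = b := hall σ hmem hσa
      have : t.getD (t.getD (ptIdx b) 0) 0 = ptIdx b := by
        rw [← tbl_apply' hσt, ← tbl_apply' hσt, hσb]
      rw [Bool.or_eq_true]
      right
      rw [beq_iff_eq]
      exact this
    · rw [Bool.or_eq_true]
      left
      rw [Bool.not_eq_true', beq_eq_false_iff_ne]
      exact hfa

theorem relUB_iff (a : GolayPt) : relUB T (ptIdx a) = true ↔ relU SP a := by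
  unfold relUB relU
  rw [List.all_eq_true]
  constructor
  · intro hall s hs
    obtain ⟨t, ht, hst⟩ := (hT s).mp hs
    have h4 := hall t ht
    rw [beq_iff_eq] at h4
    apply ptIdx_injective
    rw [tbl_apply' hst, tbl_apply' hst, h4]
  · intro hall t ht
    obtain ⟨σ, hσt⟩ := hTr t ht
    have hmem : σ ∈ SP := (hT σ).mpr ⟨t, ht, hσt⟩
    have hσb : σ (σ a) = a := hall σ hmem
    rw [beq_iff_eq, ← tbl_apply' hσt, ← tbl_apply' hσt, hσb]

end tables

/-! ### the order on the set of eight points -/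

section pow8

variable {SP : Subgroup (Equiv.Perm GolayPt)} {T : List (List ℕ)}
  (hT : ∀ h : Equiv.Perm GolayPt, h ∈ SP ↔ ∃ t ∈ T, IsTbl h t)
  (hTr : ∀ t ∈ T, ∃ σ : Equiv.Perm GolayPt, IsTbl σ t)
  {g : Equiv.Perm GolayPt} (h1 : ∀ h ∈ SP, g * h * g⁻¹ ∈ SP)
  (h2 : ∀ h ∈ SP, g⁻¹ * h * g ∈ SP)

include hT hTr h1 h2

theorem pow8_of_norm (O : List ℕ) (piI : ℕ → ℕ) (beI : ℕ → Bool)
    (hfacts : ∀ i ∈ O, piI i ∈ O ∧ piI (piI i) = i ∧ piI i ≠ i ∧ piI i < 24 ∧ i < 24)
    (hstruct : ∀ a ∈ O, ∀ b ∈ O, ∀ c ∈ O, beI a = beI b → beI a = beI c →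
      (c = a ∨ c = piI a) ∨ (c = b ∨ c = piI b) ∨ (b = a ∨ b = piI a))
    (hF : O.all (fun a => O.all (fun b => (b == a || b == piI a) ==
      (relFB T a b && relFB T b a))) = true)
    (Rβ : GolayPt → GolayPt → Prop) (hRc : ∀ a b, Rβ (g a) (g b) ↔ Rβ a b)
    (rβ : ℕ → ℕ → Bool) (hrβ : ∀ a b : GolayPt, rβ (ptIdx a) (ptIdx b) = true ↔ Rβ a b)
    (hB : O.all (fun a => O.all (fun b => (beI a == beI b) == rβ a b)) = true)
    (hgO : ∀ p, ptIdx p ∈ O → ptIdx (g p) ∈ O) :
    ∀ p, ptIdx p ∈ O → g (g (g (g (g (g (g (g p))))))) = p := by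
  have hptpi : ∀ a : GolayPt, ptIdx a ∈ O →
      ptIdx (idxPtN (piI (ptIdx a))) = piI (ptIdx a) :=
    fun a ha => ptIdx_idxPtN (hfacts _ ha).2.2.2.1
  -- the symmetric relation
  have hF' : ∀ a b : GolayPt, ptIdx a ∈ O → ptIdx b ∈ O →
      ((b = a ∨ b = idxPtN (piI (ptIdx a))) ↔ (relF SP a b ∧ relF SP b a)) := by
    intro a b ha hb
    have h3 := List.all_eq_true.mp (List.all_eq_true.mp hF (ptIdx a) ha) (ptIdx b) hb
    rw [beq_iff_eq] at h3
    rw [← relFB_iff hT hTr, ← relFB_iff hT hTr, ← Bool.and_eq_true, ← h3, Bool.or_eq_true,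
      beq_iff_eq, beq_iff_eq]
    constructor
    · rintro (h | h)
      · exact Or.inl (congrArg ptIdx h)
      · right
        rw [h, hptpi a ha]
    · rintro (h | h)
      · exact Or.inl (ptIdx_injective h)
      · right
        apply ptIdx_injective
        rw [h, hptpi a ha]
  have hB' : ∀ a b : GolayPt, ptIdx a ∈ O → ptIdx b ∈ O →
      (beI (ptIdx a) = beI (ptIdx b) ↔ Rβ a b) := by
    intro a b ha hb
    have h3 := List.all_eq_true.mp (List.all_eq_true.mp hB (ptIdx a) ha) (ptIdx b) hb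
    rw [beq_iff_eq] at h3
    rw [← hrβ, ← h3, beq_iff_eq]
  apply pow8_fix (fun p => g p) g.injective {p | ptIdx p ∈ O}
    (fun p => idxPtN (piI (ptIdx p))) (fun p => beI (ptIdx p))
  · intro a ha
    exact hgO a ha
  · intro a ha
    show idxPtN (piI (ptIdx (idxPtN (piI (ptIdx a))))) = a
    rw [hptpi a ha, (hfacts _ ha).2.1, idxPtN_ptIdx]
  · intro a ha
    show g (idxPtN (piI (ptIdx a))) = idxPtN (piI (ptIdx (g a)))
    have ha' : ptIdx (idxPtN (piI (ptIdx a))) ∈ O := by
      rw [hptpi a ha]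
      exact (hfacts _ ha).1
    have h3 := (hF' a _ ha ha').mp (Or.inr rfl)
    have h4 : relF SP (g a) (g (idxPtN (piI (ptIdx a)))) ∧
        relF SP (g (idxPtN (piI (ptIdx a)))) (g a) :=
      ⟨(relF_conj h1 h2 _ _).mpr h3.1, (relF_conj h1 h2 _ _).mpr h3.2⟩
    rcases (hF' (g a) _ (hgO a ha) (hgO _ ha')).mpr h4 with h5 | h5
    · exfalso
      have h6 := g.injective h5
      have h7 := congrArg ptIdx h6
      rw [hptpi a ha] at h7
      exact (hfacts _ ha).2.2.1 h7
    · exact h5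
  · intro a ha b hb
    show beI (ptIdx (g a)) = beI (ptIdx (g b)) ↔ beI (ptIdx a) = beI (ptIdx b)
    rw [hB' _ _ (hgO a ha) (hgO b hb), hB' _ _ ha hb]
    exact hRc a b
  · intro a ha b hb c hc e1 e2
    have := hstruct _ ha _ hb _ hc e1 e2
    rcases this with (h3 | h3) | (h3 | h3) | (h3 | h3)
    · exact Or.inl (Or.inl (ptIdx_injective h3))
    · refine Or.inl (Or.inr (ptIdx_injective ?_))
      rw [hptpi a ha]
      exact h3
    · exact Or.inr (Or.inl (Or.inl (ptIdx_injective h3)))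
    · refine Or.inr (Or.inl (Or.inr (ptIdx_injective ?_)))
      rw [hptpi b hb]
      exact h3
    · exact Or.inr (Or.inr (Or.inl (ptIdx_injective h3)))
    · refine Or.inr (Or.inr (Or.inr (ptIdx_injective ?_)))
      rw [hptpi a ha]
      exact h3

end pow8

/-! ### the set of eight points is preserved -/

section normO

variable {SP : Subgroup (Equiv.Perm GolayPt)}
  {g : Equiv.Perm GolayPt} (h1 : ∀ h ∈ SP, g * h * g⁻¹ ∈ SP)
  (h2 : ∀ h ∈ SP, g⁻¹ * h * g ∈ SP)

include h2 in
/-- the group preserves a set, is transitive on its complement, and the complement is larger. -/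
theorem normO_out {mO : ℕ} (hc : 2 * (suppM mO).card < 24)
    (hclosed : ∀ s ∈ SP, ∀ p ∈ suppM mO, s p ∈ suppM mO)
    (p0 : GolayPt) (htrans : ∀ p, p ∉ suppM mO → ∃ s ∈ SP, s p0 = p) :
    ∀ p ∈ suppM mO, g p ∈ suppM mO := by
  classical
  intro a ha
  by_contra hna
  have key : ∀ y : GolayPt, y ∉ suppM mO → g⁻¹ y ∈ suppM mO := by
    intro y hy
    obtain ⟨s1, hs1, e1⟩ := htrans _ hna
    obtain ⟨s2, hs2, e2⟩ := htrans _ hy
    have hmem : s2 * s1⁻¹ ∈ SP := SP.mul_mem hs2 (SP.inv_mem hs1)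
    have e3 : (s2 * s1⁻¹) (g a) = y := by
      show s2 (s1⁻¹ (g a)) = y
      rw [← e1, pinv_apply, e2]
    have h4 := hclosed _ (h2 _ hmem) a ha
    have e5 : (g⁻¹ * (s2 * s1⁻¹) * g) a = g⁻¹ y := by
      show g⁻¹ ((s2 * s1⁻¹) (g a)) = g⁻¹ y
      rw [e3]
    rwa [e5] at h4
  have hle : ((suppM mO)ᶜ).card ≤ (suppM mO).card := by
    apply Finset.card_le_card_of_injOn (fun y => g⁻¹ y)
    · intro y hy
      exact key y (by simpa using hy)
    · intro x _ y _ hxy
      exact (g⁻¹).injective hxy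
  rw [Finset.card_compl, card_golayPt] at hle
  omega

include h1 in
/-- the group is transitive on a set and preserves a smaller set, and the permutation maps the
first set into the union. -/
theorem normO_in {mO mR : ℕ} (hc : (suppM mR).card < (suppM mO).card)
    (hgA : ∀ p ∈ suppM mO, g p ∈ suppM mO ∨ g p ∈ suppM mR)
    (hclosed : ∀ s ∈ SP, ∀ p ∈ suppM mR, s p ∈ suppM mR)
    (p0 : GolayPt) (htrans : ∀ p ∈ suppM mO, ∃ s ∈ SP, s p0 = p) :
    ∀ p ∈ suppM mO, g p ∈ suppM mO := by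
  classical
  intro a ha
  by_contra hna
  have haR : g a ∈ suppM mR := (hgA a ha).resolve_left hna
  have key : ∀ b ∈ suppM mO, g b ∈ suppM mR := by
    intro b hb
    obtain ⟨s1, hs1, e1⟩ := htrans a ha
    obtain ⟨s2, hs2, e2⟩ := htrans b hb
    have hmem : s2 * s1⁻¹ ∈ SP := SP.mul_mem hs2 (SP.inv_mem hs1)
    have e3 : (s2 * s1⁻¹) a = b := by
      show s2 (s1⁻¹ a) = b
      rw [← e1, pinv_apply, e2]
    have h4 := hclosed _ (h1 _ hmem) _ haR
    have e5 : (g * (s2 * s1⁻¹) * g⁻¹) (g a) = g b := by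
      show g ((s2 * s1⁻¹) (g⁻¹ (g a))) = g b
      rw [pinv_apply, e3]
    rwa [e5] at h4
  have hle : (suppM mO).card ≤ (suppM mR).card := by
    apply Finset.card_le_card_of_injOn (fun y => g y)
    · intro y hy
      exact key y hy
    · intro x _ y _ hxy
      exact g.injective hxy
  omega

end normO

end Cfsg.Agent.Helper9.Golay
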