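import Mathlib
import Cfsg.Prelude.Def_Sporadic_a
import Cfsg.Prelude.Def_SporadicCombinatorics
import Cfsg.Agent.Helper9.Golay.FamThm
import Cfsg.Agent.Helper9.Golay.CertT2

set_option autoImplicit false

/-!
Certificates for the orbits of the stabilizer of a family of sets of points on a list of
families of sets of points.
-/

namespace Cfsg.Agent.Helper9.Golay

open Cfsg
open scoped Pointwise

/-! ### the joint invariant -/

/-- the joint invariant of two families of sets of points. -/
def cfam (A B : Finset (Finset GolayPt)) : ℕ := ∑ a ∈ A, ∑ b ∈ B, (a ∩ b).card ^ 2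

theorem cfam_smul (g : Equiv.Perm GolayPt) (A B : Finset (Finset GolayPt)) :
    cfam (g • A) (g • B) = cfam A B := by
  unfold cfam
  have hA : g • A = A.image (fun a => g • a) := rfl
  have hB : g • B = B.image (fun a => g • a) := rfl
  rw [hA, Finset.sum_image (fun x _ y _ h => MulAction.injective g h)]
  apply Finset.sum_congr rfl
  intro a _
  rw [hB, Finset.sum_image (fun x _ y _ h => MulAction.injective g h)]
  apply Finset.sum_congr rfl
  intro b _
  rw [← Finset.smul_finset_inter, Finset.card_smul_finset]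

def cfamBrow (a : ℕ) : List ℕ → ℕ
  | [] => 0
  | b :: l => Nat.add (Nat.pow (popcF (Nat.land a b)) 2) (cfamBrow a l)

/-- the computable version of the joint invariant. -/
def cfamB : List ℕ → List ℕ → ℕ
  | [], _ => 0
  | a :: l0, e => Nat.add (cfamBrow a e) (cfamB l0 e)

theorem cfamBrow_eq (a : ℕ) (e : List ℕ) :
    cfamBrow a e = (e.map (fun b => popcF (a &&& b) ^ 2)).sum := by
  induction e with
  | nil => rfl
  | cons b l ih =>
    rw [List.map_cons, List.sum_cons, ← ih]
    rfl

theorem cfamB_eq (e0 e : List ℕ) : cfamB e0 e = (e0.map (fun a => cfamBrow a e)).sum := by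
  induction e0 with
  | nil => rfl
  | cons a l ih =>
    rw [List.map_cons, List.sum_cons, ← ih]
    rfl

theorem nodup_map_suppM {e : List ℕ} (he : okMasks e = true) : (e.map suppM).Nodup := by
  apply List.Nodup.map_on _ (nodup_of_sortedB (okMasks_sorted he))
  intro a ha b hb hab
  exact suppM_inj (okMasks_lt he a ha) (okMasks_lt he b hb) hab

theorem cfam_famOf {e0 e : List ℕ} (h0 : okMasks e0 = true) (h : okMasks e = true) :
    cfam (famOf e0) (famOf e) = cfamB e0 e := by
  unfold cfam famOf
  rw [List.sum_toFinset _ (nodup_map_suppM h0), List.map_map, cfamB_eq]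
  congr 1
  apply List.map_congr_left
  intro a ha
  rw [Function.comp_apply, List.sum_toFinset _ (nodup_map_suppM h), List.map_map, cfamBrow_eq]
  congr 1
  apply List.map_congr_left
  intro b hb
  rw [Function.comp_apply, suppM_inter, card_suppM, popcF_eq]
  exact lt_of_le_of_lt Nat.and_le_left (okMasks_lt h0 a ha)

/-! ### entries of a packed list -/

def fldW (w N i : ℕ) : ℕ := Nat.land (Nat.shiftRight N (Nat.mul w i)) (Nat.sub (Nat.pow 2 w) 1)

def entryAt (w k Big i : ℕ) : List ℕ := blocksOf k (fldW w Big i)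

theorem unpackL_getD (w : ℕ) : ∀ (n N i : ℕ), i < n → (unpackL w n N).getD i 0 = fldW w N i := by
  intro n
  induction n with
  | zero => intro N i hi; omega
  | succ n ih =>
    intro N i hi
    cases i with
    | zero =>
      unfold unpackL fldW
      simp
    | succ i =>
      unfold unpackL
      rw [List.getD_cons_succ, ih (N >>> w) i (by omega)]
      unfold fldW
      change ((N >>> w) >>> (w * i)) &&& (2 ^ w - 1) = (N >>> (w * (i + 1))) &&& (2 ^ w - 1)
      rw [← Nat.shiftRight_add, Nat.mul_succ, Nat.add_comm]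

theorem length_unpackL (w : ℕ) : ∀ (n N : ℕ), (unpackL w n N).length = n := by
  intro n
  induction n with
  | zero => intro N; rfl
  | succ n ih => intro N; unfold unpackL; rw [List.length_cons, ih]

theorem entryAt_mem {w k n Big i : ℕ} (hi : i < n) :
    entryAt w k Big i ∈ (unpackL w n Big).map (blocksOf k) := by
  rw [List.mem_map]
  refine ⟨fldW w Big i, ?_, rfl⟩
  rw [← unpackL_getD w n Big i hi, List.getD_eq_getElem _ _ (by rw [length_unpackL]; exact hi)]
  exact List.getElem_mem _

theorem exists_entryAt {w k n Big : ℕ} {e : List ℕ} (he : e ∈ (unpackL w n Big).map (blocksOf k)) :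
    ∃ i < n, entryAt w k Big i = e := by
  rw [List.mem_map] at he
  obtain ⟨x, hx, rfl⟩ := he
  obtain ⟨i, hi, rfl⟩ := List.mem_iff_getElem.mp hx
  rw [length_unpackL] at hi
  refine ⟨i, hi, ?_⟩
  unfold entryAt
  rw [← unpackL_getD w n Big i hi, List.getD_eq_getElem _ _ (by rw [length_unpackL]; exact hi)]

/-! ### the certificate -/

/-- the elements of the group of the code that map a family to itself. -/
def stabIn (A0 : Finset (Finset GolayPt)) : Subgroup (Equiv.Perm GolayPt) :=
  M24 ⊓ MulAction.stabilizer (Equiv.Perm GolayPt) A0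

theorem mem_stabIn {A0 : Finset (Finset GolayPt)} {g : Equiv.Perm GolayPt} :
    g ∈ stabIn A0 ↔ g ∈ M24 ∧ g • A0 = A0 := by
  unfold stabIn
  rw [Subgroup.mem_inf]
  exact and_congr Iff.rfl MulAction.mem_stabilizer_iff

/-- the table of images maps the first list of masks onto the second. -/
def mapsB (T : ℕ) (ep ec : List ℕ) : Bool :=
  ep.all (fun m => ec.any (fun y => Nat.beq (pullF T m) y))

theorem mapsB_sound {σ : Equiv.Perm GolayPt} {t : List ℕ} {T : ℕ} (ht : IsTbl σ t)
    (hT : okPullTab t T = true) {ep ec : List ℕ} (hp : okMasks ep = true)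
    (hc : okMasks ec = true) (hlen : ep.length = ec.length) (h : mapsB T ep ec = true) :
    σ⁻¹ • famOf ep = famOf ec := by
  unfold mapsB at h
  simp only [List.all_eq_true, List.any_eq_true] at h
  apply Finset.eq_of_subset_of_card_le
  · intro b hb
    obtain ⟨b0, hb0, rfl⟩ := Finset.mem_smul_finset.mp hb
    obtain ⟨m, hm, rfl⟩ := mem_famOf.mp hb0
    obtain ⟨y, hy, hb⟩ := h m hm
    rw [← suppM_pullT ht, ← pullF_eq hT (okMasks_lt hp m hm), Nat.eq_of_beq_eq_true hb]
    exact mem_famOf.mpr ⟨y, hy, rfl⟩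
  · rw [Finset.card_smul_finset, card_famOf hp, card_famOf hc, hlen]

def rootBits : List ℕ → ℕ
  | [] => 0
  | r :: l => Nat.lor (Nat.shiftLeft 1 r) (rootBits l)

theorem testBit_rootBits {roots : List ℕ} {i : ℕ} (h : (rootBits roots).testBit i = true) :
    i ∈ roots := by
  induction roots with
  | nil => simp [rootBits] at h
  | cons r l ih =>
    unfold rootBits at h
    change ((1 <<< r) ||| rootBits l).testBit i = true at h
    rw [Nat.testBit_or, Bool.or_eq_true, Nat.one_shiftLeft, Nat.testBit_two_pow,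
      decide_eq_true_eq] at h
    rcases h with h | h
    · rw [h]; exact List.mem_cons_self
    · exact List.mem_cons_of_mem _ (ih h)

/-- run the steps of a certificate: a step `p + 4096 * (ch + 4096 * g)` says that the generator
number `g` maps the entry number `p`, already reached, to the entry number `ch`. -/
def runOrb (w k n Big : ℕ) (Ts : List ℕ) : List ℕ → ℕ → Bool
  | [], bits => Nat.beq bits (Nat.sub (Nat.pow 2 n) 1)
  | s :: rest, bits =>
    Nat.blt (Nat.land s 4095) n && Nat.blt (Nat.land (Nat.shiftRight s 12) 4095) n &&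
    Nat.blt (Nat.shiftRight s 24) Ts.length &&
    Nat.testBit bits (Nat.land s 4095) &&
    mapsB (Ts.getD (Nat.shiftRight s 24) 0) (entryAt w k Big (Nat.land s 4095))
      (entryAt w k Big (Nat.land (Nat.shiftRight s 12) 4095)) &&
    runOrb w k n Big Ts rest (Nat.lor bits (Nat.shiftLeft 1 (Nat.land (Nat.shiftRight s 12) 4095)))

/-- every entry whose bit is set is the image of a root entry. -/
def Reach (A0 : Finset (Finset GolayPt)) (w k n Big : ℕ) (roots : List ℕ) (bits : ℕ) : Prop :=
  ∀ i < n, bits.testBit i = true → ∃ r ∈ roots, ∃ h ∈ stabIn A0,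
    h • famOf (entryAt w k Big r) = famOf (entryAt w k Big i)

theorem runOrb_sound {A0 : Finset (Finset GolayPt)} {w k n Big : ℕ} {Ts : List ℕ}
    {roots : List ℕ}
    (hgen : ∀ g < Ts.length, ∃ σ ∈ stabIn A0, ∃ t, IsTbl σ t ∧ okPullTab t (Ts.getD g 0) = true)
    (hent : ∀ i < n, okMasks (entryAt w k Big i) = true ∧ (entryAt w k Big i).length = k) :
    ∀ (steps : List ℕ) (bits : ℕ), Reach A0 w k n Big roots bits →
      runOrb w k n Big Ts steps bits = true → Reach A0 w k n Big roots (2 ^ n - 1) := by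
  intro steps
  induction steps with
  | nil =>
    intro bits hR h
    unfold runOrb at h
    have := Nat.eq_of_beq_eq_true h
    change bits = 2 ^ n - 1 at this
    rw [← this]
    exact hR
  | cons s rest ih =>
    intro bits hR h
    unfold runOrb at h
    simp only [Bool.and_eq_true] at h
    obtain ⟨⟨⟨⟨⟨hp, hch⟩, hg⟩, hbit⟩, hmap⟩, hrest⟩ := h
    obtain ⟨p, hpdef⟩ : ∃ p, p = Nat.land s 4095 := ⟨_, rfl⟩
    obtain ⟨ch, hchdef⟩ : ∃ ch, ch = Nat.land (Nat.shiftRight s 12) 4095 := ⟨_, rfl⟩
    obtain ⟨g, hgdef⟩ : ∃ g, g = Nat.shiftRight s 24 := ⟨_, rfl⟩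
    rw [← hpdef] at hp hbit hmap
    rw [← hchdef] at hch hmap hrest
    rw [← hgdef] at hg hmap
    have hp' : p < n := by
      have := Nat.le_of_ble_eq_true hp
      omega
    have hch' : ch < n := by
      have := Nat.le_of_ble_eq_true hch
      omega
    have hg' : g < Ts.length := by
      have := Nat.le_of_ble_eq_true hg
      omega
    apply ih _ _ hrest
    intro i hi hbi
    change (bits ||| (1 <<< ch)).testBit i = true at hbi
    rw [Nat.testBit_or, Bool.or_eq_true, Nat.one_shiftLeft, Nat.testBit_two_pow,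
      decide_eq_true_eq] at hbi
    rcases hbi with hbi | hbi
    · exact hR i hi hbi
    · rw [← hbi]
      obtain ⟨r, hr, h0, hh0, hh0r⟩ := hR p hp' hbit
      obtain ⟨σ, hσ, t, ht, hT⟩ := hgen g hg'
      have hm := mapsB_sound ht hT (hent p hp').1 (hent ch hch').1
        ((hent p hp').2.trans (hent ch hch').2.symm) hmap
      refine ⟨r, hr, σ⁻¹ * h0, (stabIn A0).mul_mem ((stabIn A0).inv_mem hσ) hh0, ?_⟩
      rw [mul_smul, hh0r, hm]

/-- the whole check of a certificate. -/
def orbCertOK (e0 : List ℕ) (w k n Big : ℕ) (Ts roots steps : List ℕ) : Bool :=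
  roots.all (fun r => Nat.blt r n) &&
    decide ((roots.map (fun r => cfamB e0 (entryAt w k Big r))).Nodup) &&
    runOrb w k n Big Ts steps (rootBits roots)

theorem sep_of_cert {e0 : List ℕ} (he0 : okMasks e0 = true) {w k n Big : ℕ}
    {Ts roots steps : List ℕ}
    (hgen : ∀ g < Ts.length, ∃ σ ∈ stabIn (famOf e0), ∃ t, IsTbl σ t ∧
      okPullTab t (Ts.getD g 0) = true)
    (hent : ∀ i < n, okMasks (entryAt w k Big i) = true ∧ (entryAt w k Big i).length = k)
    (h : orbCertOK e0 w k n Big Ts roots steps = true) :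
    ∀ i < n, ∀ j < n, cfamB e0 (entryAt w k Big i) = cfamB e0 (entryAt w k Big j) →
      ∃ h ∈ stabIn (famOf e0), h • famOf (entryAt w k Big i) = famOf (entryAt w k Big j) := by
  unfold orbCertOK at h
  simp only [Bool.and_eq_true, List.all_eq_true, decide_eq_true_eq] at h
  obtain ⟨⟨hroots, hnd⟩, hrun⟩ := h
  have hroots' : ∀ r ∈ roots, r < n := by
    intro r hr
    have := Nat.le_of_ble_eq_true (hroots r hr)
    omega
  have h0 : Reach (famOf e0) w k n Big roots (rootBits roots) := by
    intro i _ hbit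
    exact ⟨i, testBit_rootBits hbit, 1, (stabIn _).one_mem, one_smul _ _⟩
  have hR := runOrb_sound hgen hent steps _ h0 hrun
  have hall : ∀ i < n, ∃ r ∈ roots, ∃ h ∈ stabIn (famOf e0),
      h • famOf (entryAt w k Big r) = famOf (entryAt w k Big i) := by
    intro i hi
    apply hR i hi
    rw [Nat.testBit_two_pow_sub_one, decide_eq_true_eq]
    exact hi
  have hval : ∀ i < n, ∀ r ∈ roots, ∀ h ∈ stabIn (famOf e0),
      h • famOf (entryAt w k Big r) = famOf (entryAt w k Big i) →
      cfamB e0 (entryAt w k Big r) = cfamB e0 (entryAt w k Big i) := by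
    intro i hi r hr h hh hhr
    rw [← cfam_famOf he0 (hent r (hroots' r hr)).1, ← cfam_famOf he0 (hent i hi).1, ← hhr]
    conv_rhs => rw [← (mem_stabIn.mp hh).2]
    rw [cfam_smul]
  intro i hi j hj hij
  obtain ⟨ri, hri, h1, hh1, e1⟩ := hall i hi
  obtain ⟨rj, hrj, h2, hh2, e2⟩ := hall j hj
  have hr : ri = rj := by
    apply List.inj_on_of_nodup_map hnd hri hrj
    rw [hval i hi ri hri h1 hh1 e1, hval j hj rj hrj h2 hh2 e2, hij]
  refine ⟨h2 * h1⁻¹, (stabIn _).mul_mem hh2 ((stabIn _).inv_mem hh1), ?_⟩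
  rw [mul_smul, ← e1, inv_smul_smul, hr, e2]

theorem gens_ok {ts : List (List ℕ)} {Ts : List ℕ} {e0 : List ℕ} (he0 : okMasks e0 = true)
    (hreal : ∀ t ∈ ts, ∃ σ ∈ M24, IsTbl σ t) (hlen : ts.length = Ts.length)
    (hpull : ((ts.zip Ts).all (fun p => okPullTab p.1 p.2 && invBF p.2 e0)) = true) :
    ∀ g < Ts.length, ∃ σ ∈ stabIn (famOf e0), ∃ t, IsTbl σ t ∧
      okPullTab t (Ts.getD g 0) = true := by
  intro g hg
  have hg' : g < ts.length := by rw [hlen]; exact hg
  have hz : g < (ts.zip Ts).length := by rw [List.length_zip]; omega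
  have hmem : (ts[g], Ts[g]) ∈ ts.zip Ts := by
    have := List.getElem_mem hz
    rw [List.getElem_zip] at this
    exact this
  have hp := List.all_eq_true.mp hpull _ hmem
  rw [Bool.and_eq_true] at hp
  obtain ⟨σ, hσ, ht⟩ := hreal ts[g] (List.getElem_mem hg')
  refine ⟨σ, mem_stabIn.mpr ⟨hσ, (invBF_iff ht hp.1 he0).mp hp.2⟩, ts[g], ht, ?_⟩
  rw [List.getD_eq_getElem _ _ hg]
  exact hp.1

end Cfsg.Agent.Helper9.Golay
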