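import Mathlib
import Cfsg.Prelude.Def_Sporadic_a

set_option autoImplicit false

/-!
Orbits of the stabilizer of an object on a set of other objects, from a joint invariant of the
pairs that separates the orbits for one standard object.
-/

namespace Cfsg.Agent.Helper9.Golay

open Cfsg
open scoped Pointwise

section

variable {α β : Type*} [MulAction (Equiv.Perm GolayPt) α] [MulAction (Equiv.Perm GolayPt) β]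

/-- the hypotheses on a joint invariant `c` of pairs. -/
structure PairData (𝒜 : Set α) (ℬ : Set β) (c : α → β → ℕ) (A0 : α) : Prop where
  invB : ∀ g ∈ M24, ∀ B ∈ ℬ, g • B ∈ ℬ
  invc : ∀ g ∈ M24, ∀ A B, c (g • A) (g • B) = c A B
  trans : ∀ A ∈ 𝒜, ∃ g ∈ M24, g • A0 = A
  sep : ∀ B ∈ ℬ, ∀ B' ∈ ℬ, c A0 B = c A0 B' → ∃ h ∈ M24, h • A0 = A0 ∧ h • B = B'

variable {𝒜 : Set α} {ℬ : Set β} {c : α → β → ℕ} {A0 : α}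

theorem PairData.c_inv (P : PairData 𝒜 ℬ c A0) {g : Equiv.Perm GolayPt} (hg : g ∈ M24) (A : α)
    (B : β) : c A (g • B) = c (g⁻¹ • A) B := by
  have := P.invc g⁻¹ (M24.inv_mem hg) A (g • B)
  rw [inv_smul_smul] at this
  exact this.symm

theorem PairData.orbit_eq (P : PairData 𝒜 ℬ c A0) {A : α} (hA : A ∈ 𝒜) (H : Subgroup ↥M24)
    (hH : ∀ g : ↥M24, g ∈ H ↔ ((g : ↥M24) : Equiv.Perm GolayPt) • A = A) {B : β} (hB : B ∈ ℬ) :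
    MulAction.orbit ↥H B = {B' | B' ∈ ℬ ∧ c A B' = c A B} := by
  ext B'
  simp only [Set.mem_ofPred_eq]
  constructor
  · rintro ⟨h, rfl⟩
    have hh : ((h : ↥M24) : Equiv.Perm GolayPt) • A = A := (hH h.1).mp h.2
    refine ⟨P.invB _ h.1.2 B hB, ?_⟩
    change c A (((h : ↥M24) : Equiv.Perm GolayPt) • B) = c A B
    rw [P.c_inv h.1.2]
    congr 1
    rw [inv_smul_eq_iff, hh]
  · rintro ⟨hB', hcB⟩
    obtain ⟨g, hg, rfl⟩ := P.trans A hA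
    have h1 : c A0 (g⁻¹ • B) = c A0 (g⁻¹ • B') := by
      rw [P.c_inv (M24.inv_mem hg), P.c_inv (M24.inv_mem hg), inv_inv, hcB]
    obtain ⟨h0, hh0, hh0A, hh0B⟩ := P.sep _ (P.invB _ (M24.inv_mem hg) B hB) _
      (P.invB _ (M24.inv_mem hg) B' hB') h1
    have hmem : g * h0 * g⁻¹ ∈ M24 := M24.mul_mem (M24.mul_mem hg hh0) (M24.inv_mem hg)
    have hfix : (g * h0 * g⁻¹) • (g • A0) = g • A0 := by
      rw [mul_smul, mul_smul, inv_smul_smul, hh0A]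
    refine ⟨⟨⟨g * h0 * g⁻¹, hmem⟩, (hH _).mpr hfix⟩, ?_⟩
    change (g * h0 * g⁻¹) • B = B'
    rw [mul_smul, mul_smul, hh0B, smul_inv_smul]

theorem PairData.ncard_class (P : PairData 𝒜 ℬ c A0) {A : α} (hA : A ∈ 𝒜) (v : ℕ) :
    {B' | B' ∈ ℬ ∧ c A B' = v}.ncard = {B' | B' ∈ ℬ ∧ c A0 B' = v}.ncard := by
  obtain ⟨g, hg, rfl⟩ := P.trans A hA
  have himg : {B' | B' ∈ ℬ ∧ c (g • A0) B' = v} = (fun B => g • B) '' {B' | B' ∈ ℬ ∧ c A0 B' = v} := by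
    ext B
    simp only [Set.mem_ofPred_eq, Set.mem_image]
    constructor
    · rintro ⟨hB, hc⟩
      refine ⟨g⁻¹ • B, ⟨P.invB _ (M24.inv_mem hg) B hB, ?_⟩, smul_inv_smul g B⟩
      rw [P.c_inv (M24.inv_mem hg), inv_inv]
      exact hc
    · rintro ⟨B0, ⟨hB0, hc⟩, rfl⟩
      exact ⟨P.invB g hg B0 hB0, by rw [P.invc g hg]; exact hc⟩
  rw [himg, Set.ncard_image_of_injective _ (MulAction.injective g)]

/-- an object of the standard class with a given value gives one for every `A`. -/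
theorem PairData.exists_rep (P : PairData 𝒜 ℬ c A0) {A : α} (hA : A ∈ 𝒜) {v : ℕ}
    (hv : ∃ B ∈ ℬ, c A0 B = v) : ∃ X ∈ ℬ, c A X = v := by
  obtain ⟨g, hg, rfl⟩ := P.trans A hA
  obtain ⟨B, hB, hc⟩ := hv
  exact ⟨g • B, P.invB g hg B hB, by rw [P.invc g hg]; exact hc⟩

theorem PairData.cover (P : PairData 𝒜 ℬ c A0) {A : α} (hA : A ∈ 𝒜) (V : Finset ℕ)
    (hV : ∀ B ∈ ℬ, c A0 B ∈ V) : ∀ B ∈ ℬ, c A B ∈ V := by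
  obtain ⟨g, hg, rfl⟩ := P.trans A hA
  intro B hB
  have := hV (g⁻¹ • B) (P.invB _ (M24.inv_mem hg) B hB)
  rw [P.c_inv (M24.inv_mem hg), inv_inv] at this
  exact this

theorem exists_of_ncard_pos {γ : Type*} {S : Set γ} {n : ℕ} (h : S.ncard = n) (hn : 0 < n) :
    ∃ x, x ∈ S := by
  have : S.Nonempty := by
    rw [← Set.ncard_pos (Set.finite_of_ncard_pos (by omega))]
    omega
  exact this

/-- three orbits. -/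
theorem PairData.orbits3 (P : PairData 𝒜 ℬ c A0) (v₁ v₂ v₃ n₁ n₂ n₃ : ℕ)
    (h₁ : {B' | B' ∈ ℬ ∧ c A0 B' = v₁}.ncard = n₁) (h₂ : {B' | B' ∈ ℬ ∧ c A0 B' = v₂}.ncard = n₂)
    (h₃ : {B' | B' ∈ ℬ ∧ c A0 B' = v₃}.ncard = n₃) (p₁ : 0 < n₁) (p₂ : 0 < n₂) (p₃ : 0 < n₃)
    (hV : ∀ B ∈ ℬ, c A0 B ∈ ({v₁, v₂, v₃} : Finset ℕ))
    {A : α} (hA : A ∈ 𝒜) (H : Subgroup ↥M24)
    (hH : ∀ g : ↥M24, g ∈ H ↔ ((g : ↥M24) : Equiv.Perm GolayPt) • A = A) :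
    ∃ X₁ ∈ ℬ, ∃ X₂ ∈ ℬ, ∃ X₃ ∈ ℬ, (MulAction.orbit ↥H X₁).ncard = n₁ ∧
      (MulAction.orbit ↥H X₂).ncard = n₂ ∧ (MulAction.orbit ↥H X₃).ncard = n₃ ∧
      ℬ = MulAction.orbit ↥H X₁ ∪ MulAction.orbit ↥H X₂ ∪ MulAction.orbit ↥H X₃ := by
  obtain ⟨B₁, hB₁⟩ := exists_of_ncard_pos h₁ p₁
  obtain ⟨B₂, hB₂⟩ := exists_of_ncard_pos h₂ p₂
  obtain ⟨B₃, hB₃⟩ := exists_of_ncard_pos h₃ p₃
  obtain ⟨X₁, hX₁, c₁⟩ := P.exists_rep hA ⟨B₁, hB₁.1, hB₁.2⟩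
  obtain ⟨X₂, hX₂, c₂⟩ := P.exists_rep hA ⟨B₂, hB₂.1, hB₂.2⟩
  obtain ⟨X₃, hX₃, c₃⟩ := P.exists_rep hA ⟨B₃, hB₃.1, hB₃.2⟩
  refine ⟨X₁, hX₁, X₂, hX₂, X₃, hX₃, ?_, ?_, ?_, ?_⟩
  · rw [P.orbit_eq hA H hH hX₁, c₁, P.ncard_class hA, h₁]
  · rw [P.orbit_eq hA H hH hX₂, c₂, P.ncard_class hA, h₂]
  · rw [P.orbit_eq hA H hH hX₃, c₃, P.ncard_class hA, h₃]
  · rw [P.orbit_eq hA H hH hX₁, P.orbit_eq hA H hH hX₂, P.orbit_eq hA H hH hX₃, c₁, c₂, c₃]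
    ext B
    simp only [Set.mem_union, Set.mem_ofPred_eq]
    constructor
    · intro hB
      have := P.cover hA _ hV B hB
      simp only [Finset.mem_insert, Finset.mem_singleton] at this
      rcases this with h | h | h
      · exact Or.inl (Or.inl ⟨hB, h⟩)
      · exact Or.inl (Or.inr ⟨hB, h⟩)
      · exact Or.inr ⟨hB, h⟩
    · rintro ((h | h) | h) <;> exact h.1

/-- four orbits. -/
theorem PairData.orbits4 (P : PairData 𝒜 ℬ c A0) (v₁ v₂ v₃ v₄ n₁ n₂ n₃ n₄ : ℕ)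
    (h₁ : {B' | B' ∈ ℬ ∧ c A0 B' = v₁}.ncard = n₁) (h₂ : {B' | B' ∈ ℬ ∧ c A0 B' = v₂}.ncard = n₂)
    (h₃ : {B' | B' ∈ ℬ ∧ c A0 B' = v₃}.ncard = n₃) (h₄ : {B' | B' ∈ ℬ ∧ c A0 B' = v₄}.ncard = n₄)
    (p₁ : 0 < n₁) (p₂ : 0 < n₂) (p₃ : 0 < n₃) (p₄ : 0 < n₄)
    (hV : ∀ B ∈ ℬ, c A0 B ∈ ({v₁, v₂, v₃, v₄} : Finset ℕ))
    {A : α} (hA : A ∈ 𝒜) (H : Subgroup ↥M24)
    (hH : ∀ g : ↥M24, g ∈ H ↔ ((g : ↥M24) : Equiv.Perm GolayPt) • A = A) :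
    ∃ X₁ ∈ ℬ, ∃ X₂ ∈ ℬ, ∃ X₃ ∈ ℬ, ∃ X₄ ∈ ℬ, (MulAction.orbit ↥H X₁).ncard = n₁ ∧
      (MulAction.orbit ↥H X₂).ncard = n₂ ∧ (MulAction.orbit ↥H X₃).ncard = n₃ ∧
      (MulAction.orbit ↥H X₄).ncard = n₄ ∧
      ℬ = MulAction.orbit ↥H X₁ ∪ MulAction.orbit ↥H X₂ ∪ MulAction.orbit ↥H X₃ ∪
        MulAction.orbit ↥H X₄ := by
  obtain ⟨B₁, hB₁⟩ := exists_of_ncard_pos h₁ p₁
  obtain ⟨B₂, hB₂⟩ := exists_of_ncard_pos h₂ p₂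
  obtain ⟨B₃, hB₃⟩ := exists_of_ncard_pos h₃ p₃
  obtain ⟨B₄, hB₄⟩ := exists_of_ncard_pos h₄ p₄
  obtain ⟨X₁, hX₁, c₁⟩ := P.exists_rep hA ⟨B₁, hB₁.1, hB₁.2⟩
  obtain ⟨X₂, hX₂, c₂⟩ := P.exists_rep hA ⟨B₂, hB₂.1, hB₂.2⟩
  obtain ⟨X₃, hX₃, c₃⟩ := P.exists_rep hA ⟨B₃, hB₃.1, hB₃.2⟩
  obtain ⟨X₄, hX₄, c₄⟩ := P.exists_rep hA ⟨B₄, hB₄.1, hB₄.2⟩
  refine ⟨X₁, hX₁, X₂, hX₂, X₃, hX₃, X₄, hX₄, ?_, ?_, ?_, ?_, ?_⟩
  · rw [P.orbit_eq hA H hH hX₁, c₁, P.ncard_class hA, h₁]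
  · rw [P.orbit_eq hA H hH hX₂, c₂, P.ncard_class hA, h₂]
  · rw [P.orbit_eq hA H hH hX₃, c₃, P.ncard_class hA, h₃]
  · rw [P.orbit_eq hA H hH hX₄, c₄, P.ncard_class hA, h₄]
  · rw [P.orbit_eq hA H hH hX₁, P.orbit_eq hA H hH hX₂, P.orbit_eq hA H hH hX₃,
      P.orbit_eq hA H hH hX₄, c₁, c₂, c₃, c₄]
    ext B
    simp only [Set.mem_union, Set.mem_ofPred_eq]
    constructor
    · intro hB
      have := P.cover hA _ hV B hB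
      simp only [Finset.mem_insert, Finset.mem_singleton] at this
      rcases this with h | h | h | h
      · exact Or.inl (Or.inl (Or.inl ⟨hB, h⟩))
      · exact Or.inl (Or.inl (Or.inr ⟨hB, h⟩))
      · exact Or.inl (Or.inr ⟨hB, h⟩)
      · exact Or.inr ⟨hB, h⟩
    · rintro (((h | h) | h) | h) <;> exact h.1

end

end Cfsg.Agent.Helper9.Golay
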