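import Mathlib
import Cfsg.Prelude.Def_Sporadic_a
import Cfsg.Prelude.Def_SporadicCombinatorics
import Cfsg.Agent.Helper9.Golay.OrbCert
import Cfsg.Agent.Helper9.Golay.OrbPairs

set_option autoImplicit false

/-!
Packaging of the certificates: generators of the stabilizer of a family, and the orbits on a
listed set of families.
-/

namespace Cfsg.Agent.Helper9.Golay

open Cfsg
open scoped Pointwise

/-- a listed set of families of sets of points. -/
structure FamListing (ℬ : Set (Finset (Finset GolayPt))) (w k n Big : ℕ) : Prop where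
  nodup : ((unpackL w n Big).map (blocksOf k)).Nodup
  ok : ∀ e ∈ (unpackL w n Big).map (blocksOf k), okMasks e = true ∧ e.length = k
  mem : ∀ e ∈ (unpackL w n Big).map (blocksOf k), famOf e ∈ ℬ
  card : ℬ.ncard = n
  pos : 0 < n

theorem length_filter_map_beq {γ : Type*} (L : List γ) (f : γ → ℕ) (v : ℕ) :
    ((L.map f).filter (fun x => x == v)).length = (L.filter (fun e => f e == v)).length := by
  rw [List.filter_map, List.length_map]
  rfl

section

variable {ℬ : Set (Finset (Finset GolayPt))} {w k n Big : ℕ}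

theorem FamListing.length (_F : FamListing ℬ w k n Big) :
    ((unpackL w n Big).map (blocksOf k)).length = n := by
  rw [List.length_map, length_unpackL]

theorem FamListing.ent (F : FamListing ℬ w k n Big) :
    ∀ i < n, okMasks (entryAt w k Big i) = true ∧ (entryAt w k Big i).length = k :=
  fun _ hi => F.ok _ (entryAt_mem hi)

theorem FamListing.inj (F : FamListing ℬ w k n Big) :
    ∀ b ∈ (unpackL w n Big).map (blocksOf k), ∀ b' ∈ (unpackL w n Big).map (blocksOf k),
      famOf b = famOf b' → b = b' :=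
  fun b hb b' hb' h => famOf_inj (F.ok b hb).1 (F.ok b' hb').1 h

theorem FamListing.surj (F : FamListing ℬ w k n Big) :
    ∀ B ∈ ℬ, ∃ i < n, famOf (entryAt w k Big i) = B := by
  classical
  obtain ⟨L, hL⟩ : ∃ L, L = (unpackL w n Big).map (blocksOf k) := ⟨_, rfl⟩
  have hndm : (L.map famOf).Nodup := by
    rw [hL]
    exact List.Nodup.map_on F.inj F.nodup
  have hSfin : ℬ.Finite := Set.finite_of_ncard_pos (by rw [F.card]; exact F.pos)
  have hsub : (↑(L.map famOf).toFinset : Set (Finset (Finset GolayPt))) ⊆ ℬ := by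
    intro a ha
    rw [Finset.mem_coe, List.mem_toFinset, List.mem_map] at ha
    obtain ⟨b, hb, rfl⟩ := ha
    exact F.mem b (hL ▸ hb)
  have hS : (↑(L.map famOf).toFinset : Set (Finset (Finset GolayPt))) = ℬ := by
    apply Set.eq_of_subset_of_ncard_le hsub _ hSfin
    rw [Set.ncard_coe_finset, List.toFinset_card_of_nodup hndm, List.length_map, hL, F.length,
      F.card]
  intro B hB
  rw [← hS, Finset.mem_coe, List.mem_toFinset, List.mem_map] at hB
  obtain ⟨e, he, rfl⟩ := hB
  rw [hL] at he
  obtain ⟨i, hi, rfl⟩ := exists_entryAt he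
  exact ⟨i, hi, rfl⟩

theorem FamListing.count (F : FamListing ℬ w k n Big) {e0 : List ℕ} (he0 : okMasks e0 = true)
    {vals : List ℕ} (hvals : ((unpackL w n Big).map (blocksOf k)).map (cfamB e0) = vals) (v : ℕ) :
    {B | B ∈ ℬ ∧ cfam (famOf e0) B = v}.ncard = (vals.filter (fun x => x == v)).length := by
  rw [ncard_filter_of_list_inj ℬ _ famOf F.nodup F.inj F.mem (by rw [F.card, F.length])
    (by rw [F.length]; exact F.pos) (fun B => cfam (famOf e0) B = v) (fun e => cfamB e0 e == v)
    (by
      intro b hb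
      rw [beq_iff_eq, cfam_famOf he0 (F.ok b hb).1])]
  rw [← hvals, length_filter_map_beq]

theorem FamListing.cover (F : FamListing ℬ w k n Big) {e0 : List ℕ} (he0 : okMasks e0 = true)
    {vals : List ℕ} (hvals : ((unpackL w n Big).map (blocksOf k)).map (cfamB e0) = vals)
    (V : Finset ℕ) (hV : vals.all (fun x => decide (x ∈ V)) = true) :
    ∀ B ∈ ℬ, cfam (famOf e0) B ∈ V := by
  intro B hB
  obtain ⟨i, hi, rfl⟩ := F.surj B hB
  rw [cfam_famOf he0 (F.ent i hi).1]
  have hmem : cfamB e0 (entryAt w k Big i) ∈ vals := by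
    rw [← hvals]
    exact List.mem_map.mpr ⟨_, entryAt_mem hi, rfl⟩
  have := List.all_eq_true.mp hV _ hmem
  exact of_decide_eq_true this

end

/-- generators of the stabilizer of a family, as a program on the standard generators, with
their tables of images. -/
structure GenData where
  prog : List (ℕ × ℕ)
  genIdx : List ℕ
  e0 : List ℕ
  pull : List ℕ

namespace GenData

variable (G : GenData)

def tabs : List (List ℕ) := G.genIdx.map (fun j => (runSLP G.prog stdTabs).getD j idT)

def ok : Bool :=
  okMasks G.e0 && (G.tabs.length == G.pull.length) &&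
    (G.tabs.zip G.pull).all (fun p => okPullTab p.1 p.2 && invBF p.2 G.e0)

theorem ok_e0 (h : G.ok = true) : okMasks G.e0 = true := by
  unfold ok at h
  simp only [Bool.and_eq_true] at h
  exact h.1.1

theorem gens (h : G.ok = true) : ∀ g < G.pull.length, ∃ σ ∈ stabIn (famOf G.e0), ∃ t,
    IsTbl σ t ∧ okPullTab t (G.pull.getD g 0) = true := by
  have he0 := G.ok_e0 h
  unfold ok at h
  simp only [Bool.and_eq_true, beq_iff_eq] at h
  apply gens_ok he0 _ h.1.2 h.2
  intro t ht
  unfold tabs at ht
  rw [List.mem_map] at ht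
  obtain ⟨j, _, rfl⟩ := ht
  exact (goodT_std G.prog M24 stepPerm_mem).getD j

end GenData

/-- a certificate for the orbits of the stabilizer on a listed set of families. -/
structure ObjCert where
  roots : List ℕ
  nsteps : ℕ
  stepsBig : ℕ
  valBig : ℕ

namespace ObjCert

variable (C : ObjCert)

def vals (n : ℕ) : List ℕ := unpackL 8 n C.valBig

def ok (G : GenData) (w k n Big : ℕ) : Bool :=
  orbCertOK G.e0 w k n Big G.pull C.roots (unpackL 32 C.nsteps C.stepsBig) &&
    (((unpackL w n Big).map (blocksOf k)).map (cfamB G.e0) == C.vals n)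

theorem vals_eq {G : GenData} {w k n Big : ℕ} (h : C.ok G w k n Big = true) :
    ((unpackL w n Big).map (blocksOf k)).map (cfamB G.e0) = C.vals n := by
  unfold ok at h
  rw [Bool.and_eq_true] at h
  exact beq_iff_eq.mp h.2

theorem sep {G : GenData} (hG : G.ok = true) {ℬ : Set (Finset (Finset GolayPt))}
    {w k n Big : ℕ} (F : FamListing ℬ w k n Big) (h : C.ok G w k n Big = true) :
    ∀ B ∈ ℬ, ∀ B' ∈ ℬ, cfam (famOf G.e0) B = cfam (famOf G.e0) B' →
      ∃ h ∈ M24, h • famOf G.e0 = famOf G.e0 ∧ h • B = B' := by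
  have he0 := G.ok_e0 hG
  unfold ok at h
  rw [Bool.and_eq_true] at h
  have key := sep_of_cert he0 (G.gens hG) F.ent h.1
  intro B hB B' hB' hc
  obtain ⟨i, hi, rfl⟩ := F.surj B hB
  obtain ⟨j, hj, rfl⟩ := F.surj B' hB'
  rw [cfam_famOf he0 (F.ent i hi).1, cfam_famOf he0 (F.ent j hj).1] at hc
  obtain ⟨h, hh, hh'⟩ := key i hi j hj hc
  obtain ⟨h1, h2⟩ := mem_stabIn.mp hh
  exact ⟨h, h1, h2, hh'⟩

end ObjCert

end Cfsg.Agent.Helper9.Golay
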