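import Mathlib
import Cfsg.Prelude.Def_Sporadic_a
import Cfsg.Prelude.Def_SporadicCombinatorics
import Cfsg.Agent.Helper9.Golay.OrbCase

set_option autoImplicit false

/-!
The certificates for the orbits of a stabilizer, with the joint invariant
`∑ ∑ |a ∩ b| ^ k` for an arbitrary exponent `k`.
-/

namespace Cfsg.Agent.Helper9.Golay

open Cfsg
open scoped Pointwise

/-- the joint invariant of two families of sets of points, with exponent `k`. -/
def cfamP (k : ℕ) (A B : Finset (Finset GolayPt)) : ℕ := ∑ a ∈ A, ∑ b ∈ B, (a ∩ b).card ^ k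

theorem cfamP_smul (k : ℕ) (g : Equiv.Perm GolayPt) (A B : Finset (Finset GolayPt)) :
    cfamP k (g • A) (g • B) = cfamP k A B := by
  unfold cfamP
  have hA : g • A = A.image (fun a => g • a) := rfl
  have hB : g • B = B.image (fun a => g • a) := rfl
  rw [hA, Finset.sum_image (fun x _ y _ h => MulAction.injective g h)]
  apply Finset.sum_congr rfl
  intro a _
  rw [hB, Finset.sum_image (fun x _ y _ h => MulAction.injective g h)]
  apply Finset.sum_congr rfl
  intro b _
  rw [← Finset.smul_finset_inter, Finset.card_smul_finset]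

def cfamPBrow (k a : ℕ) : List ℕ → ℕ
  | [] => 0
  | b :: l => Nat.add (Nat.pow (popcF (Nat.land a b)) k) (cfamPBrow k a l)

/-- the computable version of the joint invariant. -/
def cfamPB (k : ℕ) : List ℕ → List ℕ → ℕ
  | [], _ => 0
  | a :: l0, e => Nat.add (cfamPBrow k a e) (cfamPB k l0 e)

theorem cfamPBrow_eq (k a : ℕ) (e : List ℕ) :
    cfamPBrow k a e = (e.map (fun b => popcF (a &&& b) ^ k)).sum := by
  induction e with
  | nil => rfl
  | cons b l ih =>
    rw [List.map_cons, List.sum_cons, ← ih]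
    rfl

theorem cfamPB_eq (k : ℕ) (e0 e : List ℕ) :
    cfamPB k e0 e = (e0.map (fun a => cfamPBrow k a e)).sum := by
  induction e0 with
  | nil => rfl
  | cons a l ih =>
    rw [List.map_cons, List.sum_cons, ← ih]
    rfl

theorem cfamP_famOf (k : ℕ) {e0 e : List ℕ} (h0 : okMasks e0 = true) (h : okMasks e = true) :
    cfamP k (famOf e0) (famOf e) = cfamPB k e0 e := by
  unfold cfamP famOf
  rw [List.sum_toFinset _ (nodup_map_suppM h0), List.map_map, cfamPB_eq]
  congr 1
  apply List.map_congr_left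
  intro a ha
  rw [Function.comp_apply, List.sum_toFinset _ (nodup_map_suppM h), List.map_map, cfamPBrow_eq]
  congr 1
  apply List.map_congr_left
  intro b hb
  rw [Function.comp_apply, suppM_inter, card_suppM, popcF_eq]
  exact lt_of_le_of_lt Nat.and_le_left (okMasks_lt h0 a ha)

/-- the whole check of a certificate. -/
def orbCertOKP (p : ℕ) (e0 : List ℕ) (w k n Big : ℕ) (Ts roots steps : List ℕ) : Bool :=
  roots.all (fun r => Nat.blt r n) &&
    decide ((roots.map (fun r => cfamPB p e0 (entryAt w k Big r))).Nodup) &&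
    runOrb w k n Big Ts steps (rootBits roots)

theorem sep_of_certP {p : ℕ} {e0 : List ℕ} (he0 : okMasks e0 = true) {w k n Big : ℕ}
    {Ts roots steps : List ℕ}
    (hgen : ∀ g < Ts.length, ∃ σ ∈ stabIn (famOf e0), ∃ t, IsTbl σ t ∧
      okPullTab t (Ts.getD g 0) = true)
    (hent : ∀ i < n, okMasks (entryAt w k Big i) = true ∧ (entryAt w k Big i).length = k)
    (h : orbCertOKP p e0 w k n Big Ts roots steps = true) :
    ∀ i < n, ∀ j < n, cfamPB p e0 (entryAt w k Big i) = cfamPB p e0 (entryAt w k Big j) →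
      ∃ h ∈ stabIn (famOf e0), h • famOf (entryAt w k Big i) = famOf (entryAt w k Big j) := by
  unfold orbCertOKP at h
  simp only [Bool.and_eq_true, List.all_eq_true, decide_eq_true_eq] at h
  obtain ⟨⟨hroots, hnd⟩, hrun⟩ := h
  have hroots' : ∀ r ∈ roots, r < n := by
    intro r hr
    have := Nat.le_of_ble_eq_true (hroots r hr)
    omega
  have h0 : Reach (famOf e0) w k n Big roots (rootBits roots) := by
    intro i _ hbit
    exact ⟨i, testBit_rootBits hbit, 1, (stabIn _).one_mem, one_smul _ _⟩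
  have hR := runOrb_sound hgen hent steps _ h0 hrun
  have hall : ∀ i < n, ∃ r ∈ roots, ∃ h ∈ stabIn (famOf e0),
      h • famOf (entryAt w k Big r) = famOf (entryAt w k Big i) := by
    intro i hi
    apply hR i hi
    rw [Nat.testBit_two_pow_sub_one, decide_eq_true_eq]
    exact hi
  have hval : ∀ i < n, ∀ r ∈ roots, ∀ h ∈ stabIn (famOf e0),
      h • famOf (entryAt w k Big r) = famOf (entryAt w k Big i) →
      cfamPB p e0 (entryAt w k Big r) = cfamPB p e0 (entryAt w k Big i) := by
    intro i hi r hr h hh hhr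
    rw [← cfamP_famOf p he0 (hent r (hroots' r hr)).1, ← cfamP_famOf p he0 (hent i hi).1, ← hhr]
    conv_rhs => rw [← (mem_stabIn.mp hh).2]
    rw [cfamP_smul]
  intro i hi j hj hij
  obtain ⟨ri, hri, h1, hh1, e1⟩ := hall i hi
  obtain ⟨rj, hrj, h2, hh2, e2⟩ := hall j hj
  have hr : ri = rj := by
    apply List.inj_on_of_nodup_map hnd hri hrj
    rw [hval i hi ri hri h1 hh1 e1, hval j hj rj hrj h2 hh2 e2, hij]
  refine ⟨h2 * h1⁻¹, (stabIn _).mul_mem hh2 ((stabIn _).inv_mem hh1), ?_⟩
  rw [mul_smul, ← e1, inv_smul_smul, hr, e2]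

section

variable {ℬ : Set (Finset (Finset GolayPt))} {w k n Big : ℕ}

theorem FamListing.countP (F : FamListing ℬ w k n Big) (p : ℕ) {e0 : List ℕ}
    (he0 : okMasks e0 = true) {vals : List ℕ}
    (hvals : ((unpackL w n Big).map (blocksOf k)).map (cfamPB p e0) = vals) (v : ℕ) :
    {B | B ∈ ℬ ∧ cfamP p (famOf e0) B = v}.ncard = (vals.filter (fun x => x == v)).length := by
  rw [ncard_filter_of_list_inj ℬ _ famOf F.nodup F.inj F.mem (by rw [F.card, F.length])
    (by rw [F.length]; exact F.pos) (fun B => cfamP p (famOf e0) B = v)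
    (fun e => cfamPB p e0 e == v)
    (by
      intro b hb
      rw [beq_iff_eq, cfamP_famOf p he0 (F.ok b hb).1])]
  rw [← hvals, length_filter_map_beq]

theorem FamListing.coverP (F : FamListing ℬ w k n Big) (p : ℕ) {e0 : List ℕ}
    (he0 : okMasks e0 = true) {vals : List ℕ}
    (hvals : ((unpackL w n Big).map (blocksOf k)).map (cfamPB p e0) = vals)
    (V : Finset ℕ) (hV : vals.all (fun x => decide (x ∈ V)) = true) :
    ∀ B ∈ ℬ, cfamP p (famOf e0) B ∈ V := by
  intro B hB
  obtain ⟨i, hi, rfl⟩ := F.surj B hB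
  rw [cfamP_famOf p he0 (F.ent i hi).1]
  have hmem : cfamPB p e0 (entryAt w k Big i) ∈ vals := by
    rw [← hvals]
    exact List.mem_map.mpr ⟨_, entryAt_mem hi, rfl⟩
  have := List.all_eq_true.mp hV _ hmem
  exact of_decide_eq_true this

end

/-- a certificate for the orbits of the stabilizer on a listed set of families, with the
invariant of exponent `p` and values stored on 16 bits. -/
structure ObjCertP where
  p : ℕ
  roots : List ℕ
  nsteps : ℕ
  stepsBig : ℕ
  valBig : ℕ

namespace ObjCertP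

variable (C : ObjCertP)

def vals (n : ℕ) : List ℕ := unpackL 16 n C.valBig

def ok (G : GenData) (w k n Big : ℕ) : Bool :=
  orbCertOKP C.p G.e0 w k n Big G.pull C.roots (unpackL 32 C.nsteps C.stepsBig) &&
    (((unpackL w n Big).map (blocksOf k)).map (cfamPB C.p G.e0) == C.vals n)

theorem vals_eq {G : GenData} {w k n Big : ℕ} (h : C.ok G w k n Big = true) :
    ((unpackL w n Big).map (blocksOf k)).map (cfamPB C.p G.e0) = C.vals n := by
  unfold ok at h
  rw [Bool.and_eq_true] at h
  exact beq_iff_eq.mp h.2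

theorem sep {G : GenData} (hG : G.ok = true) {ℬ : Set (Finset (Finset GolayPt))}
    {w k n Big : ℕ} (F : FamListing ℬ w k n Big) (h : C.ok G w k n Big = true) :
    ∀ B ∈ ℬ, ∀ B' ∈ ℬ, cfamP C.p (famOf G.e0) B = cfamP C.p (famOf G.e0) B' →
      ∃ h ∈ M24, h • famOf G.e0 = famOf G.e0 ∧ h • B = B' := by
  have he0 := G.ok_e0 hG
  unfold ok at h
  rw [Bool.and_eq_true] at h
  have key := sep_of_certP he0 (G.gens hG) F.ent h.1
  intro B hB B' hB' hc
  obtain ⟨i, hi, rfl⟩ := F.surj B hB
  obtain ⟨j, hj, rfl⟩ := F.surj B' hB'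
  rw [cfamP_famOf C.p he0 (F.ent i hi).1, cfamP_famOf C.p he0 (F.ent j hj).1] at hc
  obtain ⟨h, hh, hh'⟩ := key i hi j hj hc
  obtain ⟨h1, h2⟩ := mem_stabIn.mp hh
  exact ⟨h, h1, h2, hh'⟩

end ObjCertP

end Cfsg.Agent.Helper9.Golay
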