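import Mathlib
import Cfsg.Prelude.Def_Sporadic_a
import Cfsg.Prelude.Def_SporadicCombinatorics
import Cfsg.Agent.Helper9.Golay.OrbFam
import Cfsg.Agent.Helper9.Golay.OrbData_dd

set_option autoImplicit false

/-!
The orbits of the stabilizer of a pair of complementary dodecads on the sextets.
-/

namespace Cfsg.Agent.Helper9.Golay

open Cfsg
open scoped Pointwise

/-- the pairs of complementary dodecads. -/
def dodPairs : Set (Finset (Finset GolayPt)) := {X | ∃ d ∈ dodecads, X = {d, Finset.univ \ d}}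

theorem suppM_compl_mask (m : ℕ) : suppM (16777215 ^^^ m) = Finset.univ \ suppM m := by
  ext p
  rw [Finset.mem_sdiff, mem_suppM, mem_suppM, Nat.testBit_xor]
  have h : (16777215 : ℕ).testBit (ptIdx p) = true := by
    have : (16777215 : ℕ) = 2 ^ 24 - 1 := by norm_num
    rw [this, Nat.testBit_two_pow_sub_one, decide_eq_true_eq]
    exact ptIdx_lt p
  rw [h]
  simp

theorem ddG_fam : famOf ddG.e0 = {suppM dod0, Finset.univ \ suppM dod0} := by
  have h1 : ddG.e0 = [dod0, 16777215 ^^^ dod0] := by decide +kernel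
  rw [h1, ← suppM_compl_mask]
  simp [famOf]

theorem dd_trans : ∀ A ∈ dodPairs, ∃ g ∈ M24, g • famOf ddG.e0 = A := by
  rintro A ⟨d, hd, rfl⟩
  obtain ⟨g, hg⟩ := transitive_dodecads dod0_mem hd
  refine ⟨g.1, g.2, ?_⟩
  have hg' : (g.1 : Equiv.Perm GolayPt) • suppM dod0 = d := hg
  rw [ddG_fam, Finset.smul_finset_insert, Finset.smul_finset_singleton, Finset.smul_finset_sdiff,
    Finset.smul_finset_univ, hg']

theorem orbits_dodecad_pair_stabilizer (d : Finset GolayPt) (hd : d ∈ dodecads) :
    ∃ X₁ ∈ sextets, ∃ X₂ ∈ sextets, ∃ X₃ ∈ sextets,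
      (MulAction.orbit ↥(MulAction.stabilizer ↥M24
        ({d, Finset.univ \ d} : Finset (Finset GolayPt))) X₁).ncard = 396 ∧
      (MulAction.orbit ↥(MulAction.stabilizer ↥M24
        ({d, Finset.univ \ d} : Finset (Finset GolayPt))) X₂).ncard = 495 ∧
      (MulAction.orbit ↥(MulAction.stabilizer ↥M24
        ({d, Finset.univ \ d} : Finset (Finset GolayPt))) X₃).ncard = 880 ∧
      sextets = MulAction.orbit ↥(MulAction.stabilizer ↥M24
          ({d, Finset.univ \ d} : Finset (Finset GolayPt))) X₁ ∪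
        MulAction.orbit ↥(MulAction.stabilizer ↥M24
          ({d, Finset.univ \ d} : Finset (Finset GolayPt))) X₂ ∪
        MulAction.orbit ↥(MulAction.stabilizer ↥M24
          ({d, Finset.univ \ d} : Finset (Finset GolayPt))) X₃ := by
  have he0 := ddG.ok_e0 ddG_ok
  have hH : ∀ g : ↥M24, g ∈ MulAction.stabilizer ↥M24
      ({d, Finset.univ \ d} : Finset (Finset GolayPt)) ↔
      ((g : ↥M24) : Equiv.Perm GolayPt) • ({d, Finset.univ \ d} : Finset (Finset GolayPt)) =
        {d, Finset.univ \ d} := fun g => MulAction.mem_stabilizer_iff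
  have P := pairData_fam (𝒜 := dodPairs) sextets_inv₂ dd_trans
    (ddS.sep ddG_ok sextets_listing ddS_ok)
  have hcount := fun v => sextets_listing.count he0 (ddS.vals_eq ddS_ok) v
  have hcover := sextets_listing.cover he0 (ddS.vals_eq ddS_ok) _ ddS_cover
  exact P.orbits3 48 64 60 396 495 880 ((hcount 48).trans ddS_count48)
    ((hcount 64).trans ddS_count64) ((hcount 60).trans ddS_count60) (by norm_num) (by norm_num)
    (by norm_num) (by
      intro B hB
      have := hcover B hB
      simp only [Finset.mem_insert, Finset.mem_singleton] at this ⊢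
      omega) ⟨d, hd, rfl⟩ _ hH

end Cfsg.Agent.Helper9.Golay
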