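import Mathlib
import Cfsg.Prelude.Def_Sporadic_a
import Cfsg.Prelude.Def_SporadicCombinatorics
import Cfsg.Agent.Helper9.Golay.OrbCase

set_option autoImplicit false

/-!
The listings of the trios, the sextets and the octads.
-/

namespace Cfsg.Agent.Helper9.Golay

open Cfsg
open scoped Pointwise

theorem trios_listing : FamListing trios 72 3 3795 trioBig where
  nodup := trioL_nodup
  ok := by
    intro e he
    have h := List.all_eq_true.mp trioL_ok e he
    refine ⟨okTrio_masks h, ?_⟩
    unfold okTrioF at h
    simp only [Bool.and_eq_true, beq_iff_eq] at h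
    exact h.1.1.2
  mem := fun e he => famOf_mem_trios (List.all_eq_true.mp trioL_ok e he)
  card := Cfsg.Agent.Lead.Steiner.trios_ncard
  pos := by norm_num

theorem sextets_listing : FamListing sextets 144 6 1771 sextBig where
  nodup := sextL_nodup
  ok := by
    intro e he
    have h := List.all_eq_true.mp sextL_ok e he
    refine ⟨okSext_masks h, ?_⟩
    unfold okSextF at h
    simp only [Bool.and_eq_true, beq_iff_eq] at h
    exact h.1.1.2
  mem := fun e he => famOf_mem_sextets (List.all_eq_true.mp sextL_ok e he)
  card := Cfsg.Agent.Lead.Steiner.sextets_main.2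
  pos := by norm_num

/-! ### octads, as families of one set -/

/-- the octads as families of one set. -/
def octFams : Set (Finset (Finset GolayPt)) := {X | ∃ o ∈ octads, X = {o}}

def octLL : List (List ℕ) := (unpackL 24 759 octBig).map (blocksOf 1)

def okOct1 (e : List ℕ) : Bool := sortedB e && ltB e && e.length == 1 && e.all isOctF

theorem octLL_ok : octLL.all okOct1 = true := by decide +kernel

theorem octLL_sorted : sortedB (octLL.map keyOf) = true := by decide +kernel

theorem octL_length : octL.length = 759 := by decide +kernel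

theorem famOf_singleton (m : ℕ) : famOf [m] = {suppM m} := by
  simp [famOf]

theorem octads_ncard_eq : octads.ncard = 759 := by
  unfold octads
  rw [ncard_wordsOfWeight, octL_eq, octL_length]

theorem ncard_octFams : octFams.ncard = 759 := by
  have : octFams = (fun o : Finset GolayPt => ({o} : Finset (Finset GolayPt))) '' octads := by
    ext X
    simp only [octFams, Set.mem_ofPred_eq, Set.mem_image]
    constructor
    · rintro ⟨o, ho, rfl⟩; exact ⟨o, ho, rfl⟩
    · rintro ⟨o, ho, rfl⟩; exact ⟨o, ho, rfl⟩
  rw [this, Set.ncard_image_of_injective _ Finset.singleton_injective, octads_ncard_eq]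

theorem octFams_listing : FamListing octFams 24 1 759 octBig where
  nodup := nodup_of_sorted_key octLL keyOf octLL_sorted
  ok := by
    intro e he
    have h := List.all_eq_true.mp octLL_ok e he
    unfold okOct1 at h
    simp only [Bool.and_eq_true, beq_iff_eq] at h
    exact ⟨okMasks_of h.1.1.1 h.1.1.2, h.1.2⟩
  mem := by
    intro e he
    have h := List.all_eq_true.mp octLL_ok e he
    unfold okOct1 at h
    simp only [Bool.and_eq_true, beq_iff_eq, List.all_eq_true] at h
    obtain ⟨⟨⟨_, hlt⟩, hlen⟩, hoct⟩ := h
    match e, hlen with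
    | [m], _ =>
      rw [famOf_singleton]
      have hm : m < 2 ^ 24 := ltB_lt hlt m (by simp)
      obtain ⟨h1, h2⟩ := isOctF_sound hm (hoct m (by simp))
      exact ⟨suppM m, (mem_octads_iff _).mpr ⟨m, h1, h2, rfl⟩, rfl⟩
  card := ncard_octFams
  pos := by norm_num

theorem smul_singleton_fam (g : Equiv.Perm GolayPt) (o : Finset GolayPt) :
    g • ({o} : Finset (Finset GolayPt)) = {g • o} := Finset.smul_finset_singleton o

theorem octFams_inv : ∀ g ∈ M24, ∀ X ∈ octFams, g • X ∈ octFams := by
  rintro g hg X ⟨o, ho, rfl⟩
  exact ⟨g • o, smul_mem_wordsOfWeight hg ho, smul_singleton_fam g o⟩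

/-- counting octads through the families of one set. -/
theorem ncard_octads_class (A0 : Finset (Finset GolayPt)) (v : ℕ) :
    {o | o ∈ octads ∧ cfam A0 {o} = v}.ncard = {X | X ∈ octFams ∧ cfam A0 X = v}.ncard := by
  have : {X | X ∈ octFams ∧ cfam A0 X = v} =
      (fun o : Finset GolayPt => ({o} : Finset (Finset GolayPt))) ''
        {o | o ∈ octads ∧ cfam A0 {o} = v} := by
    ext X
    simp only [octFams, Set.mem_ofPred_eq, Set.mem_image]
    constructor
    · rintro ⟨⟨o, ho, rfl⟩, hc⟩; exact ⟨o, ⟨ho, hc⟩, rfl⟩
    · rintro ⟨o, ⟨ho, hc⟩, rfl⟩; exact ⟨⟨o, ho, rfl⟩, hc⟩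
  rw [this, Set.ncard_image_of_injective _ Finset.singleton_injective]

end Cfsg.Agent.Helper9.Golay
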