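import Mathlib
import Cfsg.Prelude.Def_Sporadic_a
import Cfsg.Prelude.Def_SporadicCombinatorics
import Cfsg.Agent.Helper9.Golay.OrbData_oc
import Cfsg.Agent.Helper9.Golay.SextetBasic
import Cfsg.Agent.Helper9.Golay.TrioOct

set_option autoImplicit false

/-!
The orbits of the stabilizer of an octad on the trios and on the sextets.
-/

namespace Cfsg.Agent.Helper9.Golay

open Cfsg
open scoped Pointwise

theorem trios_inv' : ∀ k ∈ M24, ∀ a ∈ trios, k • a ∈ trios :=
  fun _ hk _ ha => smul_mem_trios hk ha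

theorem sextets_inv' : ∀ k ∈ M24, ∀ a ∈ sextets, k • a ∈ sextets :=
  fun _ hk _ ha => smul_mem_sextets hk ha

/-- the data of the pairs (octad, family) from a certificate. -/
theorem pairData_oct {ℬ : Set (Finset (Finset GolayPt))}
    (hℬ : ∀ g ∈ M24, ∀ B ∈ ℬ, g • B ∈ ℬ) {G : GenData} {m0 : ℕ} (hm0 : G.e0 = [m0])
    (ho : suppM m0 ∈ octads)
    (sep : ∀ B ∈ ℬ, ∀ B' ∈ ℬ, cfam (famOf G.e0) B = cfam (famOf G.e0) B' →
      ∃ h ∈ M24, h • famOf G.e0 = famOf G.e0 ∧ h • B = B') :
    PairData octads ℬ (fun o B => cfam {o} B) (suppM m0) where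
  invB := hℬ
  invc := by
    intro g _ A B
    change cfam {g • A} (g • B) = cfam {A} B
    rw [← smul_singleton_fam, cfam_smul]
  trans := by
    intro A hA
    obtain ⟨g, hg⟩ := transitive_octads ho hA
    exact ⟨g.1, g.2, hg⟩
  sep := by
    intro B hB B' hB' hc
    rw [hm0, famOf_singleton] at sep
    obtain ⟨h, hh, hfix, hB⟩ := sep B hB B' hB' hc
    rw [smul_singleton_fam] at hfix
    exact ⟨h, hh, Finset.singleton_injective hfix, hB⟩

theorem suppM_oct0_mem : suppM 5279 ∈ octads :=
  (mem_octads_iff _).mpr ⟨5279, by decide +kernel, by decide +kernel, rfl⟩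

theorem ocG_e0 : ocG.e0 = [5279] := rfl

theorem orbits_octad_stabilizer (o : Finset GolayPt) (ho : o ∈ octads) :
    (∃ X₁ ∈ trios, ∃ X₂ ∈ trios, ∃ X₃ ∈ trios,
      (MulAction.orbit ↥(MulAction.stabilizer ↥M24 o) X₁).ncard = 15 ∧
      (MulAction.orbit ↥(MulAction.stabilizer ↥M24 o) X₂).ncard = 420 ∧
      (MulAction.orbit ↥(MulAction.stabilizer ↥M24 o) X₃).ncard = 3360 ∧
      trios = MulAction.orbit ↥(MulAction.stabilizer ↥M24 o) X₁ ∪
        MulAction.orbit ↥(MulAction.stabilizer ↥M24 o) X₂ ∪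
        MulAction.orbit ↥(MulAction.stabilizer ↥M24 o) X₃) ∧
    (∃ Y₁ ∈ sextets, ∃ Y₂ ∈ sextets, ∃ Y₃ ∈ sextets,
      (MulAction.orbit ↥(MulAction.stabilizer ↥M24 o) Y₁).ncard = 35 ∧
      (MulAction.orbit ↥(MulAction.stabilizer ↥M24 o) Y₂).ncard = 840 ∧
      (MulAction.orbit ↥(MulAction.stabilizer ↥M24 o) Y₃).ncard = 896 ∧
      sextets = MulAction.orbit ↥(MulAction.stabilizer ↥M24 o) Y₁ ∪
        MulAction.orbit ↥(MulAction.stabilizer ↥M24 o) Y₂ ∪
        MulAction.orbit ↥(MulAction.stabilizer ↥M24 o) Y₃) := by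
  have he0 := ocG.ok_e0 ocG_ok
  have hfam : famOf ocG.e0 = {suppM 5279} := by rw [ocG_e0, famOf_singleton]
  have hH : ∀ g : ↥M24, g ∈ MulAction.stabilizer ↥M24 o ↔
      ((g : ↥M24) : Equiv.Perm GolayPt) • o = o := fun g => MulAction.mem_stabilizer_iff
  constructor
  · have P := pairData_oct trios_inv' ocG_e0 suppM_oct0_mem (ocT.sep ocG_ok trios_listing ocT_ok)
    have hcount := fun v => trios_listing.count he0 (ocT.vals_eq ocT_ok) v
    have hcover := trios_listing.cover he0 (ocT.vals_eq ocT_ok) _ ocT_cover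
    rw [hfam] at hcount hcover
    exact P.orbits3 64 32 24 15 420 3360 ((hcount 64).trans ocT_count64)
      ((hcount 32).trans ocT_count32) ((hcount 24).trans ocT_count24) (by norm_num) (by norm_num)
      (by norm_num) (by
        intro B hB
        have := hcover B hB
        simp only [Finset.mem_insert, Finset.mem_singleton] at this ⊢
        omega) ho _ hH
  · have P := pairData_oct sextets_inv' ocG_e0 suppM_oct0_mem (ocS.sep ocG_ok sextets_listing ocS_ok)
    have hcount := fun v => sextets_listing.count he0 (ocS.vals_eq ocS_ok) v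
    have hcover := sextets_listing.cover he0 (ocS.vals_eq ocS_ok) _ ocS_cover
    rw [hfam] at hcount hcover
    exact P.orbits3 32 16 14 35 840 896 ((hcount 32).trans ocS_count32)
      ((hcount 16).trans ocS_count16) ((hcount 14).trans ocS_count14) (by norm_num) (by norm_num)
      (by norm_num) (by
        intro B hB
        have := hcover B hB
        simp only [Finset.mem_insert, Finset.mem_singleton] at this ⊢
        omega) ho _ hH

end Cfsg.Agent.Helper9.Golay
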