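import Mathlib
import Cfsg.Prelude.Def_Sporadic_a
import Cfsg.Agent.Helper9.Golay.OrbPairs
import Cfsg.Agent.Helper9.Coatom

set_option autoImplicit false

/-!
The stabilizer of an object acting on the objects of the same kind: the class of the object
itself, and maximality of the stabilizer from the sizes of the orbits.
-/

namespace Cfsg.Agent.Helper9.Golay

open Cfsg
open scoped Pointwise

section

variable {β : Type*} [MulAction (Equiv.Perm GolayPt) β]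
variable {ℬ : Set β} {c : β → β → ℕ} {A0 : β}

theorem PairData.c_self (P : PairData ℬ ℬ c A0) {A : β} (hA : A ∈ ℬ) : c A A = c A0 A0 := by
  obtain ⟨g, hg, rfl⟩ := P.trans A hA
  exact P.invc g hg A0 A0

theorem PairData.class_self (P : PairData ℬ ℬ c A0) {v₀ : ℕ} (hv₀ : c A0 A0 = v₀)
    (h₀ : {B | B ∈ ℬ ∧ c A0 B = v₀}.ncard = 1) {A : β} (hA : A ∈ ℬ) :
    {B | B ∈ ℬ ∧ c A B = v₀} = {A} := by
  have h1 : {B | B ∈ ℬ ∧ c A B = v₀}.ncard = 1 := by rw [P.ncard_class hA, h₀]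
  obtain ⟨x, hx⟩ := Set.ncard_eq_one.mp h1
  have hmem : A ∈ {B | B ∈ ℬ ∧ c A B = v₀} := ⟨hA, by rw [P.c_self hA, hv₀]⟩
  rw [hx] at hmem ⊢
  rw [Set.mem_singleton_iff.mp hmem]

theorem PairData.orbit_M24 (P : PairData ℬ ℬ c A0) {A : β} (hA : A ∈ ℬ) :
    MulAction.orbit ↥M24 A = ℬ := by
  ext B
  constructor
  · rintro ⟨g, rfl⟩
    exact P.invB g.1 g.2 A hA
  · intro hB
    obtain ⟨g, hg, rfl⟩ := P.trans A hA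
    obtain ⟨g', hg', rfl⟩ := P.trans B hB
    refine ⟨⟨g' * g⁻¹, M24.mul_mem hg' (M24.inv_mem hg)⟩, ?_⟩
    change (g' * g⁻¹) • g • A0 = g' • A0
    rw [mul_smul, inv_smul_smul]

theorem PairData.isCoatom_self (P : PairData ℬ ℬ c A0) {v₀ : ℕ} (hv₀ : c A0 A0 = v₀)
    (h₀ : {B | B ∈ ℬ ∧ c A0 B = v₀}.ncard = 1) (L : Finset ℕ) (sz : ℕ → ℕ)
    (hsz : ∀ v ∈ L, {B | B ∈ ℬ ∧ c A0 B = v}.ncard = sz v)
    (hcov : ∀ B ∈ ℬ, c A0 B = v₀ ∨ c A0 B ∈ L) (hv₀L : v₀ ∉ L) (hpos : 0 < ∑ v ∈ L, sz v)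
    (harith : ∀ S ∈ L.powerset, (1 + ∑ v ∈ S, sz v) ∣ (1 + ∑ v ∈ L, sz v) →
      (1 + ∑ v ∈ S, sz v) = 1 ∨ (1 + ∑ v ∈ S, sz v) = 1 + ∑ v ∈ L, sz v)
    {A : β} (hA : A ∈ ℬ) : IsCoatom (MulAction.stabilizer ↥M24 A) := by
  have horb := P.orbit_M24 hA
  have hH : ∀ g : ↥M24, g ∈ MulAction.stabilizer ↥M24 A ↔
      ((g : ↥M24) : Equiv.Perm GolayPt) • A = A := fun g => MulAction.mem_stabilizer_iff
  have hcovA : ∀ B ∈ ℬ, c A B = v₀ ∨ c A B ∈ L := by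
    obtain ⟨g, hg, rfl⟩ := P.trans A hA
    intro B hB
    have := hcov (g⁻¹ • B) (P.invB _ (M24.inv_mem hg) B hB)
    rw [P.c_inv (M24.inv_mem hg), inv_inv] at this
    exact this
  apply Cfsg.Agent.Helper9.isCoatom_stabilizer_of_suborbits' A (c A) L sz hpos
  · intro y hy z hz hyz
    rw [horb] at hy hz
    have : z ∈ MulAction.orbit ↥(MulAction.stabilizer ↥M24 A) y := by
      rw [P.orbit_eq hA _ hH hy]
      exact ⟨hz, hyz.symm⟩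
    obtain ⟨h, rfl⟩ := this
    exact ⟨h.1, h.2, rfl⟩
  · intro y hy hne
    rw [horb] at hy
    rcases hcovA y hy with h | h
    · exfalso
      have : y ∈ {B | B ∈ ℬ ∧ c A B = v₀} := ⟨hy, h⟩
      rw [P.class_self hv₀ h₀ hA] at this
      exact hne this
    · exact h
  · rw [P.c_self hA, hv₀]
    exact hv₀L
  · intro v hv
    rw [horb, P.ncard_class hA]
    exact hsz v hv
  · exact harith

/-- the object itself and three more orbits. -/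
theorem PairData.self_orbits3 (P : PairData ℬ ℬ c A0) (v₀ v₁ v₂ v₃ n₁ n₂ n₃ : ℕ)
    (hv₀ : c A0 A0 = v₀) (h₀ : {B | B ∈ ℬ ∧ c A0 B = v₀}.ncard = 1)
    (h₁ : {B' | B' ∈ ℬ ∧ c A0 B' = v₁}.ncard = n₁) (h₂ : {B' | B' ∈ ℬ ∧ c A0 B' = v₂}.ncard = n₂)
    (h₃ : {B' | B' ∈ ℬ ∧ c A0 B' = v₃}.ncard = n₃) (p₁ : 0 < n₁) (p₂ : 0 < n₂) (p₃ : 0 < n₃)
    (hV : ∀ B ∈ ℬ, c A0 B ∈ ({v₀, v₁, v₂, v₃} : Finset ℕ))
    {A : β} (hA : A ∈ ℬ) :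
    ∃ X₁ ∈ ℬ, ∃ X₂ ∈ ℬ, ∃ X₃ ∈ ℬ,
      (MulAction.orbit ↥(MulAction.stabilizer ↥M24 A) X₁).ncard = n₁ ∧
      (MulAction.orbit ↥(MulAction.stabilizer ↥M24 A) X₂).ncard = n₂ ∧
      (MulAction.orbit ↥(MulAction.stabilizer ↥M24 A) X₃).ncard = n₃ ∧
      ℬ = {A} ∪ MulAction.orbit ↥(MulAction.stabilizer ↥M24 A) X₁ ∪
        MulAction.orbit ↥(MulAction.stabilizer ↥M24 A) X₂ ∪
        MulAction.orbit ↥(MulAction.stabilizer ↥M24 A) X₃ := by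
  have hH : ∀ g : ↥M24, g ∈ MulAction.stabilizer ↥M24 A ↔
      ((g : ↥M24) : Equiv.Perm GolayPt) • A = A := fun g => MulAction.mem_stabilizer_iff
  obtain ⟨B₁, hB₁⟩ := exists_of_ncard_pos h₁ p₁
  obtain ⟨B₂, hB₂⟩ := exists_of_ncard_pos h₂ p₂
  obtain ⟨B₃, hB₃⟩ := exists_of_ncard_pos h₃ p₃
  obtain ⟨X₁, hX₁, c₁⟩ := P.exists_rep hA ⟨B₁, hB₁.1, hB₁.2⟩
  obtain ⟨X₂, hX₂, c₂⟩ := P.exists_rep hA ⟨B₂, hB₂.1, hB₂.2⟩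
  obtain ⟨X₃, hX₃, c₃⟩ := P.exists_rep hA ⟨B₃, hB₃.1, hB₃.2⟩
  refine ⟨X₁, hX₁, X₂, hX₂, X₃, hX₃, ?_, ?_, ?_, ?_⟩
  · rw [P.orbit_eq hA _ hH hX₁, c₁, P.ncard_class hA, h₁]
  · rw [P.orbit_eq hA _ hH hX₂, c₂, P.ncard_class hA, h₂]
  · rw [P.orbit_eq hA _ hH hX₃, c₃, P.ncard_class hA, h₃]
  · rw [P.orbit_eq hA _ hH hX₁, P.orbit_eq hA _ hH hX₂, P.orbit_eq hA _ hH hX₃, c₁, c₂, c₃,
      ← P.class_self hv₀ h₀ hA]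
    ext B
    simp only [Set.mem_union, Set.mem_ofPred_eq]
    constructor
    · intro hB
      have := P.cover hA _ hV B hB
      simp only [Finset.mem_insert, Finset.mem_singleton] at this
      rcases this with h | h | h | h
      · exact Or.inl (Or.inl (Or.inl ⟨hB, h⟩))
      · exact Or.inl (Or.inl (Or.inr ⟨hB, h⟩))
      · exact Or.inl (Or.inr ⟨hB, h⟩)
      · exact Or.inr ⟨hB, h⟩
    · rintro (((h | h) | h) | h) <;> exact h.1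

/-- the object itself and four more orbits. -/
theorem PairData.self_orbits4 (P : PairData ℬ ℬ c A0) (v₀ v₁ v₂ v₃ v₄ n₁ n₂ n₃ n₄ : ℕ)
    (hv₀ : c A0 A0 = v₀) (h₀ : {B | B ∈ ℬ ∧ c A0 B = v₀}.ncard = 1)
    (h₁ : {B' | B' ∈ ℬ ∧ c A0 B' = v₁}.ncard = n₁) (h₂ : {B' | B' ∈ ℬ ∧ c A0 B' = v₂}.ncard = n₂)
    (h₃ : {B' | B' ∈ ℬ ∧ c A0 B' = v₃}.ncard = n₃) (h₄ : {B' | B' ∈ ℬ ∧ c A0 B' = v₄}.ncard = n₄)
    (p₁ : 0 < n₁) (p₂ : 0 < n₂) (p₃ : 0 < n₃) (p₄ : 0 < n₄)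
    (hV : ∀ B ∈ ℬ, c A0 B ∈ ({v₀, v₁, v₂, v₃, v₄} : Finset ℕ))
    {A : β} (hA : A ∈ ℬ) :
    ∃ X₁ ∈ ℬ, ∃ X₂ ∈ ℬ, ∃ X₃ ∈ ℬ, ∃ X₄ ∈ ℬ,
      (MulAction.orbit ↥(MulAction.stabilizer ↥M24 A) X₁).ncard = n₁ ∧
      (MulAction.orbit ↥(MulAction.stabilizer ↥M24 A) X₂).ncard = n₂ ∧
      (MulAction.orbit ↥(MulAction.stabilizer ↥M24 A) X₃).ncard = n₃ ∧
      (MulAction.orbit ↥(MulAction.stabilizer ↥M24 A) X₄).ncard = n₄ ∧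
      ℬ = {A} ∪ MulAction.orbit ↥(MulAction.stabilizer ↥M24 A) X₁ ∪
        MulAction.orbit ↥(MulAction.stabilizer ↥M24 A) X₂ ∪
        MulAction.orbit ↥(MulAction.stabilizer ↥M24 A) X₃ ∪
        MulAction.orbit ↥(MulAction.stabilizer ↥M24 A) X₄ := by
  have hH : ∀ g : ↥M24, g ∈ MulAction.stabilizer ↥M24 A ↔
      ((g : ↥M24) : Equiv.Perm GolayPt) • A = A := fun g => MulAction.mem_stabilizer_iff
  obtain ⟨B₁, hB₁⟩ := exists_of_ncard_pos h₁ p₁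
  obtain ⟨B₂, hB₂⟩ := exists_of_ncard_pos h₂ p₂
  obtain ⟨B₃, hB₃⟩ := exists_of_ncard_pos h₃ p₃
  obtain ⟨B₄, hB₄⟩ := exists_of_ncard_pos h₄ p₄
  obtain ⟨X₁, hX₁, c₁⟩ := P.exists_rep hA ⟨B₁, hB₁.1, hB₁.2⟩
  obtain ⟨X₂, hX₂, c₂⟩ := P.exists_rep hA ⟨B₂, hB₂.1, hB₂.2⟩
  obtain ⟨X₃, hX₃, c₃⟩ := P.exists_rep hA ⟨B₃, hB₃.1, hB₃.2⟩
  obtain ⟨X₄, hX₄, c₄⟩ := P.exists_rep hA ⟨B₄, hB₄.1, hB₄.2⟩
  refine ⟨X₁, hX₁, X₂, hX₂, X₃, hX₃, X₄, hX₄, ?_, ?_, ?_, ?_, ?_⟩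
  · rw [P.orbit_eq hA _ hH hX₁, c₁, P.ncard_class hA, h₁]
  · rw [P.orbit_eq hA _ hH hX₂, c₂, P.ncard_class hA, h₂]
  · rw [P.orbit_eq hA _ hH hX₃, c₃, P.ncard_class hA, h₃]
  · rw [P.orbit_eq hA _ hH hX₄, c₄, P.ncard_class hA, h₄]
  · rw [P.orbit_eq hA _ hH hX₁, P.orbit_eq hA _ hH hX₂, P.orbit_eq hA _ hH hX₃,
      P.orbit_eq hA _ hH hX₄, c₁, c₂, c₃, c₄, ← P.class_self hv₀ h₀ hA]
    ext B
    simp only [Set.mem_union, Set.mem_ofPred_eq]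
    constructor
    · intro hB
      have := P.cover hA _ hV B hB
      simp only [Finset.mem_insert, Finset.mem_singleton] at this
      rcases this with h | h | h | h | h
      · exact Or.inl (Or.inl (Or.inl (Or.inl ⟨hB, h⟩)))
      · exact Or.inl (Or.inl (Or.inl (Or.inr ⟨hB, h⟩)))
      · exact Or.inl (Or.inl (Or.inr ⟨hB, h⟩))
      · exact Or.inl (Or.inr ⟨hB, h⟩)
      · exact Or.inr ⟨hB, h⟩
    · rintro ((((h | h) | h) | h) | h) <;> exact h.1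

end

end Cfsg.Agent.Helper9.Golay
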