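import Mathlib
import Cfsg.Prelude.Def_Sporadic_a
import Cfsg.Prelude.Def_SporadicCombinatorics
import Cfsg.Agent.Helper9.Golay.OrbFam
import Cfsg.Agent.Helper9.Golay.OrbData_sx

set_option autoImplicit false

/-!
The orbits of the stabilizer of a sextet on the octads and on the trios.
-/

namespace Cfsg.Agent.Helper9.Golay

open Cfsg
open scoped Pointwise

theorem sxG_mem : famOf sxG.e0 ∈ sextets :=
  famOf_mem_sextets (by decide +kernel : okSextF sxG.e0 = true)

theorem sx_trans : ∀ A ∈ sextets, ∃ g ∈ M24, g • famOf sxG.e0 = A :=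
  fun _ hA => sextets_transitive sxG_mem hA

theorem orbits_sextet_stabilizer (S : Finset (Finset GolayPt)) (hS : S ∈ sextets) :
    (∃ X₁ ∈ octads, ∃ X₂ ∈ octads, ∃ X₃ ∈ octads,
      (MulAction.orbit ↥(MulAction.stabilizer ↥M24 S) X₁).ncard = 15 ∧
      (MulAction.orbit ↥(MulAction.stabilizer ↥M24 S) X₂).ncard = 360 ∧
      (MulAction.orbit ↥(MulAction.stabilizer ↥M24 S) X₃).ncard = 384 ∧
      octads = MulAction.orbit ↥(MulAction.stabilizer ↥M24 S) X₁ ∪
        MulAction.orbit ↥(MulAction.stabilizer ↥M24 S) X₂ ∪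
        MulAction.orbit ↥(MulAction.stabilizer ↥M24 S) X₃) ∧
    (∃ Y₁ ∈ trios, ∃ Y₂ ∈ trios, ∃ Y₃ ∈ trios, ∃ Y₄ ∈ trios,
      (MulAction.orbit ↥(MulAction.stabilizer ↥M24 S) Y₁).ncard = 15 ∧
      (MulAction.orbit ↥(MulAction.stabilizer ↥M24 S) Y₂).ncard = 180 ∧
      (MulAction.orbit ↥(MulAction.stabilizer ↥M24 S) Y₃).ncard = 720 ∧
      (MulAction.orbit ↥(MulAction.stabilizer ↥M24 S) Y₄).ncard = 2880 ∧
      trios = MulAction.orbit ↥(MulAction.stabilizer ↥M24 S) Y₁ ∪
        MulAction.orbit ↥(MulAction.stabilizer ↥M24 S) Y₂ ∪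
        MulAction.orbit ↥(MulAction.stabilizer ↥M24 S) Y₃ ∪
        MulAction.orbit ↥(MulAction.stabilizer ↥M24 S) Y₄) := by
  have he0 := sxG.ok_e0 sxG_ok
  have hH : ∀ g : ↥M24, g ∈ MulAction.stabilizer ↥M24 S ↔
      ((g : ↥M24) : Equiv.Perm GolayPt) • S = S := fun g => MulAction.mem_stabilizer_iff
  constructor
  · have P := pairData_fam_oct sx_trans (sxO.sep sxG_ok octFams_listing sxO_ok)
    have hcount := fun v => octads_count he0 (sxO.vals_eq sxO_ok) v
    have hcover := octads_cover he0 (sxO.vals_eq sxO_ok) _ sxO_cover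
    exact P.orbits3 32 16 14 15 360 384 ((hcount 32).trans sxO_count32)
      ((hcount 16).trans sxO_count16) ((hcount 14).trans sxO_count14) (by norm_num) (by norm_num)
      (by norm_num) (by
        intro B hB
        have := hcover B hB
        simp only [Finset.mem_insert, Finset.mem_singleton] at this ⊢
        omega) hS _ hH
  · have P := pairData_fam trios_inv₂ sx_trans (sxT.sep sxG_ok trios_listing sxT_ok)
    have hcount := fun v => trios_listing.count he0 (sxT.vals_eq sxT_ok) v
    have hcover := trios_listing.cover he0 (sxT.vals_eq sxT_ok) _ sxT_cover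
    exact P.orbits4 96 64 48 44 15 180 720 2880 ((hcount 96).trans sxT_count96)
      ((hcount 64).trans sxT_count64) ((hcount 48).trans sxT_count48)
      ((hcount 44).trans sxT_count44) (by norm_num) (by norm_num) (by norm_num) (by norm_num)
      (by
        intro B hB
        have := hcover B hB
        simp only [Finset.mem_insert, Finset.mem_singleton] at this ⊢
        omega) hS _ hH

end Cfsg.Agent.Helper9.Golay
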