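import Mathlib
import Cfsg.Prelude.Def_Sporadic_a
import Cfsg.Prelude.Def_SporadicCombinatorics
import Cfsg.Agent.Helper9.Golay.OrbSext
import Cfsg.Agent.Helper9.Golay.OrbSelf

set_option autoImplicit false

/-!
The orbits of the stabilizer of a sextet on the sextets; the stabilizer is maximal.
-/

namespace Cfsg.Agent.Helper9.Golay

open Cfsg
open scoped Pointwise

theorem sxG_self : cfamB sxG.e0 sxG.e0 = 96 := by decide +kernel

theorem sextet_stabilizer_orbits (S : Finset (Finset GolayPt)) (hS : S ∈ sextets) :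
    ∃ X₁ ∈ sextets, ∃ X₂ ∈ sextets, ∃ X₃ ∈ sextets,
      (MulAction.orbit ↥(MulAction.stabilizer ↥M24 S) X₁).ncard = 90 ∧
      (MulAction.orbit ↥(MulAction.stabilizer ↥M24 S) X₂).ncard = 240 ∧
      (MulAction.orbit ↥(MulAction.stabilizer ↥M24 S) X₃).ncard = 1440 ∧
      sextets = {S} ∪ MulAction.orbit ↥(MulAction.stabilizer ↥M24 S) X₁ ∪
        MulAction.orbit ↥(MulAction.stabilizer ↥M24 S) X₂ ∪
        MulAction.orbit ↥(MulAction.stabilizer ↥M24 S) X₃ ∧
      IsCoatom (MulAction.stabilizer ↥M24 S) := by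
  have he0 := sxG.ok_e0 sxG_ok
  have P := pairData_fam (𝒜 := sextets) sextets_inv₂ sx_trans
    (sxS.sep sxG_ok sextets_listing sxS_ok)
  have hcount := fun v => sextets_listing.count he0 (sxS.vals_eq sxS_ok) v
  have hcover := sextets_listing.cover he0 (sxS.vals_eq sxS_ok) _ sxS_cover
  have hv₀ : cfam (famOf sxG.e0) (famOf sxG.e0) = 96 := by rw [cfam_famOf he0 he0, sxG_self]
  have hV : ∀ B ∈ sextets, cfam (famOf sxG.e0) B ∈ ({96, 48, 36, 32} : Finset ℕ) := by
    intro B hB
    have := hcover B hB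
    simp only [Finset.mem_insert, Finset.mem_singleton] at this ⊢
    omega
  obtain ⟨X₁, hX₁, X₂, hX₂, X₃, hX₃, e₁, e₂, e₃, e₄⟩ :=
    P.self_orbits3 96 48 36 32 90 240 1440 hv₀ ((hcount 96).trans sxS_count96)
      ((hcount 48).trans sxS_count48) ((hcount 36).trans sxS_count36)
      ((hcount 32).trans sxS_count32) (by norm_num) (by norm_num) (by norm_num) hV hS
  refine ⟨X₁, hX₁, X₂, hX₂, X₃, hX₃, e₁, e₂, e₃, e₄, ?_⟩
  apply P.isCoatom_self hv₀ ((hcount 96).trans sxS_count96) ({48, 36, 32} : Finset ℕ)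
    (fun v => if v = 48 then 90 else if v = 36 then 240 else 1440)
  · intro v hv
    simp only [Finset.mem_insert, Finset.mem_singleton] at hv
    rcases hv with rfl | rfl | rfl
    · exact (hcount 48).trans sxS_count48
    · exact (hcount 36).trans sxS_count36
    · exact (hcount 32).trans sxS_count32
  · intro B hB
    have := hV B hB
    simp only [Finset.mem_insert, Finset.mem_singleton] at this ⊢
    omega
  · decide
  · decide
  · decide
  · exact hS

end Cfsg.Agent.Helper9.Golay
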