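import Mathlib
import Cfsg.Prelude.Def_Sporadic_a
import Cfsg.Prelude.Def_SporadicCombinatorics
import Cfsg.Agent.Helper9.Golay.OrbFam
import Cfsg.Agent.Helper9.Golay.OrbData_tr

set_option autoImplicit false

/-!
The orbits of the stabilizer of a trio on the octads and on the sextets.
-/

namespace Cfsg.Agent.Helper9.Golay

open Cfsg
open scoped Pointwise

theorem trG_mem : famOf trG.e0 ∈ trios :=
  famOf_mem_trios (by decide +kernel : okTrioF trG.e0 = true)

theorem tr_trans : ∀ A ∈ trios, ∃ g ∈ M24, g • famOf trG.e0 = A :=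
  fun _ hA => trios_transitive trG_mem hA

theorem orbits_trio_stabilizer (T : Finset (Finset GolayPt)) (hT : T ∈ trios) :
    (∃ X₁ ∈ octads, ∃ X₂ ∈ octads, ∃ X₃ ∈ octads,
      (MulAction.orbit ↥(MulAction.stabilizer ↥M24 T) X₁).ncard = 3 ∧
      (MulAction.orbit ↥(MulAction.stabilizer ↥M24 T) X₂).ncard = 84 ∧
      (MulAction.orbit ↥(MulAction.stabilizer ↥M24 T) X₃).ncard = 672 ∧
      octads = MulAction.orbit ↥(MulAction.stabilizer ↥M24 T) X₁ ∪
        MulAction.orbit ↥(MulAction.stabilizer ↥M24 T) X₂ ∪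
        MulAction.orbit ↥(MulAction.stabilizer ↥M24 T) X₃) ∧
    (∃ Y₁ ∈ sextets, ∃ Y₂ ∈ sextets, ∃ Y₃ ∈ sextets, ∃ Y₄ ∈ sextets,
      (MulAction.orbit ↥(MulAction.stabilizer ↥M24 T) Y₁).ncard = 7 ∧
      (MulAction.orbit ↥(MulAction.stabilizer ↥M24 T) Y₂).ncard = 84 ∧
      (MulAction.orbit ↥(MulAction.stabilizer ↥M24 T) Y₃).ncard = 336 ∧
      (MulAction.orbit ↥(MulAction.stabilizer ↥M24 T) Y₄).ncard = 1344 ∧
      sextets = MulAction.orbit ↥(MulAction.stabilizer ↥M24 T) Y₁ ∪
        MulAction.orbit ↥(MulAction.stabilizer ↥M24 T) Y₂ ∪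
        MulAction.orbit ↥(MulAction.stabilizer ↥M24 T) Y₃ ∪
        MulAction.orbit ↥(MulAction.stabilizer ↥M24 T) Y₄) := by
  have he0 := trG.ok_e0 trG_ok
  have hH : ∀ g : ↥M24, g ∈ MulAction.stabilizer ↥M24 T ↔
      ((g : ↥M24) : Equiv.Perm GolayPt) • T = T := fun g => MulAction.mem_stabilizer_iff
  constructor
  · have P := pairData_fam_oct tr_trans (trO.sep trG_ok octFams_listing trO_ok)
    have hcount := fun v => octads_count he0 (trO.vals_eq trO_ok) v
    have hcover := octads_cover he0 (trO.vals_eq trO_ok) _ trO_cover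
    exact P.orbits3 64 32 24 3 84 672 ((hcount 64).trans trO_count64)
      ((hcount 32).trans trO_count32) ((hcount 24).trans trO_count24) (by norm_num) (by norm_num)
      (by norm_num) (by
        intro B hB
        have := hcover B hB
        simp only [Finset.mem_insert, Finset.mem_singleton] at this ⊢
        omega) hT _ hH
  · have P := pairData_fam sextets_inv₂ tr_trans (trS.sep trG_ok sextets_listing trS_ok)
    have hcount := fun v => sextets_listing.count he0 (trS.vals_eq trS_ok) v
    have hcover := sextets_listing.cover he0 (trS.vals_eq trS_ok) _ trS_cover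
    exact P.orbits4 96 64 48 44 7 84 336 1344 ((hcount 96).trans trS_count96)
      ((hcount 64).trans trS_count64) ((hcount 48).trans trS_count48)
      ((hcount 44).trans trS_count44) (by norm_num) (by norm_num) (by norm_num) (by norm_num)
      (by
        intro B hB
        have := hcover B hB
        simp only [Finset.mem_insert, Finset.mem_singleton] at this ⊢
        omega) hT _ hH

end Cfsg.Agent.Helper9.Golay
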