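import Mathlib
import Cfsg.Prelude.Def_Sporadic_a
import Cfsg.Prelude.Def_SporadicCombinatorics
import Cfsg.Agent.Helper9.Golay.OrbTrio
import Cfsg.Agent.Helper9.Golay.OrbSelf

set_option autoImplicit false

/-!
The orbits of the stabilizer of a trio on the trios; the stabilizer is maximal.
-/

namespace Cfsg.Agent.Helper9.Golay

open Cfsg
open scoped Pointwise

theorem trG_self : cfamB trG.e0 trG.e0 = 192 := by decide +kernel

theorem trio_stabilizer_orbits (T : Finset (Finset GolayPt)) (hT : T ∈ trios) :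
    ∃ X₁ ∈ trios, ∃ X₂ ∈ trios, ∃ X₃ ∈ trios, ∃ X₄ ∈ trios,
      (MulAction.orbit ↥(MulAction.stabilizer ↥M24 T) X₁).ncard = 42 ∧
      (MulAction.orbit ↥(MulAction.stabilizer ↥M24 T) X₂).ncard = 56 ∧
      (MulAction.orbit ↥(MulAction.stabilizer ↥M24 T) X₃).ncard = 1008 ∧
      (MulAction.orbit ↥(MulAction.stabilizer ↥M24 T) X₄).ncard = 2688 ∧
      trios = {T} ∪ MulAction.orbit ↥(MulAction.stabilizer ↥M24 T) X₁ ∪
        MulAction.orbit ↥(MulAction.stabilizer ↥M24 T) X₂ ∪
        MulAction.orbit ↥(MulAction.stabilizer ↥M24 T) X₃ ∪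
        MulAction.orbit ↥(MulAction.stabilizer ↥M24 T) X₄ ∧
      IsCoatom (MulAction.stabilizer ↥M24 T) := by
  have he0 := trG.ok_e0 trG_ok
  have P := pairData_fam (𝒜 := trios) trios_inv₂ tr_trans
    (trT.sep trG_ok trios_listing trT_ok)
  have hcount := fun v => trios_listing.count he0 (trT.vals_eq trT_ok) v
  have hcover := trios_listing.cover he0 (trT.vals_eq trT_ok) _ trT_cover
  have hv₀ : cfam (famOf trG.e0) (famOf trG.e0) = 192 := by rw [cfam_famOf he0 he0, trG_self]
  have hV : ∀ B ∈ trios, cfam (famOf trG.e0) B ∈ ({192, 128, 96, 80, 72} : Finset ℕ) := by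
    intro B hB
    have := hcover B hB
    simp only [Finset.mem_insert, Finset.mem_singleton] at this ⊢
    omega
  obtain ⟨X₁, hX₁, X₂, hX₂, X₃, hX₃, X₄, hX₄, e₁, e₂, e₃, e₄, e₅⟩ :=
    P.self_orbits4 192 128 96 80 72 42 56 1008 2688 hv₀ ((hcount 192).trans trT_count192)
      ((hcount 128).trans trT_count128) ((hcount 96).trans trT_count96)
      ((hcount 80).trans trT_count80) ((hcount 72).trans trT_count72)
      (by norm_num) (by norm_num) (by norm_num) (by norm_num) hV hT
  refine ⟨X₁, hX₁, X₂, hX₂, X₃, hX₃, X₄, hX₄, e₁, e₂, e₃, e₄, e₅, ?_⟩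
  apply P.isCoatom_self hv₀ ((hcount 192).trans trT_count192) ({128, 96, 80, 72} : Finset ℕ)
    (fun v => if v = 128 then 42 else if v = 96 then 56 else if v = 80 then 1008 else 2688)
  · intro v hv
    simp only [Finset.mem_insert, Finset.mem_singleton] at hv
    rcases hv with rfl | rfl | rfl | rfl
    · exact (hcount 128).trans trT_count128
    · exact (hcount 96).trans trT_count96
    · exact (hcount 80).trans trT_count80
    · exact (hcount 72).trans trT_count72
  · intro B hB
    have := hV B hB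
    simp only [Finset.mem_insert, Finset.mem_singleton] at this ⊢
    omega
  · decide
  · decide
  · decide
  · exact hT

end Cfsg.Agent.Helper9.Golay
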