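import Mathlib
import Cfsg.Prelude
import Cfsg.Agent.Helper9.Golay.Syl2
import Cfsg.Agent.Helper9.Golay.P2QData

set_option autoImplicit false

/-!
The quotient of a Sylow 2-subgroup of the Mathieu group on 24 points by its centre, as a set of
512 numbered cosets with a computable multiplication.
-/

namespace Cfsg.Agent.Helper9.P2Q

open Cfsg Cfsg.Agent.Helper9.Golay

/-- the table number `i`, as a number of 120 bits. -/
def tblNum (i : ℕ) : ℕ := fld (q2TabC.getD (i / 32) 0) 120 (i % 32)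

def entN (t x : ℕ) : ℕ := (t >>> (5 * x)) &&& 31

/-- the value at `x` of the table number `i`. -/
def ent (i x : ℕ) : ℕ := entN (tblNum i) x

/-- evaluate the argument first. -/
def force {α : Type} (n : ℕ) (f : ℕ → α) : α :=
  match n with
  | 0 => f 0
  | k + 1 => f (k + 1)

theorem force_eq {α : Type} (n : ℕ) (f : ℕ → α) : force n f = f n := by
  cases n <;> rfl

theorem fld_check : (List.range 1024).all (fun i =>
    fld p2Tab 120 i == fld (q2TabC.getD (i / 32) 0) 120 (i % 32)) = true := by decide +kernel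

theorem acc_getD {i : ℕ} (hi : i < 1024) {x : ℕ} (hx : x < 24) :
    (p2G.acc i).getD x 0 = ent i x := by
  have h := List.all_eq_true.mp fld_check i (List.mem_range.mpr hi)
  rw [beq_iff_eq] at h
  unfold Packed.acc decT ent entN tblNum
  rw [List.getD_eq_getElem _ _ (by simpa using hx), List.getElem_map, List.getElem_range, ← h]
  rfl

def keyT (t : List ℕ) : ℕ × ℕ × ℕ := (t.getD 0 0, t.getD 5 0, t.getD 6 0)

def lookup (k : ℕ × ℕ × ℕ) : ℕ := (q2KeyC.getD k.1 0 >>> (10 * (24 * k.2.1 + k.2.2))) &&& 1023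

/-- the number of the product of two elements. -/
def mulIdx (i j : ℕ) : ℕ :=
  force (tblNum i) fun ti => force (tblNum j) fun tj =>
    lookup (entN ti (entN tj 0), entN ti (entN tj 5), entN ti (entN tj 6))

theorem mulIdx_eq (i j : ℕ) :
    mulIdx i j = lookup (ent i (ent j 0), ent i (ent j 5), ent i (ent j 6)) := by
  unfold mulIdx
  rw [force_eq, force_eq]
  rfl

theorem lookup_ok : (List.range 1024).all (fun j => lookup (keyT (p2G.acc j)) == j) = true := by
  decide +kernel

/-- the number of an element of the Sylow subgroup. -/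
def idx (g : ↥M24) : ℕ := lookup (keyT (tblOf (g : Equiv.Perm GolayPt)))

theorem idx_spec {g : ↥M24} (hg : g ∈ P2) :
    idx g < 1024 ∧ p2G.acc (idx g) = tblOf (g : Equiv.Perm GolayPt) := by
  obtain ⟨t, ht, hT⟩ := (mem_P2 g).mp hg
  obtain ⟨j, hj, rfl⟩ := (p2G.mem_tabs t).mp ht
  have hj' : j < 1024 := hj
  have e : tblOf (g : Equiv.Perm GolayPt) = p2G.acc j := (tbl_eq_tblOf hT).symm
  have h1 := List.all_eq_true.mp lookup_ok j (List.mem_range.mpr hj')
  rw [beq_iff_eq] at h1
  unfold idx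
  rw [e, h1]
  exact ⟨hj', rfl⟩

theorem idx_inj {g h : ↥M24} (hg : g ∈ P2) (hh : h ∈ P2) (e : idx g = idx h) : g = h := by
  apply Subtype.ext
  have h1 := (idx_spec hg).2
  have h2 := (idx_spec hh).2
  rw [e, h2] at h1
  have := isTbl_tblOf (g : Equiv.Perm GolayPt)
  rw [← h1] at this
  exact this.eq_of_eq (isTbl_tblOf _)

theorem idx_surj {j : ℕ} (hj : j < 1024) : ∃ g ∈ P2, idx g = j := by
  have hmem : p2G.acc j ∈ p2G.tabs := (p2G.mem_tabs _).mpr ⟨j, hj, rfl⟩
  obtain ⟨σ, hσ, hT⟩ := p2_real _ hmem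
  refine ⟨⟨σ, hσ⟩, (mem_P2 _).mpr ⟨_, hmem, hT⟩, ?_⟩
  unfold idx
  rw [← tbl_eq_tblOf hT]
  have h1 := List.all_eq_true.mp lookup_ok j (List.mem_range.mpr hj)
  rwa [beq_iff_eq] at h1

theorem tblOf_getD (σ : Equiv.Perm GolayPt) {x : ℕ} (hx : x < 24) :
    (tblOf σ).getD x 0 = ptIdx (σ (idxPtN x)) := by
  have := (isTbl_tblOf σ).2 (idxPtN x)
  rwa [ptIdx_idxPtN hx] at this

theorem ent_idx {g : ↥M24} (hg : g ∈ P2) {x : ℕ} (hx : x < 24) :
    ent (idx g) x = ptIdx ((g : Equiv.Perm GolayPt) (idxPtN x)) := by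
  rw [← acc_getD (idx_spec hg).1 hx, (idx_spec hg).2, tblOf_getD _ hx]

theorem idx_mul {g h : ↥M24} (hg : g ∈ P2) (hh : h ∈ P2) :
    idx (g * h) = mulIdx (idx g) (idx h) := by
  rw [mulIdx_eq]
  rw [ent_idx hh (by norm_num : 0 < 24), ent_idx hh (by norm_num : 5 < 24),
    ent_idx hh (by norm_num : 6 < 24), ent_idx hg (ptIdx_lt _), ent_idx hg (ptIdx_lt _),
    ent_idx hg (ptIdx_lt _), idxPtN_ptIdx, idxPtN_ptIdx, idxPtN_ptIdx]
  unfold idx keyT
  rw [tblOf_getD _ (by norm_num : 0 < 24), tblOf_getD _ (by norm_num : 5 < 24),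
    tblOf_getD _ (by norm_num : 6 < 24)]
  rfl

theorem one_mem_idx : idx 1 = 1023 := by
  unfold idx
  have : tblOf ((1 : ↥M24) : Equiv.Perm GolayPt) = p2G.acc 1023 := by
    have e : tblOf ((1 : ↥M24) : Equiv.Perm GolayPt) = idT := (tbl_eq_tblOf isTbl_one).symm
    rw [e]
    decide +kernel
  rw [this]
  have h1 := List.all_eq_true.mp lookup_ok 1023 (List.mem_range.mpr (by norm_num))
  rwa [beq_iff_eq] at h1

/-! ### the centre -/

theorem center_check : (List.range 1024).all (fun i => (i == 12 || i == 1023) ||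
    (List.range 1024).any (fun j => mulIdx i j != mulIdx j i)) = true := by decide +kernel

theorem central_check : (List.range 1024).all (fun j => mulIdx 12 j == mulIdx j 12 &&
    mulIdx 1023 j == j && mulIdx j 1023 == j && mulIdx 12 (mulIdx 12 j) == j) = true := by
  decide +kernel

theorem central_facts {j : ℕ} (hj : j < 1024) : mulIdx 12 j = mulIdx j 12 ∧ mulIdx 1023 j = j ∧
    mulIdx j 1023 = j ∧ mulIdx 12 (mulIdx 12 j) = j := by
  have := List.all_eq_true.mp central_check j (List.mem_range.mpr hj)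
  simp only [Bool.and_eq_true, beq_iff_eq] at this
  exact ⟨this.1.1.1, this.1.1.2, this.1.2, this.2⟩

theorem mem_center_iff (g : ↥P2) :
    g ∈ Subgroup.center ↥P2 ↔ idx g.1 = 12 ∨ idx g.1 = 1023 := by
  rw [Subgroup.mem_center_iff]
  constructor
  · intro h
    have hi := (idx_spec g.2).1
    have hc := List.all_eq_true.mp center_check (idx g.1) (List.mem_range.mpr hi)
    rw [Bool.or_eq_true] at hc
    rcases hc with hc | hc
    · simpa using hc
    · exfalso
      rw [List.any_eq_true] at hc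
      obtain ⟨j, hj, hne⟩ := hc
      obtain ⟨k, hk, rfl⟩ := idx_surj (List.mem_range.mp hj)
      have h1 := h ⟨k, hk⟩
      have h2 : k * g.1 = g.1 * k := congrArg Subtype.val h1
      have e1 : idx (k * g.1) = idx (g.1 * k) := by rw [h2]
      rw [idx_mul hk g.2, idx_mul g.2 hk] at e1
      rw [e1] at hne
      simp at hne
  · intro h k
    apply Subtype.ext
    apply idx_inj (P2.mul_mem k.2 g.2) (P2.mul_mem g.2 k.2)
    rw [idx_mul k.2 g.2, idx_mul g.2 k.2]
    obtain ⟨c1, c2, c3, -⟩ := central_facts (idx_spec k.2).1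
    rcases h with h | h
    · rw [h, c1]
    · rw [h, c2, c3]

/-! ### the cosets of the centre -/

def posOf (i : ℕ) : ℕ := (q2Pos >>> (9 * i)) &&& 511

def repAt (p : ℕ) : ℕ := (q2Reps >>> (10 * p)) &&& 1023

/-- the number of the product of two cosets. -/
def mulQ (p p' : ℕ) : ℕ :=
  force (repAt p) fun i => force (repAt p') fun j => posOf (mulIdx i j)

theorem mulQ_eq (p p' : ℕ) : mulQ p p' = posOf (mulIdx (repAt p) (repAt p')) := by
  unfold mulQ
  rw [force_eq, force_eq]

theorem pos_check : (List.range 1024).all (fun i => decide (posOf i < 512) &&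
    posOf (mulIdx 12 i) == posOf i &&
    (repAt (posOf i) == i || repAt (posOf i) == mulIdx 12 i)) = true := by decide +kernel

theorem rep_check : (List.range 512).all (fun p => decide (repAt p < 1024) &&
    posOf (repAt p) == p) = true := by decide +kernel

theorem pos_facts {i : ℕ} (hi : i < 1024) : posOf i < 512 ∧ posOf (mulIdx 12 i) = posOf i ∧
    (repAt (posOf i) = i ∨ repAt (posOf i) = mulIdx 12 i) := by
  have := List.all_eq_true.mp pos_check i (List.mem_range.mpr hi)
  simp only [Bool.and_eq_true, Bool.or_eq_true, beq_iff_eq, decide_eq_true_eq] at this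
  exact ⟨this.1.1, this.1.2, this.2⟩

theorem rep_facts {p : ℕ} (hp : p < 512) : repAt p < 1024 ∧ posOf (repAt p) = p := by
  have := List.all_eq_true.mp rep_check p (List.mem_range.mpr hp)
  simp only [Bool.and_eq_true, beq_iff_eq, decide_eq_true_eq] at this
  exact this

/-- the quotient by the centre. -/
abbrev Q2 : Type := ↥P2 ⧸ Subgroup.center ↥P2

/-- the central involution. -/
theorem exists_z : ∃ z : ↥P2, z ∈ Subgroup.center ↥P2 ∧ idx z.1 = 12 := by
  obtain ⟨g, hg, hi⟩ := idx_surj (by norm_num : 12 < 1024)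
  exact ⟨⟨g, hg⟩, (mem_center_iff _).mpr (Or.inl hi), hi⟩

/-- the number of the coset of an element. -/
def rho0 (g : ↥P2) : ℕ := posOf (idx g.1)

theorem rho0_mul_center (g h : ↥P2) (hh : h ∈ Subgroup.center ↥P2) : rho0 (g * h) = rho0 g := by
  unfold rho0
  rw [Subgroup.coe_mul, idx_mul g.2 h.2]
  obtain ⟨c1, c2, c3, -⟩ := central_facts (idx_spec g.2).1
  rcases (mem_center_iff h).mp hh with e | e
  · rw [e, ← c1, (pos_facts (idx_spec g.2).1).2.1]
  · rw [e, c3]

/-- the number of a coset. -/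
noncomputable def rho (q : Q2) : ℕ := rho0 q.out

theorem rho_mk (g : ↥P2) : rho (QuotientGroup.mk g) = rho0 g := by
  unfold rho
  obtain ⟨h, hh⟩ := QuotientGroup.mk_out_eq_mul (Subgroup.center ↥P2) g
  rw [hh]
  exact rho0_mul_center g h.1 h.2

theorem rho_lt (q : Q2) : rho q < 512 := (pos_facts (idx_spec q.out.2).1).1

/-- a representative of a coset with the chosen number. -/
theorem exists_rep (q : Q2) : ∃ g : ↥P2, QuotientGroup.mk g = q ∧ idx g.1 = repAt (rho q) := by
  obtain ⟨z, hz, hzi⟩ := exists_z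
  have hq : (QuotientGroup.mk q.out : Q2) = q := QuotientGroup.out_eq' q
  rcases (pos_facts (idx_spec q.out.2).1).2.2 with e | e
  · exact ⟨q.out, hq, e.symm⟩
  · refine ⟨q.out * z, ?_, ?_⟩
    · rw [QuotientGroup.mk_mul, hq, (QuotientGroup.eq_one_iff z).mpr hz, mul_one]
    · rw [Subgroup.coe_mul, idx_mul q.out.2 z.2, hzi]
      unfold rho rho0
      rw [e, (central_facts (idx_spec q.out.2).1).1]

theorem rho_mul (q q' : Q2) : rho (q * q') = mulQ (rho q) (rho q') := by
  obtain ⟨g, rfl, hgi⟩ := exists_rep q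
  obtain ⟨g', rfl, hgi'⟩ := exists_rep q'
  rw [← QuotientGroup.mk_mul, rho_mk, mulQ_eq]
  unfold rho0
  rw [Subgroup.coe_mul, idx_mul g.2 g'.2, hgi, hgi']

theorem rho_inj {q q' : Q2} (h : rho q = rho q') : q = q' := by
  obtain ⟨g, rfl, hgi⟩ := exists_rep q
  obtain ⟨g', rfl, hgi'⟩ := exists_rep q'
  have : g = g' := by
    apply Subtype.ext
    apply idx_inj g.2 g'.2
    rw [hgi, hgi', h]
  rw [this]

theorem rho_surj {p : ℕ} (hp : p < 512) : ∃ q : Q2, rho q = p := by
  obtain ⟨h1, h2⟩ := rep_facts hp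
  obtain ⟨g, hg, hi⟩ := idx_surj h1
  refine ⟨QuotientGroup.mk (⟨g, hg⟩ : ↥P2), ?_⟩
  rw [rho_mk]
  unfold rho0
  rw [hi, h2]

theorem rho_one : rho (1 : Q2) = q2One := by
  have : (1 : Q2) = QuotientGroup.mk (1 : ↥P2) := rfl
  rw [this, rho_mk]
  unfold rho0
  rw [Subgroup.coe_one, one_mem_idx]
  decide +kernel

end Cfsg.Agent.Helper9.P2Q
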