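import Mathlib
import Cfsg.Prelude
import Cfsg.Agent.Helper9.Golay.P2Q

set_option autoImplicit false

/-!
Subgroups of the quotient of a Sylow 2-subgroup of the Mathieu group on 24 points by its centre:
the centres of the maximal subgroups, and the abelian subgroups of order 64.
-/

namespace Cfsg.Agent.Helper9.P2Q

open Cfsg Cfsg.Agent.Helper9.Golay

/-- a numbering of the elements of a group by the cosets of the centre of the Sylow subgroup,
compatible with the products. -/
structure Model (S : Type*) [Group S] (r : S → ℕ) : Prop where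
  inj : Function.Injective r
  lt : ∀ s, r s < 512
  surj : ∀ p < 512, ∃ s, r s = p
  mul : ∀ s s', r (s * s') = mulQ (r s) (r s')
  one : r 1 = q2One

theorem model_Q2 : Model Q2 rho :=
  ⟨fun _ _ h => rho_inj h, rho_lt, fun _ hp => rho_surj hp, rho_mul, rho_one⟩

theorem Model.comp {S : Type*} [Group S] (e : S ≃* Q2) : Model S (fun s => rho (e s)) :=
  ⟨fun _ _ h => e.injective (rho_inj h), fun s => rho_lt _,
    fun p hp => by
      obtain ⟨q, hq⟩ := rho_surj hp
      exact ⟨e.symm q, by simp [hq]⟩,
    fun s s' => by simp only [map_mul]; exact rho_mul _ _,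
    by simp only [map_one]; exact rho_one⟩

/-! ### the checks -/

/-- the pairs `(g, c)` given for the coset `p` satisfy `g p = c g`, and the `c` are different. -/
def certOK (p : ℕ) : Bool :=
  (q2Cert.getD p []).all (fun e => decide (e.1 < 512) && decide (e.2 < 512) &&
    mulQ e.1 p == mulQ e.2 e.1) && decide ((q2Cert.getD p []).map (fun e => e.2)).Nodup

theorem check_cert : (List.range 512).all certOK = true := by decide +kernel

def witOK (p : ℕ) : Bool :=
  decide ((q2Wit.getD p (0, 0)).1 < 512) && decide ((q2Wit.getD p (0, 0)).2 < 512) &&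
  mulQ (q2Wit.getD p (0, 0)).1 p == mulQ p (q2Wit.getD p (0, 0)).1 &&
  mulQ (q2Wit.getD p (0, 0)).2 p == mulQ p (q2Wit.getD p (0, 0)).2 &&
  mulQ (q2Wit.getD p (0, 0)).1 (q2Wit.getD p (0, 0)).2 !=
    mulQ (q2Wit.getD p (0, 0)).2 (q2Wit.getD p (0, 0)).1

theorem check1 : (List.range 512).all (fun p => q2Y.contains p ||
    decide (3 ≤ (q2Cert.getD p []).length)) = true := by decide +kernel

theorem check3 : (List.range 512).all (fun p => q2A0.contains p || q2E.contains p ||
    decide (9 ≤ (q2Cert.getD p []).length) ||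
    ((q2Cert.getD p []).length == 8 && witOK p)) = true := by decide +kernel

theorem checkA0 : q2A0.all (fun a => decide (a < 512) && mulQ a a == q2One &&
    q2A0.all (fun b => q2A0.contains (mulQ a b) && mulQ a b == mulQ b a)) = true := by
  decide +kernel

theorem checkA0' : q2A0.Nodup ∧ q2A0.length = 64 ∧ q2One ∈ q2A0 ∧ q2Y.Nodup ∧ q2Y.length = 12 ∧
    q2E.Nodup ∧ q2E.length = 16 := by decide +kernel

end Cfsg.Agent.Helper9.P2Q
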