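import Mathlib
import Cfsg.Prelude
import Cfsg.Agent.Helper9.Golay.P2QClaims

set_option autoImplicit false

/-!
Consequences of the checks on the numbered cosets, for any group with a compatible numbering:
the centres of the maximal subgroups, and the abelian subgroups of order 64.
-/

namespace Cfsg.Agent.Helper9.P2Q

open Cfsg Cfsg.Agent.Helper9.Golay

/-- a maximal subgroup of a group of order `2 ^ (n + 1)` has order `2 ^ n`. -/
theorem coatom_card_two {G : Type*} [Group G] [Finite G] {n : ℕ} (hG : Nat.card G = 2 ^ (n + 1))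
    {M : Subgroup G} (hM : IsCoatom M) : Nat.card M = 2 ^ n := by
  have : Fact (Nat.Prime 2) := ⟨Nat.prime_two⟩
  have hdvd : Nat.card M ∣ 2 ^ (n + 1) := hG ▸ Subgroup.card_subgroup_dvd_card M
  obtain ⟨k, hk, hMk⟩ := (Nat.dvd_prime_pow Nat.prime_two).mp hdvd
  have hne : M ≠ ⊤ := hM.1
  have hk' : k ≤ n := by
    by_contra hcon
    have hkn : k = n + 1 := by omega
    apply hne
    apply (Subgroup.card_eq_iff_eq_top M).mp
    rw [hMk, hkn, hG]
  obtain ⟨K, hK, hMK⟩ := Sylow.exists_subgroup_card_pow_succ (p := 2) (n := k)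
    (by rw [hG]; exact pow_dvd_pow 2 (by omega)) hMk
  have hlt : M < K := by
    refine lt_of_le_of_ne hMK ?_
    rintro rfl
    rw [hMk] at hK
    have : 2 ^ k < 2 ^ (k + 1) := Nat.pow_lt_pow_right (by norm_num) (by omega)
    omega
  have hKtop : K = ⊤ := hM.2 K hlt
  rw [hKtop, Subgroup.card_top, hG] at hK
  have hkn : n + 1 = k + 1 := Nat.pow_right_injective (le_refl 2) hK
  have : k = n := by omega
  rw [hMk, this]

/-- an isomorphism carries the centre onto the centre. -/
theorem map_center_mulEquiv {G H : Type*} [Group G] [Group H] (e : G ≃* H) :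
    (Subgroup.center G).map (e : G →* H) = Subgroup.center H := by
  ext y
  constructor
  · rintro ⟨x, hx, rfl⟩
    rw [Subgroup.mem_center_iff]
    intro h
    have h1 := Subgroup.mem_center_iff.mp hx (e.symm h)
    have h2 := congrArg e h1
    simpa using h2
  · intro hy
    refine ⟨e.symm y, ?_, by simp⟩
    change e.symm y ∈ Subgroup.center G
    rw [Subgroup.mem_center_iff]
    intro g
    have h1 := Subgroup.mem_center_iff.mp hy (e g)
    apply e.injective
    simpa using h1

variable {S : Type*} [Group S] {r : S → ℕ}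

theorem Model.finite (m : Model S r) : Finite S :=
  Finite.of_injective (fun s => (⟨r s, m.lt s⟩ : Fin 512))
    (fun _ _ h => m.inj (by simpa using congrArg Fin.val h))

theorem Model.card (m : Model S r) : Nat.card S = 512 := by
  have hb : Function.Bijective (fun s => (⟨r s, m.lt s⟩ : Fin 512)) :=
    ⟨fun _ _ h => m.inj (by simpa using congrArg Fin.val h), fun p => by
      obtain ⟨s, hs⟩ := m.surj p.1 p.2
      exact ⟨s, Fin.ext hs⟩⟩
  rw [Nat.card_congr (Equiv.ofBijective _ hb), Nat.card_fin]

/-- the certificates bound the centralisers. -/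
theorem Model.cent_bound (m : Model S r) (x : S) :
    Nat.card (Subgroup.centralizer ({x} : Set S)) * (q2Cert.getD (r x) []).length ≤ 512 := by
  have := m.finite
  have hok := List.all_eq_true.mp check_cert (r x) (List.mem_range.mpr (m.lt x))
  unfold certOK at hok
  generalize q2Cert.getD (r x) [] = cert at hok
  simp only [Bool.and_eq_true, List.all_eq_true, decide_eq_true_eq, beq_iff_eq] at hok
  obtain ⟨h1, h2⟩ := hok
  have hG : ∀ k : Fin cert.length, ∃ G C : S, r C = (cert.get k).2 ∧ G * x = C * G := by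
    intro k
    obtain ⟨⟨hg, hc⟩, he⟩ := h1 (cert.get k) (List.get_mem _ _)
    obtain ⟨G, hG⟩ := m.surj _ hg
    obtain ⟨C, hC⟩ := m.surj _ hc
    refine ⟨G, C, hC, m.inj ?_⟩
    rw [m.mul, m.mul, hG, hC, he]
  choose G C hC1 hGC using hG
  have hCinj : Function.Injective C := by
    intro k k' h
    have e : (cert.get k).2 = (cert.get k').2 := by rw [← hC1, ← hC1, h]
    have e2 : cert.get k = cert.get k' :=
      List.inj_on_of_nodup_map h2 (List.get_mem _ _) (List.get_mem _ _) e
    exact (List.nodup_iff_injective_get.mp (List.Nodup.of_map _ h2)) e2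
  have key : Function.Injective
      (fun p : Subgroup.centralizer ({x} : Set S) × Fin cert.length => G p.2 * p.1.1) := by
    rintro ⟨z, k⟩ ⟨z', k'⟩ h
    simp only at h
    have hz : z.1 * x = x * z.1 := Subgroup.mem_centralizer_singleton_iff.mp z.2
    have hz' : z'.1 * x = x * z'.1 := Subgroup.mem_centralizer_singleton_iff.mp z'.2
    have e1 : (G k * z.1) * x * (G k * z.1)⁻¹ = C k := by
      rw [mul_assoc (G k), hz, ← mul_assoc, hGC]
      group
    have e2 : (G k' * z'.1) * x * (G k' * z'.1)⁻¹ = C k' := by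
      rw [mul_assoc (G k'), hz', ← mul_assoc, hGC]
      group
    have hk : k = k' := hCinj (by rw [← e1, ← e2, h])
    subst hk
    have hzz := mul_left_cancel h
    rw [Prod.mk.injEq]
    exact ⟨Subtype.ext hzz, rfl⟩
  have hle := Nat.card_le_card_of_injective _ key
  rw [Nat.card_prod, Nat.card_fin, m.card] at hle
  exact hle

/-- a subgroup all of whose elements commute with `x` lies in the centraliser of `x`. -/
theorem le_centralizer_of_comm {M : Subgroup S} {x : S} (h : ∀ y ∈ M, y * x = x * y) :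
    M ≤ Subgroup.centralizer ({x} : Set S) := fun y hy =>
  Subgroup.mem_centralizer_singleton_iff.mpr (h y hy)

theorem card_subtype_mem_le (l : List ℕ) : Nat.card {p : ℕ // p ∈ l.toFinset} ≤ l.length := by
  rw [Nat.card_eq_fintype_card, Fintype.card_coe]
  exact List.toFinset_card_le l

/-- the centre of a maximal subgroup has at most 8 elements. -/
theorem Model.claim1 (m : Model S r) (M : Subgroup S) (hM : IsCoatom M) :
    Nat.card (Subgroup.center ↥M) ≤ 8 := by
  have := m.finite
  have hcM : Nat.card M = 2 ^ 8 := coatom_card_two (n := 8) (by rw [m.card]; norm_num) hM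
  have hY : ∀ z : Subgroup.center ↥M, r z.1.1 ∈ q2Y.toFinset := by
    intro z
    have hle : M ≤ Subgroup.centralizer ({z.1.1} : Set S) := by
      apply le_centralizer_of_comm
      intro y hy
      have := Subgroup.mem_center_iff.mp z.2 ⟨y, hy⟩
      exact congrArg Subtype.val this
    have h256 : 2 ^ 8 ≤ Nat.card (Subgroup.centralizer ({z.1.1} : Set S)) := by
      rw [← hcM]
      exact Subgroup.card_le_of_le hle
    have hb := m.cent_bound z.1.1
    have hc := List.all_eq_true.mp check1 (r z.1.1) (List.mem_range.mpr (m.lt _))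
    simp only [Bool.or_eq_true, List.contains_iff_mem, decide_eq_true_eq] at hc
    rcases hc with hc | hc
    · exact List.mem_toFinset.mpr hc
    · exfalso
      have : Nat.card (Subgroup.centralizer ({z.1.1} : Set S)) * 3 ≤ 512 :=
        le_trans (Nat.mul_le_mul_left _ hc) hb
      omega
  have hinj : Function.Injective
      (fun z : Subgroup.center ↥M => (⟨r z.1.1, hY z⟩ : {p : ℕ // p ∈ q2Y.toFinset})) := by
    intro z z' h
    have := m.inj (congrArg Subtype.val h)
    exact Subtype.ext (Subtype.ext this)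
  have h12 : Nat.card (Subgroup.center ↥M) ≤ 12 := by
    refine le_trans (Nat.card_le_card_of_injective _ hinj) ?_
    refine le_trans (card_subtype_mem_le q2Y) ?_
    rw [checkA0'.2.2.2.2.1]
  have hdvd : Nat.card (Subgroup.center ↥M) ∣ 2 ^ 8 :=
    hcM ▸ Subgroup.card_subgroup_dvd_card (Subgroup.center ↥M)
  obtain ⟨k, hk, hMk⟩ := (Nat.dvd_prime_pow Nat.prime_two).mp hdvd
  rw [hMk] at h12 ⊢
  have hk3 : k ≤ 3 := by
    by_contra hcon
    have : 2 ^ 4 ≤ 2 ^ k := Nat.pow_le_pow_right (by norm_num) (by omega)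
    omega
  calc 2 ^ k ≤ 2 ^ 3 := Nat.pow_le_pow_right (by norm_num) hk3
    _ = 8 := by norm_num

theorem A0_facts {a : ℕ} (ha : a ∈ q2A0) : a < 512 ∧ mulQ a a = q2One ∧
    ∀ b ∈ q2A0, mulQ a b ∈ q2A0 ∧ mulQ a b = mulQ b a := by
  have h := List.all_eq_true.mp checkA0 a ha
  simp only [Bool.and_eq_true, List.all_eq_true, decide_eq_true_eq, beq_iff_eq,
    List.contains_iff_mem] at h
  exact ⟨h.1.1, h.1.2, h.2⟩

theorem Model.sq_eq_one (m : Model S r) {s : S} (hs : r s ∈ q2A0) : s * s = 1 := by
  apply m.inj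
  rw [m.mul, m.one]
  exact (A0_facts hs).2.1

/-- the elementary abelian subgroup of order 64. -/
def Model.A0sub (m : Model S r) : Subgroup S where
  carrier := {s | r s ∈ q2A0}
  one_mem' := by
    rw [Set.mem_ofPred_eq, m.one]
    exact checkA0'.2.2.1
  mul_mem' := by
    intro a b ha hb
    rw [Set.mem_ofPred_eq] at ha hb ⊢
    rw [m.mul]
    exact ((A0_facts ha).2.2 _ hb).1
  inv_mem' := by
    intro a ha
    rw [Set.mem_ofPred_eq] at ha ⊢
    have h1 : a⁻¹ = a := inv_eq_of_mul_eq_one_left (m.sq_eq_one ha)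
    rw [h1]
    exact ha

theorem Model.mem_A0sub (m : Model S r) {s : S} : s ∈ m.A0sub ↔ r s ∈ q2A0 := Iff.rfl

theorem Model.A0sub_comm (m : Model S r) : IsMulCommutative ↥m.A0sub :=
  ⟨⟨fun a b => Subtype.ext (m.inj (by
    change r (a.1 * b.1) = r (b.1 * a.1)
    rw [m.mul, m.mul]
    exact ((A0_facts a.2).2.2 _ b.2).2))⟩⟩

theorem Model.A0sub_elem (m : Model S r) : IsElementaryAbelian 2 m.A0sub :=
  ⟨m.A0sub_comm, fun a ha => by rw [pow_two]; exact m.sq_eq_one ha⟩

theorem Model.A0sub_card (m : Model S r) : Nat.card ↥m.A0sub = 64 := by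
  have hb : Function.Bijective
      (fun s : ↥m.A0sub => (⟨r s.1, List.mem_toFinset.mpr s.2⟩ : {p : ℕ // p ∈ q2A0.toFinset})) := by
    constructor
    · intro s s' h
      exact Subtype.ext (m.inj (congrArg Subtype.val h))
    · rintro ⟨p, hp⟩
      have hp' := List.mem_toFinset.mp hp
      obtain ⟨s, hs⟩ := m.surj p (A0_facts hp').1
      exact ⟨⟨s, by rw [Model.mem_A0sub, hs]; exact hp'⟩, Subtype.ext hs⟩
  rw [Nat.card_congr (Equiv.ofBijective _ hb), Nat.card_eq_fintype_card, Fintype.card_coe,
    List.toFinset_card_of_nodup checkA0'.1, checkA0'.2.1]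

/-- an element of an abelian subgroup of order 64 outside the elementary abelian one is one of 16. -/
theorem Model.bad_mem (m : Model S r) {A : Subgroup S} (hA : IsMulCommutative ↥A)
    (hc : Nat.card ↥A = 64) {a : S} (ha : a ∈ A) (hna : r a ∉ q2A0) : r a ∈ q2E := by
  have := m.finite
  have hle : A ≤ Subgroup.centralizer ({a} : Set S) := by
    apply le_centralizer_of_comm
    intro y hy
    exact congrArg Subtype.val (hA.is_comm.comm ⟨y, hy⟩ ⟨a, ha⟩)
  have h64 : 64 ≤ Nat.card (Subgroup.centralizer ({a} : Set S)) := by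
    rw [← hc]
    exact Subgroup.card_le_of_le hle
  have hb := m.cent_bound a
  have h3 := List.all_eq_true.mp check3 (r a) (List.mem_range.mpr (m.lt _))
  simp only [Bool.or_eq_true, Bool.and_eq_true, List.contains_iff_mem, decide_eq_true_eq,
    beq_iff_eq] at h3
  rcases h3 with ((h3 | h3) | h3) | ⟨h3, hw⟩
  · exact absurd h3 hna
  · exact h3
  · exfalso
    have : Nat.card (Subgroup.centralizer ({a} : Set S)) * 9 ≤ 512 :=
      le_trans (Nat.mul_le_mul_left _ h3) hb
    omega
  · exfalso
    rw [h3] at hb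
    have hAC : A = Subgroup.centralizer ({a} : Set S) :=
      Subgroup.eq_of_le_of_card_ge hle (by rw [hc]; omega)
    unfold witOK at hw
    generalize q2Wit.getD (r a) (0, 0) = w at hw
    simp only [Bool.and_eq_true, decide_eq_true_eq, beq_iff_eq, bne_iff_ne, ne_eq] at hw
    obtain ⟨⟨⟨⟨hw1, hw2⟩, hw3⟩, hw4⟩, hw5⟩ := hw
    obtain ⟨y, hy⟩ := m.surj _ hw1
    obtain ⟨z, hz⟩ := m.surj _ hw2
    have hya : y * a = a * y := m.inj (by rw [m.mul, m.mul, hy, hw3])
    have hza : z * a = a * z := m.inj (by rw [m.mul, m.mul, hz, hw4])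
    have hyA : y ∈ A := by rw [hAC]; exact Subgroup.mem_centralizer_singleton_iff.mpr hya
    have hzA : z ∈ A := by rw [hAC]; exact Subgroup.mem_centralizer_singleton_iff.mpr hza
    have hyz : y * z = z * y := congrArg Subtype.val (hA.is_comm.comm ⟨y, hyA⟩ ⟨z, hzA⟩)
    apply hw5
    rw [← hy, ← hz, ← m.mul, ← m.mul, hyz]

/-- an abelian subgroup of order 64 is the elementary abelian one. -/
theorem Model.abelian64_eq (m : Model S r) {A : Subgroup S} (hA : IsMulCommutative ↥A)
    (hc : Nat.card ↥A = 64) : A = m.A0sub := by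
  have := m.finite
  have hle : A ≤ m.A0sub := by
    by_contra hcon
    have hK : Nat.card ↥(A ⊓ m.A0sub) ≤ 32 := by
      have hdvd : Nat.card ↥(A ⊓ m.A0sub) ∣ 2 ^ 6 := by
        have := Subgroup.card_dvd_of_le (inf_le_left : A ⊓ m.A0sub ≤ A)
        rw [hc] at this
        exact this
      obtain ⟨k, hk, hKk⟩ := (Nat.dvd_prime_pow Nat.prime_two).mp hdvd
      have hk5 : k ≤ 5 := by
        by_contra hcon2
        have hk6 : k = 6 := by omega
        apply hcon
        have : A ⊓ m.A0sub = A :=
          Subgroup.eq_of_le_of_card_ge inf_le_left (by rw [hc, hKk, hk6]; norm_num)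
        rw [← this]
        exact inf_le_right
      rw [hKk]
      calc 2 ^ k ≤ 2 ^ 5 := Nat.pow_le_pow_right (by norm_num) hk5
        _ = 32 := by norm_num
    classical
    let f : ↥A → ↥(A ⊓ m.A0sub) ⊕ {p : ℕ // p ∈ q2E.toFinset} := fun x =>
      if h : r x.1 ∈ q2A0 then Sum.inl ⟨x.1, ⟨x.2, h⟩⟩
      else Sum.inr ⟨r x.1, List.mem_toFinset.mpr (m.bad_mem hA hc x.2 h)⟩
    have hf : Function.Injective f := by
      intro x x' h
      by_cases hx : r x.1 ∈ q2A0 <;> by_cases hx' : r x'.1 ∈ q2A0
      · simp only [f, dif_pos hx, dif_pos hx', Sum.inl.injEq] at h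
        have h' := congrArg Subtype.val h
        exact Subtype.ext h'
      · simp only [f, dif_pos hx, dif_neg hx'] at h
        exact absurd h (by simp)
      · simp only [f, dif_neg hx, dif_pos hx'] at h
        exact absurd h (by simp)
      · simp only [f, dif_neg hx, dif_neg hx', Sum.inr.injEq, Subtype.mk.injEq] at h
        exact Subtype.ext (m.inj h)
    have hcard := Nat.card_le_card_of_injective f hf
    rw [Nat.card_sum, hc] at hcard
    have h16 : Nat.card {p : ℕ // p ∈ q2E.toFinset} ≤ 16 := by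
      refine le_trans (card_subtype_mem_le q2E) ?_
      rw [checkA0'.2.2.2.2.2.2]
    omega
  exact Subgroup.eq_of_le_of_card_ge hle (by rw [hc, m.A0sub_card])

/-- the three claims, for any group with a compatible numbering. -/
theorem Model.claims (m : Model S r) :
    (∀ M : Subgroup S, IsCoatom M → Nat.card ↥(Subgroup.center ↥M) ≤ 8) ∧
    (∃ A : Subgroup S, IsElementaryAbelian 2 A ∧ Nat.card ↥A = 64) ∧
    ∀ A B : Subgroup S, IsMulCommutative ↥A → Nat.card ↥A = 64 → IsMulCommutative ↥B →
      Nat.card ↥B = 64 → A = B :=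
  ⟨m.claim1, ⟨m.A0sub, m.A0sub_elem, m.A0sub_card⟩, fun A B hA hcA hB hcB => by
    rw [m.abelian64_eq hA hcA, m.abelian64_eq hB hcB]⟩

end Cfsg.Agent.Helper9.P2Q
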