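import Mathlib
import Cfsg.Agent.Helper9.Golay.Fus24

set_option autoImplicit false

/-!
The group of permutations of packed data, and certificates that a subgroup closed under
conjugation that contains the central involution contains the whole group.
-/

namespace Cfsg.Agent.Helper9.Golay

open Cfsg

namespace Packed

variable (G : Packed) (hb : G.okBfs = true) (hc : G.okClosed = true)
  (hg : ∀ s ∈ G.gens, ∃ σ ∈ M24, IsTbl σ s)

/-- the group of permutations of the packed data. -/
def permSubgroup : Subgroup (Equiv.Perm GolayPt) := (G.subgroup hb hc hg).map M24.subtype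

theorem mem_permSubgroup (h : Equiv.Perm GolayPt) :
    h ∈ G.permSubgroup hb hc hg ↔ ∃ t ∈ G.tabs, IsTbl h t := by
  constructor
  · rintro ⟨x, hx, rfl⟩
    exact hx
  · rintro ⟨t, ht, hht⟩
    obtain ⟨σ, hσ, hσt⟩ := G.real_tabs hb hg t ht
    have : h = σ := hht.eq_of_eq hσt
    exact ⟨⟨σ, hσ⟩, ⟨t, ht, hσt⟩, this.symm⟩

theorem card_permSubgroup (hs : G.okSorted = true) :
    Nat.card (G.permSubgroup hb hc hg) = G.n := by
  unfold permSubgroup
  rw [Subgroup.card_map_of_injective M24.subtype_injective, G.card_subgroup hb hc hs hg]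

theorem permSubgroup_le_M24 : G.permSubgroup hb hc hg ≤ M24 := by
  rintro _ ⟨x, _, rfl⟩
  exact x.2

theorem permSubgroup_le (K : Subgroup (Equiv.Perm GolayPt))
    (hK : ∀ s ∈ G.gens, ∀ x : Equiv.Perm GolayPt, IsTbl x s → x ∈ K) :
    G.permSubgroup hb hc hg ≤ K := by
  unfold permSubgroup
  rw [Subgroup.map_le_iff_le_comap]
  apply G.subgroup_le
  intro s hs x hx
  exact hK s hs x.1 hx

include hb hg in
theorem real_perm : ∀ t ∈ G.tabs, ∃ σ : Equiv.Perm GolayPt, IsTbl σ t := by
  intro t ht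
  obtain ⟨σ, _, hσt⟩ := G.real_tabs hb hg t ht
  exact ⟨σ, hσt⟩

theorem acc_mem_tabs {j : ℕ} (hj : j < G.n) : G.acc j ∈ G.tabs :=
  (G.mem_tabs _).mpr ⟨j, hj, rfl⟩

/-- the elements that commute with the generators are the identity and one other element. -/
def centerOK (zc : ℕ) : Bool :=
  (List.range G.n).all (fun j =>
    !(G.gens.all (fun s => mulT (G.acc j) s == mulT s (G.acc j))) || j == G.z || j == zc)

/-- the generators are in the list. -/
def gensOK : Bool := G.gens.all (fun s => G.tabs.contains s)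

include hb in
theorem acc_z : G.acc G.z = idT := by
  have hb' := hb
  unfold okBfs at hb'
  simp only [Bool.and_eq_true, beq_iff_eq, decide_eq_true_eq] at hb'
  exact hb'.1.1.1

theorem central_tbl {zc : ℕ} (hcen : G.centerOK zc = true) (hgm : G.gensOK = true)
    {x : Equiv.Perm GolayPt} (hx : x ∈ G.permSubgroup hb hc hg) (h1 : x ≠ 1)
    (hcom : ∀ s ∈ G.permSubgroup hb hc hg, s * x = x * s) : IsTbl x (G.acc zc) := by
  obtain ⟨t, ht, hxt⟩ := (G.mem_permSubgroup hb hc hg x).1 hx
  obtain ⟨j, hj, rfl⟩ := (G.mem_tabs t).mp ht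
  have h := List.all_eq_true.mp hcen j (List.mem_range.mpr hj)
  have hall : G.gens.all (fun s => mulT (G.acc j) s == mulT s (G.acc j)) = true := by
    rw [List.all_eq_true]
    intro s hs
    have hs2 : s ∈ G.tabs := by
      have := List.all_eq_true.mp hgm s hs
      simpa using this
    obtain ⟨σ, hσt⟩ := G.real_perm hb hg s hs2
    have hmem : σ ∈ G.permSubgroup hb hc hg := (G.mem_permSubgroup hb hc hg σ).2 ⟨s, hs2, hσt⟩
    have hcomm := hcom _ hmem
    rw [beq_iff_eq]
    have t1 := hxt.mul hσt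
    have t2 := hσt.mul hxt
    rw [tbl_eq_tblOf t1, tbl_eq_tblOf t2, hcomm]
  rw [hall] at h
  simp only [Bool.not_true, Bool.false_or, Bool.or_eq_true, beq_iff_eq] at h
  rcases h with h | h
  · exfalso
    apply h1
    rw [h, G.acc_z hb] at hxt
    exact hxt.eq_of_eq isTbl_one
  · rw [h] at hxt
    exact hxt

end Packed

/-! ### certificates -/

/-- a step of a certificate: an element of the list is conjugate to a known one by an element of
the trace, or is a product of known ones. -/
def stepOK (G : Packed) (S : PackedSLP) (inG : List ℕ → Bool) (known : List ℕ)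
    (st : Bool × ℕ × ℕ × List ℕ) : Bool :=
  match st with
  | (true, i, c, js) =>
    decide (i < G.n) && decide (c < S.n) && inG (S.acc c) && known.contains (js.headD 0) &&
      (mulT (S.acc c) (G.acc (js.headD 0)) == mulT (G.acc i) (S.acc c))
  | (false, i, _, js) =>
    decide (i < G.n) && js.all (fun j => known.contains j) &&
      ((js.map G.acc).foldl mulT idT == G.acc i)

def derivOK (G : Packed) (S : PackedSLP) (inG : List ℕ → Bool) :
    List ℕ → List (Bool × ℕ × ℕ × List ℕ) → Bool
  | _, [] => true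
  | known, st :: rest => stepOK G S inG known st && derivOK G S inG (st.2.1 :: known) rest

def derivFinal : List ℕ → List (Bool × ℕ × ℕ × List ℕ) → List ℕ
  | known, [] => known
  | known, st :: rest => derivFinal (st.2.1 :: known) rest

section cert

variable (G : Packed) (hb : G.okBfs = true) (hc : G.okClosed = true)
  (hg : ∀ s ∈ G.gens, ∃ σ ∈ M24, IsTbl σ s) (S : PackedSLP) (hS : S.ok = true)
  (GG : Subgroup (Equiv.Perm GolayPt)) (inG : List ℕ → Bool)
  (hinG : ∀ σ ∈ M24, ∀ t, IsTbl σ t → inG t = true → σ ∈ GG)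
  (T : Subgroup (Equiv.Perm GolayPt))
  (hTcl : ∀ y ∈ T, ∀ g ∈ GG, g * y * g⁻¹ ∈ G.permSubgroup hb hc hg → g * y * g⁻¹ ∈ T)

/-- the element of the list with a given position is in the subgroup. -/
def InT (j : ℕ) : Prop := j < G.n ∧ ∀ y : Equiv.Perm GolayPt, IsTbl y (G.acc j) → y ∈ T

include hb hg in
theorem foldl_real' (w : List ℕ) (hw : ∀ i ∈ w, InT G T i) :
    ∀ (t0 : List ℕ) (y0 : Equiv.Perm GolayPt), y0 ∈ T → IsTbl y0 t0 →
      ∃ y ∈ T, IsTbl y ((w.map G.acc).foldl mulT t0) := by
  induction w with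
  | nil =>
    intro t0 y0 h0 ht0
    exact ⟨y0, h0, ht0⟩
  | cons i w ih =>
    intro t0 y0 h0 ht0
    obtain ⟨hi, hiT⟩ := hw i (List.mem_cons_self)
    obtain ⟨σ, hσt⟩ := G.real_perm hb hg _ (G.acc_mem_tabs hi)
    rw [List.map_cons, List.foldl_cons]
    exact ih (fun j hj => hw j (List.mem_cons_of_mem _ hj)) _ (y0 * σ)
      (T.mul_mem h0 (hiT σ hσt)) (ht0.mul hσt)

include hS hinG hTcl in
theorem step_sound {known : List ℕ} (hk : ∀ j ∈ known, InT G T j)
    {st : Bool × ℕ × ℕ × List ℕ} (h : stepOK G S inG known st = true) : InT G T st.2.1 := by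
  obtain ⟨cj, i, c, js⟩ := st
  cases cj with
  | true =>
    unfold stepOK at h
    simp only [Bool.and_eq_true, decide_eq_true_eq, beq_iff_eq, List.contains_iff_mem] at h
    obtain ⟨⟨⟨⟨hi, hcn⟩, hin⟩, hkn⟩, htab⟩ := h
    refine ⟨hi, ?_⟩
    intro y hy
    obtain ⟨hj, hjT⟩ := hk _ hkn
    obtain ⟨σc, hσc, hσct⟩ := S.real hS c hcn
    have hσG : σc ∈ GG := hinG σc hσc _ hσct hin
    obtain ⟨yj, hyjt⟩ := G.real_perm hb hg _ (G.acc_mem_tabs hj)
    have hyjT : yj ∈ T := hjT yj hyjt
    have e1 : σc * yj = y * σc := by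
      have t1 := hσct.mul hyjt
      rw [htab] at t1
      exact t1.eq_of_eq (hy.mul hσct)
    have e2 : y = σc * yj * σc⁻¹ := by
      rw [e1, mul_inv_cancel_right]
    have hySP : y ∈ G.permSubgroup hb hc hg :=
      (G.mem_permSubgroup hb hc hg y).2 ⟨_, G.acc_mem_tabs hi, hy⟩
    rw [e2] at hySP ⊢
    exact hTcl yj hyjT σc hσG hySP
  | false =>
    unfold stepOK at h
    simp only [Bool.and_eq_true, decide_eq_true_eq, beq_iff_eq, List.all_eq_true,
      List.contains_iff_mem] at h
    obtain ⟨⟨hi, hall⟩, htab⟩ := h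
    refine ⟨hi, ?_⟩
    intro y hy
    obtain ⟨y', hy'T, hy't⟩ := foldl_real' G hb hg T js (fun j hj => hk j (hall j hj)) idT 1
      T.one_mem isTbl_one
    rw [htab] at hy't
    have : y = y' := hy.eq_of_eq hy't
    rw [this]
    exact hy'T

include hS hinG hTcl in
theorem deriv_sound : ∀ (steps : List (Bool × ℕ × ℕ × List ℕ)) (known : List ℕ),
    derivOK G S inG known steps = true → (∀ j ∈ known, InT G T j) →
      ∀ j ∈ derivFinal known steps, InT G T j := by
  intro steps
  induction steps with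
  | nil =>
    intro known _ hk j hj
    exact hk j hj
  | cons st rest ih =>
    intro known h hk j hj
    unfold derivOK at h
    rw [Bool.and_eq_true] at h
    have h1 := step_sound G hb hc hg S hS GG inG hinG T hTcl hk h.1
    apply ih (st.2.1 :: known) h.2 ?_ j hj
    intro j' hj'
    rcases List.mem_cons.mp hj' with rfl | hj'
    · exact h1
    · exact hk j' hj'

end cert

/-- the generators are among the elements of a certificate. -/
def finalOK (G : Packed) (fin : List ℕ) : Bool :=
  G.gens.all (fun s => fin.any (fun j => G.acc j == s))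

theorem hgen_of_cert (G : Packed) (hb : G.okBfs = true) (hc : G.okClosed = true)
    (hg : ∀ s ∈ G.gens, ∃ σ ∈ M24, IsTbl σ s) (S : PackedSLP) (hS : S.ok = true)
    (GG : Subgroup (Equiv.Perm GolayPt)) (inG : List ℕ → Bool)
    (hinG : ∀ σ ∈ M24, ∀ t, IsTbl σ t → inG t = true → σ ∈ GG)
    (zc : ℕ) (hz : zc < G.n) (hcen : G.centerOK zc = true) (hgm : G.gensOK = true)
    (steps : List (Bool × ℕ × ℕ × List ℕ)) (hd : derivOK G S inG [zc] steps = true)
    (hfin : finalOK G (derivFinal [zc] steps) = true) :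
    ∀ x ∈ G.permSubgroup hb hc hg, x ≠ 1 →
      (∀ s ∈ G.permSubgroup hb hc hg, s * x = x * s) →
      ∀ T : Subgroup (Equiv.Perm GolayPt), T ≤ G.permSubgroup hb hc hg → x ∈ T →
        (∀ y ∈ T, ∀ g ∈ GG, g * y * g⁻¹ ∈ G.permSubgroup hb hc hg → g * y * g⁻¹ ∈ T) →
        G.permSubgroup hb hc hg ≤ T := by
  intro x hx hx1 hcom T _ hxT hTcl
  have hxt := G.central_tbl hb hc hg hcen hgm hx hx1 hcom
  have h0 : ∀ j ∈ [zc], InT G T j := by
    intro j hj
    rw [List.mem_singleton] at hj
    subst hj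
    refine ⟨hz, ?_⟩
    intro y hy
    have : y = x := hy.eq_of_eq hxt
    rw [this]
    exact hxT
  have hall := deriv_sound G hb hc hg S hS GG inG hinG T hTcl steps [zc] hd h0
  apply G.permSubgroup_le hb hc hg
  intro s hs y hy
  have h1 := List.all_eq_true.mp hfin s hs
  rw [List.any_eq_true] at h1
  obtain ⟨j, hj, hje⟩ := h1
  rw [beq_iff_eq] at hje
  rw [← hje] at hy
  exact (hall j hj).2 y hy

end Cfsg.Agent.Helper9.Golay
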