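import Mathlib
import Cfsg.Prelude
import Cfsg.Agent.Helper9.Golay.Steiner

set_option autoImplicit false

/-! The Golay code punctured at the extra point. -/

namespace Cfsg.Agent.Helper9.Golay

open Cfsg

/-- forget the coordinate at the extra point. -/
def punct (w : GolayPt → ZMod 2) : ZMod 23 → ZMod 2 := fun x => w (some x)

/-- the punctured code, as the set in the statements. -/
def C23 : Set (ZMod 23 → ZMod 2) := {u | ∃ w ∈ golayCode, ∀ x : ZMod 23, u x = w (some x)}

theorem mem_C23_iff (u : ZMod 23 → ZMod 2) : u ∈ C23 ↔ ∃ m ∈ codeList, punct (decW m) = u := by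
  constructor
  · rintro ⟨w, hw, h⟩
    obtain ⟨m, hm, rfl⟩ := exists_mask_of_mem hw
    exact ⟨m, hm, funext fun x => (h x).symm⟩
  · rintro ⟨m, hm, rfl⟩
    exact ⟨decW m, decW_mem_of_mem_codeList hm, fun x => rfl⟩

theorem punct_sub (v w : GolayPt → ZMod 2) : punct (v - w) = punct v - punct w := rfl

theorem punct_add (v w : GolayPt → ZMod 2) : punct (v + w) = punct v + punct w := rfl

theorem sub_mem_C23 {u v : ZMod 23 → ZMod 2} (hu : u ∈ C23) (hv : v ∈ C23) : u - v ∈ C23 := by
  obtain ⟨w, hw, h⟩ := hu
  obtain ⟨w', hw', h'⟩ := hv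
  exact ⟨w - w', golayCode.sub_mem hw hw', fun x => by
    rw [Pi.sub_apply, Pi.sub_apply, h x, h' x]⟩

/-- weight of the punctured word. -/
theorem popc_eq_punct (m : ℕ) :
    popc m = hammingNorm (punct (decW m)) + (if m.testBit 23 then 1 else 0) := by
  rw [← hammingNorm_decW]
  unfold hammingNorm
  rw [Finset.card_filter, Finset.card_filter, Fintype.sum_option, add_comm]
  congr 1
  have := decW_apply_ne_zero m none
  by_cases h : m.testBit 23 = true
  · rw [if_pos h, if_pos (this.mpr h)]
  · rw [if_neg h, if_neg (fun h' => h (this.mp h'))]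

theorem punct_decW_injOn : Set.InjOn (fun m => punct (decW m)) {m | m ∈ codeList} := by
  intro a ha b hb hab
  by_contra hne
  have h8 := eight_le_popc_xor ha hb hne
  have h1 := popc_eq_punct (a ^^^ b)
  have h2 : punct (decW (a ^^^ b)) = 0 := by
    rw [decW_xor, punct_add]
    have hab' : punct (decW a) = punct (decW b) := hab
    rw [hab']
    funext x
    have : ∀ t : ZMod 2, t + t = 0 := by decide
    exact this _
  rw [h2, hammingNorm_zero] at h1
  split_ifs at h1 <;> omega

/-- counting words of the punctured code by a test on the masks. -/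
theorem ncard_C23_filter (P : (ZMod 23 → ZMod 2) → Prop) (f : ℕ → Bool)
    (h : ∀ m ∈ codeList, P (punct (decW m)) ↔ f m = true) :
    {u | u ∈ C23 ∧ P u}.ncard = (codeList.filter f).length := by
  have hset : {u | u ∈ C23 ∧ P u} = (fun m => punct (decW m)) '' {m | m ∈ codeList.filter f} := by
    ext u
    simp only [Set.mem_ofPred_eq, Set.mem_image, List.mem_filter]
    constructor
    · rintro ⟨hu, hP⟩
      obtain ⟨m, hm, rfl⟩ := (mem_C23_iff u).mp hu
      exact ⟨m, ⟨hm, (h m hm).mp hP⟩, rfl⟩
    · rintro ⟨m, ⟨hm, hf⟩, rfl⟩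
      exact ⟨(mem_C23_iff _).mpr ⟨m, hm, rfl⟩, (h m hm).mpr hf⟩
  have hinj : Set.InjOn (fun m => punct (decW m)) {m | m ∈ codeList.filter f} :=
    fun a ha b hb hab => punct_decW_injOn (List.mem_filter.mp ha).1 (List.mem_filter.mp hb).1 hab
  rw [hset, Set.InjOn.ncard_image hinj]
  have hnd : (codeList.filter f).Nodup := codeList_nodup.filter _
  rw [← List.toFinset_card_of_nodup hnd, ← Set.ncard_coe_finset]
  congr 1
  ext m
  simp

theorem ncard_C23 : C23.ncard = 4096 := by
  have := ncard_C23_filter (fun _ => True) (fun _ => true) (fun _ _ => by simp)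
  simp only [and_true, Set.ofPred_mem_eq, List.filter_true] at this
  rw [this, codeList_length]

/-- the test for the weight of the punctured word. -/
def wt23 (k : ℕ) (m : ℕ) : Bool := popc m == k + (if m.testBit 23 then 1 else 0)

theorem wt23_iff (k m : ℕ) : hammingNorm (punct (decW m)) = k ↔ wt23 k m = true := by
  unfold wt23
  rw [beq_iff_eq, popc_eq_punct m]
  omega

theorem ncard_C23_weight (k : ℕ) :
    {u | u ∈ C23 ∧ hammingNorm u = k}.ncard = (codeList.filter (wt23 k)).length :=
  ncard_C23_filter (fun u => hammingNorm u = k) (wt23 k) (fun m _ => wt23_iff k m)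

theorem count23_7 : (codeList.filter (wt23 7)).length = 253 := by decide +kernel
theorem count23_8 : (codeList.filter (wt23 8)).length = 506 := by decide +kernel
theorem count23_11 : (codeList.filter (wt23 11)).length = 1288 := by decide +kernel
theorem count23_12 : (codeList.filter (wt23 12)).length = 1288 := by decide +kernel
theorem count23_15 : (codeList.filter (wt23 15)).length = 506 := by decide +kernel
theorem count23_16 : (codeList.filter (wt23 16)).length = 253 := by decide +kernel

theorem seven_le_of_mem_C23 {u : ZMod 23 → ZMod 2} (hu : u ∈ C23) (h0 : u ≠ 0) :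
    7 ≤ hammingNorm u := by
  obtain ⟨m, hm, rfl⟩ := (mem_C23_iff u).mp hu
  have hm0 : m ≠ 0 := by
    rintro rfl
    apply h0
    rw [decW_zero]
    rfl
  have h1 := popc_eq_punct m
  rcases popc_mem_codeList hm with h | h | h | h | h
  · exact absurd (eq_zero_of_popc_eq_zero (codeList_lt hm) h) hm0
  all_goals (split_ifs at h1 <;> omega)

end Cfsg.Agent.Helper9.Golay
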