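import Mathlib
import Cfsg.Prelude
import Cfsg.Agent.Helper9.Golay.Punct
import Cfsg.Agent.Helper9.CosetLeader

set_option autoImplicit false

/-! The punctured Golay code is perfect. -/

namespace Cfsg.Agent.Helper9.Golay

open Cfsg

theorem card_ball3 : Nat.card {e : ZMod 23 → ZMod 2 // hammingNorm e ≤ 3} = 2048 := by
  classical
  rw [Nat.card_eq_fintype_card, Fintype.card_subtype, Finset.card_filter]
  have h1 : ∑ u : ZMod 23 → ZMod 2, (if hammingNorm u ≤ 3 then 1 else 0) = ∑ s : Finset (ZMod 23),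
      (fun k : ℕ => if k ≤ 3 then 1 else 0) s.card := by
    apply Fintype.sum_equiv Cfsg.Agent.Helper9.suppEquiv
    intro u
    rfl
  have h2 := Finset.sum_powerset_apply_card (α := ℕ)
    (fun k : ℕ => if k ≤ 3 then 1 else 0) (x := (Finset.univ : Finset (ZMod 23)))
  rw [Finset.powerset_univ, Finset.card_univ, ZMod.card] at h2
  rw [h1, h2]
  decide +kernel

theorem hdist_eq (x y : ZMod 23 → ZMod 2) : hammingDist x y = hammingNorm (x - y) := by
  rw [hammingDist_comm, hammingDist_eq_hammingNorm, neg_add_eq_sub]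

theorem eq_of_close {c c' : ZMod 23 → ZMod 2} (hc : c ∈ C23) (hc' : c' ∈ C23)
    (h : hammingNorm (c - c') ≤ 6) : c = c' := by
  by_contra hne
  have := seven_le_of_mem_C23 (sub_mem_C23 hc hc') (sub_ne_zero.mpr hne)
  omega

theorem perfect23 (u : ZMod 23 → ZMod 2) : ∃! c : ZMod 23 → ZMod 2, c ∈ C23 ∧ hammingDist u c ≤ 3 := by
  classical
  have huniq : ∀ c c' : ZMod 23 → ZMod 2, c ∈ C23 → c' ∈ C23 → hammingDist u c ≤ 3 →
      hammingDist u c' ≤ 3 → c = c' := by
    intro c c' hc hc' h1 h2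
    apply eq_of_close hc hc'
    rw [← hdist_eq]
    have := hammingDist_triangle c u c'
    rw [hammingDist_comm c u] at this
    omega
  -- existence by counting
  let φ : (↥C23 × {e : ZMod 23 → ZMod 2 // hammingNorm e ≤ 3}) → (ZMod 23 → ZMod 2) :=
    fun p => p.1.1 + p.2.1
  have hinj : Function.Injective φ := by
    rintro ⟨⟨c, hc⟩, ⟨e, he⟩⟩ ⟨⟨c', hc'⟩, ⟨e', he'⟩⟩ h
    change c + e = c' + e' at h
    have h1 : c - c' = e' - e := by
      rw [sub_eq_sub_iff_add_eq_add, h, add_comm]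
    have h2 : hammingNorm (e' - e) ≤ 6 := by
      rw [← hdist_eq]
      have := hammingDist_triangle e' 0 e
      rw [hammingDist_zero_right, hammingDist_zero_left] at this
      omega
    have hcc : c = c' := eq_of_close hc hc' (h1 ▸ h2)
    subst hcc
    have hee : e = e' := add_left_cancel h
    subst hee
    rfl
  have hcard : Nat.card (ZMod 23 → ZMod 2) ≤
      Nat.card (↥C23 × {e : ZMod 23 → ZMod 2 // hammingNorm e ≤ 3}) := by
    rw [Nat.card_prod, card_ball3, Nat.card_coe_set_eq, ncard_C23, Nat.card_eq_fintype_card,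
      Fintype.card_fun, ZMod.card, ZMod.card]
    norm_num
  have hfin : Finite (↥C23 × {e : ZMod 23 → ZMod 2 // hammingNorm e ≤ 3}) := inferInstance
  have hbij := hinj.bijective_of_nat_card_le hcard
  obtain ⟨⟨⟨c, hc⟩, ⟨e, he⟩⟩, hce⟩ := hbij.2 u
  change c + e = u at hce
  have hd : hammingDist u c ≤ 3 := by
    rw [hdist_eq, ← hce, add_sub_cancel_left]
    exact he
  exact ⟨c, ⟨hc, hd⟩, fun c' hc' => huniq c' c hc'.1 hc hc'.2 hd⟩

end Cfsg.Agent.Helper9.Golay
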