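import Mathlib
import Cfsg.Prelude.Def_Sporadic_a
import Cfsg.Prelude.Def_SporadicCombinatorics
import Cfsg.Agent.Helper9.Golay.Q432
import Cfsg.Agent.Helper9.GLGlue
import Cfsg.Agent.S0382

set_option autoImplicit false

/-!
The stabilizer of a dodecad and of a quartet of it: order 432, a normal subgroup of order 9 with
quotient `GL (Fin 2) (ZMod 3)`, transitive on the dodecad.
-/

namespace Cfsg.Agent.Helper9.Golay

open Cfsg
open scoped Pointwise

/-- the stabilizer of a set of points and of a family of sets. -/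
abbrev stabPair (d : Finset GolayPt) (Q : Finset (Finset GolayPt)) : Subgroup ↥M24 :=
  MulAction.stabilizer ↥M24 d ⊓ MulAction.stabilizer ↥M24 Q

theorem mem_stabPair {d : Finset GolayPt} {Q : Finset (Finset GolayPt)} (x : ↥M24) :
    x ∈ stabPair d Q ↔ (x : Equiv.Perm GolayPt) • d = d ∧ (x : Equiv.Perm GolayPt) • Q = Q := by
  rw [Subgroup.mem_inf, MulAction.mem_stabilizer_iff, MulAction.mem_stabilizer_iff]
  rfl

theorem card_stabPair {d : Finset GolayPt} (hd : d ∈ dodecads) {Q : Finset (Finset GolayPt)}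
    (hQ : Q ∈ quartets d) : Nat.card ↥(stabPair d Q) = 432 := by
  have horb : (MulAction.orbit ↥(MulAction.stabilizer ↥M24 d) Q) = quartets d := by
    ext Q'
    constructor
    · rintro ⟨g, rfl⟩
      have hg : ((g : ↥M24) : Equiv.Perm GolayPt) • d = d := MulAction.mem_stabilizer_iff.mp g.2
      have := smul_mem_quartets (g := ((g : ↥M24) : Equiv.Perm GolayPt)) g.1.2 hQ
      rw [hg] at this
      exact this
    · intro hQ'
      obtain ⟨k, hk, hkd, hkQ⟩ := (quartets_main d hd).2 Q hQ Q' hQ'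
      exact ⟨⟨⟨k, hk⟩, MulAction.mem_stabilizer_iff.mpr hkd⟩, hkQ⟩
  have h1 := Subgroup.card_mul_index
    (MulAction.stabilizer ↥(MulAction.stabilizer ↥M24 d) Q)
  rw [MulAction.index_stabilizer, horb, (quartets_main d hd).1] at h1
  have h2 : Nat.card ↥(MulAction.stabilizer ↥M24 d) = 95040 := Cfsg.Agent.S0382.result d hd
  rw [h2] at h1
  have h3 : Nat.card ↥(MulAction.stabilizer ↥(MulAction.stabilizer ↥M24 d) Q) = 432 := by omega
  rw [← h3]
  apply Nat.card_congr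
  exact
    { toFun := fun x => ⟨⟨x.1, (Subgroup.mem_inf.mp x.2).1⟩,
        MulAction.mem_stabilizer_iff.mpr
          (MulAction.mem_stabilizer_iff.mp (Subgroup.mem_inf.mp x.2).2)⟩
      invFun := fun y => ⟨y.1.1, Subgroup.mem_inf.mpr ⟨y.1.2,
        MulAction.mem_stabilizer_iff.mpr (MulAction.mem_stabilizer_iff.mp y.2)⟩⟩
      left_inv := fun _ => rfl
      right_inv := fun _ => rfl }

theorem q4_mem : famOf q4E ∈ quartets (suppM dod0) := by
  rw [← q4E_eq]
  exact qq_mem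

/-- the tables in the list are tables of elements of the stabilizer. -/
theorem q4_real : ∀ t ∈ q4All, ∃ g : ↥M24, g ∈ stabPair (suppM dod0) (famOf q4E) ∧
    IsTbl (g : Equiv.Perm GolayPt) t := by
  intro t ht
  have hok := List.all_eq_true.mp q4All_ok t ht
  rw [Bool.and_eq_true] at hok
  unfold q4All at ht
  rw [List.mem_map] at ht
  obtain ⟨j, -, rfl⟩ := ht
  obtain ⟨σ, hσ, hσt⟩ := goodT_q4.getD j
  have h1 := genOK_sound hσ hσt hok.1
  have h2 := (invB_iff hσt q4E_ok).mp hok.2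
  refine ⟨⟨σ, hσ⟩, (mem_stabPair _).mpr ⟨?_, h2⟩, hσt⟩
  exact (mem_KOf.mp h1).2.2 dod0 (by simp)

/-- every element of the stabilizer has its table in the list. -/
theorem q4_enum (g : ↥M24) (hg : g ∈ stabPair (suppM dod0) (famOf q4E)) :
    ∃ t ∈ q4All, IsTbl (g : Equiv.Perm GolayPt) t := by
  classical
  let A : Set (Equiv.Perm GolayPt) := {x | x ∈ M24 ∧ x • suppM dod0 = suppM dod0 ∧
    x • famOf q4E = famOf q4E}
  let B : Set (Equiv.Perm GolayPt) := {x | x ∈ A ∧ ∃ t ∈ q4All, IsTbl x t}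
  have hA : A.ncard = 432 := by
    rw [← card_stabPair dod0_mem q4_mem, ← Nat.card_coe_set_eq]
    apply Nat.card_congr
    exact
      { toFun := fun x => ⟨⟨x.1, x.2.1⟩, (mem_stabPair _).mpr x.2.2⟩
        invFun := fun y => ⟨y.1.1, y.1.2, (mem_stabPair _).mp y.2⟩
        left_inv := fun _ => rfl
        right_inv := fun _ => rfl }
  have hB : B.ncard = 432 := by
    rw [← q4All_length]
    apply ncard_eq_of_tables q4All_nodup
    · intro x hx
      exact hx.2
    · intro t ht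
      obtain ⟨x, hx, hxt⟩ := q4_real t ht
      exact ⟨x.1, ⟨⟨x.2, (mem_stabPair _).mp hx⟩, t, ht, hxt⟩, hxt⟩
  have hBA : B = A := by
    apply Set.eq_of_subset_of_ncard_le (fun x hx => hx.1) (by rw [hA, hB]) (Set.toFinite _)
  have hgA : (g : Equiv.Perm GolayPt) ∈ A := ⟨g.2, (mem_stabPair _).mp hg⟩
  rw [← hBA] at hgA
  exact hgA.2

/-- the subgroup of order 9. -/
def q4NSub : Subgroup ↥(stabPair (suppM dod0) (famOf q4E)) where
  carrier := {x | ∃ t ∈ q4N, IsTbl ((x : ↥M24) : Equiv.Perm GolayPt) t}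
  mul_mem' := by
    rintro a b ⟨s, hs, has⟩ ⟨t, ht, hbt⟩
    exact ⟨mulT s t, q4N_mul s hs t ht, has.mul hbt⟩
  one_mem' := ⟨idT, q4N_id, isTbl_one⟩
  inv_mem' := by
    rintro a ⟨s, hs, has⟩
    have h3 : ((a : ↥M24) : Equiv.Perm GolayPt) * (((a : ↥M24) : Equiv.Perm GolayPt) *
        ((a : ↥M24) : Equiv.Perm GolayPt)) = 1 := by
      apply (has.mul (has.mul has)).eq_of_eq
      rw [q4N_cube s hs]
      exact isTbl_one
    have h4 : (((a : ↥M24) : Equiv.Perm GolayPt))⁻¹ = ((a : ↥M24) : Equiv.Perm GolayPt) *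
        ((a : ↥M24) : Equiv.Perm GolayPt) := inv_eq_of_mul_eq_one_right h3
    refine ⟨mulT s s, q4N_mul s hs s hs, ?_⟩
    change IsTbl (((a : ↥M24) : Equiv.Perm GolayPt))⁻¹ _
    rw [h4]
    exact has.mul has

theorem mem_q4NSub {x : ↥(stabPair (suppM dod0) (famOf q4E))} :
    x ∈ q4NSub ↔ ∃ t ∈ q4N, IsTbl ((x : ↥M24) : Equiv.Perm GolayPt) t := Iff.rfl

/-- the elements of the subgroup with a given table. -/
theorem q4N_real : ∀ t ∈ q4N, ∃ x : ↥(stabPair (suppM dod0) (famOf q4E)), x ∈ q4NSub ∧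
    IsTbl ((x : ↥M24) : Equiv.Perm GolayPt) t := by
  intro t ht
  obtain ⟨g, hg, hgt⟩ := q4_real t (q4N_sub t ht)
  exact ⟨⟨g, hg⟩, ⟨t, ht, hgt⟩, hgt⟩

theorem q4_ext {x y : ↥(stabPair (suppM dod0) (famOf q4E))}
    (h : ((x : ↥M24) : Equiv.Perm GolayPt) = ((y : ↥M24) : Equiv.Perm GolayPt)) : x = y :=
  Subtype.ext (Subtype.ext h)

instance q4NSub_normal : q4NSub.Normal := by
  constructor
  intro n hn g
  obtain ⟨b, hb, hnb⟩ := hn
  obtain ⟨a, ha, hga⟩ := q4_enum g.1 g.2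
  have h1 := List.all_eq_true.mp (List.all_eq_true.mp q4N_normal a ha) b hb
  rw [List.any_eq_true] at h1
  obtain ⟨b', hb', hbb⟩ := h1
  rw [beq_iff_eq] at hbb
  obtain ⟨n', hn', hnt'⟩ := q4N_real b' hb'
  have heq : g * n = n' * g := by
    apply q4_ext
    change ((g : ↥M24) : Equiv.Perm GolayPt) * ((n : ↥M24) : Equiv.Perm GolayPt) =
      ((n' : ↥M24) : Equiv.Perm GolayPt) * ((g : ↥M24) : Equiv.Perm GolayPt)
    apply (hga.mul hnb).eq_of_eq
    rw [hbb]
    exact hnt'.mul hga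
  rw [heq, mul_inv_cancel_right]
  exact hn'

theorem card_q4NSub : Nat.card ↥q4NSub = 9 := by
  rw [← q4N_length]
  have e : ↥q4NSub ≃ {t // t ∈ q4N} :=
    { toFun := fun x => ⟨tblOf (((x : ↥(stabPair (suppM dod0) (famOf q4E))) : ↥M24) :
          Equiv.Perm GolayPt), by
        obtain ⟨t, ht, hxt⟩ := x.2
        rw [← tbl_eq_tblOf hxt]
        exact ht⟩
      invFun := fun t => ⟨Classical.choose (q4N_real t.1 t.2),
        (Classical.choose_spec (q4N_real t.1 t.2)).1⟩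
      left_inv := by
        intro x
        apply Subtype.ext
        apply q4_ext
        have h := (Classical.choose_spec (q4N_real (tblOf (((x :
          ↥(stabPair (suppM dod0) (famOf q4E))) : ↥M24) : Equiv.Perm GolayPt)) (by
            obtain ⟨t, ht, hxt⟩ := x.2
            rw [← tbl_eq_tblOf hxt]
            exact ht))).2
        exact h.eq_of_eq (isTbl_tblOf _)
      right_inv := by
        intro t
        apply Subtype.ext
        have h := (Classical.choose_spec (q4N_real t.1 t.2)).2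
        exact (tbl_eq_tblOf h).symm }
  rw [Nat.card_congr e, Nat.card_congr (List.Nodup.getEquiv q4N q4N_nodup).symm,
    Nat.card_eq_fintype_card, Fintype.card_fin]

theorem q4NSub_cube : ∀ x ∈ q4NSub, x ^ 3 = 1 := by
  intro x hx
  obtain ⟨s, hs, hxs⟩ := hx
  apply q4_ext
  have h3 : ((x : ↥M24) : Equiv.Perm GolayPt) * (((x : ↥M24) : Equiv.Perm GolayPt) *
      ((x : ↥M24) : Equiv.Perm GolayPt)) = 1 := by
    apply (hxs.mul (hxs.mul hxs)).eq_of_eq
    rw [q4N_cube s hs]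
    exact isTbl_one
  change (((x : ↥M24) : Equiv.Perm GolayPt)) ^ 3 = 1
  rw [pow_succ, pow_two, mul_assoc]
  exact h3

theorem q4NSub_cent : ∀ h : ↥(stabPair (suppM dod0) (famOf q4E)),
    (∀ n ∈ q4NSub, h * n = n * h) → h ∈ q4NSub := by
  intro h hc
  obtain ⟨a, ha, hha⟩ := q4_enum h.1 h.2
  obtain ⟨n1, hn1, hn1t⟩ := q4N_real q4B1 q4B_mem.1
  obtain ⟨n2, hn2, hn2t⟩ := q4N_real q4B2 q4B_mem.2
  have e1 : mulT a q4B1 = mulT q4B1 a := by
    have h1 := hha.mul hn1t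
    have h2 := hn1t.mul hha
    have h3 : ((h : ↥M24) : Equiv.Perm GolayPt) * ((n1 : ↥M24) : Equiv.Perm GolayPt) =
        ((n1 : ↥M24) : Equiv.Perm GolayPt) * ((h : ↥M24) : Equiv.Perm GolayPt) :=
      congrArg (fun z : ↥(stabPair (suppM dod0) (famOf q4E)) =>
        ((z : ↥M24) : Equiv.Perm GolayPt)) (hc n1 hn1)
    rw [h3] at h1
    rw [tbl_eq_tblOf h1, tbl_eq_tblOf h2]
  have e2 : mulT a q4B2 = mulT q4B2 a := by
    have h1 := hha.mul hn2t
    have h2 := hn2t.mul hha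
    have h3 : ((h : ↥M24) : Equiv.Perm GolayPt) * ((n2 : ↥M24) : Equiv.Perm GolayPt) =
        ((n2 : ↥M24) : Equiv.Perm GolayPt) * ((h : ↥M24) : Equiv.Perm GolayPt) :=
      congrArg (fun z : ↥(stabPair (suppM dod0) (famOf q4E)) =>
        ((z : ↥M24) : Equiv.Perm GolayPt)) (hc n2 hn2)
    rw [h3] at h1
    rw [tbl_eq_tblOf h1, tbl_eq_tblOf h2]
  have hchk := List.all_eq_true.mp q4N_cent a ha
  rw [e1, e2] at hchk
  simp only [beq_self_eq_true, Bool.not_true, Bool.false_or, List.contains_iff_mem] at hchk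
  exact ⟨a, hchk, hha⟩

theorem q4_trans : ∀ p ∈ suppM dod0, ∀ q ∈ suppM dod0,
    ∃ g ∈ stabPair (suppM dod0) (famOf q4E), ((g : ↥M24) : Equiv.Perm GolayPt) p = q := by
  have key : ∀ p ∈ suppM dod0, ∃ g ∈ stabPair (suppM dod0) (famOf q4E),
      ((g : ↥M24) : Equiv.Perm GolayPt) (idxPtN 0) = p := by
    intro p hp
    rw [mem_suppM] at hp
    have hj : ptIdx p ∈ q4Trans.map Prod.fst := by
      rw [q4Trans_fst, List.mem_filter]
      exact ⟨List.mem_range.mpr (ptIdx_lt p), hp⟩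
    rw [List.mem_map] at hj
    obtain ⟨e, he, hep⟩ := hj
    have hok := List.all_eq_true.mp q4Trans_ok e he
    rw [Bool.and_eq_true, beq_iff_eq, List.contains_iff_mem] at hok
    obtain ⟨g, hg, hgt⟩ := q4_real _ hok.1
    refine ⟨g, hg, ?_⟩
    rw [hgt.apply_idx (by norm_num), hok.2, hep, idxPtN_ptIdx]
  intro p hp q hq
  obtain ⟨g1, hg1, hg1p⟩ := key p hp
  obtain ⟨g2, hg2, hg2q⟩ := key q hq
  refine ⟨g2 * g1⁻¹, Subgroup.mul_mem _ hg2 (Subgroup.inv_mem _ hg1), ?_⟩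
  change (((g2 : ↥M24) : Equiv.Perm GolayPt) * (((g1 : ↥M24) : Equiv.Perm GolayPt))⁻¹) p = q
  rw [Equiv.Perm.mul_apply, ← hg1p]
  simp [hg2q]

/-- the statement for a set of points and a family. -/
def Q4Prop (d : Finset GolayPt) (Q : Finset (Finset GolayPt)) : Prop :=
  Nat.card ↥(stabPair d Q) = 432 ∧
    (∃ (N : Subgroup ↥(stabPair d Q)) (_ : N.Normal), Nat.card N = 9 ∧
      Nonempty (↥(stabPair d Q) ⧸ N ≃* GL (Fin 2) (ZMod 3))) ∧
    ∀ p ∈ d, ∀ q ∈ d, ∃ g ∈ stabPair d Q, ((g : ↥M24) : Equiv.Perm GolayPt) p = q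

theorem q4Prop_base : Q4Prop (suppM dod0) (famOf q4E) := by
  refine ⟨card_stabPair dod0_mem q4_mem, ⟨q4NSub, q4NSub_normal, card_q4NSub, ?_⟩, q4_trans⟩
  exact Cfsg.Agent.Helper9.GLGlue.quot_equiv_GL q4NSub (card_stabPair dod0_mem q4_mem)
    card_q4NSub q4NSub_cube q4NSub_cent

/-- conjugation by an element of the group between the stabilizers. -/
def stabPairConj (k : ↥M24) (d : Finset GolayPt) (Q : Finset (Finset GolayPt)) :
    ↥(stabPair d Q) ≃*
      ↥(stabPair ((k : Equiv.Perm GolayPt) • d) ((k : Equiv.Perm GolayPt) • Q)) where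
  toFun x := ⟨k * x * k⁻¹, (mem_stabPair _).mpr (by
    obtain ⟨h1, h2⟩ := (mem_stabPair _).mp x.2
    constructor
    · change ((k : Equiv.Perm GolayPt) * ((x : ↥M24) : Equiv.Perm GolayPt) *
        ((k : Equiv.Perm GolayPt))⁻¹) • ((k : Equiv.Perm GolayPt) • d) = _
      rw [mul_smul, mul_smul, inv_smul_smul, h1]
    · change ((k : Equiv.Perm GolayPt) * ((x : ↥M24) : Equiv.Perm GolayPt) *
        ((k : Equiv.Perm GolayPt))⁻¹) • ((k : Equiv.Perm GolayPt) • Q) = _
      rw [mul_smul, mul_smul, inv_smul_smul, h2])⟩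
  invFun y := ⟨k⁻¹ * y * k, (mem_stabPair _).mpr (by
    obtain ⟨h1, h2⟩ := (mem_stabPair _).mp y.2
    constructor
    · change (((k : Equiv.Perm GolayPt))⁻¹ * ((y : ↥M24) : Equiv.Perm GolayPt) *
        (k : Equiv.Perm GolayPt)) • d = _
      rw [mul_smul, mul_smul, h1, inv_smul_smul]
    · change (((k : Equiv.Perm GolayPt))⁻¹ * ((y : ↥M24) : Equiv.Perm GolayPt) *
        (k : Equiv.Perm GolayPt)) • Q = _
      rw [mul_smul, mul_smul, h2, inv_smul_smul])⟩
  left_inv x := by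
    apply Subtype.ext
    change k⁻¹ * (k * (x : ↥M24) * k⁻¹) * k = x
    group
  right_inv y := by
    apply Subtype.ext
    change k * (k⁻¹ * (y : ↥M24) * k) * k⁻¹ = y
    group
  map_mul' x y := by
    apply Subtype.ext
    change k * ((x : ↥M24) * (y : ↥M24)) * k⁻¹ = (k * (x : ↥M24) * k⁻¹) * (k * (y : ↥M24) * k⁻¹)
    group

theorem q4Prop_smul (k : ↥M24) {d : Finset GolayPt} {Q : Finset (Finset GolayPt)}
    (h : Q4Prop d Q) :
    Q4Prop ((k : Equiv.Perm GolayPt) • d) ((k : Equiv.Perm GolayPt) • Q) := by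
  obtain ⟨h1, ⟨N, hN, hN9, ⟨φ⟩⟩, h3⟩ := h
  let e := stabPairConj k d Q
  refine ⟨?_, ?_, ?_⟩
  · rw [← h1]
    exact Nat.card_congr e.toEquiv.symm
  · have hN' : (N.map e.toMonoidHom).Normal := Subgroup.Normal.map hN e.toMonoidHom e.surjective
    refine ⟨N.map e.toMonoidHom, hN', ?_, ?_⟩
    · rw [← hN9]
      exact Nat.card_congr (N.equivMapOfInjective e.toMonoidHom e.injective).toEquiv.symm
    · exact ⟨(QuotientGroup.congr N (N.map e.toMonoidHom) e rfl).symm.trans φ⟩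
  · intro p hp q hq
    have hp' : ((k : Equiv.Perm GolayPt))⁻¹ p ∈ d := by
      obtain ⟨p0, hp0, rfl⟩ := Finset.mem_smul_finset.mp hp
      simpa using hp0
    have hq' : ((k : Equiv.Perm GolayPt))⁻¹ q ∈ d := by
      obtain ⟨q0, hq0, rfl⟩ := Finset.mem_smul_finset.mp hq
      simpa using hq0
    obtain ⟨g, hg, hgp⟩ := h3 _ hp' _ hq'
    refine ⟨(e ⟨g, hg⟩ : ↥(stabPair _ _)), (e ⟨g, hg⟩).2, ?_⟩
    change ((k : Equiv.Perm GolayPt) * ((g : ↥M24) : Equiv.Perm GolayPt) *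
      ((k : Equiv.Perm GolayPt))⁻¹) p = q
    rw [Equiv.Perm.mul_apply, Equiv.Perm.mul_apply, hgp]
    simp

theorem q4Prop_all {d : Finset GolayPt} (hd : d ∈ dodecads) {Q : Finset (Finset GolayPt)}
    (hQ : Q ∈ quartets d) : Q4Prop d Q := by
  obtain ⟨h, hh, rfl⟩ := exists_smul_dod0 hd
  have hQ' := (mem_quartets_smul_iff hh).mp hQ
  obtain ⟨k, hk, hkd, hkQ⟩ := quartets0_trans q4_mem hQ'
  have key := q4Prop_smul ⟨h * k, M24.mul_mem hh hk⟩ q4Prop_base
  have e1 : (h * k) • suppM dod0 = h • suppM dod0 := by rw [mul_smul, hkd]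
  have e2 : (h * k) • famOf q4E = Q := by rw [mul_smul, hkQ, smul_inv_smul]
  change Q4Prop ((h * k) • suppM dod0) ((h * k) • famOf q4E) at key
  rw [e1, e2] at key
  exact key

end Cfsg.Agent.Helper9.Golay
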