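import Mathlib
import Cfsg.Prelude.Def_Sporadic_a
import Cfsg.Prelude.Def_SporadicCombinatorics
import Cfsg.Agent.Helper9.Golay.OrbCertP
import Cfsg.Agent.Helper9.Golay.M12Trans
import Cfsg.Agent.Helper9.Golay.SextK

set_option autoImplicit false

/-!
The quartets of the standard dodecad: the list of the 220 quartets, with the proof that it is
complete.
-/

namespace Cfsg.Agent.Helper9.Golay

open Cfsg
open scoped Pointwise

def qPts : List ℕ := [0, 2, 3, 4, 6, 7, 8, 9, 10, 11, 13, 14]

def tripL : List ℕ := [13, 21, 25, 28, 69, 73, 76, 81, 84, 88, 133, 137, 140, 145, 148, 152, 193, 196, 200, 208, 261, 265, 268, 273, 276, 280, 321, 324, 328, 336, 385, 388, 392, 400, 448, 517, 521, 524, 529, 532, 536, 577, 580, 584, 592, 641, 644, 648, 656, 704, 769, 772, 776, 784, 832, 896, 1029, 1033, 1036, 1041, 1044, 1048, 1089, 1092, 1096, 1104, 1153, 1156, 1160, 1168, 1216, 1281, 1284, 1288, 1296, 1344, 1408, 1537, 1540, 1544, 1552, 1600, 1664, 1792, 2053, 2057, 2060, 2065, 2068, 2072, 2113, 2116, 2120, 2128, 2177, 2180, 2184, 2192, 2240, 2305, 2308, 2312, 2320, 2368, 2432, 2561, 2564, 2568, 2576, 2624, 2688, 2816, 3073, 3076, 3080, 3088, 3136, 3200, 3328, 3584, 8197, 8201,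 8204, 8209, 8212, 8216, 8257, 8260, 8264, 8272, 8321, 8324, 8328, 8336, 8384, 8449, 8452, 8456, 8464, 8512, 8576, 8705, 8708, 8712, 8720, 8768, 8832, 8960, 9217, 9220, 9224, 9232, 9280, 9344, 9472, 9728, 10241, 10244, 10248, 10256, 10304, 10368, 10496, 10752, 11264, 16389, 16393, 16396, 16401, 16404, 16408, 16449, 16452, 16456, 16464, 16513, 16516, 16520, 16528, 16576, 16641, 16644, 16648, 16656, 16704, 16768, 16897, 16900, 16904, 16912, 16960, 17024, 17152, 17409, 17412, 17416, 17424, 17472, 17536, 17664, 17920, 18433, 18436, 18440, 18448, 18496, 18560, 18688, 18944, 19456, 24577, 24580, 24584, 24592, 24640, 24704, 24832, 25088, 25600, 26624]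

set_option maxRecDepth 1000000 in
def quartBig : ℕ := 0x68000006100001840000490068000005080002810000540068000004c000020c000111006800000405000340000098006400000a100001440000890064000009080002840000510064000008c000030100001c006400000805000248000190006200000c1000018800004500620000094000048400001900620000088100044800011400620000080c0005010000d0006100000c080002140000c1006100000a4000049000000d006100000884000601000058006100000811000444000288006080000c40000308000015006080000a0100051000004c006080000904000409000250006080000818000604000141006040000c80000205000118006040000b0000041100008c006040000814000608000181006040000809000504000290006010000e0000014800008500601000090100040c0002c0006010000888000441000304006010000844000580000209006008000d000002110000c4006008000a04000481000150006008000890000640000105006008000841000414000380006004000c010003100000c8006004000a08000540000091006004000980000418000241006004000850000680000109006001000c040002180001c0006001000a8000045000010c006001000910000488000244006001000848000700000094004c0000221000014100008c004c00002108000244000091004c000020c0000209000114004c00002005000380000058004a000024100001050000c8004a00002140000409000094004a00002081000444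000118004a0000200c0005800000510049000024080002050000d000490000224000041400008900490000208400044100021800490000201100068000004c00488000244000021400010900488000220100040c00015000488000210400041100024800488000201800070000004500484000248000021100010c0048400023000004180000850048400020140005010002880048400020090006040001900048100026000001c000000d0048100021010004480002840048100020880005040002410048100020440004810003080048080025000002c00000150048080022040004500001810048080020900006010001440048080020410004840003100048040024010002900001480048040022080005100000c100480400218000064000001900480400205000048800030100480100240400025000018800480100228000054000001c0048010021100006080000c400480100204800049000030400460000281000010c0000c10046000021010008440000980046000020840008090001500046000020480009800000150045000028080002500000850045000022010008140000c800450000209000084100020c004500002044000a8000001900448000284000021800010500448000220400081100014800448000211000080c000241004480002009000b0000005400444000288000031000000d004440002208000901000094004440002104000818000281004440002011000a04000188004410002a000001090000c400441000218000084800020500441000204100090400028800441000200c00088100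0340004408002900000290000045004408002240000884000111004408002081000850000304004408002014000a010001c00044040028010003080000d0004404002280000910000049004404002140000888000211004404002018000a400001810044010028040002c000011800440100230000089000004c004401002088000940000214004401002050000a0800018400430000284000040c0000910043000024010008180000c4004300002088000805000450004300002014000c80000049004280002801000418000144004280002404000848000111004280002108000814000441004280002050000d0000000d00424000290000048100001c004240002408000811000184004240002090000c04000109004240002005000888000510004210002c0000018100004c0042100021040008410004880042100020c0000908000405004210002009000884000540004208002804000490000141004208002440000910000085004208002180000c010000540042080020110008c00005040042040028080004110001c0004204002480000901000058004204002110000c4000008900420400204100089000050800420100288000041400014800420100250000085000008c004201002044000c080001900042010020180009040004c0004180002804000448000211004180002410000809000244004180002208000850000405004180002041000e0000001c004140002a0000048800001500414000240400089000020900414000208100080c000610004140002018000c010002840041100028010006400000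8c004110002480000a080000450041100022040008c0000409004110002048000c04000281004108002c00000241000094004108002280000844000411004108002050000881000604004108002005000a100004c0004104002880000608000051004104002440000a01000098004104002210000848000481004104002009000c100002c00041010028100004840002480041010026000008880000540041010020c0000a0400041800410100200c000c400002900040c0002c000003040000190040c00022100008050005080040c0002101000a080004140040c000200c000910000601004090002808000444000301004090002500000a04000049004090002240000c0100010c004090002005000940000608004088002810000540000205004088002401000a40000114004088002300000c04000051004088002044000901000610004084002900000450000209004084002600000841000118004084002048000a10000501004084002011000c08000340004081002a00000504000058004081002408000844000310004081002140000c1000020c00408100201400090800064000405000280400070000008900405000240100098000020c004050002280000c08000105004050002108000a01000484004048002801000580000214004048002600000904000091004048002110000a80000405004048002084000c10000301004044002810000409000380004044002500000881000218004044002201000908000490004044002088000e00000111004041002808000680000114004041002410000884000308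004041002204000d00000098004041002180000a1000040c004018002880000501000244004018002404000b000000c1004018002201000c40000184004018002140000805000680004014002840000601000188004014002408000a800001410040140023000008090004c0004014002081000d000002480040110029000006040000c800401100244000080c000380004011002208000c80000144004011002084000a4000050800400c002a0000044100019000400c00241000094000028100400c002101000c8000025000400c0020c0000811000700004009002840000510000284004009002480000814000340004009002210000980000444004009002104000e000000d0004005002c000002880001500040050022400008180005800040050021080008c0000610004005002090000b00000448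

set_option maxRecDepth 1000000 in
def hexMap : ℕ := 0x200002000000020000000040000010000200000000000000000000200000000000000000400000000000000200000000000000000000000002000000040000610000000000000000000000000000000020040000000100000000000000000000400000000000000000400020000001000000000200002000000000000040000008002000000000000000000000000000000004000000000000400000200200000000000004000000000000000000000000804000000000000000020000000004000000000000000000000004000000000400000000000000000000000200008000000040000000000000000040004000000000000000040080000000000000000000000400000000000200000000000000000000000000000000000000000000008200000000000000000400000000000400000000000000400040000000000000000000000000000000000000000040000000000000000004000000000000000000000000000000000000000000000080000000000000800000000000040000000000000000000000000000000000004000000000000000000000000000040000000000000000400000000000000000000000000000000008000000000080000000000000000000008000000000000000000000000040000000000000000008000000000000000400000000000008000000000000000000000000000000000000000000000000000000000000000000000000000000000000000000000000000000000000000000000000000000000000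00000000000000000000000000000000000000000000000000000000000000000000000000000000000000000000000000000000000000000000000000000000000000000000000000000000000000000000000000000000000000000000000000000000000000000000000000000000000000000000000000000000000000000000000000000000000000000000001000000000000020000000000000001000000000000000000200000000000000000000000001000000000000000000000100000000001000000000000000000000000000000000020000000000000000200000000000000000000000000002000000000000000000000000000000000000200000000000010000000000000100000000000000000000000000000000000000000000002000000000000000000200000000000000000000000000000000000000000200020000000000000020000000000020000000000000000041000000000000000000000000000000000000000000000040000000000020000000000000000000000100200000000000000002000200000000000000000200000001000040000000000000000000000020000000002000000000000000000000002000000000400000000000000002010000000000000000000000002000000000000040040000020000000000002000000000000000000000000000000004001000000200000000000004000040000000008000000400020000000000000000020000000000000000000080000000200400000000000000000000000000000000860000200000004000000000000000000000000040000000000000020000000000000000040000000000000000000040000800000200000000400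

/-- the masks of the hexads on the standard dodecad. -/
def hexL : List ℕ := (octL.map (fun o => Nat.land o dod0)).filter (fun h => Nat.beq (popcF h) 6)

def isHexB (h : ℕ) : Bool := Nat.testBit hexMap (h % 9567)

theorem hexL_isHexB : hexL.all isHexB = true := by decide +kernel

theorem dod0_lt : dod0 < 2 ^ 24 := by decide

theorem mem_hexadsOn_iff (h : Finset GolayPt) :
    h ∈ hexadsOn (suppM dod0) ↔ ∃ m ∈ hexL, suppM m = h := by
  constructor
  · rintro ⟨h6, o, ho, rfl⟩
    obtain ⟨mo, hmo, h8, rfl⟩ := (mem_octads_iff o).mp ho
    have hlt : mo &&& dod0 < 2 ^ 24 := lt_of_le_of_lt Nat.and_le_right dod0_lt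
    refine ⟨mo &&& dod0, ?_, (suppM_inter mo dod0).symm⟩
    unfold hexL
    rw [List.mem_filter, List.mem_map]
    refine ⟨⟨mo, ?_, rfl⟩, ?_⟩
    · rw [← octL_eq, List.mem_filter]
      exact ⟨hmo, by rw [beq_iff_eq]; exact h8⟩
    · rw [suppM_inter, card_suppM] at h6
      rw [popcF_eq hlt, h6]
      rfl
  · rintro ⟨m, hm, rfl⟩
    unfold hexL at hm
    rw [List.mem_filter, List.mem_map] at hm
    obtain ⟨⟨mo, hmo, rfl⟩, h6⟩ := hm
    rw [← octL_eq, List.mem_filter, beq_iff_eq] at hmo
    have hlt : mo &&& dod0 < 2 ^ 24 := lt_of_le_of_lt Nat.and_le_right dod0_lt
    refine ⟨?_, suppM mo, (mem_octads_iff _).mpr ⟨mo, hmo.1, hmo.2, rfl⟩, suppM_inter mo dod0⟩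
    change (suppM (mo &&& dod0)).card = 6
    rw [card_suppM, ← popcF_eq hlt]
    exact Nat.eq_of_beq_eq_true h6

theorem hexL_lt : ∀ m ∈ hexL, m < 2 ^ 24 := by
  intro m hm
  unfold hexL at hm
  rw [List.mem_filter, List.mem_map] at hm
  obtain ⟨⟨mo, -, rfl⟩, -⟩ := hm
  exact lt_of_le_of_lt Nat.and_le_right dod0_lt

def quartL : List (List ℕ) := (unpackL 96 220 quartBig).map (blocksOf 4)

def okQuart (e : List ℕ) : Bool :=
  sortedB e && ltB e && e.length == 4 &&
    e.all (fun m => Nat.beq (Nat.land m dod0) m && Nat.beq (popcF m) 3) &&
    pairsB (fun a b => hexL.contains (Nat.lor a b)) e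

theorem quartL_length : quartL.length = 220 := by decide +kernel

theorem quartL_sorted : sortedB (quartL.map keyOf) = true := by decide +kernel

theorem quartL_ok : quartL.all okQuart = true := by decide +kernel

theorem quartL_nodup : quartL.Nodup := nodup_of_sorted_key quartL keyOf quartL_sorted

theorem okQuart_masks {e : List ℕ} (h : okQuart e = true) : okMasks e = true := by
  unfold okQuart at h
  simp only [Bool.and_eq_true] at h
  exact okMasks_of h.1.1.1.1 h.1.1.1.2

theorem famOf_mem_quartets {e : List ℕ} (h : okQuart e = true) :
    famOf e ∈ quartets (suppM dod0) := by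
  have hm := okQuart_masks h
  have hlt := okMasks_lt hm
  unfold okQuart at h
  simp only [Bool.and_eq_true, beq_iff_eq, List.all_eq_true] at h
  obtain ⟨⟨⟨-, hlen⟩, htri⟩, hpair⟩ := h
  refine ⟨by rw [card_famOf hm, hlen], ?_, ?_⟩
  · intro t ht
    obtain ⟨m, hme, rfl⟩ := mem_famOf.mp ht
    obtain ⟨h1, h2⟩ := htri m hme
    constructor
    · rw [card_suppM, ← popcF_eq (hlt m hme)]
      exact Nat.eq_of_beq_eq_true h2
    · have e1 : m &&& dod0 = m := Nat.eq_of_beq_eq_true h1
      rw [← e1, ← suppM_inter]
      exact Finset.inter_subset_right
  · intro t ht u hu hne
    obtain ⟨m, hme, rfl⟩ := mem_famOf.mp ht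
    obtain ⟨m', hme', rfl⟩ := mem_famOf.mp hu
    have hmm : m ≠ m' := by
      rintro rfl
      exact hne rfl
    have := pairsB_sound (R := fun a b => hexL.contains (Nat.lor a b))
      (by
        intro a b
        change hexL.contains (a ||| b) = hexL.contains (b ||| a)
        rw [Nat.lor_comm]) e hpair m hme m' hme' hmm
    rw [suppM_or, mem_hexadsOn_iff]
    exact ⟨m ||| m', List.contains_iff_mem.mp this, rfl⟩

/-- the search for all the quartets. -/
def quartSearch : Bool :=
  tripL.all fun a => tripL.all fun b => !(Nat.blt a b && isHexB (Nat.lor a b)) ||
    tripL.all fun c => !(Nat.blt b c && isHexB (Nat.lor a c) && isHexB (Nat.lor b c)) ||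
      tripL.all fun d => !(Nat.blt c d && isHexB (Nat.lor a d) && isHexB (Nat.lor b d) &&
        isHexB (Nat.lor c d)) || quartL.contains [a, b, c, d]

theorem quartSearch_ok : quartSearch = true := by decide +kernel

theorem tripL_lt : ∀ m ∈ tripL, m < 2 ^ 24 := by decide +kernel

def tripBitsB : Bool :=
  (List.range 24).all fun i => (List.range 24).all fun j => (List.range 24).all fun k =>
    !(dod0.testBit i && dod0.testBit j && dod0.testBit k && (i != j) && (i != k) && (j != k)) ||
      tripL.contains (2 ^ i ||| 2 ^ j ||| 2 ^ k)

theorem tripBitsB_ok : tripBitsB = true := by decide +kernel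

theorem trip_bits : ∀ i < 24, ∀ j < 24, ∀ k < 24, dod0.testBit i = true → dod0.testBit j = true →
    dod0.testBit k = true → i ≠ j → i ≠ k → j ≠ k → (2 ^ i ||| 2 ^ j ||| 2 ^ k) ∈ tripL := by
  intro i hi j hj k hk h1 h2 h3 hij hik hjk
  have h := tripBitsB_ok
  unfold tripBitsB at h
  have := List.all_eq_true.mp (List.all_eq_true.mp (List.all_eq_true.mp h i (List.mem_range.mpr hi))
    j (List.mem_range.mpr hj)) k (List.mem_range.mpr hk)
  rw [h1, h2, h3, bne_iff_ne.mpr hij, bne_iff_ne.mpr hik, bne_iff_ne.mpr hjk] at this
  simpa using this

theorem trip_of_subset {t : Finset GolayPt} (h3 : t.card = 3) (hsub : t ⊆ suppM dod0) :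
    ∃ m ∈ tripL, suppM m = t := by
  obtain ⟨x, y, z, hxy, hxz, hyz, rfl⟩ := Finset.card_eq_three.mp h3
  have hx : dod0.testBit (ptIdx x) = true := (mem_suppM _ _).mp (hsub (by simp))
  have hy : dod0.testBit (ptIdx y) = true := (mem_suppM _ _).mp (hsub (by simp))
  have hz : dod0.testBit (ptIdx z) = true := (mem_suppM _ _).mp (hsub (by simp))
  have hne : ∀ {a b : GolayPt}, a ≠ b → ptIdx a ≠ ptIdx b := by
    intro a b hab h
    apply hab
    rw [← idxPtN_ptIdx a, ← idxPtN_ptIdx b, h]
  refine ⟨_, trip_bits _ (ptIdx_lt x) _ (ptIdx_lt y) _ (ptIdx_lt z) hx hy hz (hne hxy) (hne hxz)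
    (hne hyz), ?_⟩
  rw [← suppM_or, ← suppM_or, suppM_two_pow (ptIdx_lt x), suppM_two_pow (ptIdx_lt y),
    suppM_two_pow (ptIdx_lt z), idxPtN_ptIdx, idxPtN_ptIdx, idxPtN_ptIdx]
  ext p
  simp only [Finset.mem_union, Finset.mem_singleton, Finset.mem_insert]
  tauto

theorem quartSearch_sound {a b c d : ℕ} (ha : a ∈ tripL) (hb : b ∈ tripL) (hc : c ∈ tripL)
    (hd : d ∈ tripL) (hab : a < b) (hbc : b < c) (hcd : c < d)
    (h1 : isHexB (a ||| b) = true) (h2 : isHexB (a ||| c) = true) (h3 : isHexB (b ||| c) = true)
    (h4 : isHexB (a ||| d) = true) (h5 : isHexB (b ||| d) = true) (h6 : isHexB (c ||| d) = true) :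
    [a, b, c, d] ∈ quartL := by
  have h := quartSearch_ok
  unfold quartSearch at h
  have hblt : ∀ {x y : ℕ}, x < y → Nat.blt x y = true := by
    intro x y hxy
    exact Nat.ble_eq_true_of_le hxy
  have ha' := List.all_eq_true.mp h a ha
  have hb' := List.all_eq_true.mp ha' b hb
  rw [Bool.or_eq_true] at hb'
  rcases hb' with hb' | hb'
  · change (!(Nat.blt a b && isHexB (a ||| b))) = true at hb'
    rw [hblt hab, h1] at hb'
    exact absurd hb' (by decide)
  have hc' := List.all_eq_true.mp hb' c hc
  rw [Bool.or_eq_true] at hc'
  rcases hc' with hc' | hc'
  · change (!(Nat.blt b c && isHexB (a ||| c) && isHexB (b ||| c))) = true at hc'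
    rw [hblt hbc, h2, h3] at hc'
    exact absurd hc' (by decide)
  have hd' := List.all_eq_true.mp hc' d hd
  rw [Bool.or_eq_true] at hd'
  rcases hd' with hd' | hd'
  · change (!(Nat.blt c d && isHexB (a ||| d) && isHexB (b ||| d) && isHexB (c ||| d))) = true
      at hd'
    rw [hblt hcd, h4, h5, h6] at hd'
    exact absurd hd' (by decide)
  exact List.contains_iff_mem.mp hd'

theorem quartet_listed {Q : Finset (Finset GolayPt)} (hQ : Q ∈ quartets (suppM dod0)) :
    ∃ e ∈ quartL, famOf e = Q := by
  classical
  obtain ⟨h4, htri, hhex⟩ := hQ
  obtain ⟨M, hM⟩ : ∃ M : Finset ℕ, M = tripL.toFinset.filter (fun m => suppM m ∈ Q) := ⟨_, rfl⟩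
  have hMmem : ∀ m, m ∈ M ↔ m ∈ tripL ∧ suppM m ∈ Q := by
    intro m
    rw [hM, Finset.mem_filter, List.mem_toFinset]
  have hinj : Set.InjOn suppM (M : Set ℕ) := by
    intro a ha b hb hab
    exact suppM_inj (tripL_lt a ((hMmem a).mp ha).1) (tripL_lt b ((hMmem b).mp hb).1) hab
  have himg : M.image suppM = Q := by
    ext t
    rw [Finset.mem_image]
    constructor
    · rintro ⟨m, hm, rfl⟩
      exact ((hMmem m).mp hm).2
    · intro ht
      obtain ⟨m, hm, rfl⟩ := trip_of_subset (htri t ht).1 (htri t ht).2
      exact ⟨m, (hMmem m).mpr ⟨hm, ht⟩, rfl⟩
  have hcard : M.card = 4 := by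
    rw [← Finset.card_image_of_injOn hinj, himg, h4]
  have hlen : (M.sort (· ≤ ·)).length = 4 := by rw [Finset.length_sort, hcard]
  have hpw : (M.sort (· ≤ ·)).Pairwise (· < ·) := (Finset.sortedLT_sort M).pairwise
  have hmem : ∀ m, m ∈ M.sort (· ≤ ·) ↔ m ∈ M := fun m => Finset.mem_sort _
  obtain ⟨e, he⟩ : ∃ e, e = M.sort (· ≤ ·) := ⟨_, rfl⟩
  rw [← he] at hlen hpw hmem
  have hfam : famOf e = Q := by
    rw [← himg]
    ext t
    rw [mem_famOf, Finset.mem_image]
    constructor
    · rintro ⟨m, hm, rfl⟩
      exact ⟨m, (hmem m).mp hm, rfl⟩
    · rintro ⟨m, hm, rfl⟩
      exact ⟨m, (hmem m).mpr hm, rfl⟩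
  have hhexB : ∀ x ∈ e, ∀ y ∈ e, x ≠ y → isHexB (x ||| y) = true := by
    intro x hx y hy hxy
    have hxM := (hMmem x).mp ((hmem x).mp hx)
    have hyM := (hMmem y).mp ((hmem y).mp hy)
    have hne : suppM x ≠ suppM y := by
      intro h
      exact hxy (hinj ((hmem x).mp hx) ((hmem y).mp hy) h)
    have := hhex _ hxM.2 _ hyM.2 hne
    rw [suppM_or, mem_hexadsOn_iff] at this
    obtain ⟨m, hm, hms⟩ := this
    have hmxy : m = x ||| y :=
      suppM_inj (hexL_lt m hm) (Nat.or_lt_two_pow (tripL_lt x hxM.1) (tripL_lt y hyM.1)) hms
    rw [← hmxy]
    exact List.all_eq_true.mp hexL_isHexB m hm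
  match e, hlen, hpw, hmem, hfam, hhexB with
  | [a, b, c, d], _, hpw, hmem, hfam, hhexB =>
    obtain ⟨hp1, hpw1⟩ := List.pairwise_cons.mp hpw
    obtain ⟨hp2, hpw2⟩ := List.pairwise_cons.mp hpw1
    obtain ⟨hp3, -⟩ := List.pairwise_cons.mp hpw2
    have hab : a < b := hp1 b (by simp)
    have hbc : b < c := hp2 c (by simp)
    have hcd : c < d := hp3 d (by simp)
    have ha : a ∈ tripL := ((hMmem a).mp ((hmem a).mp (by simp))).1
    have hb : b ∈ tripL := ((hMmem b).mp ((hmem b).mp (by simp))).1
    have hc : c ∈ tripL := ((hMmem c).mp ((hmem c).mp (by simp))).1
    have hd : d ∈ tripL := ((hMmem d).mp ((hmem d).mp (by simp))).1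
    refine ⟨[a, b, c, d], ?_, hfam⟩
    apply quartSearch_sound ha hb hc hd hab hbc hcd
    · exact hhexB a (by simp) b (by simp) (by omega)
    · exact hhexB a (by simp) c (by simp) (by omega)
    · exact hhexB b (by simp) c (by simp) (by omega)
    · exact hhexB a (by simp) d (by simp) (by omega)
    · exact hhexB b (by simp) d (by simp) (by omega)
    · exact hhexB c (by simp) d (by simp) (by omega)

theorem quartL_okAll : ∀ e ∈ quartL, okQuart e = true := List.all_eq_true.mp quartL_ok

theorem quartets_eq : quartets (suppM dod0) = ↑((quartL.map famOf).toFinset) := by
  ext Q
  rw [Finset.mem_coe, List.mem_toFinset, List.mem_map]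
  constructor
  · intro hQ
    exact quartet_listed hQ
  · rintro ⟨e, he, rfl⟩
    exact famOf_mem_quartets (quartL_okAll e he)

theorem ncard_quartets0 : (quartets (suppM dod0)).ncard = 220 := by
  rw [quartets_eq, Set.ncard_coe_finset, List.toFinset_card_of_nodup, List.length_map,
    quartL_length]
  apply List.Nodup.map_on _ quartL_nodup
  intro a ha b hb hab
  exact famOf_inj (okQuart_masks (quartL_okAll a ha)) (okQuart_masks (quartL_okAll b hb)) hab

theorem quartets_listing : FamListing (quartets (suppM dod0)) 96 4 220 quartBig where
  nodup := quartL_nodup
  ok := by
    intro e he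
    have h := quartL_okAll e he
    have hm := okQuart_masks h
    unfold okQuart at h
    simp only [Bool.and_eq_true, beq_iff_eq] at h
    exact ⟨hm, h.1.1.2⟩
  mem := fun e he => famOf_mem_quartets (quartL_okAll e he)
  card := ncard_quartets0
  pos := by norm_num

end Cfsg.Agent.Helper9.Golay
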