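import Mathlib
import Cfsg.Prelude.Def_Sporadic_a
import Cfsg.Prelude.Def_SporadicCombinatorics
import Cfsg.Agent.Helper9.Golay.OrbData_qd
import Cfsg.Agent.Helper9.Golay.OrbData_qq
import Cfsg.Agent.Helper9.Golay.OrbRel
import Cfsg.Agent.Helper9.Golay.OrbLists

set_option autoImplicit false

/-!
The quartets of a dodecad: there are 220 of them, permuted transitively by the stabilizer of the
dodecad; two triples whose union is a hexad lie in one quartet; the orbits of the stabilizer of a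
quartet.
-/

namespace Cfsg.Agent.Helper9.Golay

open Cfsg
open scoped Pointwise

theorem smul_mem_hexadsOn {g : Equiv.Perm GolayPt} (hg : g ∈ M24) {d h : Finset GolayPt}
    (hh : h ∈ hexadsOn d) : g • h ∈ hexadsOn (g • d) := by
  obtain ⟨h6, o, ho, rfl⟩ := hh
  refine ⟨by rw [Finset.card_smul_finset]; exact h6, g • o, smul_mem_wordsOfWeight hg ho, ?_⟩
  rw [Finset.smul_finset_inter]

theorem smul_mem_quartets {g : Equiv.Perm GolayPt} (hg : g ∈ M24) {d : Finset GolayPt}
    {Q : Finset (Finset GolayPt)} (hQ : Q ∈ quartets d) : g • Q ∈ quartets (g • d) := by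
  obtain ⟨h4, htri, hhex⟩ := hQ
  refine ⟨by rw [Finset.card_smul_finset]; exact h4, ?_, ?_⟩
  · intro t ht
    obtain ⟨t0, ht0, rfl⟩ := Finset.mem_smul_finset.mp ht
    exact ⟨by rw [Finset.card_smul_finset]; exact (htri t0 ht0).1,
      Finset.smul_finset_subset_smul_finset (htri t0 ht0).2⟩
  · intro t ht u hu hne
    obtain ⟨t0, ht0, rfl⟩ := Finset.mem_smul_finset.mp ht
    obtain ⟨u0, hu0, rfl⟩ := Finset.mem_smul_finset.mp hu
    have hne0 : t0 ≠ u0 := by
      rintro rfl
      exact hne rfl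
    change g • t0 ∪ g • u0 ∈ hexadsOn (g • d)
    rw [← Finset.smul_finset_union]
    exact smul_mem_hexadsOn hg (hhex t0 ht0 u0 hu0 hne0)

theorem mem_quartets_smul_iff {g : Equiv.Perm GolayPt} (hg : g ∈ M24) {d : Finset GolayPt}
    {Q : Finset (Finset GolayPt)} : Q ∈ quartets (g • d) ↔ g⁻¹ • Q ∈ quartets d := by
  constructor
  · intro h
    have := smul_mem_quartets (M24.inv_mem hg) h
    rw [inv_smul_smul] at this
    exact this
  · intro h
    have := smul_mem_quartets hg h
    rw [smul_inv_smul] at this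
    exact this

theorem quartets_smul_eq {g : Equiv.Perm GolayPt} (hg : g ∈ M24) (d : Finset GolayPt) :
    quartets (g • d) = (fun Q => g • Q) '' quartets d := by
  ext Q
  rw [mem_quartets_smul_iff hg, Set.mem_image]
  constructor
  · intro h
    exact ⟨g⁻¹ • Q, h, smul_inv_smul g Q⟩
  · rintro ⟨Q0, hQ0, rfl⟩
    rw [inv_smul_smul]
    exact hQ0

theorem ncard_quartets {d : Finset GolayPt} (hd : d ∈ dodecads) : (quartets d).ncard = 220 := by
  obtain ⟨h, hh, rfl⟩ := exists_smul_dod0 hd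
  rw [quartets_smul_eq hh, Set.ncard_image_of_injective _ (MulAction.injective h),
    ncard_quartets0]

theorem qdG_e0 : qdG.e0 = [dod0] := rfl

theorem quartets0_trans {Q Q' : Finset (Finset GolayPt)} (hQ : Q ∈ quartets (suppM dod0))
    (hQ' : Q' ∈ quartets (suppM dod0)) :
    ∃ k ∈ M24, k • suppM dod0 = suppM dod0 ∧ k • Q = Q' := by
  have he0 := qdG.ok_e0 qdG_ok
  have hcover := quartets_listing.coverP 2 he0 (qdQ.vals_eq qdQ_ok) _ qdQ_cover
  have h1 := hcover Q hQ
  have h2 := hcover Q' hQ'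
  rw [Finset.mem_singleton] at h1 h2
  obtain ⟨k, hk, hk0, hkQ⟩ := qdQ.sep qdG_ok quartets_listing qdQ_ok Q hQ Q' hQ'
    (by change cfamP 2 _ _ = cfamP 2 _ _; rw [h1, h2])
  refine ⟨k, hk, ?_, hkQ⟩
  rw [qdG_e0, famOf_singleton, smul_singleton_fam, Finset.singleton_inj] at hk0
  exact hk0

theorem quartets_main (d : Finset GolayPt) (hd : d ∈ dodecads) :
    (quartets d).ncard = 220 ∧ ∀ Q ∈ quartets d, ∀ Q' ∈ quartets d,
      ∃ g : Equiv.Perm GolayPt, g ∈ M24 ∧ g • d = d ∧ g • Q = Q' := by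
  refine ⟨ncard_quartets hd, ?_⟩
  obtain ⟨h, hh, rfl⟩ := exists_smul_dod0 hd
  intro Q hQ Q' hQ'
  obtain ⟨k, hk, hk0, hkQ⟩ := quartets0_trans ((mem_quartets_smul_iff hh).mp hQ)
    ((mem_quartets_smul_iff hh).mp hQ')
  refine ⟨h * k * h⁻¹, M24.mul_mem (M24.mul_mem hh hk) (M24.inv_mem hh), ?_, ?_⟩
  · rw [mul_smul, mul_smul, inv_smul_smul, hk0]
  · rw [mul_smul, mul_smul, hkQ, smul_inv_smul]

/-! ### two triples in one quartet -/

def pairUniqueB : Bool :=
  tripL.all fun a => tripL.all fun b => !((a != b) && isHexB (Nat.lor a b)) ||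
    ((quartL.filter (fun e => e.contains a && e.contains b)).length == 1)

theorem pairUniqueB_ok : pairUniqueB = true := by decide +kernel

theorem mask_mem_of_suppM_mem {e : List ℕ} (he : okMasks e = true) {a : ℕ} (ha : a < 2 ^ 24)
    (h : suppM a ∈ famOf e) : a ∈ e := by
  obtain ⟨m, hm, hma⟩ := mem_famOf.mp h
  have : m = a := suppM_inj (okMasks_lt he m hm) ha hma
  rw [← this]
  exact hm

theorem pair_quartet0 (t u : Finset GolayPt) (ht : t.card = 3) (hu : u.card = 3)
    (htu : Disjoint t u) (hh : t ∪ u ∈ hexadsOn (suppM dod0)) :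
    ∃! Q : Finset (Finset GolayPt), Q ∈ quartets (suppM dod0) ∧ t ∈ Q ∧ u ∈ Q := by
  have hsub : t ∪ u ⊆ suppM dod0 := by
    obtain ⟨-, o, -, ho⟩ := hh
    rw [← ho]
    exact Finset.inter_subset_right
  obtain ⟨a, ha, rfl⟩ := trip_of_subset ht (Finset.union_subset_left hsub)
  obtain ⟨b, hb, rfl⟩ := trip_of_subset hu (Finset.union_subset_right hsub)
  have hab : a ≠ b := by
    rintro rfl
    rw [disjoint_self] at htu
    rw [Finset.bot_eq_empty] at htu
    rw [htu] at ht
    simp at ht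
  have halt := tripL_lt a ha
  have hblt := tripL_lt b hb
  have hhexB : isHexB (a ||| b) = true := by
    rw [suppM_or, mem_hexadsOn_iff] at hh
    obtain ⟨m, hm, hms⟩ := hh
    have hmxy : m = a ||| b := suppM_inj (hexL_lt m hm) (Nat.or_lt_two_pow halt hblt) hms
    rw [← hmxy]
    exact List.all_eq_true.mp hexL_isHexB m hm
  have hkey := List.all_eq_true.mp (List.all_eq_true.mp pairUniqueB_ok a ha) b hb
  rw [Bool.or_eq_true] at hkey
  rcases hkey with hkey | hkey
  · change (!((a != b) && isHexB (a ||| b))) = true at hkey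
    rw [bne_iff_ne.mpr hab, hhexB] at hkey
    exact absurd hkey (by decide)
  rw [beq_iff_eq] at hkey
  obtain ⟨e0, he0⟩ := List.length_eq_one_iff.mp hkey
  have hmem0 : e0 ∈ quartL.filter (fun e => e.contains a && e.contains b) := by
    rw [he0]
    exact List.mem_singleton_self e0
  obtain ⟨he0L, he0ab⟩ := List.mem_filter.mp hmem0
  rw [Bool.and_eq_true, List.contains_iff_mem, List.contains_iff_mem] at he0ab
  refine ⟨famOf e0, ⟨famOf_mem_quartets (quartL_okAll e0 he0L),
    mem_famOf.mpr ⟨a, he0ab.1, rfl⟩, mem_famOf.mpr ⟨b, he0ab.2, rfl⟩⟩, ?_⟩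
  rintro Q ⟨hQ, hQa, hQb⟩
  obtain ⟨e, heL, rfl⟩ := quartet_listed hQ
  have hok := okQuart_masks (quartL_okAll e heL)
  have hmem : e ∈ quartL.filter (fun e => e.contains a && e.contains b) := by
    rw [List.mem_filter, Bool.and_eq_true, List.contains_iff_mem, List.contains_iff_mem]
    exact ⟨heL, mask_mem_of_suppM_mem hok halt hQa, mask_mem_of_suppM_mem hok hblt hQb⟩
  rw [he0, List.mem_singleton] at hmem
  rw [hmem]

theorem pair_quartet (d : Finset GolayPt) (hd : d ∈ dodecads) (t u : Finset GolayPt)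
    (ht : t.card = 3) (hu : u.card = 3) (htu : Disjoint t u) (hh : t ∪ u ∈ hexadsOn d) :
    ∃! Q : Finset (Finset GolayPt), Q ∈ quartets d ∧ t ∈ Q ∧ u ∈ Q := by
  obtain ⟨h, hh', rfl⟩ := exists_smul_dod0 hd
  have hhi := M24.inv_mem hh'
  have h1 : h⁻¹ • t ∪ h⁻¹ • u ∈ hexadsOn (suppM dod0) := by
    have := smul_mem_hexadsOn hhi hh
    rw [inv_smul_smul, Finset.smul_finset_union] at this
    exact this
  obtain ⟨Q0, ⟨hQ0, ht0, hu0⟩, huniq⟩ := pair_quartet0 (h⁻¹ • t) (h⁻¹ • u)
    (by rw [Finset.card_smul_finset]; exact ht) (by rw [Finset.card_smul_finset]; exact hu)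
    (by
      rw [Finset.disjoint_iff_inter_eq_empty, ← Finset.smul_finset_inter,
        Finset.disjoint_iff_inter_eq_empty.mp htu, Finset.smul_finset_empty]) h1
  refine ⟨h • Q0, ⟨smul_mem_quartets hh' hQ0, ?_, ?_⟩, ?_⟩
  · have := Finset.smul_mem_smul_finset (a := h) ht0
    rw [smul_inv_smul] at this
    exact this
  · have := Finset.smul_mem_smul_finset (a := h) hu0
    rw [smul_inv_smul] at this
    exact this
  · rintro Q ⟨hQ, htQ, huQ⟩
    have := huniq (h⁻¹ • Q) ⟨(mem_quartets_smul_iff hh').mp hQ, Finset.smul_mem_smul_finset htQ,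
      Finset.smul_mem_smul_finset huQ⟩
    rw [← this, smul_inv_smul]

end Cfsg.Agent.Helper9.Golay
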