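import Mathlib
import Cfsg.Prelude.Def_Sporadic_a
import Cfsg.Prelude.Def_SporadicCombinatorics
import Cfsg.Agent.Helper9.Golay.QuartThm

set_option autoImplicit false

/-!
The orbits of the stabilizer of a quartet on the quartets of its dodecad.
-/

namespace Cfsg.Agent.Helper9.Golay

open Cfsg
open scoped Pointwise

theorem quartet_biUnion {d : Finset GolayPt} (hd : d ∈ dodecads) {Q : Finset (Finset GolayPt)}
    (hQ : Q ∈ quartets d) : Q.biUnion id = d := by
  obtain ⟨h4, htri, hhex⟩ := hQ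
  apply Finset.eq_of_subset_of_card_le
  · intro p hp
    obtain ⟨t, ht, hpt⟩ := Finset.mem_biUnion.mp hp
    exact (htri t ht).2 hpt
  · have hdisj : ∀ t ∈ Q, ∀ u ∈ Q, t ≠ u → Disjoint (id t) (id u) := by
      intro t ht u hu hne
      have h6 : (t ∪ u).card = 6 := (hhex t ht u hu hne).1
      have := Finset.card_union_add_card_inter t u
      rw [h6, (htri t ht).1, (htri u hu).1] at this
      rw [Finset.disjoint_iff_inter_eq_empty, ← Finset.card_eq_zero]
      change (t ∩ u).card = 0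
      omega
    rw [Finset.card_biUnion hdisj, hd.2]
    have : ∑ u ∈ Q, (id u).card = ∑ _u ∈ Q, 3 := Finset.sum_congr rfl (fun u hu => (htri u hu).1)
    rw [this, Finset.sum_const, h4]
    norm_num

theorem quartet_dodecad_unique {d d' : Finset GolayPt} (hd : d ∈ dodecads) (hd' : d' ∈ dodecads)
    {Q : Finset (Finset GolayPt)} (hQ : Q ∈ quartets d) (hQ' : Q ∈ quartets d') : d = d' := by
  rw [← quartet_biUnion hd hQ, ← quartet_biUnion hd' hQ']

/-- all the quartets of all the dodecads. -/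
def allQuartets : Set (Finset (Finset GolayPt)) := {Q | ∃ d ∈ dodecads, Q ∈ quartets d}

/-- the quartets of the dodecad of a quartet. -/
def quartetsOf (A : Finset (Finset GolayPt)) : Set (Finset (Finset GolayPt)) :=
  {B | ∃ d ∈ dodecads, A ∈ quartets d ∧ B ∈ quartets d}

theorem quartetsOf_eq {d : Finset GolayPt} (hd : d ∈ dodecads) {A : Finset (Finset GolayPt)}
    (hA : A ∈ quartets d) : quartetsOf A = quartets d := by
  ext B
  constructor
  · rintro ⟨d', hd', hA', hB'⟩
    rw [quartet_dodecad_unique hd hd' hA hA']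
    exact hB'
  · intro hB
    exact ⟨d, hd, hA, hB⟩

theorem qq_entry : entryAt 96 4 quartBig 0 = qqG.e0 := by decide +kernel

theorem qq_mem : famOf qqG.e0 ∈ quartets (suppM dod0) := by
  rw [← qq_entry]
  exact quartets_listing.mem _ (entryAt_mem (by norm_num))

theorem smul_mem_dodecads {g : Equiv.Perm GolayPt} (hg : g ∈ M24) {d : Finset GolayPt}
    (hd : d ∈ dodecads) : g • d ∈ dodecads := smul_mem_wordsOfWeight hg hd

theorem quartets_relData : RelData allQuartets quartetsOf (cfamP 4) (famOf qqG.e0) where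
  invB := by
    rintro g hg A B ⟨d, hd, hA, hB⟩
    exact ⟨g • d, smul_mem_dodecads hg hd, smul_mem_quartets hg hA, smul_mem_quartets hg hB⟩
  invc := fun g _ A B => cfamP_smul 4 g A B
  trans := by
    rintro A ⟨d, hd, hA⟩
    obtain ⟨h, hh, rfl⟩ := exists_smul_dod0 hd
    obtain ⟨k, hk, -, hkA⟩ := quartets0_trans qq_mem ((mem_quartets_smul_iff hh).mp hA)
    refine ⟨h * k, M24.mul_mem hh hk, ?_⟩
    rw [mul_smul, hkA, smul_inv_smul]
  sep := by
    intro B hB B' hB' hc
    rw [quartetsOf_eq dod0_mem qq_mem] at hB hB'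
    exact qqQ.sep qqG_ok quartets_listing qqQ_ok B hB B' hB' hc
  self := by
    rintro A ⟨d, hd, hA⟩
    exact ⟨d, hd, hA, hA⟩

theorem qq_self : cfamPB 4 qqG.e0 qqG.e0 = 324 := by decide +kernel

theorem quartet_stabilizer_orbits (d : Finset GolayPt) (hd : d ∈ dodecads)
    (Q : Finset (Finset GolayPt)) (hQ : Q ∈ quartets d) (H : Subgroup ↥M24)
    (hH : ∀ g : ↥M24, g ∈ H ↔ ((g : ↥M24) : Equiv.Perm GolayPt) • Q = Q) :
    ∃ X₁ ∈ quartets d, ∃ X₂ ∈ quartets d, ∃ X₃ ∈ quartets d, ∃ X₄ ∈ quartets d,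
      (MulAction.orbit ↥H X₁).ncard = 12 ∧ (MulAction.orbit ↥H X₂).ncard = 27 ∧
      (MulAction.orbit ↥H X₃).ncard = 72 ∧ (MulAction.orbit ↥H X₄).ncard = 108 ∧
      quartets d = {Q} ∪ MulAction.orbit ↥H X₁ ∪ MulAction.orbit ↥H X₂ ∪
        MulAction.orbit ↥H X₃ ∪ MulAction.orbit ↥H X₄ := by
  have he0 := qqG.ok_e0 qqG_ok
  have P := quartets_relData
  have hcount : ∀ v, {B | B ∈ quartetsOf (famOf qqG.e0) ∧ cfamP 4 (famOf qqG.e0) B = v}.ncard =
      ((qqQ.vals 220).filter (fun x => x == v)).length := by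
    intro v
    rw [quartetsOf_eq dod0_mem qq_mem]
    exact quartets_listing.countP 4 he0 (qqQ.vals_eq qqQ_ok) v
  have hcover : ∀ B ∈ quartetsOf (famOf qqG.e0),
      cfamP 4 (famOf qqG.e0) B ∈ ({324, 90, 68, 54, 26} : Finset ℕ) := by
    intro B hB
    rw [quartetsOf_eq dod0_mem qq_mem] at hB
    have := quartets_listing.coverP 4 he0 (qqQ.vals_eq qqQ_ok) _ qqQ_cover B hB
    simp only [Finset.mem_insert, Finset.mem_singleton] at this ⊢
    omega
  have hv₀ : cfamP 4 (famOf qqG.e0) (famOf qqG.e0) = 324 := by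
    rw [cfamP_famOf 4 he0 he0, qq_self]
  have hA : Q ∈ allQuartets := ⟨d, hd, hQ⟩
  have key := P.self_orbits4 324 90 68 54 26 12 27 72 108 hv₀
    ((hcount 324).trans qqQ_count324) ((hcount 90).trans qqQ_count90)
    ((hcount 68).trans qqQ_count68) ((hcount 54).trans qqQ_count54)
    ((hcount 26).trans qqQ_count26) (by norm_num) (by norm_num) (by norm_num) (by norm_num)
    hcover hA H hH
  rw [quartetsOf_eq hd hQ] at key
  exact key

theorem quartet_stabilizer_orbits' (d : Finset GolayPt) (hd : d ∈ dodecads)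
    (Q : Finset (Finset GolayPt)) (hQ : Q ∈ quartets d) :
    ∃ X₁ ∈ quartets d, ∃ X₂ ∈ quartets d, ∃ X₃ ∈ quartets d, ∃ X₄ ∈ quartets d,
      (MulAction.orbit ↥(MulAction.stabilizer ↥M24 d ⊓ MulAction.stabilizer ↥M24 Q) X₁).ncard
        = 12 ∧
      (MulAction.orbit ↥(MulAction.stabilizer ↥M24 d ⊓ MulAction.stabilizer ↥M24 Q) X₂).ncard
        = 27 ∧
      (MulAction.orbit ↥(MulAction.stabilizer ↥M24 d ⊓ MulAction.stabilizer ↥M24 Q) X₃).ncard
        = 72 ∧
      (MulAction.orbit ↥(MulAction.stabilizer ↥M24 d ⊓ MulAction.stabilizer ↥M24 Q) X₄).ncard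
        = 108 ∧
      quartets d = {Q} ∪
        MulAction.orbit ↥(MulAction.stabilizer ↥M24 d ⊓ MulAction.stabilizer ↥M24 Q) X₁ ∪
        MulAction.orbit ↥(MulAction.stabilizer ↥M24 d ⊓ MulAction.stabilizer ↥M24 Q) X₂ ∪
        MulAction.orbit ↥(MulAction.stabilizer ↥M24 d ⊓ MulAction.stabilizer ↥M24 Q) X₃ ∪
        MulAction.orbit ↥(MulAction.stabilizer ↥M24 d ⊓ MulAction.stabilizer ↥M24 Q) X₄ := by
  apply quartet_stabilizer_orbits d hd Q hQ
  intro g
  rw [Subgroup.mem_inf, MulAction.mem_stabilizer_iff, MulAction.mem_stabilizer_iff]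
  constructor
  · intro h
    exact h.2
  · intro h
    refine ⟨?_, h⟩
    have h1 : ((g : ↥M24) : Equiv.Perm GolayPt) • Q ∈
        quartets (((g : ↥M24) : Equiv.Perm GolayPt) • d) := smul_mem_quartets g.2 hQ
    change ((g : ↥M24) : Equiv.Perm GolayPt) • Q = Q at h
    rw [h] at h1
    exact (quartet_dodecad_unique hd (smul_mem_dodecads g.2 hd) hQ h1).symm

end Cfsg.Agent.Helper9.Golay
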