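import Mathlib
import Cfsg.Prelude
import Cfsg.Agent.Helper9.Golay.SextetBasic
import Cfsg.Agent.Helper9.Golay.OctA8

set_option autoImplicit false

/-! A three-set against the sextets: transitivity. -/

namespace Cfsg.Agent.Helper9.Golay

open Cfsg
open scoped Pointwise

variable {Y : Finset GolayPt}

theorem trans_of_tetrad (hY : Y.card = 3) (j : ℕ) (hj : 2 ≤ j)
    {S S' : Finset (Finset GolayPt)} (hS : S ∈ sextets) (hS' : S' ∈ sextets)
    (h : ∃ t ∈ S, (t ∩ Y).card = j) (h' : ∃ t ∈ S', (t ∩ Y).card = j) :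
    ∃ g ∈ M24, g • Y = Y ∧ g • S = S' := by
  obtain ⟨t, ht, htj⟩ := h
  obtain ⟨t', ht', htj'⟩ := h'
  have h4 := hS.2.1 t ht
  have h4' := hS'.2.1 t' ht'
  have hu : (Y ∪ t).card ≤ 5 := by
    have := Finset.card_union_add_card_inter Y t
    rw [Finset.inter_comm] at this
    omega
  obtain ⟨g, hg, hgY, hgt⟩ := m24_map_pair Y t t' hu (by rw [h4, h4'])
    (by rw [Finset.inter_comm, htj, Finset.inter_comm, htj'])
  exact ⟨g, hg, hgY, smul_sextet_eq hg hS hS' ht ht' hgt⟩

/-- for a sextet of the third kind, no octad holds `Y` and the rest of a tetrad meeting it. -/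
theorem no_octad_of_type_three (hY : Y.card = 3) {S : Finset (Finset GolayPt)} (hS : S ∈ sextets)
    (h1 : ∀ t ∈ S, (t ∩ Y).card ≤ 1) {t : Finset GolayPt} (ht : t ∈ S) {y : GolayPt}
    (hyt : y ∈ t) (hyY : y ∈ Y) : ¬ ∃ o ∈ octads, Y ∪ (t \ Y) ⊆ o := by
  rintro ⟨o, ho, hsub⟩
  have hY_o : Y ⊆ o := Finset.union_subset_left hsub
  have ht_o : t ⊆ o := by
    intro p hp
    by_cases hpY : p ∈ Y
    · exact hY_o hpY
    · exact hsub (Finset.mem_union_right _ (Finset.mem_sdiff.mpr ⟨hp, hpY⟩))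
  -- a second point of Y
  have hex : ∃ y2 ∈ Y, y2 ≠ y := by
    by_contra hcon
    push Not at hcon
    have : Y ⊆ {y} := fun p hp => Finset.mem_singleton.mpr (hcon p hp)
    have := Finset.card_le_card this
    rw [Finset.card_singleton] at this
    omega
  obtain ⟨y2, hy2Y, hy2⟩ := hex
  have hy2t : y2 ∉ t := by
    intro hcon
    have h2 : ({y, y2} : Finset GolayPt) ⊆ t ∩ Y := by
      intro p hp
      rw [Finset.mem_insert, Finset.mem_singleton] at hp
      rcases hp with rfl | rfl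
      · exact Finset.mem_inter.mpr ⟨hyt, hyY⟩
      · exact Finset.mem_inter.mpr ⟨hcon, hy2Y⟩
    have := Finset.card_le_card h2
    rw [Finset.card_pair (Ne.symm hy2)] at this
    have := h1 t ht
    omega
  obtain ⟨t2, ht2, hy2t2⟩ := sextet_cover hS y2
  have hne : t ≠ t2 := by
    rintro rfl
    exact hy2t hy2t2
  have hoct := hS.2.2 t ht t2 ht2 hne
  have h4 := hS.2.1 t ht
  have heq : t ∪ t2 = o := by
    apply octads_unique hoct ho (insert y2 t)
    · rw [Finset.card_insert_of_notMem hy2t, h4]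
    · intro p hp
      rw [Finset.mem_insert] at hp
      rcases hp with rfl | hp
      · exact Finset.mem_union_right _ hy2t2
      · exact Finset.mem_union_left _ hp
    · intro p hp
      rw [Finset.mem_insert] at hp
      rcases hp with rfl | hp
      · exact hY_o hy2Y
      · exact ht_o hp
  -- a third point of Y
  have hex3 : ∃ y3 ∈ Y, y3 ≠ y ∧ y3 ≠ y2 := by
    by_contra hcon
    push Not at hcon
    have : Y ⊆ {y, y2} := by
      intro p hp
      rw [Finset.mem_insert, Finset.mem_singleton]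
      by_cases hpy : p = y
      · exact Or.inl hpy
      · exact Or.inr (hcon p hp hpy)
    have := Finset.card_le_card this
    rw [Finset.card_pair (Ne.symm hy2)] at this
    omega
  obtain ⟨y3, hy3Y, hy3, hy32⟩ := hex3
  have hy3o : y3 ∈ t ∪ t2 := by rw [heq]; exact hY_o hy3Y
  rw [Finset.mem_union] at hy3o
  rcases hy3o with h3 | h3
  · have h2 : ({y, y3} : Finset GolayPt) ⊆ t ∩ Y := by
      intro p hp
      rw [Finset.mem_insert, Finset.mem_singleton] at hp
      rcases hp with rfl | rfl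
      · exact Finset.mem_inter.mpr ⟨hyt, hyY⟩
      · exact Finset.mem_inter.mpr ⟨h3, hy3Y⟩
    have := Finset.card_le_card h2
    rw [Finset.card_pair (Ne.symm hy3)] at this
    have := h1 t ht
    omega
  · have h2 : ({y2, y3} : Finset GolayPt) ⊆ t2 ∩ Y := by
      intro p hp
      rw [Finset.mem_insert, Finset.mem_singleton] at hp
      rcases hp with rfl | rfl
      · exact Finset.mem_inter.mpr ⟨hy2t2, hy2Y⟩
      · exact Finset.mem_inter.mpr ⟨h3, hy3Y⟩
    have := Finset.card_le_card h2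
    rw [Finset.card_pair (Ne.symm hy32)] at this
    have := h1 t2 ht2
    omega

theorem tetrad_split {t : Finset GolayPt} {y : GolayPt} (hyt : y ∈ t) (hyY : y ∈ Y)
    (h1 : (t ∩ Y).card ≤ 1) : t = insert y (t \ Y) := by
  ext p
  rw [Finset.mem_insert, Finset.mem_sdiff]
  constructor
  · intro hp
    by_cases hpY : p ∈ Y
    · left
      exact Finset.card_le_one.mp h1 p (Finset.mem_inter.mpr ⟨hp, hpY⟩) y
        (Finset.mem_inter.mpr ⟨hyt, hyY⟩)
    · exact Or.inr ⟨hp, hpY⟩
  · rintro (rfl | hp)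
    · exact hyt
    · exact hp.1

theorem trans_type_three (hY : Y.card = 3)
    {S S' : Finset (Finset GolayPt)} (hS : S ∈ sextets) (hS' : S' ∈ sextets)
    (h : ∀ t ∈ S, (t ∩ Y).card ≤ 1) (h' : ∀ t ∈ S', (t ∩ Y).card ≤ 1) :
    ∃ g ∈ M24, g • Y = Y ∧ g • S = S' := by
  classical
  have hne : Y.Nonempty := by rw [← Finset.card_pos]; omega
  obtain ⟨y, hyY⟩ := hne
  obtain ⟨t, ht, hyt⟩ := sextet_cover hS y
  obtain ⟨t', ht', hyt'⟩ := sextet_cover hS' y
  have hs := tetrad_split hyt hyY (h t ht)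
  have hs' := tetrad_split hyt' hyY (h' t' ht')
  have hyn : y ∉ t \ Y := fun hc => (Finset.mem_sdiff.mp hc).2 hyY
  have hyn' : y ∉ t' \ Y := fun hc => (Finset.mem_sdiff.mp hc).2 hyY
  have hc : (t \ Y).card = 3 := by
    have := hS.2.1 t ht
    rw [hs, Finset.card_insert_of_notMem hyn] at this
    omega
  have hc' : (t' \ Y).card = 3 := by
    have := hS'.2.1 t' ht'
    rw [hs', Finset.card_insert_of_notMem hyn'] at this
    omega
  have hiff : (∃ o ∈ octads, Y ∪ (t \ Y) ⊆ o) ↔ (∃ o ∈ octads, Y ∪ (t' \ Y) ⊆ o) :=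
    ⟨fun hc => absurd hc (no_octad_of_type_three hY hS h ht hyt hyY),
      fun hc => absurd hc (no_octad_of_type_three hY hS' h' ht' hyt' hyY)⟩
  obtain ⟨g, hg, hfix, hgU⟩ := sets6_trans Y (t \ Y) (t' \ Y) 3 3 hY hc hc' rfl
    Finset.disjoint_sdiff Finset.disjoint_sdiff hiff
  have hgY : g • Y = Y := smul_eq_of_fix hfix
  refine ⟨g, hg, hgY, smul_sextet_eq hg hS hS' ht ht' ?_⟩
  rw [hs, hs', Finset.smul_finset_insert, hgU]
  congr 1
  exact hfix y hyY

/-- the stabilizer of a three-set is transitive on each kind of sextets. -/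
theorem sextets_trans_of_type (hY : Y.card = 3) {S S' : Finset (Finset GolayPt)}
    (hS : S ∈ sextets) (hS' : S' ∈ sextets)
    (h : (S.filter fun t => (t ∩ Y).Nonempty).card = (S'.filter fun t => (t ∩ Y).Nonempty).card) :
    ∃ g ∈ M24, g • Y = Y ∧ g • S = S' := by
  rcases type_range hS hY with h1 | h2 | h3
  · have h1' := h ▸ h1
    exact trans_of_tetrad hY 3 (by omega) hS hS' ((type_one_iff hS hY).mp h1)
      ((type_one_iff hS' hY).mp h1')
  · have h2' := h ▸ h2
    exact trans_of_tetrad hY 2 (by omega) hS hS' ((type_two_iff hS hY).mp h2)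
      ((type_two_iff hS' hY).mp h2')
  · have h3' := h ▸ h3
    exact trans_type_three hY hS hS' ((type_three_iff hS hY).mp h3)
      ((type_three_iff hS' hY).mp h3')

theorem ncard_type_one (hY : Y.card = 3) :
    {S : Finset (Finset GolayPt) | S ∈ sextets ∧ (S.filter fun t => (t ∩ Y).Nonempty).card = 1}.ncard
      = 21 := by
  have := ncard_sextets_with hY 3 (by omega) (by omega)
  rw [show Nat.choose 3 3 * Nat.choose 21 (4 - 3) = 21 by decide] at this
  rw [← this]
  congr 1
  ext S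
  simp only [Set.mem_ofPred_eq]
  constructor
  · rintro ⟨hS, h⟩
    exact ⟨hS, (type_one_iff hS hY).mp h⟩
  · rintro ⟨hS, h⟩
    exact ⟨hS, (type_one_iff hS hY).mpr h⟩

theorem ncard_type_two (hY : Y.card = 3) :
    {S : Finset (Finset GolayPt) | S ∈ sextets ∧ (S.filter fun t => (t ∩ Y).Nonempty).card = 2}.ncard
      = 630 := by
  have := ncard_sextets_with hY 2 (by omega) (by omega)
  rw [show Nat.choose 3 2 * Nat.choose 21 (4 - 2) = 630 by decide] at this
  rw [← this]
  congr 1
  ext S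
  simp only [Set.mem_ofPred_eq]
  constructor
  · rintro ⟨hS, h⟩
    exact ⟨hS, (type_two_iff hS hY).mp h⟩
  · rintro ⟨hS, h⟩
    exact ⟨hS, (type_two_iff hS hY).mpr h⟩

theorem ncard_type_three (hY : Y.card = 3) :
    {S : Finset (Finset GolayPt) | S ∈ sextets ∧ (S.filter fun t => (t ∩ Y).Nonempty).card = 3}.ncard
      = 1120 := by
  have htot := Cfsg.Agent.Lead.Steiner.sextets_main.2
  have h1 := ncard_type_one hY
  have h2 := ncard_type_two hY
  have hsplit : (sextets : Set (Finset (Finset GolayPt))) =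
      ({S | S ∈ sextets ∧ (S.filter fun t => (t ∩ Y).Nonempty).card = 1} ∪
        {S | S ∈ sextets ∧ (S.filter fun t => (t ∩ Y).Nonempty).card = 2}) ∪
        {S | S ∈ sextets ∧ (S.filter fun t => (t ∩ Y).Nonempty).card = 3} := by
    ext S
    simp only [Set.mem_union, Set.mem_ofPred_eq]
    constructor
    · intro hS
      rcases type_range hS hY with h | h | h
      · exact Or.inl (Or.inl ⟨hS, h⟩)
      · exact Or.inl (Or.inr ⟨hS, h⟩)
      · exact Or.inr ⟨hS, h⟩
    · rintro ((h | h) | h) <;> exact h.1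
  have hd12 : Disjoint {S : Finset (Finset GolayPt) | S ∈ sextets ∧
      (S.filter fun t => (t ∩ Y).Nonempty).card = 1}
      {S | S ∈ sextets ∧ (S.filter fun t => (t ∩ Y).Nonempty).card = 2} := by
    rw [Set.disjoint_left]
    rintro S ⟨-, h⟩ ⟨-, h'⟩
    omega
  have hd3 : Disjoint ({S : Finset (Finset GolayPt) | S ∈ sextets ∧
      (S.filter fun t => (t ∩ Y).Nonempty).card = 1} ∪
      {S | S ∈ sextets ∧ (S.filter fun t => (t ∩ Y).Nonempty).card = 2})
      {S | S ∈ sextets ∧ (S.filter fun t => (t ∩ Y).Nonempty).card = 3} := by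
    rw [Set.disjoint_left]
    rintro S (⟨-, h⟩ | ⟨-, h⟩) ⟨-, h'⟩ <;> omega
  rw [hsplit, Set.ncard_union_eq hd3 (Set.toFinite _) (Set.toFinite _),
    Set.ncard_union_eq hd12 (Set.toFinite _) (Set.toFinite _), h1, h2] at htot
  omega

end Cfsg.Agent.Helper9.Golay
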