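import Mathlib
import Cfsg.Prelude
import Cfsg.Agent.Helper9.Golay.TblGroup

set_option autoImplicit false

/-! Closure of a list of tables under products, from a search tree and a table of successors. -/

namespace Cfsg.Agent.Helper9.Golay

open Cfsg
open scoped Pointwise

/-- the list starts with the identity and every later entry is an earlier one times a
generator. -/
def bfsOK (L gens : List (List ℕ)) (par : List (ℕ × ℕ)) : Bool :=
  L.getD 0 [] == idT &&
  (List.range L.length).all (fun j => j == 0 ||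
    ((par.getD j (0, 0)).1 < j && (par.getD j (0, 0)).2 < gens.length &&
      L.getD j [] == mulT (L.getD (par.getD j (0, 0)).1 []) (gens.getD (par.getD j (0, 0)).2 [])))

/-- the list is closed under right multiplication by the generators. -/
def closedOK (L gens : List (List ℕ)) (next : List (List ℕ)) : Bool :=
  (List.range L.length).all (fun i => (List.range gens.length).all (fun k =>
    (next.getD i []).getD k L.length < L.length &&
    mulT (L.getD i []) (gens.getD k []) == L.getD ((next.getD i []).getD k L.length) []))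

theorem getD_mem_of_lt {α : Type*} (L : List α) (d : α) {i : ℕ} (hi : i < L.length) :
    L.getD i d ∈ L := by
  rw [List.getD_eq_getElem _ _ hi]
  exact List.getElem_mem _

theorem exists_getD_of_mem {α : Type*} {L : List α} (d : α) {t : α} (ht : t ∈ L) :
    ∃ i, i < L.length ∧ L.getD i d = t := by
  obtain ⟨n, hn, hnt⟩ := List.getElem_of_mem ht
  exact ⟨n, hn, by rw [List.getD_eq_getElem _ _ hn]; exact hnt⟩

theorem real_of_bfs {L gens : List (List ℕ)} {par : List (ℕ × ℕ)} (hb : bfsOK L gens par = true)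
    (hg : ∀ s ∈ gens, ∃ σ ∈ M24, IsTbl σ s) :
    ∀ j, j < L.length → ∃ σ ∈ M24, IsTbl σ (L.getD j []) := by
  unfold bfsOK at hb
  rw [Bool.and_eq_true, beq_iff_eq] at hb
  obtain ⟨h0, hall⟩ := hb
  intro j
  induction j using Nat.strong_induction_on with
  | _ j ih =>
    intro hj
    by_cases hj0 : j = 0
    · subst hj0
      rw [h0]
      exact ⟨1, M24.one_mem, isTbl_one⟩
    · have h1 := List.all_eq_true.mp hall j (List.mem_range.mpr hj)
      simp only [Bool.or_eq_true, beq_iff_eq, hj0, false_or, Bool.and_eq_true,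
        decide_eq_true_eq] at h1
      obtain ⟨⟨hp, hk⟩, he⟩ := h1
      obtain ⟨σ, hσ, hσt⟩ := ih _ hp (lt_trans hp hj)
      obtain ⟨τ, hτ, hτt⟩ := hg _ (getD_mem_of_lt gens [] hk)
      rw [he]
      exact ⟨σ * τ, M24.mul_mem hσ hτ, hσt.mul hτt⟩

theorem real_of_bfs' {L gens : List (List ℕ)} {par : List (ℕ × ℕ)} (hb : bfsOK L gens par = true)
    (hg : ∀ s ∈ gens, ∃ σ ∈ M24, IsTbl σ s) : ∀ t ∈ L, ∃ σ ∈ M24, IsTbl σ t := by
  intro t ht
  obtain ⟨i, hi, rfl⟩ := exists_getD_of_mem [] ht
  exact real_of_bfs hb hg i hi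

theorem mul_gen_mem {L gens : List (List ℕ)} {next : List (List ℕ)}
    (hc : closedOK L gens next = true) {x s : ↥M24} (hx : x ∈ tblCarrier L) {k : ℕ}
    (hk : k < gens.length) (hs : IsTbl ((s : ↥M24) : Equiv.Perm GolayPt) (gens.getD k [])) :
    x * s ∈ tblCarrier L := by
  obtain ⟨t, ht, hxt⟩ := hx
  obtain ⟨i, hi, rfl⟩ := exists_getD_of_mem [] ht
  have h1 := List.all_eq_true.mp (List.all_eq_true.mp hc i (List.mem_range.mpr hi)) k
    (List.mem_range.mpr hk)
  rw [Bool.and_eq_true, decide_eq_true_eq, beq_iff_eq] at h1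
  refine ⟨_, getD_mem_of_lt L [] h1.1, ?_⟩
  rw [← h1.2]
  exact hxt.mul hs

theorem hmul_of_certs {L gens : List (List ℕ)} {par : List (ℕ × ℕ)} {next : List (List ℕ)}
    (hb : bfsOK L gens par = true) (hc : closedOK L gens next = true)
    (hg : ∀ s ∈ gens, ∃ σ ∈ M24, IsTbl σ s) :
    ∀ g h : ↥M24, g ∈ tblCarrier L → h ∈ tblCarrier L → g * h ∈ tblCarrier L := by
  have key : ∀ j, j < L.length → ∀ g h : ↥M24, g ∈ tblCarrier L →
      IsTbl ((h : ↥M24) : Equiv.Perm GolayPt) (L.getD j []) → g * h ∈ tblCarrier L := by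
    have hb' := hb
    unfold bfsOK at hb'
    rw [Bool.and_eq_true, beq_iff_eq] at hb'
    obtain ⟨h0, hall⟩ := hb'
    intro j
    induction j using Nat.strong_induction_on with
    | _ j ih =>
      intro hj g h hgm hh
      by_cases hj0 : j = 0
      · subst hj0
        rw [h0] at hh
        have : h = 1 := Subtype.ext (hh.eq_of_eq isTbl_one)
        rw [this, mul_one]
        exact hgm
      · have h1 := List.all_eq_true.mp hall j (List.mem_range.mpr hj)
        simp only [Bool.or_eq_true, beq_iff_eq, hj0, false_or, Bool.and_eq_true,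
          decide_eq_true_eq] at h1
        obtain ⟨⟨hp, hk⟩, he⟩ := h1
        obtain ⟨σ, hσ, hσt⟩ := real_of_bfs hb hg _ (lt_trans hp hj)
        obtain ⟨τ, hτ, hτt⟩ := hg _ (getD_mem_of_lt gens [] hk)
        have hh2 : h = (⟨σ, hσ⟩ : ↥M24) * ⟨τ, hτ⟩ := by
          apply Subtype.ext
          apply hh.eq_of_eq
          rw [he]
          exact hσt.mul hτt
        rw [hh2, ← mul_assoc]
        exact mul_gen_mem hc (ih _ hp (lt_trans hp hj) g ⟨σ, hσ⟩ hgm hσt) hk hτt
  rintro g h hgm ⟨t, ht, hht⟩
  obtain ⟨j, hj, rfl⟩ := exists_getD_of_mem [] ht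
  exact key j hj g h hgm hht

end Cfsg.Agent.Helper9.Golay
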